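/-
Janko-four type: the elementary structure of the involution centraliser.
H = C(z), E = O₂(H), N ⊇ E with |N : E| = 3, H/N ≅ Aut M22, P ≤ N of order 3.
-/
import Cfsg.Prelude.Def_JankoFourType
import Cfsg.Prelude.Def_KGroupFacts
import Cfsg.Agent.Solvable.Basics
import Cfsg.Agent.Golay.OutTwo22
import Cfsg.Agent.Golay.Mathieu

set_option autoImplicit false

namespace CfsgLib.J4Local

open Subgroup
open scoped commutatorElement

variable {G : Type*} [Group G]

/-- The centraliser of `z`. -/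
abbrev cH (z : G) : Subgroup G := Subgroup.centralizer ({z} : Set G)

/-- The largest normal 2-subgroup of the centraliser of `z`. -/
abbrev cE (z : G) : Subgroup G := Cfsg.twoCoreOfCentralizer z

/-- The normaliser of `P` in the centraliser of `z`. -/
abbrev cA (z : G) (P : Subgroup G) : Subgroup G := cH z ⊓ Subgroup.normalizer (P : Set G)

/-- The centraliser of `P` in the centraliser of `z`. -/
abbrev cC (z : G) (P : Subgroup G) : Subgroup G := cH z ⊓ Subgroup.centralizer (P : Set G)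

/-- The subgroup generated by `z` and `P`. -/
abbrev cK (z : G) (P : Subgroup G) : Subgroup G := Subgroup.zpowers z ⊔ P

theorem mem_cH {z g : G} : g ∈ cH z ↔ g * z = z * g := Subgroup.mem_centralizer_singleton_iff

theorem isSimple_m22 : IsSimpleGroup ↥Cfsg.Spor.M22 := by
  have hs := CfsgLib.Golay.m22_simple (none : Cfsg.GolayPt) (some 0) (by simp)
  let e : ↥Cfsg.Spor.M22 ≃* ↥(MulAction.stabilizer Cfsg.M24 (none : Cfsg.GolayPt) ⊓
      MulAction.stabilizer Cfsg.M24 (some 0 : Cfsg.GolayPt)) :=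
    { toFun := fun g => ⟨⟨g.1, (CfsgLib.Golay.Cert.mem_m22.mp g.2).1⟩,
        (CfsgLib.Golay.Cert.mem_m22.mp g.2).2.1, (CfsgLib.Golay.Cert.mem_m22.mp g.2).2.2⟩
      invFun := fun g => ⟨g.1.1, CfsgLib.Golay.Cert.mem_m22.mpr ⟨g.1.2, g.2.1, g.2.2⟩⟩
      left_inv := fun _ => rfl
      right_inv := fun _ => rfl
      map_mul' := fun _ _ => rfl }
  haveI := hs
  haveI : Nontrivial ↥Cfsg.Spor.M22 := e.toEquiv.nontrivial
  exact IsSimpleGroup.isSimpleGroup_of_surjective e.symm.toMonoidHom e.symm.surjective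

theorem center_m22 : Subgroup.center ↥Cfsg.Spor.M22 = ⊥ := by
  haveI := isSimple_m22
  rcases IsSimpleGroup.eq_bot_or_eq_top_of_normal (Subgroup.center ↥Cfsg.Spor.M22) inferInstance with h | h
  · exact h
  · exfalso
    have hc : ∀ a b : ↥Cfsg.Spor.M22, Commute a b := fun a b =>
      (Subgroup.mem_center_iff.mp (h ▸ Subgroup.mem_top a) b).symm
    letI : CommGroup ↥Cfsg.Spor.M22 := { (inferInstance : Group ↥Cfsg.Spor.M22) with mul_comm := hc }
    have hp : (Nat.card ↥Cfsg.Spor.M22).Prime := IsSimpleGroup.prime_card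
    rw [CfsgLib.Golay.Cert.card_m22] at hp
    norm_num at hp

theorem perfect_m22 : commutator ↥Cfsg.Spor.M22 = ⊤ := by
  haveI := isSimple_m22
  rcases IsSimpleGroup.eq_bot_or_eq_top_of_normal (commutator ↥Cfsg.Spor.M22) inferInstance with h | h
  · exfalso
    have hcen : Subgroup.center ↥Cfsg.Spor.M22 = ⊤ := by
      refine eq_top_iff.mpr fun a _ => Subgroup.mem_center_iff.mpr fun b => ?_
      have hm : ⁅b, a⁆ ∈ commutator ↥Cfsg.Spor.M22 :=
        Subgroup.commutator_mem_commutator (Subgroup.mem_top _) (Subgroup.mem_top _)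
      rw [h, Subgroup.mem_bot] at hm
      exact commutatorElement_eq_one_iff_mul_comm.mp hm
    rw [center_m22] at hcen
    haveI : Nontrivial ↥Cfsg.Spor.M22 := IsSimpleGroup.toNontrivial
    exact bot_ne_top hcen
  · exact h

theorem card_inn_m22 : Nat.card ↥(Cfsg.Inn ↥Cfsg.Spor.M22) = 443520 := by
  have hinj : Function.Injective (MulAut.conj : ↥Cfsg.Spor.M22 →* MulAut ↥Cfsg.Spor.M22) := by
    rw [← MonoidHom.ker_eq_bot_iff, eq_bot_iff, ← center_m22]
    intro a ha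
    refine Subgroup.mem_center_iff.mpr fun b => ?_
    have h := congrArg (fun f : MulAut ↥Cfsg.Spor.M22 => f b) (MonoidHom.mem_ker.mp ha)
    simp only [MulAut.conj_apply, MulAut.one_apply] at h
    exact (mul_inv_eq_iff_eq_mul.mp h).symm
  rw [← CfsgLib.Golay.Cert.card_m22]
  exact (Nat.card_congr (MonoidHom.ofInjective hinj).toEquiv).symm

theorem card_aut_m22 : Nat.card (MulAut ↥Cfsg.Spor.M22) = 887040 := by
  rw [Subgroup.card_eq_card_quotient_mul_card_subgroup (Cfsg.Inn ↥Cfsg.Spor.M22)]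
  have h : Nat.card (MulAut ↥Cfsg.Spor.M22 ⧸ Cfsg.Inn ↥Cfsg.Spor.M22) = 2 := CfsgLib.Golay.Cert.out_m22
  rw [h, card_inn_m22]

/-- A subgroup of index two of `Aut M22` is the group of inner automorphisms. -/
theorem eq_inn_of_index_two {J : Subgroup (MulAut ↥Cfsg.Spor.M22)} (hJ : J.index = 2) :
    J = Cfsg.Inn ↥Cfsg.Spor.M22 := by
  haveI := Subgroup.normal_of_index_eq_two hJ
  have hle : Cfsg.Inn ↥Cfsg.Spor.M22 ≤ J := by
    rintro _ ⟨a, rfl⟩
    have ha : a ∈ (⁅(⊤ : Subgroup ↥Cfsg.Spor.M22), ⊤⁆ : Subgroup ↥Cfsg.Spor.M22) := by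
      rw [← commutator_def, perfect_m22]; exact Subgroup.mem_top a
    have hle : (⁅(⊤ : Subgroup ↥Cfsg.Spor.M22), ⊤⁆ : Subgroup ↥Cfsg.Spor.M22) ≤ J.comap MulAut.conj := by
      refine Subgroup.commutator_le.mpr fun x _ y _ => ?_
      rw [Subgroup.mem_comap, map_commutatorElement]
      haveI : IsCyclic (MulAut ↥Cfsg.Spor.M22 ⧸ J) := isCyclic_of_prime_card (p := 2) hJ
      rw [← QuotientGroup.eq_one_iff, ← QuotientGroup.mk'_apply, map_commutatorElement]
      exact commutatorElement_eq_one_iff_mul_comm.mpr ((IsCyclic.commGroup).mul_comm _ _)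
    exact hle ha
  refine (CfsgLib.Solvable.eq_of_le_of_card_le hle ?_).symm
  have := J.card_mul_index
  rw [hJ, card_aut_m22] at this
  rw [card_inn_m22]
  omega

section Setup

variable {z : G} {P : Subgroup G}

theorem orderOf_z (hJ : Cfsg.IsOfJankoFourTypeWith z P) : orderOf z = 2 := hJ.1

theorem card_E (hJ : Cfsg.IsOfJankoFourTypeWith z P) : Nat.card ↥(cE z) = 2 ^ 13 := hJ.2.2.1

theorem extraspecial_E (hJ : Cfsg.IsOfJankoFourTypeWith z P) : Cfsg.IsExtraspecial 2 ↥(cE z) := hJ.2.1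

theorem centralizer_E_le (hJ : Cfsg.IsOfJankoFourTypeWith z P) :
    cH z ⊓ Subgroup.centralizer (cE z : Set G) ≤ cE z := hJ.2.2.2.1

theorem card_P (hJ : Cfsg.IsOfJankoFourTypeWith z P) : Nat.card ↥P = 3 := hJ.2.2.2.2.2.1

theorem E_inf_centralizer (hJ : Cfsg.IsOfJankoFourTypeWith z P) :
    cE z ⊓ Subgroup.centralizer (P : Set G) = Subgroup.zpowers z := hJ.2.2.2.2.2.2.1

theorem A_ne_C (hJ : Cfsg.IsOfJankoFourTypeWith z P) : cA z P ≠ cC z P := hJ.2.2.2.2.2.2.2.1

theorem P_le_commutator (hJ : Cfsg.IsOfJankoFourTypeWith z P) : P ≤ ⁅cC z P, cC z P⁆ := hJ.2.2.2.2.2.2.2.2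

theorem E_le_H : cE z ≤ cH z := Subgroup.map_subtype_le _

theorem z_mem_H : z ∈ cH z := mem_cH.mpr rfl

theorem z_mem_C_P (hJ : Cfsg.IsOfJankoFourTypeWith z P) : z ∈ Subgroup.centralizer (P : Set G) :=
  (Subgroup.mem_inf.mp ((E_inf_centralizer hJ).symm ▸ Subgroup.mem_zpowers z)).2

theorem z_mem_E (hJ : Cfsg.IsOfJankoFourTypeWith z P) : z ∈ cE z :=
  (Subgroup.mem_inf.mp ((E_inf_centralizer hJ).symm ▸ Subgroup.mem_zpowers z)).1

theorem H_le_normalizer_E [Finite G] : cH z ≤ Subgroup.normalizer (cE z : Set G) := by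
  intro h hh
  rw [Subgroup.mem_normalizer_iff]
  have key : ∀ k ∈ cH z, ∀ x ∈ cE z, k * x * k⁻¹ ∈ cE z := by
    rintro k hk _ ⟨x, hx, rfl⟩
    exact ⟨⟨k, hk⟩ * x * ⟨k, hk⟩⁻¹, (CfsgLib.Solvable.pCore_normal 2).conj_mem x hx ⟨k, hk⟩, rfl⟩
  intro x
  refine ⟨key h hh x, fun hx => ?_⟩
  have := key h⁻¹ (inv_mem hh) _ hx
  simpa [mul_assoc] using this

theorem P_le_C (hJ : Cfsg.IsOfJankoFourTypeWith z P) : P ≤ cC z P :=
  le_trans (P_le_commutator hJ) (Subgroup.commutator_le.mpr fun a ha b hb =>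
    mul_mem (mul_mem (mul_mem ha hb) (inv_mem ha)) (inv_mem hb))

theorem P_le_H (hJ : Cfsg.IsOfJankoFourTypeWith z P) : P ≤ cH z := (P_le_C hJ).trans inf_le_left

theorem C_le_A : cC z P ≤ cA z P :=
  inf_le_inf_left _ (Subgroup.centralizer_le_normalizer _)

theorem K_le_C (hJ : Cfsg.IsOfJankoFourTypeWith z P) : cK z P ≤ cC z P :=
  sup_le (Subgroup.zpowers_le.mpr ⟨z_mem_H, z_mem_C_P hJ⟩) (P_le_C hJ)

theorem card_K (hJ : Cfsg.IsOfJankoFourTypeWith z P) [Finite G] : Nat.card ↥(cK z P) = 6 := by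
  have hn : Subgroup.zpowers z ≤ Subgroup.normalizer (P : Set G) :=
    Subgroup.zpowers_le.mpr (Subgroup.centralizer_le_normalizer _ (z_mem_C_P hJ))
  have h1 : Nat.card ↥(Subgroup.zpowers z) = 2 := by rw [Nat.card_zpowers, orderOf_z hJ]
  have hd : Subgroup.zpowers z ⊓ P = ⊥ := Subgroup.inf_eq_bot_of_coprime (by rw [h1, card_P hJ]; decide)
  rw [CfsgLib.Solvable.card_sup_of_disjoint hn hd, h1, card_P hJ]

/-- Data extracted from the hypothesis: the subgroup `N` with the isomorphism, and the Frattini decomposition. -/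
theorem exists_hom [Finite G] (hJ : Cfsg.IsOfJankoFourTypeWith z P) :
    ∃ f : ↥(cA z P) →* MulAut ↥Cfsg.Spor.M22,
      Function.Surjective f ∧ f.ker = (cK z P).subgroupOf (cA z P) := by
  obtain ⟨N, hEN, hNH, hHN, hcardN, ⟨hnor, ⟨e⟩⟩, hPN⟩ := hJ.2.2.2.2.1
  haveI := hnor
  haveI : Fact (Nat.Prime 3) := ⟨Nat.prime_three⟩
  -- P is a Sylow 3-subgroup of N
  have hcN : Nat.card ↥N = 3 * 2 ^ 13 := by rw [hcardN, card_E hJ]
  have hcPN : Nat.card ↥(P.subgroupOf N) = 3 := by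
    rw [Nat.card_congr (Subgroup.subgroupOfEquivOfLe hPN).toEquiv, card_P hJ]
  have hPp : IsPGroup 3 ↥(P.subgroupOf N) := IsPGroup.of_card (n := 1) (by rw [hcPN, pow_one])
  have hidx : (P.subgroupOf N).index = 2 ^ 13 := by
    have := (P.subgroupOf N).card_mul_index
    rw [hcPN, hcN] at this
    omega
  let S : Sylow 3 ↥N := hPp.toSylow (by rw [hidx]; norm_num)
  -- every element of N is e * p
  have hdec : ∀ n ∈ N, ∃ x ∈ cE z, ∃ p ∈ P, n = x * p := by
    have hnE : P ≤ Subgroup.normalizer (cE z : Set G) := (P_le_H hJ).trans H_le_normalizer_E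
    have hd : P ⊓ cE z = ⊥ := Subgroup.inf_eq_bot_of_coprime (by rw [card_P hJ, card_E hJ]; decide)
    have heq : P ⊔ cE z = N := CfsgLib.Solvable.eq_of_le_of_card_le (sup_le hPN hEN)
      (by rw [CfsgLib.Solvable.card_sup_of_disjoint hnE hd, card_P hJ, card_E hJ, hcN])
    intro n hn
    rw [← heq] at hn
    obtain ⟨p, hp, x, hx, rfl⟩ := (CfsgLib.Solvable.mem_sup_of_le_normalizer hnE).mp hn
    refine ⟨p * x * p⁻¹, ?_, p, hp, by group⟩
    exact (Subgroup.mem_normalizer_iff.mp (hnE hp) x).mp hx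
  -- Frattini
  have hfr : ∀ h ∈ cH z, ∃ n ∈ N, n * h ∈ cA z P := by
    intro h hh
    have hhN := Subgroup.mem_normalizer_iff.mp (hHN hh)
    have hP' : P.map (MulAut.conj h).toMonoidHom ≤ N := by
      rintro _ ⟨p, hp, rfl⟩
      exact (hhN p).mp (hPN hp)
    have hc' : Nat.card ↥((P.map (MulAut.conj h).toMonoidHom).subgroupOf N) = 3 := by
      rw [Nat.card_congr (Subgroup.subgroupOfEquivOfLe hP').toEquiv,
        Subgroup.card_map_of_injective (MulAut.conj h).injective, card_P hJ]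
    have hidx' : ((P.map (MulAut.conj h).toMonoidHom).subgroupOf N).index = 2 ^ 13 := by
      have := ((P.map (MulAut.conj h).toMonoidHom).subgroupOf N).card_mul_index
      rw [hc', hcN] at this
      omega
    let S' : Sylow 3 ↥N := (IsPGroup.of_card (p := 3) (n := 1) (by rw [hc', pow_one])).toSylow
      (by rw [hidx']; norm_num)
    obtain ⟨n, hn⟩ := MulAction.exists_smul_eq ↥N S' S
    refine ⟨n, n.2, mul_mem (hNH n.2) hh, ?_⟩
    have key : ∀ p ∈ P, (n : G) * h * p * ((n : G) * h)⁻¹ ∈ P := by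
      intro p hp
      have hm : (⟨h * p * h⁻¹, (hhN p).mp (hPN hp)⟩ : ↥N) ∈ (S' : Subgroup ↥N) := ⟨p, hp, rfl⟩
      have h2 : n * (⟨h * p * h⁻¹, (hhN p).mp (hPN hp)⟩ : ↥N) * n⁻¹ ∈ (S : Subgroup ↥N) := by
        rw [← hn, Sylow.coe_subgroup_smul, Subgroup.mem_pointwise_smul_iff_inv_smul_mem]
        simpa [MulAut.smul_def, mul_assoc] using hm
      have h3 : (n : G) * (h * p * h⁻¹) * (n : G)⁻¹ ∈ P := h2
      simpa [mul_assoc] using h3
    refine Subgroup.mem_normalizer_iff_map_conj_eq.mpr ?_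
    exact CfsgLib.Solvable.eq_of_le_of_card_le (H := P.map (MulAut.conj ((n : G) * h)).toMonoidHom) (K := P)
      (by rintro _ ⟨p, hp, rfl⟩; exact key p hp)
      (by rw [Subgroup.card_map_of_injective (MulAut.conj ((n : G) * h)).injective])
  let ι : ↥(cA z P) →* ↥(cH z) := Subgroup.inclusion inf_le_left
  refine ⟨e.toMonoidHom.comp ((QuotientGroup.mk' _).comp ι), ?_, ?_⟩
  · intro y
    obtain ⟨⟨h, hh⟩, hq⟩ := QuotientGroup.mk'_surjective (N.subgroupOf (cH z)) (e.symm y)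
    obtain ⟨n, hn, ha⟩ := hfr h hh
    refine ⟨⟨n * h, ha⟩, ?_⟩
    have : QuotientGroup.mk' (N.subgroupOf (cH z)) (ι ⟨n * h, ha⟩) =
        QuotientGroup.mk' (N.subgroupOf (cH z)) ⟨h, hh⟩ := by
      have he : ι ⟨n * h, ha⟩ = (⟨n, hNH hn⟩ : ↥(cH z)) * ⟨h, hh⟩ := rfl
      rw [he, map_mul]
      have h1 : QuotientGroup.mk' (N.subgroupOf (cH z)) (⟨n, hNH hn⟩ : ↥(cH z)) = 1 :=
        (QuotientGroup.eq_one_iff _).mpr (by simpa [Subgroup.mem_subgroupOf] using hn)
      rw [h1, one_mul]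
    simp only [MonoidHom.comp_apply, MulEquiv.coe_toMonoidHom]
    rw [this, hq, MulEquiv.apply_symm_apply]
  · ext ⟨a, ha⟩
    simp only [MonoidHom.mem_ker, MonoidHom.comp_apply, MulEquiv.coe_toMonoidHom, map_eq_one_iff e e.injective,
      QuotientGroup.mk'_apply, QuotientGroup.eq_one_iff, Subgroup.mem_subgroupOf, ι, Subgroup.coe_inclusion]
    constructor
    · intro han
      obtain ⟨x, hx, p, hp, hxp⟩ := hdec a han
      have hxA : x ∈ Subgroup.normalizer (P : Set G) := by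
        have : x = a * p⁻¹ := by rw [hxp]; group
        rw [this]
        exact mul_mem ha.2 (inv_mem (Subgroup.le_normalizer hp))
      have hxC : x ∈ Subgroup.centralizer (P : Set G) := by
        rw [Subgroup.mem_centralizer_iff]
        intro q hq
        have h1 : x * q * x⁻¹ * q⁻¹ ∈ P :=
          mul_mem ((Subgroup.mem_normalizer_iff.mp hxA q).mp hq) (inv_mem hq)
        have h2 : x * q * x⁻¹ * q⁻¹ ∈ cE z := by
          have := (Subgroup.mem_normalizer_iff.mp (H_le_normalizer_E (P_le_H hJ hq)) x⁻¹).mp (inv_mem hx)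
          simpa [mul_assoc] using mul_mem hx this
        have h3 : x * q * x⁻¹ * q⁻¹ = 1 := by
          have hd : P ⊓ cE z = ⊥ := Subgroup.inf_eq_bot_of_coprime (by rw [card_P hJ, card_E hJ]; decide)
          simpa [hd] using (Subgroup.mem_inf.mpr ⟨h1, h2⟩)
        exact (mul_inv_eq_iff_eq_mul.mp (mul_inv_eq_one.mp h3)).symm
      have hxz : x ∈ Subgroup.zpowers z := E_inf_centralizer hJ ▸ Subgroup.mem_inf.mpr ⟨hx, hxC⟩
      rw [hxp]
      exact mul_mem (Subgroup.mem_sup_left hxz) (Subgroup.mem_sup_right hp)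
    · intro hak
      exact (sup_le (Subgroup.zpowers_le.mpr (hEN (z_mem_E hJ))) hPN : cK z P ≤ N) hak

theorem card_A [Finite G] (hJ : Cfsg.IsOfJankoFourTypeWith z P) : Nat.card ↥(cA z P) = 6 * 887040 := by
  obtain ⟨f, hf, hker⟩ := exists_hom hJ
  rw [Subgroup.card_eq_card_quotient_mul_card_subgroup f.ker,
    Nat.card_congr (QuotientGroup.quotientKerEquivOfSurjective f hf).toEquiv, card_aut_m22, hker,
    Nat.card_congr (Subgroup.subgroupOfEquivOfLe ((K_le_C hJ).trans C_le_A)).toEquiv, card_K hJ]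

/-- The centraliser of `P` in `H` has index two in the normaliser. -/
theorem index_C [Finite G] (hJ : Cfsg.IsOfJankoFourTypeWith z P) :
    ((cC z P).subgroupOf (cA z P)).index = 2 := by
  classical
  let φ : ↥(cA z P) →* MulAut ↥P := (Subgroup.normalizerMonoidHom P).comp (Subgroup.inclusion inf_le_right)
  have hker : φ.ker = (cC z P).subgroupOf (cA z P) := by
    ext ⟨a, ha⟩
    simp only [φ, MonoidHom.mem_ker, MonoidHom.comp_apply, Subgroup.mem_subgroupOf]
    rw [← MonoidHom.mem_ker, Subgroup.normalizerMonoidHom_ker, Subgroup.mem_subgroupOf]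
    exact ⟨fun h => ⟨ha.1, h⟩, fun h => h.2⟩
  haveI : IsCyclic ↥P := isCyclic_of_prime_card (p := 3) (card_P hJ)
  have hdvd : φ.ker.index ∣ 2 := by
    rw [Subgroup.index_ker]
    have := Subgroup.card_subgroup_dvd_card φ.range
    rwa [IsCyclic.card_mulAut, card_P hJ, show Nat.totient 3 = 2 from rfl] at this
  rw [hker] at hdvd
  rcases (Nat.dvd_prime Nat.prime_two).mp hdvd with h | h
  · exact absurd (le_antisymm (Subgroup.subgroupOf_eq_top.mp (Subgroup.index_eq_one.mp h)) C_le_A) (A_ne_C hJ)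
  · exact h

theorem card_C [Finite G] (hJ : Cfsg.IsOfJankoFourTypeWith z P) : Nat.card ↥(cC z P) = 6 * 443520 := by
  have h := ((cC z P).subgroupOf (cA z P)).card_mul_index
  rw [index_C hJ, card_A hJ, Nat.card_congr (Subgroup.subgroupOfEquivOfLe C_le_A).toEquiv] at h
  omega

/-- `C_H(P)` modulo `⟨z⟩P` is `M22`. -/
theorem exists_hom_C [Finite G] (hJ : Cfsg.IsOfJankoFourTypeWith z P) :
    ∃ g : ↥(cC z P) →* ↥Cfsg.Spor.M22,
      Function.Surjective g ∧ g.ker = (cK z P).subgroupOf (cC z P) := by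
  obtain ⟨f, hf, hker⟩ := exists_hom hJ
  let f' : ↥(cC z P) →* MulAut ↥Cfsg.Spor.M22 := f.comp (Subgroup.inclusion C_le_A)
  have hkle : f.ker ≤ (cC z P).subgroupOf (cA z P) := by
    rw [hker]; exact fun a ha => K_le_C hJ ha
  have hrange : f'.range = Cfsg.Inn ↥Cfsg.Spor.M22 := by
    refine eq_inn_of_index_two ?_
    rw [show f'.range = ((cC z P).subgroupOf (cA z P)).map f by
      rw [MonoidHom.range_eq_map, ← Subgroup.map_map]
      congr 1
      rw [← MonoidHom.range_eq_map]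
      ext a
      constructor
      · rintro ⟨b, rfl⟩; exact b.2
      · intro ha; exact ⟨⟨a, ha⟩, rfl⟩]
    rw [Subgroup.index_map, sup_eq_left.mpr hkle, index_C hJ, MonoidHom.range_eq_top.mpr hf,
      Subgroup.index_top]
  have hinj : Function.Injective (MulAut.conj : ↥Cfsg.Spor.M22 →* MulAut ↥Cfsg.Spor.M22) := by
    rw [← MonoidHom.ker_eq_bot_iff, eq_bot_iff, ← center_m22]
    intro a ha
    refine Subgroup.mem_center_iff.mpr fun b => ?_
    have h := congrArg (fun f : MulAut ↥Cfsg.Spor.M22 => f b) (MonoidHom.mem_ker.mp ha)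
    simp only [MulAut.conj_apply, MulAut.one_apply] at h
    exact (mul_inv_eq_iff_eq_mul.mp h).symm
  let ψ : ↥(Cfsg.Inn ↥Cfsg.Spor.M22) ≃* ↥Cfsg.Spor.M22 := (MonoidHom.ofInjective hinj).symm
  refine ⟨ψ.toMonoidHom.comp ((MulEquiv.subgroupCongr hrange).toMonoidHom.comp f'.rangeRestrict), ?_, ?_⟩
  · exact ψ.surjective.comp ((MulEquiv.subgroupCongr hrange).surjective.comp f'.rangeRestrict_surjective)
  · ext ⟨a, ha⟩
    simp only [MonoidHom.mem_ker, MonoidHom.comp_apply, MulEquiv.coe_toMonoidHom,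
      map_eq_one_iff ψ ψ.injective, MulEquiv.map_eq_one_iff]
    rw [← MonoidHom.mem_ker, MonoidHom.ker_rangeRestrict, MonoidHom.mem_ker]
    show f ⟨a, C_le_A ha⟩ = 1 ↔ _
    rw [← MonoidHom.mem_ker, hker]
    simp [Subgroup.mem_subgroupOf]

/-- `H = E · N_H(P)`. -/
theorem H_eq [Finite G] (hJ : Cfsg.IsOfJankoFourTypeWith z P) : cH z = cA z P ⊔ cE z := by
  obtain ⟨N, -, hNH, -, hcardN, ⟨hnor, ⟨e⟩⟩, -⟩ := hJ.2.2.2.2.1
  haveI := hnor
  refine (CfsgLib.Solvable.eq_of_le_of_card_le (sup_le inf_le_left E_le_H) ?_).symm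
  have hle : cA z P ≤ Subgroup.normalizer (cE z : Set G) := inf_le_left.trans H_le_normalizer_E
  have h := CfsgLib.Solvable.card_sup_mul_card_inf hle
  have hi : cA z P ⊓ cE z = Subgroup.zpowers z := by
    refine le_antisymm (fun x hx => ?_) (Subgroup.zpowers_le.mpr
      ⟨⟨z_mem_H, Subgroup.centralizer_le_normalizer _ (z_mem_C_P hJ)⟩, z_mem_E hJ⟩)
    rw [← E_inf_centralizer hJ]
    refine ⟨hx.2, Subgroup.mem_centralizer_iff.mpr fun q hq => ?_⟩
    have h1 : x * q * x⁻¹ * q⁻¹ ∈ P :=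
      mul_mem ((Subgroup.mem_normalizer_iff.mp hx.1.2 q).mp hq) (inv_mem hq)
    have h2 : x * q * x⁻¹ * q⁻¹ ∈ cE z := by
      have := (Subgroup.mem_normalizer_iff.mp (H_le_normalizer_E (P_le_H hJ hq)) x⁻¹).mp (inv_mem hx.2)
      simpa [mul_assoc] using mul_mem hx.2 this
    have hd : P ⊓ cE z = ⊥ := Subgroup.inf_eq_bot_of_coprime (by rw [card_P hJ, card_E hJ]; decide)
    have h3 : x * q * x⁻¹ * q⁻¹ = 1 := by simpa [hd] using (Subgroup.mem_inf.mpr ⟨h1, h2⟩)
    exact (mul_inv_eq_iff_eq_mul.mp (mul_inv_eq_one.mp h3)).symm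
  rw [hi, card_A hJ, card_E hJ, Nat.card_zpowers, orderOf_z hJ] at h
  norm_num at h
  have hH : Nat.card ↥(cH z) = 887040 * (3 * 2 ^ 13) := by
    rw [Subgroup.card_eq_card_quotient_mul_card_subgroup (N.subgroupOf (cH z)), Nat.card_congr e.toEquiv,
      card_aut_m22]
    congr 1
    rw [Nat.card_congr (Subgroup.subgroupOfEquivOfLe hNH).toEquiv, hcardN, card_E hJ]
  norm_num at hH
  show Nat.card ↥(cH z) ≤ Nat.card ↥(cA z P ⊔ cE z)
  omega

end Setup

end CfsgLib.J4Local
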