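/-
Position lists used as witnesses for the local facts about the Mathieu group of degree 22.
-/
import Mathlib.Data.List.Range

set_option autoImplicit false
set_option maxRecDepth 10000

namespace CfsgLib.J4M22

/-- An involution. -/
def sigL : List ℕ := [0,2,1,4,3,13,6,7,11,20,10,8,12,5,22,15,17,16,18,21,9,19,14,23]

/-- An element of order 3 commuting with the involution. -/
def sigC3 : List ℕ := [0,1,2,3,4,14,15,10,21,8,12,19,7,22,17,18,13,5,6,20,11,9,16,23]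

/-- The central involution of the 2-subgroup. -/
def zL : List ℕ := [0,1,10,21,5,4,6,8,7,20,2,11,22,19,14,15,16,18,17,13,9,3,12,23]

/-- First entry of a commutator equal to the central involution. -/
def zA : List ℕ := [0,1,2,22,5,4,11,8,7,9,10,6,21,17,16,15,14,13,19,18,20,12,3,23]

/-- Second entry of that commutator. -/
def zB : List ℕ := [0,1,4,13,10,2,11,20,9,7,5,6,17,21,16,15,14,22,12,3,8,19,18,23]

/-- An element of order 3. -/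
def tauL : List ℕ := [0,2,3,1,4,5,18,10,11,20,12,13,7,8,14,6,9,17,15,22,16,19,21,23]

/-- An element commuting with the element of order 3 outside the normaliser of the 3-subgroup. -/
def outL : List ℕ := [0,8,11,13,5,4,6,7,1,21,10,2,12,3,17,15,22,14,18,20,19,9,16,23]

/-- An involution commuting with the element of order 3. -/
def tauA : List ℕ := [0,8,11,13,5,4,6,7,1,21,10,2,12,3,17,15,22,14,18,20,19,9,16,23]

/-- A second one. -/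
def tauB : List ℕ := [0,9,20,16,17,14,6,7,21,1,10,19,12,22,5,15,3,4,18,11,2,8,13,23]

/-- Conjugators for the involutions. -/
def conj2 : List (List ℕ) := [
  [0,1,14,2,4,3,7,20,19,15,6,22,8,21,17,11,10,5,9,13,16,12,18,23],
  [0,1,14,2,10,3,12,13,8,16,11,9,19,18,17,6,4,5,22,20,15,7,21,23],
  [0,1,14,7,8,12,6,11,2,10,21,5,3,19,20,18,22,13,17,15,4,16,9,23],
  [0,1,14,7,9,12,11,6,17,21,10,3,5,22,20,4,19,13,2,16,18,15,8,23],
  [0,1,15,2,4,9,18,17,12,14,11,22,21,8,20,6,5,10,3,13,16,19,7,23],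
  [0,1,15,2,5,9,19,13,21,16,6,3,12,7,20,11,4,10,22,17,14,18,8,23],
  [0,1,15,2,7,9,17,18,3,11,14,21,22,5,20,16,8,10,12,19,6,13,4,23],
  [0,1,15,2,8,9,13,19,22,6,16,12,3,4,20,14,7,10,21,18,11,17,5,23],
  [0,1,15,3,13,12,16,14,7,2,9,8,4,18,21,20,17,22,5,6,10,11,19,23],
  [0,1,15,3,17,12,11,6,4,10,20,5,7,19,21,9,13,22,8,14,2,16,18,23],
  [0,1,15,3,18,12,6,11,8,20,10,7,5,13,21,2,19,22,4,16,9,14,17,23],
  [0,1,15,3,19,12,14,16,5,9,2,4,8,17,21,10,18,22,7,11,20,6,13,23],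
  [0,1,16,2,5,4,9,7,15,21,20,14,11,10,22,8,19,13,6,3,17,18,12,23],
  [0,1,16,2,10,4,3,18,14,8,17,15,6,5,22,21,12,13,11,9,20,7,19,23],
  [0,1,16,3,17,7,6,11,10,4,13,5,12,8,18,22,20,9,19,14,2,15,21,23],
  [0,1,16,3,21,7,11,6,19,13,4,12,5,20,18,2,8,9,10,15,22,14,17,23],
  [0,2,3,4,18,8,15,11,12,5,14,20,16,19,9,1,10,21,6,7,17,13,22,23],
  [0,2,4,3,18,8,6,11,12,13,16,19,14,20,21,1,7,9,15,10,22,5,17,23],
  [0,2,5,7,20,9,14,1,10,21,16,4,11,8,12,15,19,22,6,17,18,3,13,23],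
  [0,2,7,4,9,17,14,16,19,13,15,21,6,12,20,11,22,18,1,8,3,10,5,23],
  [0,2,8,3,19,4,6,15,12,7,16,18,1,20,9,14,13,21,11,22,10,17,5,23],
  [0,2,9,3,22,4,15,1,13,17,11,18,6,7,21,16,5,8,14,10,19,20,12,23],
  [0,2,9,6,11,13,21,3,7,20,1,5,22,19,18,15,16,14,12,4,10,8,17,23],
  [0,2,10,3,12,18,15,1,11,14,7,6,4,13,22,8,17,19,5,20,16,9,21,23],
  [0,2,10,3,21,18,1,15,5,7,14,4,6,17,22,16,13,19,11,9,8,20,12,23],
  [0,2,12,5,13,7,14,15,3,18,1,20,6,17,22,11,21,9,16,19,8,4,10,23],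
  [0,2,13,5,12,8,16,1,18,3,15,9,6,21,19,11,17,20,14,22,7,4,10,23],
  [0,2,17,4,21,7,14,1,19,22,15,9,11,12,18,6,13,20,16,3,8,5,10,23],
  [0,2,18,3,4,10,1,11,5,13,14,21,16,17,19,6,7,22,15,8,9,12,20,23],
  [0,2,19,3,8,10,11,16,7,12,15,21,1,13,22,14,20,18,6,9,4,17,5,23],
  [0,2,20,3,21,6,15,1,7,5,13,4,18,11,12,19,14,16,17,9,8,10,22,23],
  [0,2,20,4,8,7,11,14,10,12,6,9,1,5,17,16,19,18,15,21,3,22,13,23],
  [0,2,21,3,10,4,1,6,5,20,14,18,15,17,8,11,12,9,16,19,22,7,13,23],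
  [0,2,22,3,9,10,16,1,20,17,6,21,11,12,18,15,5,19,14,4,8,13,7,23],
  [0,3,22,4,5,6,1,15,19,17,20,18,2,11,7,9,16,14,10,12,13,21,8,23]]

/-- Conjugators for the eight elements of order 3. -/
def conj3 : List (List ℕ) := [
  [0,5,14,17,4,1,10,15,8,11,18,21,6,9,3,7,20,2,12,22,19,13,16,23],
  [0,5,17,14,4,1,12,15,8,13,6,9,18,21,2,7,22,3,10,20,16,11,19,23],
  [0,1,2,3,4,5,6,7,8,9,10,11,12,13,14,15,16,17,18,19,20,21,22,23],
  [0,7,12,10,4,6,17,3,22,20,1,9,2,11,15,14,21,18,5,19,13,8,16,23],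
  [0,6,15,18,4,7,1,14,22,9,5,8,17,20,10,3,13,12,2,16,19,11,21,23],
  [0,1,3,2,4,5,18,7,8,21,12,13,10,11,17,15,19,14,6,16,22,9,20,23],
  [0,6,18,15,4,7,2,14,22,11,17,20,5,8,12,3,16,10,1,13,21,9,19,23],
  [0,7,10,12,4,6,5,3,22,8,2,11,1,9,18,14,19,15,17,21,16,20,13,23]]

end CfsgLib.J4M22
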