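/-
Elements of the Mathieu group of degree 22 given by position lists, and the orders of centralisers
of representatives of the classes of elements of order 2 and 3.
-/
import Cfsg.Agent.Golay.PrimeCounts
import Cfsg.Agent.J4Local.M22Data

set_option autoImplicit false
set_option linter.style.haveILetI false

namespace CfsgLib.J4M22

open Cfsg CfsgLib.Golay CfsgLib.Golay.Cert MulAction

/-- The Mathieu group of degree 22. -/
abbrev M := ↥Spor.M22

/-- The list gives an element fixing the two base positions. -/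
def okL (L : List ℕ) : Bool := genOK L && (L.getD 23 0 == 23 && L.getD 0 0 == 0)

/-- The position list of an element. -/
def lst (g : M) : List ℕ := toList g.1

theorem lst_injective : Function.Injective lst := fun _ _ h => Subtype.ext (Cert.toList_injective h)

theorem lst_mul (g h : M) : lst (g * h) = compL (lst g) (lst h) := toList_mul _ _

theorem lst_inv (g : M) : lst g⁻¹ = invL (lst g) := toList_inv _

theorem lst_one : lst 1 = List.range 24 := toList_one

theorem lst_pow (g : M) (n : ℕ) : lst (g ^ n) = powL (lst g) n := by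
  rw [lst, SubgroupClass.coe_pow, toList_pow]; rfl

theorem exists_lst {L : List ℕ} (h : okL L = true) : ∃ g : M, lst g = L := by
  simp only [okL, Bool.and_eq_true, beq_iff_eq] at h
  obtain ⟨hg, h1, h2⟩ := h
  obtain ⟨g, hgl⟩ := genOK_spec hg
  have e : ∀ p : GolayPt, L.getD (idx p) 0 = idx p → (g : Equiv.Perm GolayPt) p = p := fun p hp =>
    idx_injective (by rw [← toList_getD_idx, hgl, hp])
  exact ⟨⟨g.1, ⟨⟨g.2, e none h1⟩, e (some 0) h2⟩⟩, hgl⟩

/-- The element with a given position list. -/
noncomputable def el (L : List ℕ) : M := if h : okL L = true then (exists_lst h).choose else 1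

theorem lst_el {L : List ℕ} (h : okL L = true) : lst (el L) = L := by
  rw [el, dif_pos h]; exact (exists_lst h).choose_spec

theorem commute_iff {g h : M} : g * h = h * g ↔ compL (lst g) (lst h) = compL (lst h) (lst g) := by
  rw [← lst_mul, ← lst_mul, lst_injective.eq_iff]

theorem apply_base (g : M) : g.1 (pt 23) = pt 23 ∧ g.1 (pt 0) = pt 0 := ⟨g.2.1.2, g.2.2⟩

theorem moved_iff (g : M) {i : ℕ} (hi : i < 24) : g.1 (pt i) = pt i ↔ (lst g).getD i 0 = i := by
  rw [lst, toList_getD _ hi]
  exact ⟨fun h => by rw [h, idx_pt i hi], fun h => idx_injective (by rw [h, idx_pt i hi])⟩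

theorem fix_image {x c : M} (hc : c * x = x * c) {i j : ℕ} (hi : i < 24) (hj : j < 24)
    (hx : (lst x).getD i 0 = j) (h : c.1 (pt i) = pt i) : c.1 (pt j) = pt j := by
  have e : x.1 (pt i) = pt j := by
    apply idx_injective
    rw [idx_pt j hj, ← toList_getD _ hi]
    exact hx
  have := congrArg (fun z : M => z.1 (pt i)) hc
  simp only [Subgroup.coe_mul, Equiv.Perm.mul_apply, e, h] at this
  exact this

/-- One step of the orbit bound. -/
theorem card_le_step {x : M} {K : Subgroup M} (hK : K ≤ Subgroup.centralizer {x}) {p : ℕ} (hp : p < 24)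
    (E : List ℕ) (hE : ∀ c ∈ K, ∀ j ∈ E, c.1 (pt j) = pt j) (hpE : p ∉ E)
    (hmov : (lst x).getD p 0 ≠ p) :
    Nat.card K ≤ ((List.range 24).filter fun j => (lst x).getD j 0 != j && !E.contains j).length *
      Nat.card (K ⊓ stabilizer M (pt p) : Subgroup M) := by
  classical
  have hfix : ∀ c ∈ K, ∀ q : GolayPt, c.1 (x.1 q) = x.1 (c.1 q) := fun c hc q =>
    congrArg (fun z : M => z.1 q) (Subgroup.mem_centralizer_singleton_iff.mp (hK hc))
  have hst : Nat.card (stabilizer K (pt p)) = Nat.card (K ⊓ stabilizer M (pt p) : Subgroup M) := by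
    refine Nat.card_congr ⟨fun c => ⟨c.1.1, c.1.2, c.2⟩, fun c => ⟨⟨c.1, c.2.1⟩, c.2.2⟩, fun _ => rfl, fun _ => rfl⟩
  rw [← (stabilizer K (pt p)).card_mul_index, index_stabilizer, hst, mul_comm]
  refine Nat.mul_le_mul_right _ ?_
  set F := (((List.range 24).filter fun j => (lst x).getD j 0 != j && !E.contains j).map pt).toFinset
  have hsub : orbit K (pt p) ⊆ (F : Set GolayPt) := by
    rintro _ ⟨c, rfl⟩
    change c.1.1 (pt p) ∈ (F : Set GolayPt)
    simp only [F, List.coe_toFinset, Set.mem_ofPred_eq, List.mem_map, List.mem_filter, List.mem_range,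
      Bool.and_eq_true, bne_iff_ne, Bool.not_eq_true', List.contains_iff_mem, ← Bool.not_eq_true]
    refine ⟨idx (c.1.1 (pt p)), ⟨idx_lt _, fun e => hmov ?_, fun h => hpE ?_⟩, pt_idx _⟩
    · rw [← moved_iff x hp]
      have h4 : x.1 (c.1.1 (pt p)) = c.1.1 (pt p) := by
        rw [← pt_idx (c.1.1 (pt p))]
        exact (moved_iff x (idx_lt _)).mpr e
      rw [← hfix _ c.2] at h4
      exact c.1.1.injective h4
    · have h5 := hE _ c.2 _ h
      rw [pt_idx] at h5
      have h6 := c.1.1.injective h5
      have h7 : idx (c.1.1 (pt p)) = p := by rw [h6, idx_pt p hp]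
      rwa [h7] at h
  calc (orbit K (pt p)).ncard ≤ F.card := by
        rw [← Set.ncard_coe_finset]; exact Set.ncard_le_ncard hsub F.finite_toSet
    _ ≤ _ := (List.toFinset_card_le _).trans (by rw [List.length_map])

/-- The last step of the orbit bound. -/
theorem card_le_five {x : M} {K : Subgroup M} (hK : K ≤ Subgroup.centralizer {x})
    (hfix : ∀ c ∈ K, ∀ j ∈ q5, c.1 (pt j) = pt j) :
    Nat.card K ≤ (fiveList.filter fun f => compL f (lst x) == compL (lst x) f).length := by
  classical
  let F := fiveList.filter fun f => compL f (lst x) == compL (lst x) f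
  have hmem : ∀ c : K, lst c.1 ∈ F := by
    rintro ⟨c, hc⟩
    refine List.mem_filter.mpr ⟨fixList_five ⟨c.1, c.2.1.1⟩ fun i hi => ?_, ?_⟩
    · have hi' : i < 24 := by
        simp only [q5, List.mem_cons, List.not_mem_nil, or_false] at hi
        omega
      show (lst c).getD i 0 = i
      rw [← moved_iff c hi']
      exact hfix c hc i hi
    · rw [beq_iff_eq, ← commute_iff]
      exact Subgroup.mem_centralizer_singleton_iff.mp (hK hc)
  calc Nat.card K ≤ Nat.card {L // L ∈ F.toFinset} :=
        Nat.card_le_card_of_injective (fun c : K => (⟨lst c.1, List.mem_toFinset.mpr (hmem c)⟩ : {L // L ∈ F.toFinset}))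
          fun a b h => Subtype.ext (lst_injective (congrArg Subtype.val h))
    _ ≤ F.length := by
        rw [Nat.card_eq_fintype_card, Fintype.card_coe]; exact List.toFinset_card_le _

theorem rep_ok :
    okL sigL = true ∧ okL sigC3 = true ∧ okL tauL = true ∧ okL outL = true ∧ okL tauA = true ∧ okL tauB = true ∧
    sigL.getD 1 0 = 2 ∧ sigL.getD 3 0 ≠ 3 ∧ tauL.getD 1 0 = 2 ∧ tauL.getD 2 0 = 3 ∧
    ((List.range 24).filter fun j => sigL.getD j 0 != j && !([23, 0] : List ℕ).contains j).length = 16 ∧
    ((List.range 24).filter fun j => sigL.getD j 0 != j && !([23, 0, 1, 2] : List ℕ).contains j).length = 14 ∧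
    (fiveList.filter fun f => compL f sigL == compL sigL f).length = 3 ∧
    ((List.range 24).filter fun j => tauL.getD j 0 != j && !([23, 0] : List ℕ).contains j).length = 18 ∧
    (fiveList.filter fun f => compL f tauL == compL tauL f).length = 3 ∧
    ordB 2 sigL = true ∧ ordB 3 sigC3 = true ∧ ordB 3 tauL = true ∧ compL sigL sigC3 = compL sigC3 sigL ∧
    ordB 2 tauA = true ∧ ordB 2 tauB = true ∧ compL tauA tauB = compL tauB tauA ∧ tauA ≠ tauB ∧
    compL tauL tauA = compL tauA tauL ∧ compL tauL tauB = compL tauB tauL ∧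
    compL tauL outL = compL outL tauL := by
  decide +kernel

theorem orderOf_of_ordB {g : M} {p : ℕ} [Fact p.Prime] (h : ordB p (lst g) = true) : orderOf g = p := by
  simp only [ordB, Bool.and_eq_true, bne_iff_ne, ne_eq, beq_iff_eq] at h
  refine orderOf_eq_prime (lst_injective ?_) fun e => h.1 (by rw [e, lst_one])
  rw [lst_pow, h.2, lst_one]

/-- The representative involution. -/
noncomputable def sigE : M := el sigL

/-- The representative element of order 3. -/
noncomputable def tauE : M := el tauL

theorem lst_sigE : lst sigE = sigL := lst_el rep_ok.1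
theorem lst_tauE : lst tauE = tauL := lst_el rep_ok.2.2.1

theorem orderOf_sigE : orderOf sigE = 2 := by
  haveI : Fact (Nat.Prime 2) := ⟨Nat.prime_two⟩
  refine orderOf_of_ordB ?_
  rw [lst_sigE]
  exact rep_ok.2.2.2.2.2.2.2.2.2.2.2.2.2.2.2.1

theorem orderOf_tauE : orderOf tauE = 3 := by
  haveI : Fact (Nat.Prime 3) := ⟨Nat.prime_three⟩
  refine orderOf_of_ordB ?_
  rw [lst_tauE]
  exact rep_ok.2.2.2.2.2.2.2.2.2.2.2.2.2.2.2.2.2.1

theorem card_centralizer_sigE_le : Nat.card (Subgroup.centralizer ({sigE} : Set M)) ≤ 672 := by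
  set C := Subgroup.centralizer ({sigE} : Set M) with hC
  have hx := lst_sigE
  obtain ⟨-, -, -, -, -, -, h1, h3, -, -, e1, e2, e3, -⟩ := rep_ok
  have hb : ∀ c : M, ∀ j ∈ ([23, 0] : List ℕ), c.1 (pt j) = pt j := by
    intro c j hj
    simp only [List.mem_cons, List.not_mem_nil, or_false] at hj
    rcases hj with rfl | rfl
    exacts [(apply_base c).1, (apply_base c).2]
  set K := C ⊓ stabilizer M (pt 1)
  set K' := K ⊓ stabilizer M (pt 3)
  have s1 := card_le_step (x := sigE) (K := C) le_rfl (p := 1) (by norm_num) [23, 0] (fun c _ => hb c)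
    (by decide) (by rw [hx, h1]; norm_num)
  have h2fix : ∀ c ∈ K, c.1 (pt 2) = pt 2 := fun c hc =>
    fix_image (Subgroup.mem_centralizer_singleton_iff.mp hc.1) (by norm_num) (by norm_num) (by rw [hx, h1]) hc.2
  have hE : ∀ c ∈ K, ∀ j ∈ ([23, 0, 1, 2] : List ℕ), c.1 (pt j) = pt j := by
    intro c hc j hj
    simp only [List.mem_cons, List.not_mem_nil, or_false] at hj
    rcases hj with rfl | rfl | rfl | rfl
    exacts [hb c 23 (by simp), hb c 0 (by simp), hc.2, h2fix c hc]
  have s2 := card_le_step (x := sigE) (K := K) inf_le_left (p := 3) (by norm_num) [23, 0, 1, 2] hE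
    (by decide) (by rw [hx]; exact h3)
  have s3 := card_le_five (x := sigE) (K := K') (inf_le_left.trans inf_le_left) (by
    intro c hc j hj
    simp only [q5, List.mem_cons, List.not_mem_nil, or_false] at hj
    rcases hj with rfl | rfl | rfl | rfl | rfl
    exacts [hE c hc.1 23 (by simp), hE c hc.1 0 (by simp), hE c hc.1 1 (by simp), hE c hc.1 2 (by simp), hc.2])
  rw [hx, e1] at s1
  rw [hx, e2] at s2
  rw [hx, e3] at s3
  calc Nat.card C ≤ 16 * Nat.card K := s1
    _ ≤ 16 * (14 * 3) := Nat.mul_le_mul_left _ (s2.trans (Nat.mul_le_mul_left _ s3))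
    _ = 672 := by norm_num

theorem card_centralizer_tauE_le : Nat.card (Subgroup.centralizer ({tauE} : Set M)) ≤ 54 := by
  set C := Subgroup.centralizer ({tauE} : Set M) with hC
  have hx := lst_tauE
  obtain ⟨-, -, -, -, -, -, -, -, h1, h2, -, -, -, e1, e2, -⟩ := rep_ok
  set K := C ⊓ stabilizer M (pt 1)
  have s1 := card_le_step (x := tauE) (K := C) le_rfl (p := 1) (by norm_num) [23, 0] (by
    intro c _ j hj
    simp only [List.mem_cons, List.not_mem_nil, or_false] at hj
    rcases hj with rfl | rfl
    exacts [(apply_base c).1, (apply_base c).2]) (by decide) (by rw [hx, h1]; norm_num)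
  have s3 := card_le_five (x := tauE) (K := K) inf_le_left (by
    intro c hc j hj
    have hcc := Subgroup.mem_centralizer_singleton_iff.mp hc.1
    have f2 : c.1 (pt 2) = pt 2 := fix_image hcc (by norm_num) (by norm_num) (by rw [hx, h1]) hc.2
    simp only [q5, List.mem_cons, List.not_mem_nil, or_false] at hj
    rcases hj with rfl | rfl | rfl | rfl | rfl
    exacts [(apply_base c).1, (apply_base c).2, hc.2, f2,
      fix_image hcc (by norm_num) (by norm_num) (by rw [hx, h2]) f2])
  rw [hx, e1] at s1
  rw [hx, e2] at s3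
  calc Nat.card C ≤ 18 * Nat.card K := s1
    _ ≤ 18 * 3 := Nat.mul_le_mul_left _ s3

end CfsgLib.J4M22
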