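/-
The classes of elements of order 2 and 3 in the Mathieu group of degree 22, the orders of their
centralisers, a Sylow 2-subgroup and a Sylow 3-subgroup.
-/
import Cfsg.Agent.J4Local.M22Elt
import Cfsg.Agent.Golay.MathieuFusion

set_option autoImplicit false
set_option linter.style.haveILetI false

namespace CfsgLib.J4M22

open Cfsg CfsgLib.Golay CfsgLib.Golay.Cert MulAction

/-- The elements of the standard 2-subgroup. -/
def els2 : List (List ℕ) := SylowCert.els SylowCert.m22Pc SylowCert.m22Pc.length

/-- Conjugate of a list. -/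
def conjL (c x : List ℕ) : List ℕ := compL (compL c x) (invL c)

theorem two_ok :
    (conj2.all okL && els2.all fun x => !(ordB 2 x) || conj2.any fun c => conjL c sigL == x) = true := by
  decide +kernel

theorem lst_conj (c x : M) : lst (c * x * c⁻¹) = conjL (lst c) (lst x) := by
  rw [lst_mul, lst_mul, lst_inv]; rfl

theorem card_M : Nat.card M = 443520 := SylowCert.card_M22

/-- The standard Sylow 2-subgroup. -/
noncomputable def T : Subgroup M :=
  (SylowCert.pcGroup SylowCert.m22Pc SylowCert.m22Pc.length).subgroupOf Spor.M22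

theorem pc_le : SylowCert.pcGroup SylowCert.m22Pc SylowCert.m22Pc.length ≤ Spor.M22 :=
  SylowCert.pcGroup_le SylowCert.pc22 fun g hg => SylowCert.permL_mem_M22 (SylowCert.in22 g hg)

theorem card_T : Nat.card T = 128 := by
  rw [T, Nat.card_congr (Subgroup.subgroupOfEquivOfLe pc_le).toEquiv,
    SylowCert.card_pcGroup SylowCert.pc22 _ le_rfl]
  rfl

theorem mem_T {g : M} : g ∈ T ↔ lst g ∈ els2 := by
  rw [T, Subgroup.mem_subgroupOf]
  exact SylowCert.mem_pcGroup SylowCert.pc22 _ le_rfl _

theorem factorization_two : (Nat.card M).factorization 2 = 7 :=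
  SylowCert.factorization_two (m := 3465) (by rw [card_M]; norm_num) (by norm_num)

/-- The standard Sylow 2-subgroup, bundled. -/
noncomputable def TS : Sylow 2 M :=
  haveI : Fact (Nat.Prime 2) := ⟨Nat.prime_two⟩
  Sylow.ofCard T (by rw [card_T, factorization_two]; norm_num)

theorem coe_TS : (TS : Subgroup M) = T := rfl

/-- Every element of prime order is conjugate into a given Sylow subgroup. -/
theorem exists_conj_mem {G : Type*} [Group G] [Finite G] {p : ℕ} [Fact p.Prime] (Q : Sylow p G) {x : G}
    (hx : orderOf x = p) : ∃ g : G, g * x * g⁻¹ ∈ (Q : Subgroup G) := by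
  obtain ⟨R, hR⟩ := (IsPGroup.of_card (n := 1) (p := p)
    (show Nat.card (Subgroup.zpowers x) = p ^ 1 by rw [Nat.card_zpowers, hx, pow_one])).exists_le_sylow
  obtain ⟨g, hg⟩ := MulAction.exists_smul_eq G R Q
  refine ⟨g, ?_⟩
  rw [← hg, Sylow.coe_subgroup_smul, Subgroup.mem_pointwise_smul_iff_inv_smul_mem]
  show (MulAut.conj g)⁻¹ • (g * x * g⁻¹) ∈ (R : Subgroup G)
  rw [← map_inv, MulAut.smul_def, MulAut.conj_apply]
  convert hR (Subgroup.mem_zpowers x) using 1
  group

theorem conj_sigE {x : M} (hx : orderOf x = 2) : IsConj sigE x := by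
  haveI : Fact (Nat.Prime 2) := ⟨Nat.prime_two⟩
  obtain ⟨g, hg⟩ := exists_conj_mem TS hx
  rw [coe_TS] at hg
  set y := g * x * g⁻¹ with hy
  have hy2 : orderOf y = 2 := by
    rw [hy, show g * x * g⁻¹ = MulAut.conj g x from rfl, MulEquiv.orderOf_eq, hx]
  have hord : ordB 2 (lst y) = true := by
    simp only [ordB, Bool.and_eq_true, bne_iff_ne, ne_eq, beq_iff_eq]
    refine ⟨fun e => ?_, by rw [← lst_pow, ← hy2, pow_orderOf_eq_one, lst_one]⟩
    rw [← lst_one] at e
    rw [lst_injective e, orderOf_one] at hy2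
    omega
  have h := two_ok
  simp only [Bool.and_eq_true, List.all_eq_true] at h
  have h2 := h.2 _ (mem_T.mp hg)
  simp only [hord, Bool.not_true, Bool.false_or, List.any_eq_true, beq_iff_eq] at h2
  obtain ⟨c, hc, hce⟩ := h2
  have e : el c * sigE * (el c)⁻¹ = y := lst_injective (by
    rw [lst_conj, lst_el (h.1 c hc), lst_sigE, hce])
  exact (isConj_iff.mpr ⟨el c, e⟩).trans (isConj_iff.mpr ⟨g⁻¹, by rw [hy]; group⟩)

/-- M22 has one class of involutions. -/
theorem isConj_two {x y : M} (hx : orderOf x = 2) (hy : orderOf y = 2) : IsConj x y :=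
  (conj_sigE hx).symm.trans (conj_sigE hy)

theorem card_centralizer_of_isConj {G : Type*} [Group G] {x y : G} (h : IsConj x y) :
    Nat.card (Subgroup.centralizer ({x} : Set G)) = Nat.card (Subgroup.centralizer ({y} : Set G)) := by
  obtain ⟨c, hc⟩ := isConj_iff.mp h
  refine Nat.card_congr ((MulAut.conj c).toEquiv.subtypeEquiv fun g => ?_)
  show g ∈ Subgroup.centralizer ({x} : Set G) ↔ MulAut.conj c g ∈ Subgroup.centralizer ({y} : Set G)
  rw [Subgroup.mem_centralizer_singleton_iff, Subgroup.mem_centralizer_singleton_iff, ← hc,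
    ← MulAut.conj_apply c x, ← map_mul, ← map_mul, (MulAut.conj c).injective.eq_iff]

theorem z_ok : okL zL = true ∧ ordB 2 zL = true ∧ zL ∈ els2 ∧
    (∀ g ∈ SylowCert.m22Pc, compL zL g = compL g zL) ∧
    (els2.all fun L => !(SylowCert.m22Pc.all fun g => compL L g == compL g L) || (L == List.range 24 || L == zL)) = true ∧
    zA ∈ els2 ∧ zB ∈ els2 ∧ okL zA = true ∧ okL zB = true ∧ compL zA zB = compL zL (compL zB zA) := by
  decide +kernel

/-- The central involution of the standard 2-subgroup. -/
noncomputable def zE : M := el zL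

theorem lst_zE : lst zE = zL := lst_el z_ok.1

theorem orderOf_zE : orderOf zE = 2 := by
  haveI : Fact (Nat.Prime 2) := ⟨Nat.prime_two⟩
  exact orderOf_of_ordB (by rw [lst_zE]; exact z_ok.2.1)

theorem T_le_centralizer : T ≤ Subgroup.centralizer ({zE} : Set M) := by
  intro g hg
  rw [Subgroup.mem_centralizer_singleton_iff]
  have hle : SylowCert.pcGroup SylowCert.m22Pc SylowCert.m22Pc.length ≤
      Subgroup.centralizer ({(zE : Equiv.Perm GolayPt)} : Set (Equiv.Perm GolayPt)) := by
    refine SylowCert.pcGroup_le SylowCert.pc22 fun L hL => ?_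
    rw [Subgroup.mem_centralizer_singleton_iff]
    refine Cert.toList_injective ?_
    rw [toList_mul, toList_mul, SylowCert.toList_permL (SylowCert.in22 L hL).1 (SylowCert.in22 L hL).2.1,
      show toList (zE : Equiv.Perm GolayPt) = zL from lst_zE, z_ok.2.2.2.1 L hL]
  exact Subtype.ext (Subgroup.mem_centralizer_singleton_iff.mp (hle (Subgroup.mem_subgroupOf.mp hg)))

/-- The centraliser of an involution has order 384. -/
theorem card_centralizer_two {x : M} (hx : orderOf x = 2) :
    Nat.card (Subgroup.centralizer ({x} : Set M)) = 384 := by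
  haveI : Fact (Nat.Prime 3) := ⟨Nat.prime_three⟩
  rw [card_centralizer_of_isConj (conj_sigE hx).symm]
  have h1 : 128 ∣ Nat.card (Subgroup.centralizer ({sigE} : Set M)) := by
    rw [card_centralizer_of_isConj (conj_sigE orderOf_zE), ← card_T]
    exact Subgroup.card_dvd_of_le T_le_centralizer
  have h3 : 3 ∣ Nat.card (Subgroup.centralizer ({sigE} : Set M)) := by
    have ho : orderOf (el sigC3) = 3 := orderOf_of_ordB (by
      rw [lst_el rep_ok.2.1]; exact rep_ok.2.2.2.2.2.2.2.2.2.2.2.2.2.2.2.2.1)
    rw [← ho]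
    refine dvd_centralizer_of_mem (Subgroup.mem_centralizer_singleton_iff.mpr ?_)
    rw [commute_iff, lst_el rep_ok.2.1, lst_sigE]
    exact rep_ok.2.2.2.2.2.2.2.2.2.2.2.2.2.2.2.2.2.2.1.symm
  have h384 : 384 ∣ Nat.card (Subgroup.centralizer ({sigE} : Set M)) :=
    (show Nat.Coprime 128 3 by norm_num).mul_dvd_of_dvd_of_dvd h1 h3
  obtain ⟨k, hk⟩ := h384
  have := card_centralizer_sigE_le
  have hpos := Nat.card_pos (α := Subgroup.centralizer ({sigE} : Set M))
  rw [hk] at this hpos ⊢
  have : k = 1 := by omega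
  rw [this]

theorem center_T : ∀ u ∈ T, (∀ v ∈ T, u * v = v * u) ↔ (u = 1 ∨ u = zE) := by
  intro u hu
  constructor
  · intro h
    have hb := z_ok.2.2.2.2.1
    simp only [List.all_eq_true, Bool.or_eq_true, Bool.not_eq_true', ← Bool.not_eq_true] at hb
    rcases hb _ (mem_T.mp hu) with hc | hc
    · exfalso
      refine hc fun L hL => ?_
      rw [beq_iff_eq]
      have hL' := SylowCert.in22 L hL
      let g : M := ⟨SylowCert.permL L, SylowCert.permL_mem_M22 hL'⟩
      have hgl : lst g = L := SylowCert.toList_permL hL'.1 hL'.2.1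
      have hgT : g ∈ T := by
        rw [T, Subgroup.mem_subgroupOf]
        obtain ⟨j, hj, rfl⟩ := List.mem_iff_getElem.mp hL
        exact Subgroup.subset_closure ⟨j, hj, by rw [List.getD_eq_getElem _ _ hj]⟩
      have := commute_iff.mp (h g hgT)
      rwa [hgl] at this
    · simp only [beq_iff_eq] at hc
      rcases hc with hc | hc
      · exact Or.inl (lst_injective (by rw [hc, lst_one]))
      · exact Or.inr (lst_injective (by rw [hc, lst_zE]))
  · rintro (rfl | rfl) v hv
    · rw [one_mul, mul_one]
    · exact (Subgroup.mem_centralizer_singleton_iff.mp (T_le_centralizer hv)).symm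

theorem zE_mem : zE ∈ T := by rw [mem_T, lst_zE]; exact z_ok.2.2.1

theorem T_center : Nat.card (Subgroup.center T) = 2 ∧ Subgroup.center T ≤ commutator T := by
  classical
  have hmem : ∀ u : T, u ∈ Subgroup.center T ↔ (u.1 = 1 ∨ u.1 = zE) := fun u => by
    rw [← center_T u.1 u.2, Subgroup.mem_center_iff]
    exact ⟨fun h v hv => (congrArg Subtype.val (h ⟨v, hv⟩)).symm, fun h v => Subtype.ext (h v.1 v.2).symm⟩
  have hne : zE ≠ 1 := fun e => by have := orderOf_zE; rw [e, orderOf_one] at this; omega
  refine ⟨?_, fun u hu => ?_⟩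
  · have e : (Subgroup.center T : Set T) = {1, ⟨zE, zE_mem⟩} := by
      ext u
      rw [SetLike.mem_coe, hmem]
      simp only [Set.mem_insert_iff, Set.mem_singleton_iff, Subtype.ext_iff, OneMemClass.coe_one]
    rw [← SetLike.coe_sort_coe, e, Nat.card_coe_set_eq, Set.ncard_pair]
    exact fun h => hne (congrArg Subtype.val h).symm
  · rcases (hmem u).mp hu with h | h
    · rw [show u = 1 from Subtype.ext h]; exact one_mem _
    · obtain ⟨ha, hb, hao, hbo, hab⟩ := z_ok.2.2.2.2.2
      have haT : el zA ∈ T := by rw [mem_T, lst_el hao]; exact ha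
      have hbT : el zB ∈ T := by rw [mem_T, lst_el hbo]; exact hb
      have e : el zA * el zB = zE * (el zB * el zA) := lst_injective (by
        simp only [lst_mul, lst_el hao, lst_el hbo, lst_zE, hab])
      have hu' : u = (⟨el zA, haT⟩ : T) * ⟨el zB, hbT⟩ * (⟨el zA, haT⟩ : T)⁻¹ * (⟨el zB, hbT⟩ : T)⁻¹ := by
        refine Subtype.ext ?_
        rw [h]
        show zE = el zA * el zB * (el zA)⁻¹ * (el zB)⁻¹
        rw [e]; group
      rw [hu', commutator_def]
      exact Subgroup.commutator_mem_commutator (Subgroup.mem_top _) (Subgroup.mem_top _)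

/-- The centre of a Sylow 2-subgroup has order 2 and lies in its derived subgroup. -/
theorem sylow_two_center (P : Sylow 2 M) :
    Nat.card (Subgroup.center P) = 2 ∧ Subgroup.center P ≤ commutator P := by
  haveI : Fact (Nat.Prime 2) := ⟨Nat.prime_two⟩
  let e : ↥T ≃* ↥(P : Subgroup M) := Sylow.equiv TS P
  refine ⟨(Nat.card_congr (Subgroup.centerCongr e).toEquiv).symm.trans T_center.1, fun u hu => ?_⟩
  have h1 : e.symm u ∈ Subgroup.center ↥T := Subgroup.mem_center_iff.mpr fun v => by
    have := congrArg e.symm (Subgroup.mem_center_iff.mp hu (e v))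
    rwa [map_mul, map_mul, e.symm_apply_apply] at this
  have h2 := Subgroup.mem_map_of_mem e.toMonoidHom (T_center.2 h1)
  rw [commutator_def, Subgroup.map_commutator, Subgroup.map_top_of_surjective e.toMonoidHom e.surjective] at h2
  simpa [commutator_def] using h2

/-! ### Order three -/

/-- The elements of the standard 3-subgroup. -/
def els3 : List (List ℕ) := List.range 24 :: conj3.map fun c => conjL c tauL

theorem three_ok : conj3.all okL = true ∧ els3.Nodup ∧ els3.length = 9 ∧ tauL ∈ els3 ∧
    (els3.all fun a => els3.all fun b => els3.contains (compL a b) && compL a b == compL b a) = true ∧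
    (els3.all fun a => powL a 3 == List.range 24) = true ∧
    (conj3.all fun c => els3.all fun a => els3.contains (conjL c a)) = true ∧
    (els3.any fun a => !els3.contains (conjL outL a)) = true := by
  decide +kernel

/-- The standard 3-subgroup. -/
noncomputable def S : Subgroup M where
  carrier := {g | lst g ∈ els3}
  one_mem' := by show lst 1 ∈ els3; rw [lst_one]; exact List.mem_cons_self
  mul_mem' := fun {a b} ha hb => by
    have h := three_ok.2.2.2.2.1
    simp only [List.all_eq_true, Bool.and_eq_true, List.contains_iff_mem] at h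
    show lst (a * b) ∈ els3
    rw [lst_mul]
    exact (h _ ha _ hb).1
  inv_mem' := fun {a} ha => by
    have h := three_ok.2.2.2.2.1
    simp only [List.all_eq_true, Bool.and_eq_true, List.contains_iff_mem] at h
    have h3 : a ^ 3 = 1 := lst_injective (by
      have := three_ok.2.2.2.2.2.1
      simp only [List.all_eq_true, beq_iff_eq] at this
      rw [lst_pow, lst_one, this _ ha])
    show lst a⁻¹ ∈ els3
    rw [show a⁻¹ = a * a from inv_eq_of_mul_eq_one_right (by rw [← h3, pow_three]), lst_mul]
    exact (h _ ha _ ha).1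

theorem okL_els3 : ∀ L ∈ els3, ∃ g : M, lst g = L := by
  intro L hL
  rcases List.mem_cons.mp hL with rfl | hL
  · exact ⟨1, lst_one⟩
  · obtain ⟨c, hc, rfl⟩ := List.mem_map.mp hL
    refine ⟨el c * tauE * (el c)⁻¹, ?_⟩
    rw [lst_conj, lst_el (List.all_eq_true.mp three_ok.1 c hc), lst_tauE]

theorem card_S : Nat.card S = 9 := by
  have e : S ≃ {L // L ∈ els3.toFinset} := Equiv.ofBijective
    (fun g => ⟨lst g.1, List.mem_toFinset.mpr g.2⟩)
    ⟨fun a b h => Subtype.ext (lst_injective (congrArg Subtype.val h)), fun L => by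
      obtain ⟨g, hg⟩ := okL_els3 L.1 (List.mem_toFinset.mp L.2)
      exact ⟨⟨g, show lst g ∈ els3 by rw [hg]; exact List.mem_toFinset.mp L.2⟩, Subtype.ext hg⟩⟩
  rw [Nat.card_congr e, Nat.card_eq_fintype_card, Fintype.card_coe,
    List.toFinset_card_of_nodup three_ok.2.1, three_ok.2.2.1]

theorem S_elementary : Cfsg.IsElementaryAbelian 3 S := by
  refine ⟨⟨⟨fun a b => Subtype.ext ?_⟩⟩, fun g hg => lst_injective ?_⟩
  · have h := three_ok.2.2.2.2.1
    simp only [List.all_eq_true, Bool.and_eq_true, List.contains_iff_mem, beq_iff_eq] at h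
    exact commute_iff.mpr (h _ a.2 _ b.2).2
  · have h := three_ok.2.2.2.2.2.1
    simp only [List.all_eq_true, beq_iff_eq] at h
    rw [lst_pow, lst_one, h _ hg]

theorem factorization_three : (Nat.card M).factorization 3 = 2 := by
  rw [card_M, show (443520 : ℕ) = 3 ^ 2 * 49280 by norm_num,
    Nat.factorization_mul (by norm_num) (by norm_num), Finsupp.add_apply,
    Nat.Prime.factorization_pow Nat.prime_three, Finsupp.single_eq_same,
    Nat.factorization_eq_zero_of_not_dvd (by norm_num)]

/-- The standard Sylow 3-subgroup, bundled. -/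
noncomputable def SS : Sylow 3 M :=
  haveI : Fact (Nat.Prime 3) := ⟨Nat.prime_three⟩
  Sylow.ofCard S (by rw [card_S, factorization_three]; norm_num)

theorem coe_SS : (SS : Subgroup M) = S := rfl

theorem tauE_mem : tauE ∈ S := show lst tauE ∈ els3 by rw [lst_tauE]; exact three_ok.2.2.2.1

/-- Every nontrivial element of the standard 3-subgroup is a conjugate of the representative inside its normaliser. -/
theorem exists_normalizer_conj {s : M} (hs : s ∈ S) (h1 : s ≠ 1) :
    ∃ n ∈ Subgroup.normalizer (S : Set M), n * tauE * n⁻¹ = s := by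
  rcases List.mem_cons.mp (show lst s ∈ els3 from hs) with e | e
  · exact absurd (lst_injective (e.trans lst_one.symm)) h1
  · obtain ⟨c, hc, hce⟩ := List.mem_map.mp e
    have hcl := lst_el (List.all_eq_true.mp three_ok.1 c hc)
    have hmaps : ∀ a ∈ S, el c * a * (el c)⁻¹ ∈ S := fun a ha => by
      have h := three_ok.2.2.2.2.2.2.1
      simp only [List.all_eq_true, List.contains_iff_mem] at h
      show lst (el c * a * (el c)⁻¹) ∈ els3
      rw [lst_conj, hcl]
      exact h c hc _ ha
    refine ⟨el c, Subgroup.mem_normalizer_iff.mpr fun a => ⟨hmaps a, fun h => ?_⟩, lst_injective ?_⟩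
    · have key : S.map (MulAut.conj (el c)).toMonoidHom = S := by
        refine Subgroup.eq_of_le_of_card_ge (by rintro _ ⟨a, ha, rfl⟩; exact hmaps a ha) ?_
        rw [Subgroup.card_map_of_injective (MulAut.conj (el c)).injective]
      rw [← key] at h
      obtain ⟨b, hb, hbe⟩ := h
      have : b = a := (MulAut.conj (el c)).injective hbe
      exact this ▸ hb
    · rw [lst_conj, hcl, lst_tauE, hce]

theorem conj_tauE {x : M} (hx : orderOf x = 3) : IsConj tauE x := by
  haveI : Fact (Nat.Prime 3) := ⟨Nat.prime_three⟩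
  obtain ⟨g, hg⟩ := exists_conj_mem SS hx
  rw [coe_SS] at hg
  obtain ⟨n, -, hn⟩ := exists_normalizer_conj hg fun e => by
    have : orderOf (g * x * g⁻¹) = 3 := by
      rw [show g * x * g⁻¹ = MulAut.conj g x from rfl, MulEquiv.orderOf_eq, hx]
    rw [e, orderOf_one] at this
    omega
  exact (isConj_iff.mpr ⟨n, hn⟩).trans (isConj_iff.mpr ⟨g⁻¹, by group⟩)

/-- M22 has one class of elements of order 3. -/
theorem isConj_three {x y : M} (hx : orderOf x = 3) (hy : orderOf y = 3) : IsConj x y :=
  (conj_tauE hx).symm.trans (conj_tauE hy)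

/-- The centraliser of an element of order 3 has order 36. -/
theorem card_centralizer_three {x : M} (hx : orderOf x = 3) :
    Nat.card (Subgroup.centralizer ({x} : Set M)) = 36 := by
  haveI : Fact (Nat.Prime 2) := ⟨Nat.prime_two⟩
  rw [card_centralizer_of_isConj (conj_tauE hx).symm]
  obtain ⟨-, -, -, -, oA, oB, -, -, -, -, -, -, -, -, -, -, -, -, -, hA, hB, hAB, hne, hcA, hcB, -⟩ := rep_ok
  have h9 : 9 ∣ Nat.card (Subgroup.centralizer ({tauE} : Set M)) := by
    rw [← card_S]
    refine Subgroup.card_dvd_of_le fun g hg => Subgroup.mem_centralizer_singleton_iff.mpr ?_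
    exact congrArg Subtype.val (S_elementary.1.is_comm.comm (⟨g, hg⟩ : S) ⟨tauE, tauE_mem⟩)
  have h4 : 4 ∣ Nat.card (Subgroup.centralizer ({tauE} : Set M)) := by
    have la := lst_el oA
    have lb := lst_el oB
    refine four_dvd_centralizer (a := el tauA) (b := el tauB) (orderOf_of_ordB (by rw [la]; exact hA))
      (orderOf_of_ordB (by rw [lb]; exact hB)) (by rw [commute_iff, la, lb, hAB])
      (fun e => hne (by rw [← la, ← lb, e])) ?_ ?_
    · rw [Subgroup.mem_centralizer_singleton_iff, commute_iff, la, lst_tauE, hcA]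
    · rw [Subgroup.mem_centralizer_singleton_iff, commute_iff, lb, lst_tauE, hcB]
  obtain ⟨k, hk⟩ := (show Nat.Coprime 4 9 by norm_num).mul_dvd_of_dvd_of_dvd h4 h9
  have := card_centralizer_tauE_le
  have hpos := Nat.card_pos (α := Subgroup.centralizer ({tauE} : Set M))
  rw [hk] at this hpos ⊢
  have : k = 1 := by omega
  rw [this]

end CfsgLib.J4M22
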