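/-
The local facts about the Mathieu group of degree 22 and its automorphism group used for groups of
Janko-four type: normalisers of Sylow subgroups and centralisers of elements of prime order.
-/
import Cfsg.Agent.J4Local.M22Classes
import Cfsg.Agent.Golay.OutTwo22

set_option autoImplicit false
set_option linter.style.haveILetI false

namespace CfsgLib.J4M22

open Cfsg CfsgLib.Golay CfsgLib.Golay.Cert MulAction

/-- M22 is simple. -/
theorem isSimple_M : IsSimpleGroup M := by
  let e : M ≃* ↥(stabilizer M24 (none : GolayPt) ⊓ stabilizer M24 (some 0 : GolayPt)) :=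
    { toFun := fun g => ⟨⟨g.1, (mem_m22.mp g.2).1⟩, (mem_m22.mp g.2).2.1, (mem_m22.mp g.2).2.2⟩
      invFun := fun g => ⟨g.1.1, mem_m22.mpr ⟨g.1.2, g.2.1, g.2.2⟩⟩
      left_inv := fun _ => rfl
      right_inv := fun _ => rfl
      map_mul' := fun _ _ => rfl }
  haveI := m22_simple (none : GolayPt) (some 0) (by simp)
  haveI : Nontrivial M := e.toEquiv.nontrivial
  exact IsSimpleGroup.isSimpleGroup_of_surjective e.symm.toMonoidHom e.symm.surjective

theorem center_eq_bot : Subgroup.center M = ⊥ := by
  haveI := isSimple_M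
  refine (IsSimpleGroup.eq_bot_or_eq_top_of_normal (Subgroup.center M) inferInstance).resolve_right fun h => ?_
  have hc : Subgroup.centralizer ({sigE} : Set M) = ⊤ := eq_top_iff.mpr fun g _ =>
    Subgroup.mem_centralizer_singleton_iff.mpr (Subgroup.mem_center_iff.mp
      (show sigE ∈ Subgroup.center M by rw [h]; exact Subgroup.mem_top _) g)
  have h384 := card_centralizer_two orderOf_sigE
  rw [hc, Subgroup.card_top, card_M] at h384
  omega

/-! ### The Sylow 3-subgroup -/

theorem centralizer_S : Subgroup.centralizer (S : Set M) = S ∧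
    Nat.card (Subgroup.normalizer (S : Set M)) = 72 := by
  haveI : Fact (Nat.Prime 3) := ⟨Nat.prime_three⟩
  set N := Subgroup.normalizer (S : Set M) with hN
  have hSN : S ≤ N := Subgroup.le_normalizer
  have hSC : S ≤ Subgroup.centralizer ({tauE} : Set M) := fun g hg =>
    Subgroup.mem_centralizer_singleton_iff.mpr
      (congrArg Subtype.val (S_elementary.1.is_comm.comm (⟨g, hg⟩ : S) ⟨tauE, tauE_mem⟩))
  set K := N ⊓ Subgroup.centralizer ({tauE} : Set M) with hK
  -- the orbit of the representative
  have horb : Nat.card N = 8 * Nat.card K := by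
    let f : N → {s : S // s ≠ 1} := fun n => ⟨⟨n * tauE * (n : M)⁻¹,
      (Subgroup.mem_normalizer_iff.mp n.2 _).mp tauE_mem⟩, fun e => by
        have h1 : (n : M) * tauE * (n : M)⁻¹ = 1 := congrArg Subtype.val e
        rw [mul_inv_eq_one, mul_eq_left] at h1
        have h2 := orderOf_tauE
        rw [h1, orderOf_one] at h2
        omega⟩
    have hsurj : Function.Surjective f := fun s => by
      obtain ⟨n, hn, hne⟩ := exists_normalizer_conj s.1.2 fun e => s.2 (Subtype.ext e)
      exact ⟨⟨n, hn⟩, Subtype.ext (Subtype.ext hne)⟩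
    let q : N ⧸ (K.subgroupOf N) → {s : S // s ≠ 1} := Quotient.lift f fun a b hab => by
      have hab' : (a⁻¹ * b : N) ∈ K.subgroupOf N := QuotientGroup.leftRel_apply.mp hab
      have h2 : ((a : M)⁻¹ * b) * tauE = tauE * ((a : M)⁻¹ * b) :=
        Subgroup.mem_centralizer_singleton_iff.mp hab'.2
      refine Subtype.ext (Subtype.ext ?_)
      show (a : M) * tauE * (a : M)⁻¹ = b * tauE * (b : M)⁻¹
      calc (a : M) * tauE * (a : M)⁻¹ = a * (tauE * ((a : M)⁻¹ * b)) * (b : M)⁻¹ := by group
        _ = b * tauE * (b : M)⁻¹ := by rw [← h2]; group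
    have hqb : Function.Bijective q := by
      refine ⟨?_, fun s => ?_⟩
      · intro x y
        induction x using Quotient.inductionOn' with | h a => ?_
        induction y using Quotient.inductionOn' with | h b => ?_
        intro hxy
        have h1 : (a : M) * tauE * (a : M)⁻¹ = b * tauE * (b : M)⁻¹ :=
          congrArg (fun z : {s : S // s ≠ 1} => z.1.1) hxy
        refine Quotient.sound' (QuotientGroup.leftRel_apply.mpr ?_)
        refine ⟨(a⁻¹ * b).2, Subgroup.mem_centralizer_singleton_iff.mpr ?_⟩
        show (a : M)⁻¹ * b * tauE = tauE * ((a : M)⁻¹ * b)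
        calc (a : M)⁻¹ * b * tauE = (a : M)⁻¹ * (b * tauE * (b : M)⁻¹) * b := by group
          _ = tauE * ((a : M)⁻¹ * b) := by rw [← h1]; group
      · obtain ⟨n, hn⟩ := hsurj s
        exact ⟨Quotient.mk'' n, hn⟩
    have hcard8 : Nat.card {s : S // s ≠ 1} = 8 := by
      classical
      letI := Fintype.ofFinite S
      rw [Nat.card_eq_fintype_card, Fintype.card_subtype_compl, Fintype.card_subtype_eq,
        ← Nat.card_eq_fintype_card, card_S]
    have h := Subgroup.card_eq_card_quotient_mul_card_subgroup (K.subgroupOf N)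
    rwa [Nat.card_eq_of_bijective q hqb, hcard8,
      Nat.card_congr (Subgroup.subgroupOfEquivOfLe (inf_le_left : K ≤ N)).toEquiv] at h
  have hK9 : 9 ∣ Nat.card K := by
    rw [← card_S]; exact Subgroup.card_dvd_of_le (le_inf hSN hSC)
  have hK36 : Nat.card K ∣ 36 := by
    rw [← card_centralizer_three orderOf_tauE]; exact Subgroup.card_dvd_of_le inf_le_right
  have hKne : Nat.card K ≠ 36 := fun e => by
    have heq : K = Subgroup.centralizer ({tauE} : Set M) := Subgroup.eq_of_le_of_card_ge inf_le_right
      (by rw [e, card_centralizer_three orderOf_tauE])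
    have ho := lst_el rep_ok.2.2.2.1
    have hmem : el outL ∈ K := by
      rw [heq, Subgroup.mem_centralizer_singleton_iff, commute_iff, ho, lst_tauE]
      exact rep_ok.2.2.2.2.2.2.2.2.2.2.2.2.2.2.2.2.2.2.2.2.2.2.2.2.2.symm
    have h := three_ok.2.2.2.2.2.2.2
    simp only [List.any_eq_true, Bool.not_eq_true', ← Bool.not_eq_true, List.contains_iff_mem] at h
    obtain ⟨a, ha, hna⟩ := h
    obtain ⟨g, hg⟩ := okL_els3 a ha
    have := (Subgroup.mem_normalizer_iff.mp hmem.1 g).mp (show g ∈ S from (show lst g ∈ els3 by rwa [hg]))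
    apply hna
    have h2 : lst (el outL * g * (el outL)⁻¹) ∈ els3 := this
    rwa [lst_conj, ho, hg] at h2
  have hsy := card_sylow_modEq_one (p := 3) (G := M)
  rw [Sylow.card_eq_index_normalizer SS] at hsy
  replace hsy : N.index ≡ 1 [MOD 3] := hsy
  have hidx := N.card_mul_index
  rw [card_M, horb] at hidx
  have hK' : Nat.card K = 9 := by
    obtain ⟨k, hk⟩ := hK9
    rw [hk] at hK36 hKne hidx ⊢
    have h4 : k ∣ 4 := Nat.dvd_of_mul_dvd_mul_left (by norm_num) (show 9 * k ∣ 9 * 4 from hK36)
    have := Nat.le_of_dvd (by norm_num) h4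
    unfold Nat.ModEq at hsy
    rcases (show k = 1 ∨ k = 2 ∨ k = 4 by interval_cases k <;> omega) with rfl | rfl | rfl
    · rfl
    · exfalso; omega
    · omega
  have hKS : K = S := (Subgroup.eq_of_le_of_card_ge (le_inf hSN hSC) (by rw [hK', card_S])).symm
  refine ⟨le_antisymm ?_ ?_, by rw [horb, hK']⟩
  · calc Subgroup.centralizer (S : Set M) ≤ K := le_inf (Subgroup.centralizer_le_normalizer _)
          (Subgroup.centralizer_le (by simpa using tauE_mem))
      _ = S := hKS
  · exact fun g hg => Subgroup.mem_centralizer_iff.mpr fun h hh =>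
      congrArg Subtype.val (S_elementary.1.is_comm.comm (⟨h, hh⟩ : S) ⟨g, hg⟩)

/-- A Sylow 3-subgroup is elementary of order 9, self-centralising, with normaliser of order 72. -/
theorem sylow_three (P : Sylow 3 M) : Cfsg.IsElementaryAbelian 3 (P : Subgroup M) ∧
    Nat.card P = 9 ∧ Subgroup.centralizer ((P : Subgroup M) : Set M) = P ∧
    Nat.card (Subgroup.normalizer ((P : Subgroup M) : Set M)) = 72 := by
  haveI : Fact (Nat.Prime 3) := ⟨Nat.prime_three⟩
  obtain ⟨g, hg⟩ := MulAction.exists_smul_eq M SS P
  have hP : (P : Subgroup M) = S.map (MulAut.conj g).toMonoidHom := by rw [← hg]; rfl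
  have hcard : Nat.card P = 9 := by
    rw [Nat.card_congr (Sylow.equiv P SS).toEquiv]; exact card_S
  have hN : Subgroup.normalizer ((P : Subgroup M) : Set M) =
      (Subgroup.normalizer (S : Set M)).map (MulAut.conj g).toMonoidHom := by
    rw [hP, Subgroup.map_equiv_normalizer_eq]
  refine ⟨⟨⟨⟨fun a b => Subtype.ext ?_⟩⟩, fun a ha => ?_⟩, hcard, ?_, ?_⟩
  · obtain ⟨u, hu, hue⟩ := hP.le a.2
    obtain ⟨v, hv, hve⟩ := hP.le b.2
    show (a : M) * b = b * a
    rw [← hue, ← hve, ← map_mul, ← map_mul]
    exact congrArg _ (congrArg Subtype.val (S_elementary.1.is_comm.comm (⟨u, hu⟩ : S) ⟨v, hv⟩))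
  · obtain ⟨u, hu, rfl⟩ := hP.le ha
    rw [← map_pow, S_elementary.2 u hu, map_one]
  · ext x
    have hx : x = MulAut.conj g ((MulAut.conj g).symm x) := ((MulAut.conj g).apply_symm_apply x).symm
    constructor
    · intro h
      rw [hP]
      refine ⟨(MulAut.conj g).symm x, ?_, hx.symm⟩
      rw [SetLike.mem_coe, ← centralizer_S.1, Subgroup.mem_centralizer_iff]
      intro s hs
      have h2 := Subgroup.mem_centralizer_iff.mp h (MulAut.conj g s) (hP.ge ⟨s, hs, rfl⟩)
      rw [hx, ← map_mul, ← map_mul] at h2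
      exact (MulAut.conj g).injective h2
    · intro h
      obtain ⟨u, hu, rfl⟩ := hP.le h
      rw [Subgroup.mem_centralizer_iff]
      intro s hs
      obtain ⟨v, hv, rfl⟩ := hP.le hs
      rw [← map_mul, ← map_mul]
      exact congrArg _ (congrArg Subtype.val (S_elementary.1.is_comm.comm (⟨v, hv⟩ : S) ⟨u, hu⟩))
  · rw [hN, Subgroup.card_map_of_injective (MulAut.conj g).injective]
    exact centralizer_S.2

/-! ### Orders 5, 7, 11 -/

theorem dvd_of_centralizes {x y : M} (h : y ∈ Subgroup.centralizer ({x} : Set M)) :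
    orderOf x ∣ Nat.card (Subgroup.centralizer ({y} : Set M)) :=
  dvd_centralizer_of_mem (Subgroup.mem_centralizer_singleton_iff.mpr
    (Subgroup.mem_centralizer_singleton_iff.mp h).symm)

theorem not_dvd_centralizer {x : M} {q : ℕ} [Fact q.Prime]
    (h : ∀ y : M, orderOf y = q → ¬ orderOf x ∣ Nat.card (Subgroup.centralizer ({y} : Set M))) :
    ¬ q ∣ Nat.card (Subgroup.centralizer ({x} : Set M)) := fun hq => by
  obtain ⟨y, hy⟩ := exists_prime_orderOf_dvd_card' (G := Subgroup.centralizer ({x} : Set M)) q hq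
  exact h y.1 (by rw [Subgroup.orderOf_coe, hy]) (dvd_of_centralizes y.2)

theorem not_two_three {x : M} (hx : orderOf x = 5 ∨ orderOf x = 7 ∨ orderOf x = 11) :
    ¬ 2 ∣ Nat.card (Subgroup.centralizer ({x} : Set M)) ∧
    ¬ 3 ∣ Nat.card (Subgroup.centralizer ({x} : Set M)) := by
  haveI : Fact (Nat.Prime 2) := ⟨Nat.prime_two⟩
  haveI : Fact (Nat.Prime 3) := ⟨Nat.prime_three⟩
  refine ⟨not_dvd_centralizer fun y hy => ?_, not_dvd_centralizer fun y hy => ?_⟩
  · rw [card_centralizer_two hy]; rcases hx with e | e | e <;> rw [e] <;> decide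
  · rw [card_centralizer_three hy]; rcases hx with e | e | e <;> rw [e] <;> decide

theorem card_centralizer_eleven {x : M} (hx : orderOf x = 11) :
    Nat.card (Subgroup.centralizer ({x} : Set M)) = 11 := by
  have h1 : 11 ∣ Nat.card (Subgroup.centralizer ({x} : Set M)) :=
    hx ▸ dvd_centralizer_of_mem (Subgroup.mem_centralizer_singleton_iff.mpr rfl)
  have h2 := m24_eleven_centralizer (u := incl22 x) (by rw [orderOf_injective incl22 incl22_injective, hx])
  have h3 := Nat.le_of_dvd Nat.card_pos (card_centralizer22_dvd x)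
  have h4 := (not_two_three (Or.inr (Or.inr hx))).1
  have hpos := Nat.card_pos (α := Subgroup.centralizer ({x} : Set M))
  obtain ⟨k, hk⟩ := h1
  rw [hk] at h3 h4 hpos ⊢
  have : k = 1 := by
    have h5 : k ≠ 2 := fun e => h4 ⟨11, by rw [e]⟩
    omega
  rw [this]

theorem card_centralizer_seven {x : M} (hx : orderOf x = 7) :
    Nat.card (Subgroup.centralizer ({x} : Set M)) = 7 := by
  have h1 : 7 ∣ Nat.card (Subgroup.centralizer ({x} : Set M)) :=
    hx ▸ dvd_centralizer_of_mem (Subgroup.mem_centralizer_singleton_iff.mpr rfl)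
  have h2 := card_centralizer22_dvd x
  rw [m24_seven_centralizer (by rw [orderOf_injective incl22 incl22_injective, hx])] at h2
  obtain ⟨h4, h5⟩ := not_two_three (Or.inr (Or.inl hx))
  obtain ⟨k, hk⟩ := h1
  rw [hk] at h2 h4 h5 ⊢
  have h6 : k ∣ 6 := Nat.dvd_of_mul_dvd_mul_left (by norm_num) (show 7 * k ∣ 7 * 6 from h2)
  have := Nat.le_of_dvd (by norm_num) h6
  interval_cases k <;> omega

theorem card_centralizer_five {x : M} (hx : orderOf x = 5) :
    Nat.card (Subgroup.centralizer ({x} : Set M)) = 5 := by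
  haveI : Fact (Nat.Prime 7) := ⟨by norm_num⟩
  haveI : Fact (Nat.Prime 11) := ⟨by norm_num⟩
  set n := Nat.card (Subgroup.centralizer ({x} : Set M))
  have h1 : 5 ∣ n := hx ▸ dvd_centralizer_of_mem (Subgroup.mem_centralizer_singleton_iff.mpr rfl)
  have hn : n ∣ 443520 := card_M ▸ Subgroup.card_subgroup_dvd_card _
  obtain ⟨h2, h3⟩ := not_two_three (Or.inl hx)
  have h7 : ¬ 7 ∣ n := not_dvd_centralizer fun y hy => by rw [card_centralizer_seven hy, hx]; norm_num
  have h11 : ¬ 11 ∣ n := not_dvd_centralizer fun y hy => by rw [card_centralizer_eleven hy, hx]; norm_num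
  have hco : n.Coprime (2 ^ 7 * 3 ^ 2 * 7 * 11) := by
    refine Nat.Coprime.mul_right (Nat.Coprime.mul_right (Nat.Coprime.mul_right ?_ ?_) ?_) ?_
    · exact ((Nat.prime_two.coprime_iff_not_dvd).mpr h2).symm.pow_right _
    · exact ((Nat.prime_three.coprime_iff_not_dvd).mpr h3).symm.pow_right _
    · exact ((show Nat.Prime 7 by norm_num).coprime_iff_not_dvd.mpr h7).symm
    · exact ((show Nat.Prime 11 by norm_num).coprime_iff_not_dvd.mpr h11).symm
  have h5 : n ∣ 5 := hco.dvd_of_dvd_mul_right (show n ∣ 5 * (2 ^ 7 * 3 ^ 2 * 7 * 11) from hn)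
  exact Nat.dvd_antisymm h5 h1

/-- The centraliser of an element of order 5, 7 or 11 is generated by it. -/
theorem centralizer_eq_zpowers {x : M} (hx : orderOf x = 5 ∨ orderOf x = 7 ∨ orderOf x = 11) :
    Subgroup.centralizer ({x} : Set M) = Subgroup.zpowers x := by
  refine (Subgroup.eq_of_le_of_card_ge
    (Subgroup.zpowers_le.mpr (Subgroup.mem_centralizer_singleton_iff.mpr rfl)) ?_).symm
  rw [Nat.card_zpowers]
  rcases hx with e | e | e
  · rw [card_centralizer_five e, e]
  · rw [card_centralizer_seven e, e]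
  · rw [card_centralizer_eleven e, e]

theorem normalizer_index {p : ℕ} [Fact p.Prime] (hp : p = 5 ∨ p = 7 ∨ p = 11) {x : M} (hx : orderOf x = p) :
    ∃ k, Nat.card (Subgroup.normalizer ((Subgroup.zpowers x : Subgroup M) : Set M)) = p * k ∧ k ∣ p - 1 ∧
      (443520 / (p * k)) % p = 1 := by
  set Z := Subgroup.zpowers x with hZ
  set N := Subgroup.normalizer (Z : Set M)
  have hker : Nat.card Z.normalizerMonoidHom.ker = p := by
    rw [Subgroup.normalizerMonoidHom_ker,
      Nat.card_congr (Subgroup.subgroupOfEquivOfLe (Subgroup.centralizer_le_normalizer _)).toEquiv, hZ,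
      Subgroup.zpowers_eq_closure, Subgroup.centralizer_closure,
      centralizer_eq_zpowers (by rw [hx]; exact hp), Nat.card_zpowers, hx]
  have hr : Nat.card Z.normalizerMonoidHom.range ∣ p - 1 := by
    refine (Subgroup.card_subgroup_dvd_card _).trans ?_
    rw [IsCyclic.card_mulAut, Nat.card_zpowers, hx, Nat.totient_prime Fact.out]
  have h := Subgroup.card_eq_card_quotient_mul_card_subgroup Z.normalizerMonoidHom.ker
  rw [hker, Nat.card_congr (QuotientGroup.quotientKerEquivRange Z.normalizerMonoidHom).toEquiv, mul_comm] at h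
  refine ⟨_, h, hr, ?_⟩
  have hZc : Nat.card Z = p := by rw [hZ, Nat.card_zpowers, hx]
  have hfac : (Nat.card M).factorization p = 1 := by
    rw [card_M]
    have e : (443520 : ℕ) = p * (443520 / p) := by rcases hp with rfl | rfl | rfl <;> norm_num
    rw [e, Nat.factorization_mul (Fact.out : p.Prime).ne_zero (by rcases hp with rfl | rfl | rfl <;> norm_num),
      Finsupp.add_apply, Nat.Prime.factorization Fact.out, Finsupp.single_eq_same,
      Nat.factorization_eq_zero_of_not_dvd (by rcases hp with rfl | rfl | rfl <;> norm_num)]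
  let P : Sylow p M := Sylow.ofCard Z (by rw [hZc, hfac, pow_one])
  have hsy := card_sylow_modEq_one (p := p) (G := M)
  rw [Sylow.card_eq_index_normalizer P] at hsy
  have hidx := N.card_mul_index
  rw [card_M, h] at hidx
  unfold Nat.ModEq at hsy
  rw [Nat.one_mod_eq_one.mpr (Fact.out : p.Prime).ne_one] at hsy
  rw [← hidx, Nat.mul_div_cancel_left _ (by rw [← h]; exact Nat.card_pos)]
  exact hsy

theorem card_normalizer_five {x : M} (hx : orderOf x = 5) :
    Nat.card (Subgroup.normalizer ((Subgroup.zpowers x : Subgroup M) : Set M)) = 20 := by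
  haveI : Fact (Nat.Prime 5) := ⟨by norm_num⟩
  obtain ⟨k, hk, hd, hm⟩ := normalizer_index (Or.inl rfl) hx
  have := Nat.le_of_dvd (by norm_num) hd
  rw [hk]
  interval_cases k <;> omega

theorem card_normalizer_seven {x : M} (hx : orderOf x = 7) :
    Nat.card (Subgroup.normalizer ((Subgroup.zpowers x : Subgroup M) : Set M)) = 21 := by
  haveI : Fact (Nat.Prime 7) := ⟨by norm_num⟩
  obtain ⟨k, hk, hd, hm⟩ := normalizer_index (Or.inr (Or.inl rfl)) hx
  have := Nat.le_of_dvd (by norm_num) hd
  rw [hk]
  interval_cases k <;> omega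

theorem card_normalizer_eleven {x : M} (hx : orderOf x = 11) :
    Nat.card (Subgroup.normalizer ((Subgroup.zpowers x : Subgroup M) : Set M)) = 55 := by
  haveI : Fact (Nat.Prime 11) := ⟨by norm_num⟩
  obtain ⟨k, hk, hd, hm⟩ := normalizer_index (Or.inr (Or.inr rfl)) hx
  have := Nat.le_of_dvd (by norm_num) hd
  rw [hk]
  interval_cases k <;> omega

/-! ### The automorphism group -/

theorem conj_injective : Function.Injective (MulAut.conj : M →* MulAut M) := by
  rw [injective_iff_map_eq_one]
  intro g hg
  have : g ∈ Subgroup.center M := Subgroup.mem_center_iff.mpr fun h => by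
    have := DFunLike.congr_fun hg h
    rw [MulAut.conj_apply, MulAut.one_apply, mul_inv_eq_iff_eq_mul] at this
    exact this.symm
  rwa [center_eq_bot, Subgroup.mem_bot] at this

theorem card_aut : Nat.card (MulAut M) = 887040 := by
  have h := (Inn M).card_mul_index
  rw [show Nat.card ↥(Inn M) = Nat.card M from
      Nat.card_congr (MonoidHom.ofInjective conj_injective).symm.toEquiv,
    show (Inn M).index = Nat.card (Out M) from rfl, out_m22, card_M] at h
  omega

/-- The centraliser in the automorphism group of an inner automorphism by an element of one class. -/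
theorem card_centralizer_aut {x : M} (hx : ∀ y : M, orderOf y = orderOf x → IsConj x y) :
    Nat.card (Subgroup.centralizer ({MulAut.conj x} : Set (MulAut M))) =
      2 * Nat.card (Subgroup.centralizer ({x} : Set M)) := by
  have horb : (orbit (MulAut M) x) = {y | IsConj x y} := by
    ext y
    constructor
    · rintro ⟨α, rfl⟩
      exact hx _ (α.orderOf_eq x)
    · intro h
      obtain ⟨c, hc⟩ := isConj_iff.mp h
      exact ⟨MulAut.conj c, hc⟩
  have hst : stabilizer (MulAut M) x = Subgroup.centralizer ({MulAut.conj x} : Set (MulAut M)) := by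
    ext α
    rw [mem_stabilizer_iff, Subgroup.mem_centralizer_singleton_iff, MulAut.smul_def]
    constructor
    · intro h
      refine MulEquiv.ext fun y => ?_
      show α (x * y * x⁻¹) = x * α y * x⁻¹
      rw [map_mul, map_mul, map_inv, h]
    · intro h
      refine conj_injective (MulEquiv.ext fun y => ?_)
      have := DFunLike.congr_fun h (α.symm y)
      simp only [MulAut.mul_apply, MulAut.conj_apply, map_mul, map_inv, MulEquiv.apply_symm_apply] at this
      exact this
  have hclass : ({y | IsConj x y} : Set M).ncard * Nat.card (Subgroup.centralizer ({x} : Set M)) = 443520 := by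
    have h := (stabilizer (ConjAct M) x).card_mul_index
    rw [index_stabilizer] at h
    have e1 : orbit (ConjAct M) x = {y | IsConj x y} := by
      ext y
      rw [ConjAct.orbit_eq_carrier_conjClasses, ConjClasses.mem_carrier_iff_mk_eq,
        ConjClasses.mk_eq_mk_iff_isConj]
      exact ⟨IsConj.symm, IsConj.symm⟩
    rw [e1, mul_comm, Nat.card_congr (ConjAct.toConjAct (G := M)).toEquiv.symm, card_M] at h
    rw [← h]
    congr 1
    refine Nat.card_congr ((ConjAct.toConjAct (G := M)).toEquiv.subtypeEquiv fun g => ?_)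
    show g ∈ Subgroup.centralizer ({x} : Set M) ↔ ConjAct.toConjAct g • x = x
    rw [ConjAct.toConjAct_smul, Subgroup.mem_centralizer_singleton_iff, mul_inv_eq_iff_eq_mul]
  have h := (stabilizer (MulAut M) x).card_mul_index
  rw [index_stabilizer, horb, hst, card_aut] at h
  have hpos : 0 < ({y | IsConj x y} : Set M).ncard := (Set.ncard_pos (Set.toFinite _)).mpr ⟨x, IsConj.refl x⟩
  refine Nat.eq_of_mul_eq_mul_right hpos ?_
  rw [h, mul_assoc, mul_comm (Nat.card _), hclass] <;> norm_num

theorem card_centralizer_aut_two {x : M} (hx : orderOf x = 2) :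
    Nat.card (Subgroup.centralizer ({MulAut.conj x} : Set (MulAut M))) = 768 := by
  rw [card_centralizer_aut fun y hy => isConj_two hx (hy.trans hx), card_centralizer_two hx]

theorem card_centralizer_aut_three {x : M} (hx : orderOf x = 3) :
    Nat.card (Subgroup.centralizer ({MulAut.conj x} : Set (MulAut M))) = 72 := by
  rw [card_centralizer_aut fun y hy => isConj_three hx (hy.trans hx), card_centralizer_three hx]

end CfsgLib.J4M22
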