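/-
Configurations in the Mathieu group of degree 22: three independent commuting involutions, and the
centraliser of an element of order 3 as a product of a Sylow 3-subgroup and a four-group.
-/
import Cfsg.Agent.J4Local.M22Classes

set_option autoImplicit false
set_option linter.style.haveILetI false

namespace CfsgLib.J4M22

open Cfsg CfsgLib.Golay CfsgLib.Golay.Cert

/-- Three commuting involutions. -/
def triL : List (List ℕ) :=
  [[0,1,2,22,5,4,11,8,7,9,10,6,21,17,16,15,14,13,19,18,20,12,3,23],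
   [0,1,9,3,8,7,11,5,4,2,20,6,12,19,16,15,14,18,17,13,10,21,22,23],
   [0,1,10,12,4,5,11,7,8,20,2,6,3,18,16,15,14,19,13,17,9,22,21,23]]

theorem tri_ok : triL.all okL = true ∧ triL.all (ordB 2) = true ∧
    (triL.all fun a => triL.all fun b => compL a b == compL b a) = true ∧
    triL.getD 0 [] ≠ triL.getD 1 [] ∧ triL.getD 0 [] ≠ triL.getD 2 [] ∧ triL.getD 1 [] ≠ triL.getD 2 [] ∧
    compL (triL.getD 0 []) (triL.getD 1 []) ≠ triL.getD 2 [] := by
  decide +kernel

/-- M22 contains an elementary abelian subgroup of order 8. -/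
theorem exists_three_involutions : ∃ u v w : M, orderOf u = 2 ∧ orderOf v = 2 ∧ orderOf w = 2 ∧
    u * v = v * u ∧ u * w = w * u ∧ v * w = w * v ∧ u ≠ v ∧ u ≠ w ∧ v ≠ w ∧ u * v ≠ w := by
  haveI : Fact (Nat.Prime 2) := ⟨Nat.prime_two⟩
  obtain ⟨h1, h2, h3, d1, d2, d3, d4⟩ := tri_ok
  simp only [List.all_eq_true, beq_iff_eq] at h1 h2 h3
  have m : ∀ i < 3, triL.getD i [] ∈ triL := fun i hi => by
    rw [List.getD_eq_getElem _ _ (show i < triL.length from hi)]; exact List.getElem_mem _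
  have l : ∀ i < 3, lst (el (triL.getD i [])) = triL.getD i [] := fun i hi => lst_el (h1 _ (m i hi))
  have o : ∀ i < 3, orderOf (el (triL.getD i [])) = 2 := fun i hi =>
    orderOf_of_ordB (by rw [l i hi]; exact h2 _ (m i hi))
  have c : ∀ i < 3, ∀ j < 3, el (triL.getD i []) * el (triL.getD j []) = el (triL.getD j []) * el (triL.getD i []) :=
    fun i hi j hj => by rw [commute_iff, l i hi, l j hj]; exact h3 _ (m i hi) _ (m j hj)
  refine ⟨el (triL.getD 0 []), el (triL.getD 1 []), el (triL.getD 2 []), o 0 (by norm_num), o 1 (by norm_num),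
    o 2 (by norm_num), c 0 (by norm_num) 1 (by norm_num), c 0 (by norm_num) 2 (by norm_num),
    c 1 (by norm_num) 2 (by norm_num), fun e => d1 ?_, fun e => d2 ?_, fun e => d3 ?_, fun e => d4 ?_⟩
  · rw [← l 0 (by norm_num), ← l 1 (by norm_num), e]
  · rw [← l 0 (by norm_num), ← l 2 (by norm_num), e]
  · rw [← l 1 (by norm_num), ← l 2 (by norm_num), e]
  · rw [← l 0 (by norm_num), ← l 1 (by norm_num), ← l 2 (by norm_num), ← lst_mul, e]

/-- The four-group commuting with the representative of order 3. -/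
def v4L : List (List ℕ) := [List.range 24, tauA, tauB, compL tauA tauB]

theorem frame_ok :
    (els3.any fun L => compL L tauL == compL tauL L && (powL L 3 == List.range 24 && (L != List.range 24 &&
      (!([List.range 24, tauL, compL tauL tauL].contains L) &&
        (conjL L tauA == tauB && conjL L tauB == compL tauA tauB))))) = true ∧
    ((els3.flatMap fun a => v4L.map (compL a)).Nodup) ∧
    (els3.flatMap fun a => v4L.map (compL a)).length = 36 ∧
    (els3.all fun a => compL a tauL == compL tauL a) = true := by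
  decide +kernel

/-- The centraliser of an element of order 3 is `⟨t, σ⟩` times a four-group `⟨A, B⟩`. -/
theorem exists_frame22 : ∃ t σ A B : M, orderOf t = 3 ∧ orderOf σ = 3 ∧ σ * t = t * σ ∧
    σ ∉ Subgroup.zpowers t ∧ orderOf A = 2 ∧ orderOf B = 2 ∧ A * B = B * A ∧ A ≠ B ∧
    A * t = t * A ∧ B * t = t * B ∧ σ * A * σ⁻¹ = B ∧ σ * B * σ⁻¹ = A * B ∧
    ∀ c : M, c * t = t * c → ∃ i m k l : ℕ, c = t ^ i * σ ^ m * A ^ k * B ^ l := by
  haveI : Fact (Nat.Prime 2) := ⟨Nat.prime_two⟩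
  haveI : Fact (Nat.Prime 3) := ⟨Nat.prime_three⟩
  obtain ⟨h1, hnd, hlen, hc⟩ := frame_ok
  obtain ⟨-, -, -, -, oA, oB, -, -, -, -, -, -, -, -, -, -, -, -, -, hA, hB, hAB, hne, hcA, hcB, -⟩ := rep_ok
  have la := lst_el oA
  have lb := lst_el oB
  simp only [List.any_eq_true, Bool.and_eq_true, beq_iff_eq, bne_iff_ne, Bool.not_eq_true',
    ← Bool.not_eq_true, List.contains_iff_mem] at h1
  obtain ⟨L, hL, hLc, hL3, hL1, hLn, hLA, hLB⟩ := h1
  obtain ⟨σ, hσ⟩ := okL_els3 L hL
  have ho : orderOf σ = 3 := orderOf_eq_prime (lst_injective (by rw [lst_pow, hσ, hL3, lst_one]))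
    (fun e => hL1 (by rw [← hσ, e, lst_one]))
  have hn : σ ∉ Subgroup.zpowers tauE := by
    intro hmem
    obtain ⟨n, rfl⟩ := (mem_powers_iff_mem_zpowers.mpr hmem : σ ∈ Submonoid.powers tauE)
    apply hLn
    have e : tauE ^ n = tauE ^ (n % 3) := by rw [← orderOf_tauE, pow_mod_orderOf]
    simp only [e] at hσ
    have h2 : n % 3 < 3 := Nat.mod_lt _ (by norm_num)
    rw [← hσ]
    interval_cases hh : n % 3
    · simp [lst_one]
    · simp [lst_tauE]
    · simp [pow_two, lst_mul, lst_tauE]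
  refine ⟨tauE, σ, el tauA, el tauB, orderOf_tauE, ho, by rw [commute_iff, hσ, lst_tauE, hLc], hn,
    orderOf_of_ordB (by rw [la]; exact hA), orderOf_of_ordB (by rw [lb]; exact hB),
    by rw [commute_iff, la, lb, hAB], fun e => hne (by rw [← la, ← lb, e]),
    by rw [commute_iff, la, lst_tauE, hcA], by rw [commute_iff, lb, lst_tauE, hcB],
    lst_injective (by rw [lst_conj, hσ, la, lb, hLA]),
    lst_injective (by rw [lst_conj, hσ, lb, lst_mul, la, lb, hLB]), fun c hcc => ?_⟩
  -- every element of the centraliser is in the list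
  simp only [List.all_eq_true, beq_iff_eq] at hc
  set l36 := els3.flatMap fun a => v4L.map (compL a) with hl36
  have hmem : ∀ L' ∈ l36, ∃ s ∈ S, ∃ k l : ℕ, lst (s * el tauA ^ k * el tauB ^ l) = L' := by
    intro L' hL'
    obtain ⟨a, ha, hL'⟩ := List.mem_flatMap.mp hL'
    obtain ⟨v, hv, rfl⟩ := List.mem_map.mp hL'
    obtain ⟨s, hs⟩ := okL_els3 a ha
    refine ⟨s, show lst s ∈ els3 by rwa [hs], ?_⟩
    simp only [v4L, List.mem_cons, List.not_mem_nil, or_false] at hv
    rcases hv with rfl | rfl | rfl | rfl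
    · exact ⟨0, 0, by rw [pow_zero, pow_zero, mul_one, mul_one, ← hs, ← lst_one, ← lst_mul, mul_one]⟩
    · exact ⟨1, 0, by rw [pow_zero, pow_one, mul_one, lst_mul, hs, la]⟩
    · exact ⟨0, 1, by rw [pow_zero, pow_one, mul_one, lst_mul, hs, lb]⟩
    · exact ⟨1, 1, by rw [pow_one, pow_one, mul_assoc, lst_mul, lst_mul, hs, la, lb]⟩
  choose! s hs k l hkl using hmem
  let F : {L' // L' ∈ l36.toFinset} → (Subgroup.centralizer ({tauE} : Set M)) := fun L' =>
    ⟨s L'.1 * el tauA ^ (k L'.1) * el tauB ^ (l L'.1), by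
      have hs' : lst (s L'.1) ∈ els3 := hs L'.1 (List.mem_toFinset.mp L'.2)
      refine mul_mem (mul_mem ?_ (pow_mem ?_ _)) (pow_mem ?_ _)
      · rw [Subgroup.mem_centralizer_singleton_iff, commute_iff, lst_tauE]; exact hc _ hs'
      · rw [Subgroup.mem_centralizer_singleton_iff, commute_iff, la, lst_tauE, hcA]
      · rw [Subgroup.mem_centralizer_singleton_iff, commute_iff, lb, lst_tauE, hcB]⟩
  have hFi : Function.Injective F := fun a b hab => Subtype.ext (by
    rw [← hkl a.1 (List.mem_toFinset.mp a.2), ← hkl b.1 (List.mem_toFinset.mp b.2)]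
    exact congrArg lst (congrArg Subtype.val hab))
  have hF : Function.Bijective F := hFi.bijective_of_nat_card_le (by
    rw [card_centralizer_three orderOf_tauE, Nat.card_eq_fintype_card, Fintype.card_coe,
      List.toFinset_card_of_nodup hnd, hlen])
  obtain ⟨L', hL'⟩ := hF.2 ⟨c, Subgroup.mem_centralizer_singleton_iff.mpr hcc⟩
  -- decompose the part in the 3-subgroup
  have hS : ∀ u ∈ S, ∃ i m : ℕ, u = tauE ^ i * σ ^ m := by
    have hσS : σ ∈ S := show lst σ ∈ els3 by rwa [hσ]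
    have hcomm : Commute tauE σ := (commute_iff.mpr (by rw [hσ, lst_tauE, hLc]) : σ * tauE = tauE * σ).symm
    let g : Fin 3 × Fin 3 → S := fun x => ⟨tauE ^ (x.1 : ℕ) * σ ^ (x.2 : ℕ), mul_mem (pow_mem tauE_mem _) (pow_mem hσS _)⟩
    have hgi : Function.Injective g := by
      rintro ⟨i, m⟩ ⟨i', m'⟩ h
      have h' : tauE ^ (i : ℕ) * σ ^ (m : ℕ) = tauE ^ (i' : ℕ) * σ ^ (m' : ℕ) := congrArg Subtype.val h
      have hd : ((tauE ^ (i' : ℕ))⁻¹ * tauE ^ (i : ℕ)) = σ ^ (m' : ℕ) * (σ ^ (m : ℕ))⁻¹ := by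
        rw [eq_mul_inv_iff_mul_eq, mul_assoc, h', inv_mul_cancel_left]
      have hdis : Disjoint (Subgroup.zpowers tauE) (Subgroup.zpowers σ) := by
        rw [disjoint_iff]
        by_contra hne'
        have hle : Subgroup.zpowers σ ≤ Subgroup.zpowers tauE := by
          have hcard : Nat.card (Subgroup.zpowers σ) = 3 := by rw [Nat.card_zpowers, ho]
          haveI : Fact (Nat.Prime (Nat.card (Subgroup.zpowers σ))) := ⟨by rw [hcard]; norm_num⟩
          rcases ((Subgroup.zpowers tauE).subgroupOf (Subgroup.zpowers σ)).eq_bot_or_eq_top_of_prime_card with h | h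
          · rw [Subgroup.subgroupOf_eq_bot, disjoint_iff] at h
            exact absurd h hne'
          · exact Subgroup.subgroupOf_eq_top.mp h
        exact hn (hle (Subgroup.mem_zpowers σ))
      have h1' : (tauE ^ (i' : ℕ))⁻¹ * tauE ^ (i : ℕ) = 1 := Subgroup.disjoint_def.mp hdis
        (mul_mem (inv_mem (Subgroup.npow_mem_zpowers _ _)) (Subgroup.npow_mem_zpowers _ _))
        (by rw [hd]; exact mul_mem (Subgroup.npow_mem_zpowers _ _) (inv_mem (Subgroup.npow_mem_zpowers _ _)))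
      have h2' : σ ^ (m' : ℕ) * (σ ^ (m : ℕ))⁻¹ = 1 := by rw [← hd]; exact h1'
      rw [inv_mul_eq_one, pow_inj_mod, orderOf_tauE, Nat.mod_eq_of_lt i.2, Nat.mod_eq_of_lt i'.2] at h1'
      rw [mul_inv_eq_one, pow_inj_mod, ho, Nat.mod_eq_of_lt m.2, Nat.mod_eq_of_lt m'.2] at h2'
      exact Prod.ext (Fin.ext h1'.symm) (Fin.ext h2'.symm)
    have hgb := hgi.bijective_of_nat_card_le (by rw [card_S, Nat.card_eq_fintype_card]; simp)
    intro u hu
    obtain ⟨x, hx⟩ := hgb.2 ⟨u, hu⟩
    exact ⟨x.1, x.2, (congrArg Subtype.val hx).symm⟩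
  obtain ⟨i, m, him⟩ := hS (s L'.1) (hs L'.1 (List.mem_toFinset.mp L'.2))
  exact ⟨i, m, k L'.1, l L'.1, by rw [← him]; exact (congrArg Subtype.val hL').symm⟩

end CfsgLib.J4M22
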