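/-
Janko-four type: the structure of the centraliser of `P` in `H`, a six-fold cover of M22: lifts of
involutions and of elements of order 3, their classes, and a frame at an element of order 3.
-/
import Cfsg.Agent.J4Local.Basics
import Cfsg.Agent.J4Local.M22Facts
import Cfsg.Agent.J4Local.M22Frame

set_option autoImplicit false
set_option linter.style.haveILetI false
set_option linter.unusedSectionVars false
set_option linter.unusedVariables false

namespace CfsgLib.J4Local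

open Subgroup

variable {G : Type*} [Group G] [Finite G] {z : G} {P : Subgroup G}

/-- A map to M22 that is multiplicative on the centraliser of `P`, with kernel `⟨z⟩P`. -/
theorem exists_map (hJ : Cfsg.IsOfJankoFourTypeWith z P) : ∃ φ : G → ↥Cfsg.Spor.M22,
    (∀ a ∈ cC z P, ∀ b ∈ cC z P, φ (a * b) = φ a * φ b) ∧ (∀ a ∈ cC z P, φ a = 1 ↔ a ∈ cK z P) ∧
    (∀ a ∈ cC z P, ∀ n : ℕ, φ (a ^ n) = φ a ^ n) ∧ (∀ a ∈ cC z P, φ a⁻¹ = (φ a)⁻¹) ∧
    ∀ m, ∃ a ∈ cC z P, φ a = m := by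
  classical
  obtain ⟨g, hg, hk⟩ := exists_hom_C hJ
  refine ⟨fun a => if h : a ∈ cC z P then g ⟨a, h⟩ else 1, fun a ha b hb => ?_, fun a ha => ?_, fun a ha n => ?_,
    fun a ha => ?_, fun m => ?_⟩
  · simp only [dif_pos ha, dif_pos hb, dif_pos (mul_mem ha hb)]
    exact (congrArg g (Subtype.ext rfl)).trans (map_mul g ⟨a, ha⟩ ⟨b, hb⟩)
  · simp only [dif_pos ha]
    rw [← MonoidHom.mem_ker, hk, Subgroup.mem_subgroupOf]
  · simp only [dif_pos ha, dif_pos (pow_mem ha n)]
    exact (congrArg g (Subtype.ext rfl)).trans (map_pow g ⟨a, ha⟩ n)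
  · simp only [dif_pos ha, dif_pos (inv_mem ha)]
    exact (congrArg g (Subtype.ext rfl)).trans (map_inv g ⟨a, ha⟩)
  · obtain ⟨⟨a, ha⟩, rfl⟩ := hg m
    exact ⟨a, ha, by simp only [dif_pos ha]⟩

theorem K_comm (hJ : Cfsg.IsOfJankoFourTypeWith z P) {k c : G} (hk : k ∈ cK z P) (hc : c ∈ cC z P) :
    k * c = c * k := by
  have hz : z ∈ Subgroup.centralizer ({c} : Set G) :=
    Subgroup.mem_centralizer_singleton_iff.mpr (mem_cH.mp hc.1).symm
  have hP : P ≤ Subgroup.centralizer ({c} : Set G) := fun q hq =>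
    Subgroup.mem_centralizer_singleton_iff.mpr (Subgroup.mem_centralizer_iff.mp hc.2 q hq)
  exact Subgroup.mem_centralizer_singleton_iff.mp ((sup_le (Subgroup.zpowers_le.mpr hz) hP : cK z P ≤ _) hk)

theorem mem_K (hJ : Cfsg.IsOfJankoFourTypeWith z P) {k : G} (hk : k ∈ cK z P) :
    ∃ a q : G, (a = 1 ∨ a = z) ∧ q ∈ P ∧ k = a * q ∧ a * a = 1 ∧ q ^ 3 = 1 ∧ a * q = q * a := by
  have hn : Subgroup.zpowers z ≤ Subgroup.normalizer (P : Set G) :=
    Subgroup.zpowers_le.mpr (Subgroup.centralizer_le_normalizer _ (z_mem_C_P hJ))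
  obtain ⟨a, ha, q, hq, rfl⟩ := (CfsgLib.Solvable.mem_sup_of_le_normalizer hn).mp hk
  have hz2 : z * z = 1 := by rw [← pow_two, ← orderOf_z hJ, pow_orderOf_eq_one]
  have haz : a = 1 ∨ a = z := by
    obtain ⟨n, rfl⟩ := (mem_powers_iff_mem_zpowers.mpr ha : a ∈ Submonoid.powers z)
    have h2 : n % 2 < 2 := Nat.mod_lt _ (by norm_num)
    have e : z ^ n = z ^ (n % 2) := by rw [← orderOf_z hJ, pow_mod_orderOf]
    simp only [e]
    interval_cases hh : n % 2
    · exact Or.inl (pow_zero z)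
    · exact Or.inr (pow_one z)
  refine ⟨a, q, haz, hq, rfl, ?_, ?_, ?_⟩
  · rcases haz with rfl | rfl
    · exact one_mul 1
    · exact hz2
  · have := pow_card_eq_one' (G := P) (x := ⟨q, hq⟩)
    rw [card_P hJ] at this
    exact congrArg Subtype.val this
  · exact K_comm hJ (Subgroup.mem_sup_left ha) (P_le_C hJ hq)

theorem z_one_ne (hJ : Cfsg.IsOfJankoFourTypeWith z P) : z ≠ 1 := fun e => by
  have := orderOf_z hJ
  rw [e, orderOf_one] at this
  omega

theorem K_sq_one (hJ : Cfsg.IsOfJankoFourTypeWith z P) {k : G} (hk : k ∈ cK z P) (h : k * k = 1) :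
    k = 1 ∨ k = z := by
  obtain ⟨a, q, ha, -, rfl, haa, hq3, hc⟩ := mem_K hJ hk
  have h2 : q * q = 1 := by
    calc q * q = (a * a) * (q * q) := by rw [haa, one_mul]
      _ = a * q * (a * q) := by rw [mul_assoc a q, ← mul_assoc q a q, ← hc]; simp only [mul_assoc]
      _ = 1 := h
  have hq1 : q = 1 := by
    calc q = q ^ 3 * (q * q)⁻¹ := by group
      _ = 1 := by rw [hq3, h2, inv_one, mul_one]
  rwa [hq1, mul_one]

theorem K_cube_one (hJ : Cfsg.IsOfJankoFourTypeWith z P) {k : G} (hk : k ∈ cK z P) (h : k ^ 3 = 1) :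
    k ∈ P := by
  obtain ⟨a, q, -, hq, rfl, haa, hq3, hc⟩ := mem_K hJ hk
  rw [(show Commute a q from hc).mul_pow, hq3, mul_one, pow_three, haa, mul_one] at h
  rwa [h, one_mul]

theorem eq_mul_of_map_eq (hJ : Cfsg.IsOfJankoFourTypeWith z P) {φ : G → ↥Cfsg.Spor.M22}
    (hmul : ∀ a ∈ cC z P, ∀ b ∈ cC z P, φ (a * b) = φ a * φ b) (hker : ∀ a ∈ cC z P, φ a = 1 ↔ a ∈ cK z P)
    (hinv : ∀ a ∈ cC z P, φ a⁻¹ = (φ a)⁻¹) {a b : G} (ha : a ∈ cC z P) (hb : b ∈ cC z P) (h : φ a = φ b) :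
    ∃ k ∈ cK z P, a = b * k :=
  ⟨b⁻¹ * a, (hker _ (mul_mem (inv_mem hb) ha)).mp (by rw [hmul _ (inv_mem hb) _ ha, hinv _ hb, h, inv_mul_cancel]),
    by group⟩

/-- Anticommuting lifts. -/
theorem anti (hJ : Cfsg.IsOfJankoFourTypeWith z P)
    (hbad : ∀ c ∈ cC z P, c ∉ cK z P → ∀ q ∈ P, c * c ≠ q)
    {φ : G → ↥Cfsg.Spor.M22} (hmul : ∀ a ∈ cC z P, ∀ b ∈ cC z P, φ (a * b) = φ a * φ b)
    (hker : ∀ a ∈ cC z P, φ a = 1 ↔ a ∈ cK z P) (hinv : ∀ a ∈ cC z P, φ a⁻¹ = (φ a)⁻¹)
    {U V : G} (hU : U ∈ cC z P) (hV : V ∈ cC z P) (hU2 : U * U = z) (hV2 : V * V = z)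
    (hc : φ U * φ V = φ V * φ U) (hne : φ U * φ V ≠ 1) : U * V = z * (V * U) := by
  have hz2 : z * z = 1 := by rw [← pow_two, ← orderOf_z hJ, pow_orderOf_eq_one]
  obtain ⟨d, hd, hde⟩ := eq_mul_of_map_eq hJ hmul hker hinv (mul_mem hU hV) (mul_mem hV hU)
    (by rw [hmul _ hU _ hV, hmul _ hV _ hU, hc])
  have hcd : ∀ c ∈ cC z P, d * c = c * d := fun c hc' => K_comm hJ hd hc'
  have hdd : d * d = 1 := by
    have hcalc : U * (V * V) = z * (d * d) * U := by
      calc U * (V * V) = U * V * V := (mul_assoc _ _ _).symm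
        _ = V * (U * d) * V := by rw [hde, mul_assoc V]
        _ = V * (U * V) * d := by rw [mul_assoc V (U * d), mul_assoc U d, hcd V hV]; simp only [mul_assoc]
        _ = V * V * U * (d * d) := by rw [hde]; simp only [mul_assoc]
        _ = z * (d * d) * U := by
            rw [hV2, mul_assoc z U, mul_assoc z (d * d)]
            congr 1
            rw [← mul_assoc, ← hcd U hU, mul_assoc d U, ← hcd U hU, ← mul_assoc]
    rw [hV2, ← hU2] at hcalc
    have h1 : U * (U * U) = U * U * (d * d) * U := hcalc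
    rw [← mul_assoc] at h1
    have h2 : U * U * U = U * U * ((d * d) * U) := h1.trans (mul_assoc _ _ _)
    exact (mul_eq_right.mp (mul_left_cancel h2).symm)
  have hsq : U * V * (U * V) = d := by
    calc U * V * (U * V) = V * U * d * (U * V) := by rw [← hde]
      _ = V * (U * U) * V * d := by rw [mul_assoc (V * U), hcd _ (mul_mem hU hV)]; simp only [mul_assoc]
      _ = d := by rw [hU2, mul_assoc V z, mem_cH.mp hV.1 |>.symm, ← mul_assoc V V z, hV2, hz2, one_mul]
  rcases K_sq_one hJ hd hdd with h | h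
  · exfalso
    refine hbad _ (mul_mem hU hV) (fun hk => hne ?_) 1 (one_mem P) (by rw [hsq, h])
    rw [← hmul _ hU _ hV]
    exact (hker _ (mul_mem hU hV)).mpr hk
  · rw [hde, h]
    exact (mem_cH.mp (mul_mem hV hU).1)

/-- An involution of M22 lifts to an involution of `C_H(P)`. -/
theorem exists_invol (hJ : Cfsg.IsOfJankoFourTypeWith z P) :
    ∃ c ∈ cC z P, c ∉ cK z P ∧ c * c = 1 := by
  by_contra hcon
  push Not at hcon
  obtain ⟨φ, hmul, hker, hpow, hinv, hsurj⟩ := exists_map hJ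
  have hz2 : z * z = 1 := by rw [← pow_two, ← orderOf_z hJ, pow_orderOf_eq_one]
  -- no square of an element outside lies in P
  have hbad : ∀ c ∈ cC z P, c ∉ cK z P → ∀ q ∈ P, c * c ≠ q := by
    intro c hc hck q hq e
    have hqK : q ∈ cK z P := Subgroup.mem_sup_right hq
    have hq3 : q ^ 3 = 1 := by
      have := pow_card_eq_one' (G := P) (x := ⟨q, hq⟩)
      rw [card_P hJ] at this
      exact congrArg Subtype.val this
    refine hcon (c * q) (mul_mem hc (P_le_C hJ hq)) (fun h => hck ?_) ?_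
    · simpa using mul_mem h (inv_mem hqK)
    · have h1 : c * q * (c * q) = c * c * (q * q) := by
        rw [mul_assoc c q, ← mul_assoc q c q, K_comm hJ hqK hc]; simp only [mul_assoc]
      rw [h1, e, ← pow_two, ← pow_succ', hq3]
  have lift : ∀ m : ↥Cfsg.Spor.M22, orderOf m = 2 → ∃ U ∈ cC z P, φ U = m ∧ U * U = z := by
    intro m hm
    obtain ⟨c, hc, rfl⟩ := hsurj m
    have hc2 : c * c ∈ cK z P := (hker _ (mul_mem hc hc)).mp (by
      rw [hmul _ hc _ hc, ← pow_two, ← hm, pow_orderOf_eq_one])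
    have hck : c ∉ cK z P := fun h => by
      rw [(hker _ hc).mpr h, orderOf_one] at hm
      omega
    obtain ⟨a, q, ha, hq, hcq, -, hq3, -⟩ := mem_K hJ hc2
    rcases ha with rfl | rfl
    · exact absurd (by rw [hcq, one_mul]) (hbad c hc hck q hq)
    · have hqC := P_le_C hJ hq
      refine ⟨c * q, mul_mem hc hqC, ?_, ?_⟩
      · rw [hmul _ hc _ hqC, (hker _ hqC).mpr (Subgroup.mem_sup_right hq), mul_one]
      · calc c * q * (c * q) = c * c * (q * q) := by
              rw [mul_assoc c q, ← mul_assoc q c q, K_comm hJ (Subgroup.mem_sup_right hq) hc]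
              simp only [mul_assoc]
          _ = a * q ^ 3 := by rw [hcq, pow_three]; simp only [mul_assoc]
          _ = a := by rw [hq3, mul_one]
  obtain ⟨u, v, w, hu, hv, hw, huv, huw, hvw, duv, duw, dvw, duvw⟩ := CfsgLib.J4M22.exists_three_involutions
  obtain ⟨U, hU, rfl, hU2⟩ := lift u hu
  obtain ⟨V, hV, rfl, hV2⟩ := lift v hv
  obtain ⟨W, hW, rfl, hW2⟩ := lift w hw
  have ne : ∀ {x y : ↥Cfsg.Spor.M22}, orderOf x = 2 → x ≠ y → x * y ≠ 1 := fun {x y} hx hxy e => hxy (by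
    have h2 : x * x = 1 := by rw [← pow_two, ← hx, pow_orderOf_eq_one]
    exact mul_left_cancel (h2.trans e.symm))
  have a1 := anti hJ hbad hmul hker hinv hU hV hU2 hV2 huv (ne hu duv)
  have a2 := anti hJ hbad hmul hker hinv hU hW hU2 hW2 huw (ne hu duw)
  have a3 := anti hJ hbad hmul hker hinv hV hW hV2 hW2 hvw (ne hv dvw)
  have hzc : ∀ c ∈ cC z P, c * z = z * c := fun c hc => mem_cH.mp hc.1
  have hUV2 : U * V * (U * V) = z := by
    calc U * V * (U * V) = z * (V * U) * (U * V) := by rw [← a1]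
      _ = z * (V * (U * U) * V) := by simp only [mul_assoc]
      _ = z * (z * (V * V)) := by rw [hU2, hzc V hV, mul_assoc]
      _ = z := by rw [hV2, hz2, mul_one]
  have a4 := anti hJ hbad hmul hker hinv (mul_mem hU hV) hW hUV2 hW2
    (by rw [hmul _ hU _ hV, mul_assoc, hvw, ← mul_assoc, huw, mul_assoc]) (by
      rw [hmul _ hU _ hV]
      refine fun e => duvw ?_
      have h2 : φ W * φ W = 1 := by rw [← pow_two, ← hw, pow_orderOf_eq_one]
      exact mul_right_cancel (e.trans h2.symm))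
  apply z_one_ne hJ
  have h5 : U * V * W = W * (U * V) := by
    calc U * V * W = U * (z * (W * V)) := by rw [mul_assoc, a3]
      _ = z * (U * W * V) := by rw [← mul_assoc U z, hzc U hU]; simp only [mul_assoc]
      _ = z * z * (W * (U * V)) := by rw [a2]; simp only [mul_assoc]
      _ = W * (U * V) := by rw [hz2, one_mul]
  rw [h5] at a4
  exact (mul_eq_right.mp a4.symm)

/-- (a) An element of `C_H(P)` squaring into `⟨z⟩P` becomes an involution after multiplication by an element of `P`. -/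
theorem exists_invol_lift (hJ : Cfsg.IsOfJankoFourTypeWith z P) {c : G} (hc : c ∈ cC z P) (hck : c ∉ cK z P)
    (h2 : c * c ∈ cK z P) : ∃ k ∈ P, c * k * (c * k) = 1 := by
  haveI : Fact (Nat.Prime 2) := ⟨Nat.prime_two⟩
  obtain ⟨φ, hmul, hker, hpow, hinv, hsurj⟩ := exists_map hJ
  obtain ⟨c0, hc0, hc0k, hc02⟩ := exists_invol hJ
  have ho : ∀ {x : G}, x ∈ cC z P → x ∉ cK z P → x * x ∈ cK z P → orderOf (φ x) = 2 := fun {x} hx hxk hx2 =>
    orderOf_eq_prime (by rw [pow_two, ← hmul _ hx _ hx, hker _ (mul_mem hx hx)]; exact hx2)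
      fun e => hxk ((hker _ hx).mp e)
  obtain ⟨m, hm⟩ := isConj_iff.mp (CfsgLib.J4M22.isConj_two (ho hc0 hc0k (by rw [hc02]; exact one_mem _)) (ho hc hck h2))
  obtain ⟨d, hd, rfl⟩ := hsurj m
  have hdc : d * c0 * d⁻¹ ∈ cC z P := mul_mem (mul_mem hd hc0) (inv_mem hd)
  obtain ⟨k, hk, hke⟩ := eq_mul_of_map_eq hJ hmul hker hinv hc hdc
    (by rw [hmul _ (mul_mem hd hc0) _ (inv_mem hd), hmul _ hd _ hc0, hinv _ hd, hm])
  obtain ⟨a, q, -, hq, rfl, haa, hq3, hcaq⟩ := mem_K hJ hk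
  have hqK : q ∈ cK z P := Subgroup.mem_sup_right hq
  set x := d * c0 * d⁻¹ with hx
  have hxx : x * x = 1 := by
    rw [hx]
    calc d * c0 * d⁻¹ * (d * c0 * d⁻¹) = d * (c0 * c0) * d⁻¹ := by group
      _ = 1 := by rw [hc02, mul_one, mul_inv_cancel]
  refine ⟨q⁻¹, inv_mem hq, ?_⟩
  have e1 : c * q⁻¹ = x * a := by rw [hke, ← mul_assoc x a, mul_inv_cancel_right]
  rw [e1]
  have hax : a * x = x * a := by
    have h1 := K_comm hJ hk hdc
    have h2 := K_comm hJ hqK hdc
    calc a * x = a * x * (q * q⁻¹) := by rw [mul_inv_cancel, mul_one]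
      _ = a * (x * q) * q⁻¹ := by simp only [mul_assoc]
      _ = a * q * x * q⁻¹ := by rw [← h2]; simp only [mul_assoc]
      _ = x * (a * q) * q⁻¹ := by rw [h1]
      _ = x * a := by simp only [mul_assoc, mul_inv_cancel, mul_one]
  calc x * a * (x * a) = x * (a * x) * a := by simp only [mul_assoc]
    _ = x * x * (a * a) := by rw [hax]; simp only [mul_assoc]
    _ = 1 := by rw [hxx, haa, one_mul]

/-- Some element of a Sylow 3-subgroup moves a given element of order 3 outside `P` by an element of `P`. -/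
theorem exists_shift (hJ : Cfsg.IsOfJankoFourTypeWith z P) {r : G} (hr : r ∈ cC z P) (hr3 : orderOf r = 3)
    (hrP : r ∉ P) : ∃ d ∈ cC z P, ∃ q ∈ P, q ≠ 1 ∧ d * r * d⁻¹ = r * q := by
  classical
  haveI : Fact (Nat.Prime 3) := ⟨Nat.prime_three⟩
  obtain ⟨φ, hmul, hker, hpow, hinv, hsurj⟩ := exists_map hJ
  set C := cC z P with hC
  have hrp : IsPGroup 3 (Subgroup.zpowers (⟨r, hr⟩ : C)) :=
    IsPGroup.of_card (n := 1) (by rw [Nat.card_zpowers, ← Subgroup.orderOf_coe, hr3, pow_one])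
  obtain ⟨R, hR⟩ := hrp.exists_le_sylow
  have hrR : (⟨r, hr⟩ : C) ∈ (R : Subgroup C) := hR (Subgroup.mem_zpowers _)
  have hPn : (P.subgroupOf C).Normal := ⟨fun p hp c => by
    have h := K_comm hJ (Subgroup.mem_sup_right hp : (p : G) ∈ cK z P) c.2
    show (c : G) * p * (c : G)⁻¹ ∈ P
    rw [← h, mul_inv_cancel_right]
    exact hp⟩
  have hPp : IsPGroup 3 (P.subgroupOf C) := IsPGroup.of_card (n := 1)
    (by rw [Nat.card_congr (Subgroup.subgroupOfEquivOfLe (P_le_C hJ)).toEquiv, card_P hJ, pow_one])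
  have hPR : P.subgroupOf C ≤ (R : Subgroup C) := by
    obtain ⟨R', hR'⟩ := hPp.exists_le_sylow
    obtain ⟨g, hg⟩ := MulAction.exists_smul_eq C R' R
    rw [← hg, Sylow.coe_subgroup_smul, ← (hPn.conjAct (ConjAct.toConjAct g) : _ = P.subgroupOf C)]
    exact Subgroup.pointwise_smul_le_pointwise_smul_iff.mpr hR'
  -- the Sylow subgroup is not abelian
  have hna : ∃ d ∈ (R : Subgroup C), d * ⟨r, hr⟩ ≠ ⟨r, hr⟩ * d := by
    by_contra hcon
    push Not at hcon
    have hZ : ∀ x ∈ (R : Subgroup C), ∀ y ∈ (R : Subgroup C), x * y = y * x := by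
      have hcardR : Nat.card (R : Subgroup C) = 27 := by
        rw [R.card_eq_multiplicity, card_C hJ, show 6 * 443520 = 3 ^ 3 * 98560 by norm_num,
          Nat.factorization_mul (by norm_num) (by norm_num), Finsupp.add_apply,
          Nat.Prime.factorization_pow Nat.prime_three, Finsupp.single_eq_same,
          Nat.factorization_eq_zero_of_not_dvd (show ¬ 3 ∣ 98560 by norm_num)]
        norm_num
      set Z := Subgroup.center (R : Subgroup C)
      have hrZ : (⟨⟨r, hr⟩, hrR⟩ : (R : Subgroup C)) ∈ Z := Subgroup.mem_center_iff.mpr fun g =>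
        Subtype.ext (hcon g.1 g.2)
      have hPZ : (P.subgroupOf C).subgroupOf (R : Subgroup C) ≤ Z := fun p hp => Subgroup.mem_center_iff.mpr fun g =>
        Subtype.ext (Subtype.ext (K_comm hJ (Subgroup.mem_sup_right hp) g.1.2).symm)
      have h3 : 3 < Nat.card Z := by
        have hlt : (P.subgroupOf C).subgroupOf (R : Subgroup C) < Z :=
          lt_of_le_of_ne hPZ fun e => hrP (by
            have := e.ge hrZ
            exact this)
        have : Nat.card ((P.subgroupOf C).subgroupOf (R : Subgroup C)) < Nat.card Z :=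
          lt_of_le_of_ne (Subgroup.card_le_of_le hPZ)
            fun e => hlt.ne (Subgroup.eq_of_le_of_card_ge hPZ e.ge)
        rwa [Nat.card_congr (Subgroup.subgroupOfEquivOfLe hPR).toEquiv,
          Nat.card_congr (Subgroup.subgroupOfEquivOfLe (P_le_C hJ)).toEquiv, card_P hJ] at this
      have hmul' := Z.card_mul_index
      rw [hcardR] at hmul'
      have hidx : Z.index = 1 ∨ Z.index = 3 := by
        have hd : Z.index ∣ 3 ^ 3 := ⟨Nat.card Z, by rw [mul_comm Z.index, hmul']; norm_num⟩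
        obtain ⟨j, hj, hje⟩ := (Nat.dvd_prime_pow Nat.prime_three).mp hd
        rw [hje] at hmul' ⊢
        interval_cases j <;> omega
      haveI : IsCyclic ((R : Subgroup C) ⧸ Z) := by
        rcases hidx with h | h
        · haveI : Subsingleton ((R : Subgroup C) ⧸ Z) := (Nat.card_eq_one_iff_unique.mp h).1
          exact isCyclic_of_subsingleton
        · exact isCyclic_of_prime_card h
      intro x hx y hy
      exact congrArg Subtype.val (commutative_of_cyclic_center_quotient (QuotientGroup.mk' Z)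
        (by rw [QuotientGroup.ker_mk']) (⟨x, hx⟩ : (R : Subgroup C)) ⟨y, hy⟩)
    letI : CommGroup (R : Subgroup C) :=
      { (inferInstance : Group (R : Subgroup C)) with mul_comm := fun a b => Subtype.ext (hZ _ a.2 _ b.2) }
    haveI : (R : Subgroup C).FiniteIndex := Subgroup.finiteIndex_of_finite
    let τ : C →* (R : Subgroup C) := MonoidHom.transfer (MonoidHom.id (R : Subgroup C))
    -- P is killed by the transfer
    have hker : ∀ p : C, (p : G) ∈ P → τ p = 1 := by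
      intro p hp
      have h1 : (p : G) ∈ ⁅C, C⁆ := P_le_commutator hJ hp
      have h2 : ⁅C, C⁆ ≤ τ.ker.map C.subtype := by
        rw [← Subgroup.map_subtype_commutator]
        exact Subgroup.map_mono (Abelianization.commutator_subset_ker τ)
      obtain ⟨p', hp', e⟩ := h2 h1
      rw [show p = p' from Subtype.ext e.symm]
      exact hp'
    have hidxR : ¬ 3 ∣ (R : Subgroup C).index := R.not_dvd_index
    have hP1 : P = ⊥ := by
      refine (Subgroup.eq_bot_iff_forall _).mpr fun p hp => ?_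
      have hpC : p ∈ C := P_le_C hJ hp
      have hkey : ∀ (k : ℕ) (g₀ : C), g₀⁻¹ * (⟨p, hpC⟩ : C) ^ k * g₀ ∈ (R : Subgroup C) →
          g₀⁻¹ * (⟨p, hpC⟩ : C) ^ k * g₀ = (⟨p, hpC⟩ : C) ^ k := fun k g₀ _ => Subtype.ext (by
        show (g₀ : G)⁻¹ * p ^ k * g₀ = p ^ k
        rw [mul_assoc, K_comm hJ (Subgroup.mem_sup_right (pow_mem hp k)) g₀.2, inv_mul_cancel_left])
      have h := MonoidHom.transfer_eq_pow (MonoidHom.id (R : Subgroup C)) (⟨p, hpC⟩ : C) hkey
      rw [show MonoidHom.transfer (MonoidHom.id (R : Subgroup C)) (⟨p, hpC⟩ : C) = 1 from hker _ hp] at h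
      have h' : p ^ (R : Subgroup C).index = 1 := by
        have := congrArg (fun x : (R : Subgroup C) => ((x : C) : G)) h.symm
        simpa using this
      rw [← orderOf_eq_one_iff]
      have hdvd := orderOf_dvd_of_pow_eq_one h'
      have h3 : orderOf p ∣ 3 := by
        rw [← card_P hJ]; exact Subgroup.orderOf_dvd_natCard _ hp
      rcases (Nat.dvd_prime Nat.prime_three).mp h3 with e | e
      · exact e
      · rw [e] at hdvd; exact absurd hdvd hidxR
    have := card_P hJ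
    rw [hP1, Subgroup.card_bot] at this
    omega
  obtain ⟨d, hdR, hd⟩ := hna
  -- the commutator lies in P
  have hpow3 : ∀ x ∈ (R : Subgroup C), ∃ n, (x : G) ^ 3 ^ n = 1 := fun x hx => by
    obtain ⟨n, hn⟩ := R.isPGroup' ⟨x, hx⟩
    exact ⟨n, congrArg (fun y : (R : Subgroup C) => ((y : C) : G)) hn⟩
  have hcom : φ (d : G) * φ r = φ r * φ (d : G) := by
    obtain ⟨g, hgker, -⟩ : ∃ g : C →* ↥Cfsg.Spor.M22, (∀ x : C, g x = φ x) ∧ True :=
      ⟨MonoidHom.mk' (fun x => φ x) fun a b => hmul _ a.2 _ b.2, fun _ => rfl, trivial⟩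
    obtain ⟨S', hS'⟩ := (R.isPGroup'.map g).exists_le_sylow
    obtain ⟨⟨hcomm, -⟩, -⟩ := CfsgLib.J4M22.sylow_three S'
    have h1 : g d ∈ (S' : Subgroup ↥Cfsg.Spor.M22) := hS' ⟨d, hdR, rfl⟩
    have h2 : g ⟨r, hr⟩ ∈ (S' : Subgroup ↥Cfsg.Spor.M22) := hS' ⟨_, hrR, rfl⟩
    rw [← hgker d, ← hgker ⟨r, hr⟩]
    exact congrArg Subtype.val (hcomm.is_comm.comm ⟨_, h1⟩ ⟨_, h2⟩)
  obtain ⟨k, hk, hke⟩ := eq_mul_of_map_eq hJ hmul hker hinv (mul_mem d.2 hr) (mul_mem hr d.2)
    (by rw [hmul _ d.2 _ hr, hmul _ hr _ d.2, hcom])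
  have hke' : (d : G) * r * (d : G)⁻¹ = r * k := by
    rw [hke, mul_assoc r (d : G) k, ← K_comm hJ hk d.2, ← mul_assoc, mul_inv_cancel_right]
  have hk3 : k ∈ P := by
    refine K_cube_one hJ hk ?_
    have h1 : (d * r * (d : G)⁻¹) ^ 3 = 1 := by rw [conj_pow, ← hr3, pow_orderOf_eq_one, mul_one, mul_inv_cancel]
    rw [hke', (show Commute r k from (K_comm hJ hk hr).symm).mul_pow, ← hr3, pow_orderOf_eq_one, one_mul, hr3] at h1
    exact h1
  refine ⟨d, d.2, k, hk3, fun e => hd (Subtype.ext ?_), hke'⟩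
  show (d : G) * r = r * d
  rw [hke, e, mul_one]

/-- (b) All elements of order 3 of `C_H(P)` outside `P` are conjugate there. -/
theorem isConj_three (hJ : Cfsg.IsOfJankoFourTypeWith z P) {r r' : G} (hr : r ∈ cC z P) (hr' : r' ∈ cC z P)
    (hr3 : orderOf r = 3) (hr3' : orderOf r' = 3) (hrP : r ∉ P) (hrP' : r' ∉ P) :
    ∃ c ∈ cC z P, c * r * c⁻¹ = r' := by
  haveI : Fact (Nat.Prime 3) := ⟨Nat.prime_three⟩
  obtain ⟨φ, hmul, hker, hpow, hinv, hsurj⟩ := exists_map hJ
  have ho : ∀ {x : G}, x ∈ cC z P → orderOf x = 3 → x ∉ P → orderOf (φ x) = 3 := fun {x} hx h3 hxP =>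
    orderOf_eq_prime (by rw [← hpow _ hx, ← h3, pow_orderOf_eq_one]; exact (hker _ (one_mem _)).mpr (one_mem _))
      fun e => hxP (K_cube_one hJ ((hker _ hx).mp e) (by rw [← h3, pow_orderOf_eq_one]))
  obtain ⟨m, hm⟩ := isConj_iff.mp (CfsgLib.J4M22.isConj_three (ho hr hr3 hrP) (ho hr' hr3' hrP'))
  obtain ⟨d, hd, rfl⟩ := hsurj m
  have hdr : d * r * d⁻¹ ∈ cC z P := mul_mem (mul_mem hd hr) (inv_mem hd)
  obtain ⟨k, hk, hke⟩ := eq_mul_of_map_eq hJ hmul hker hinv hdr hr'
    (by rw [hmul _ (mul_mem hd hr) _ (inv_mem hd), hmul _ hd _ hr, hinv _ hd, hm])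
  have hk3 : k ∈ P := by
    refine K_cube_one hJ hk ?_
    have h1 : (d * r * d⁻¹) ^ 3 = 1 := by rw [conj_pow, ← hr3, pow_orderOf_eq_one, mul_one, mul_inv_cancel]
    rw [hke, (show Commute r' k from (K_comm hJ hk hr').symm).mul_pow, ← hr3', pow_orderOf_eq_one, one_mul, hr3'] at h1
    exact h1
  obtain ⟨e, he, q, hq, hq1, heq⟩ := exists_shift hJ hr' hr3' hrP'
  have hqK : q ∈ cK z P := Subgroup.mem_sup_right hq
  -- powers of the shift
  have hshift : ∀ n : ℕ, e ^ n * r' * (e ^ n)⁻¹ = r' * q ^ n := by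
    intro n
    induction n with
    | zero => simp
    | succ n ih =>
      calc e ^ (n + 1) * r' * (e ^ (n + 1))⁻¹ = e * (e ^ n * r' * (e ^ n)⁻¹) * e⁻¹ := by group
        _ = e * r' * (q ^ n * e⁻¹) := by rw [ih]; simp only [mul_assoc]
        _ = r' * q * q ^ n := by
          rw [K_comm hJ (pow_mem hqK n) (inv_mem he), ← mul_assoc, heq]
        _ = r' * q ^ (n + 1) := by rw [pow_succ', mul_assoc]
  obtain ⟨n, hn⟩ : ∃ n : ℕ, q ^ n = k := by
    have hPq : Subgroup.zpowers q = P := CfsgLib.Solvable.eq_of_le_of_card_le (Subgroup.zpowers_le.mpr hq) (by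
      have h1 := orderOf_dvd_of_pow_eq_one (x := q) (n := 3) (by
        have := pow_card_eq_one' (G := P) (x := ⟨q, hq⟩)
        rw [card_P hJ] at this
        exact congrArg Subtype.val this)
      rw [card_P hJ, Nat.card_zpowers]
      rcases (Nat.dvd_prime Nat.prime_three).mp h1 with h | h
      · exact absurd (orderOf_eq_one_iff.mp h) hq1
      · exact h.ge)
    rw [← hPq] at hk3
    exact Submonoid.mem_powers_iff _ _ |>.mp (mem_powers_iff_mem_zpowers.mpr hk3)
  refine ⟨(e ^ n)⁻¹ * d, mul_mem (inv_mem (pow_mem he n)) hd, ?_⟩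
  have : d * r * d⁻¹ = e ^ n * r' * (e ^ n)⁻¹ := by rw [hke, hshift, hn]
  calc (e ^ n)⁻¹ * d * r * ((e ^ n)⁻¹ * d)⁻¹ = (e ^ n)⁻¹ * (d * r * d⁻¹) * e ^ n := by group
    _ = r' := by rw [this]; group

/-- (c) An involution of `C_H(P)` other than `z` is conjugate to any other one up to `z`. -/
theorem isConj_two (hJ : Cfsg.IsOfJankoFourTypeWith z P) {u v : G} (hu : u ∈ cC z P) (hv : v ∈ cC z P)
    (hu2 : orderOf u = 2) (hv2 : orderOf v = 2) (huz : u ≠ z) (hvz : v ≠ z) :
    ∃ c ∈ cC z P, c * u * c⁻¹ = v ∨ c * u * c⁻¹ = v * z := by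
  haveI : Fact (Nat.Prime 2) := ⟨Nat.prime_two⟩
  obtain ⟨φ, hmul, hker, hpow, hinv, hsurj⟩ := exists_map hJ
  have sq : ∀ {x : G}, orderOf x = 2 → x * x = 1 := fun {x} h => by rw [← pow_two, ← h, pow_orderOf_eq_one]
  have ho : ∀ {x : G}, x ∈ cC z P → orderOf x = 2 → x ≠ z → orderOf (φ x) = 2 := fun {x} hx h2 hxz =>
    orderOf_eq_prime (by rw [← hpow _ hx, pow_two, sq h2]; exact (hker _ (one_mem _)).mpr (one_mem _))
      fun e => by
        rcases K_sq_one hJ ((hker _ hx).mp e) (sq h2) with h | h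
        · rw [h, orderOf_one] at h2; omega
        · exact hxz h
  obtain ⟨m, hm⟩ := isConj_iff.mp (CfsgLib.J4M22.isConj_two (ho hu hu2 huz) (ho hv hv2 hvz))
  obtain ⟨d, hd, rfl⟩ := hsurj m
  have hdu : d * u * d⁻¹ ∈ cC z P := mul_mem (mul_mem hd hu) (inv_mem hd)
  obtain ⟨k, hk, hke⟩ := eq_mul_of_map_eq hJ hmul hker hinv hdu hv
    (by rw [hmul _ (mul_mem hd hu) _ (inv_mem hd), hmul _ hd _ hu, hinv _ hd, hm])
  have hkk : k * k = 1 := by
    have h1 : (d * u * d⁻¹) ^ 2 = 1 := by rw [conj_pow, pow_two, sq hu2, mul_one, mul_inv_cancel]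
    rw [hke, (show Commute v k from (K_comm hJ hk hv).symm).mul_pow, pow_two, pow_two, sq hv2, one_mul] at h1
    exact h1
  refine ⟨d, hd, ?_⟩
  rcases K_sq_one hJ hk hkk with rfl | rfl
  · exact Or.inl (by rw [hke, mul_one])
  · exact Or.inr hke

/-- There is an element of order 3 of `C_H(P)` outside `P`. -/
theorem exists_three (hJ : Cfsg.IsOfJankoFourTypeWith z P) :
    ∃ r ∈ cC z P, orderOf r = 3 ∧ r ∉ P := by
  haveI : Fact (Nat.Prime 3) := ⟨Nat.prime_three⟩
  obtain ⟨φ, hmul, hker, hpow, hinv, hsurj⟩ := exists_map hJ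
  obtain ⟨t, σ, A, B, ht, hσ, hσt, hσn, -⟩ := CfsgLib.J4M22.exists_frame22
  by_contra hcon
  push Not at hcon
  -- lifts with cube in P
  have lift : ∀ m : ↥Cfsg.Spor.M22, orderOf m = 3 → ∃ X ∈ cC z P, φ X = m ∧ X ^ 3 ∈ P ∧ X ^ 3 ≠ 1 := by
    intro m hm
    obtain ⟨c, hc, rfl⟩ := hsurj m
    have hc3 : c ^ 3 ∈ cK z P := (hker _ (pow_mem hc 3)).mp (by rw [hpow _ hc, ← hm, pow_orderOf_eq_one])
    obtain ⟨a, q, -, hq, hcq, haa, -, hcaq⟩ := mem_K hJ hc3
    have haK : a ∈ cK z P := by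
      have : a = c ^ 3 * q⁻¹ := by rw [hcq, mul_inv_cancel_right]
      rw [this]; exact mul_mem hc3 (inv_mem (Subgroup.mem_sup_right hq))
    have hX : c * a ∈ cC z P := mul_mem hc (K_le_C hJ haK)
    have hφ : φ (c * a) = φ c := by rw [hmul _ hc _ (K_le_C hJ haK), (hker _ (K_le_C hJ haK)).mpr haK, mul_one]
    have hX3 : (c * a) ^ 3 = q := by
      rw [(show Commute c a from (K_comm hJ haK hc).symm).mul_pow, hcq, pow_three, haa, mul_one, hcaq,
        mul_assoc, haa, mul_one]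
    refine ⟨c * a, hX, hφ, hX3 ▸ hq, fun h1 => ?_⟩
    have hXP : c * a ∈ P := hcon _ hX (orderOf_eq_prime h1 fun e => by
      rw [← hφ, e, (hker _ (one_mem _)).mpr (one_mem _), orderOf_one] at hm
      omega)
    rw [← hφ, (hker _ hX).mpr (Subgroup.mem_sup_right hXP), orderOf_one] at hm
    omega
  obtain ⟨X, hX, rfl, hX3, hX31⟩ := lift t ht
  obtain ⟨Y, hY, rfl, hY3, hY31⟩ := lift σ hσ
  -- a suitable power of Y cancels the cube of X
  obtain ⟨n, hn1, hn2⟩ : ∃ n : ℕ, (n = 1 ∨ n = 2) ∧ (Y ^ n) ^ 3 = (X ^ 3)⁻¹ := by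
    have hPY : Subgroup.zpowers (Y ^ 3) = P := CfsgLib.Solvable.eq_of_le_of_card_le (Subgroup.zpowers_le.mpr hY3) (by
      rw [card_P hJ, Nat.card_zpowers]
      have h1 : orderOf (Y ^ 3) ∣ 3 := by
        have := Subgroup.orderOf_dvd_natCard P hY3
        rwa [card_P hJ] at this
      rcases (Nat.dvd_prime Nat.prime_three).mp h1 with h | h
      · exact absurd (orderOf_eq_one_iff.mp h) hY31
      · exact h.ge)
    have hmem : (X ^ 3)⁻¹ ∈ Subgroup.zpowers (Y ^ 3) := by rw [hPY]; exact inv_mem hX3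
    obtain ⟨n, hn⟩ := Submonoid.mem_powers_iff _ _ |>.mp (mem_powers_iff_mem_zpowers.mpr hmem)
    have hY9 : (Y ^ 3) ^ 3 = 1 := by
      have := pow_card_eq_one' (G := P) (x := ⟨_, hY3⟩)
      rw [card_P hJ] at this
      exact congrArg Subtype.val this
    have e : (Y ^ 3) ^ n = (Y ^ 3) ^ (n % 3) := by
      conv_lhs => rw [← Nat.div_add_mod n 3, pow_add, pow_mul, hY9, one_pow, one_mul]
    rw [e] at hn
    refine ⟨n % 3, ?_, by rw [← pow_mul, mul_comm, pow_mul, hn]⟩
    have h2 : n % 3 < 3 := Nat.mod_lt _ (by norm_num)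
    have h0 : n % 3 ≠ 0 := fun e0 => hX31 (by rw [e0, pow_zero] at hn; exact inv_eq_one.mp hn.symm)
    omega
  set W := Y ^ n
  have hW : W ∈ cC z P := pow_mem hY n
  have hXW : φ X * φ W = φ W * φ X := by
    rw [hpow _ hY]
    exact ((show Commute (φ Y) (φ X) from hσt).symm.pow_right n).eq
  obtain ⟨q, hq, hqe⟩ := eq_mul_of_map_eq hJ hmul hker hinv (mul_mem hW hX) (mul_mem hX hW)
    (by rw [hmul _ hW _ hX, hmul _ hX _ hW, hXW])
  have cq : ∀ c ∈ cC z P, q * c = c * q := fun c hc => K_comm hJ hq hc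
  -- W X = X W q
  have hconj : W * X * W⁻¹ = X * q := by rw [hqe, mul_assoc X W q, ← cq W hW]; group
  have hq3 : q ^ 3 = 1 := by
    have h1 : W * X ^ 3 * W⁻¹ = X ^ 3 := by
      rw [← K_comm hJ (Subgroup.mem_sup_right hX3) hW, mul_inv_cancel_right]
    rw [← conj_pow, hconj, (show Commute X q from (cq X hX).symm).mul_pow, mul_eq_left] at h1
    exact h1
  have hcube : (X * W) ^ 3 = 1 := by
    have e1 : (X * W) * (X * W) = X * X * (W * W) * q := by
      calc (X * W) * (X * W) = X * (W * X) * W := by simp only [mul_assoc]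
        _ = X * X * (W * (q * W)) := by rw [hqe]; simp only [mul_assoc]
        _ = X * X * (W * W) * q := by rw [cq W hW]; simp only [mul_assoc]
    have e2 : W * W * X = X * (W * W) * (q * q) := by
      calc W * W * X = W * (W * X) := mul_assoc _ _ _
        _ = W * X * (W * q) := by conv_lhs => rw [hqe]
                                  simp only [mul_assoc]
        _ = X * W * (q * W) * q := by rw [hqe]; simp only [mul_assoc]
        _ = X * (W * W) * (q * q) := by rw [cq W hW]; simp only [mul_assoc]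
    calc (X * W) ^ 3 = (X * W) * (X * W) * (X * W) := by rw [pow_three]; simp only [mul_assoc]
      _ = X * X * (W * W) * (q * (X * W)) := by rw [e1]; simp only [mul_assoc]
      _ = X * X * (W * W * X) * (W * q) := by rw [cq _ (mul_mem hX hW)]; simp only [mul_assoc]
      _ = X * X * X * (W * W) * ((q * q) * W) * q := by rw [e2]; simp only [mul_assoc]
      _ = X ^ 3 * W ^ 3 * q ^ 3 := by
          rw [show q * q * W = W * (q * q) by rw [mul_assoc, cq W hW, ← mul_assoc, cq W hW, mul_assoc],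
            pow_three, pow_three, pow_three]
          simp only [mul_assoc]
      _ = 1 := by rw [hq3, hn2, mul_inv_cancel, one_mul]
  have hne : φ (X * W) ≠ 1 := fun e => by
    rw [hmul _ hX _ hW, hpow _ hY] at e
    apply hσn
    have hXinv : φ Y ^ n ∈ Subgroup.zpowers (φ X) := by
      rw [eq_inv_of_mul_eq_one_right e]; exact inv_mem (Subgroup.mem_zpowers _)
    rcases hn1 with rfl | rfl
    · simpa using hXinv
    · have h3 : φ Y = ((φ Y) ^ 2) ^ 2 := by
        rw [← pow_mul, ← pow_mod_orderOf (φ Y) (2 * 2), hσ]; simp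
      rw [h3]; exact pow_mem hXinv 2
  have hXWP : X * W ∈ P := hcon _ (mul_mem hX hW) (orderOf_eq_prime hcube fun e => hne (by
    rw [e]; exact (hker _ (one_mem _)).mpr (one_mem _)))
  exact hne ((hker _ (mul_mem hX hW)).mpr (Subgroup.mem_sup_right hXWP))

/-- (d) A frame at an element of order 3 outside `P`. -/
theorem exists_frame (hJ : Cfsg.IsOfJankoFourTypeWith z P) : ∃ p y s a b tau : G,
    p ∈ P ∧ orderOf p = 3 ∧ y ∈ cC z P ∧ orderOf y = 3 ∧ y ∉ P ∧ s ∈ cC z P ∧ s * y * s⁻¹ = y * p ∧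
    a ∈ cC z P ∧ b ∈ cC z P ∧ a * a = 1 ∧ b * b = 1 ∧ a * b = b * a ∧ a * y = y * a ∧ b * y = y * b ∧
    a ∉ cK z P ∧ b ∉ cK z P ∧ a * b ∉ cK z P ∧ s * a * s⁻¹ = b ∧
    (s * b * s⁻¹ = a * b ∨ s * b * s⁻¹ = a * b * z) ∧
    (∀ c ∈ cC z P, c * y = y * c → ∃ i j k l n : ℕ, c = z ^ n * p ^ i * y ^ j * a ^ k * b ^ l) ∧
    tau ∈ cA z P ∧ tau ∉ cC z P ∧ tau * y = y * tau ∧ tau * p * tau⁻¹ = p⁻¹ ∧
    ∃ k : ℕ, orderOf tau = 2 ^ k := by
  haveI : Fact (Nat.Prime 3) := ⟨Nat.prime_three⟩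
  haveI : Fact (Nat.Prime 2) := ⟨Nat.prime_two⟩
  obtain ⟨φ, hmul, hker, hpow, hinv, hsurj⟩ := exists_map hJ
  have hone : φ 1 = 1 := (hker _ (one_mem _)).mpr (one_mem _)
  obtain ⟨t, σ, A, B, ht, hσ, hσt, hσn, hA, hB, hAB, hne, hAt, hBt, hσA, hσB, hdec⟩ :=
    CfsgLib.J4M22.exists_frame22
  obtain ⟨r, hr, hr3, hrP⟩ := exists_three hJ
  have hφr : orderOf (φ r) = 3 := orderOf_eq_prime (by rw [← hpow _ hr, ← hr3, pow_orderOf_eq_one, hone])
    fun e => hrP (K_cube_one hJ ((hker _ hr).mp e) (by rw [← hr3, pow_orderOf_eq_one]))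
  -- lifts of elements of order 3 with order 3
  have lift : ∀ m : ↥Cfsg.Spor.M22, orderOf m = 3 → ∃ c ∈ cC z P, φ c = m ∧ orderOf c = 3 ∧ c ∉ P := by
    intro m hm
    obtain ⟨g, hg⟩ := isConj_iff.mp (CfsgLib.J4M22.isConj_three hφr hm)
    obtain ⟨d, hd, rfl⟩ := hsurj g
    have hc : d * r * d⁻¹ ∈ cC z P := mul_mem (mul_mem hd hr) (inv_mem hd)
    have hφc : φ (d * r * d⁻¹) = m := by rw [hmul _ (mul_mem hd hr) _ (inv_mem hd), hmul _ hd _ hr, hinv _ hd, hg]
    refine ⟨_, hc, hφc, ?_, fun h => ?_⟩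
    · rw [show d * r * d⁻¹ = MulAut.conj d r from rfl, MulEquiv.orderOf_eq, hr3]
    · rw [← hφc, (hker _ hc).mpr (Subgroup.mem_sup_right h), orderOf_one] at hm
      omega
  obtain ⟨y, hy, rfl, hy3, hyP⟩ := lift t ht
  obtain ⟨s, hs, rfl, hs3, hsP⟩ := lift σ hσ
  -- commutation up to the kernel
  have comm_up : ∀ {u w : G}, u ∈ cC z P → w ∈ cC z P → φ u * φ w = φ w * φ u →
      ∃ k ∈ cK z P, u * w * u⁻¹ = w * k := by
    intro u w hu hw h
    obtain ⟨k, hk, hke⟩ := eq_mul_of_map_eq hJ hmul hker hinv (mul_mem hu hw) (mul_mem hw hu)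
      (by rw [hmul _ hu _ hw, hmul _ hw _ hu, h])
    exact ⟨k, hk, by rw [hke, mul_assoc w u k, ← K_comm hJ hk hu]; group⟩
  obtain ⟨p, hpK, hp⟩ := comm_up hs hy hσt
  have hy31 : y ^ 3 = 1 := by rw [← hy3, pow_orderOf_eq_one]
  have hpP : p ∈ P := by
    refine K_cube_one hJ hpK ?_
    have h1 : (s * y * s⁻¹) ^ 3 = 1 := by rw [conj_pow, hy31, mul_one, mul_inv_cancel]
    rw [hp, (show Commute y p from (K_comm hJ hpK hy).symm).mul_pow, hy31, one_mul] at h1
    exact h1
  -- involutions above A and B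
  obtain ⟨a0, ha0, rfl⟩ := hsurj A
  have ha0k : a0 ∉ cK z P := fun h => by rw [(hker _ ha0).mpr h, orderOf_one] at hA; omega
  obtain ⟨k, hk, hkk⟩ := exists_invol_lift hJ ha0 ha0k ((hker _ (mul_mem ha0 ha0)).mp (by
    rw [hmul _ ha0 _ ha0, ← pow_two, ← hA, pow_orderOf_eq_one]))
  set a := a0 * k with ha_def
  have ha : a ∈ cC z P := mul_mem ha0 (P_le_C hJ hk)
  have hφa : φ a = φ a0 := by
    rw [ha_def, hmul _ ha0 _ (P_le_C hJ hk), (hker _ (P_le_C hJ hk)).mpr (Subgroup.mem_sup_right hk), mul_one]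
  set b := s * a * s⁻¹ with hb_def
  have hb : b ∈ cC z P := mul_mem (mul_mem hs ha) (inv_mem hs)
  have hφb : φ b = B := by
    rw [hb_def, hmul _ (mul_mem hs ha) _ (inv_mem hs), hmul _ hs _ ha, hinv _ hs, hφa, hσA]
  have hbb : b * b = 1 := by
    calc b * b = s * (a * a) * s⁻¹ := by rw [hb_def]; group
      _ = 1 := by rw [hkk, mul_one, mul_inv_cancel]
  have hak : a ∉ cK z P := fun h => by rw [← hφa, (hker _ ha).mpr h, orderOf_one] at hA; omega
  have hbk : b ∉ cK z P := fun h => by rw [← hφb, (hker _ hb).mpr h, orderOf_one] at hB; omega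
  have habk : a * b ∉ cK z P := fun h => hne (by
    have h1 := (hker _ (mul_mem ha hb)).mpr h
    rw [hmul _ ha _ hb, hφa, hφb] at h1
    have h2 : φ a0 * φ a0 = 1 := by rw [← pow_two, ← hA, pow_orderOf_eq_one]
    exact (mul_left_cancel (h1.trans h2.symm)).symm)
  -- commuting with y
  have comy : ∀ {u : G}, u ∈ cC z P → u * u = 1 → φ u * φ y = φ y * φ u → u * y = y * u := by
    intro u hu huu h
    obtain ⟨q, hq, hqe⟩ := comm_up hu hy h
    have hqP : q ^ 3 = 1 := by
      have h1 : (u * y * u⁻¹) ^ 3 = 1 := by rw [conj_pow, hy31, mul_one, mul_inv_cancel]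
      rwa [hqe, (show Commute y q from (K_comm hJ hq hy).symm).mul_pow, hy31, one_mul] at h1
    have h2 : q * q = 1 := by
      have h3 : u * (u * y * u⁻¹) * u⁻¹ = y := by
        calc u * (u * y * u⁻¹) * u⁻¹ = (u * u) * y * (u * u)⁻¹ := by group
          _ = y := by rw [huu, one_mul, inv_one, mul_one]
      rw [hqe, mul_assoc u, mul_assoc y q, K_comm hJ hq (inv_mem hu), ← mul_assoc y, ← mul_assoc u,
        ← mul_assoc u, hqe, mul_assoc, mul_eq_left] at h3
      exact h3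
    have hq1 : q = 1 := by
      calc q = q ^ 3 * (q * q)⁻¹ := by group
        _ = 1 := by rw [hqP, h2, inv_one, mul_one]
    rw [hq1, mul_one] at hqe
    calc u * y = u * y * u⁻¹ * u := by group
      _ = y * u := by rw [hqe]
  have hay : a * y = y * a := comy ha hkk (by rw [hφa]; exact hAt)
  have hby : b * y = y * b := comy hb hbb (by rw [hφb]; exact hBt)
  -- a and b commute
  have hab : a * b = b * a := by
    obtain ⟨k', hk', hkk'⟩ := exists_invol_lift hJ (mul_mem ha hb) habk ((hker _ (mul_mem (mul_mem ha hb) (mul_mem ha hb))).mp (by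
      rw [hmul _ (mul_mem ha hb) _ (mul_mem ha hb), hmul _ ha _ hb, hφa, hφb]
      have h1 : φ a0 * φ a0 = 1 := by rw [← pow_two, ← hA, pow_orderOf_eq_one]
      have h2 : B * B = 1 := by rw [← pow_two, ← hB, pow_orderOf_eq_one]
      calc φ a0 * B * (φ a0 * B) = φ a0 * (B * φ a0) * B := by simp only [mul_assoc]
        _ = (φ a0 * φ a0) * (B * B) := by rw [← hAB]; simp only [mul_assoc]
        _ = 1 := by rw [h1, h2, one_mul]))
    have hk'K : k' ∈ cK z P := Subgroup.mem_sup_right hk'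
    have hk'3 : k' ^ 3 = 1 := by
      have := pow_card_eq_one' (G := P) (x := ⟨k', hk'⟩)
      rw [card_P hJ] at this
      exact congrArg Subtype.val this
    set d := a * b * (a * b)
    have hdk : d = k' := by
      have h1 : a * b * k' * (a * b * k') = d * (k' * k') := by
        calc a * b * k' * (a * b * k') = a * b * (k' * (a * b)) * k' := by simp only [mul_assoc]
          _ = d * (k' * k') := by rw [K_comm hJ hk'K (mul_mem ha hb)]; simp only [d, mul_assoc]
      rw [h1] at hkk'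
      calc d = d * (k' * k') * k' := by rw [mul_assoc, mul_assoc k', ← pow_three, hk'3, mul_one]
        _ = k' := by rw [hkk', one_mul]
    have hdd : d * d = 1 := by
      have h3 : a * d * a = d⁻¹ := by
        show a * (a * b * (a * b)) * a = (a * b * (a * b))⁻¹
        rw [mul_inv_rev, mul_inv_rev, inv_eq_of_mul_eq_one_right hkk, inv_eq_of_mul_eq_one_right hbb]
        calc a * (a * b * (a * b)) * a = (a * a) * (b * (a * b) * a) := by simp only [mul_assoc]
          _ = b * a * (b * a) := by rw [hkk, one_mul]; simp only [mul_assoc]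
      rw [hdk, mul_assoc, K_comm hJ hk'K ha, ← mul_assoc, hkk, one_mul] at h3
      rw [hdk]; exact mul_eq_one_iff_eq_inv.mpr h3
    have hd1 : d = 1 := by
      rw [hdk] at hdd ⊢
      calc k' = k' ^ 3 * (k' * k')⁻¹ := by group
        _ = 1 := by rw [hk'3, hdd, inv_one, mul_one]
    calc a * b = a * b * (a * b) * (b * a) := by
          calc a * b = a * b * (a * (b * b) * a) := by rw [hbb, mul_one, hkk, mul_one]
            _ = a * b * (a * b) * (b * a) := by simp only [mul_assoc]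
      _ = b * a := by rw [show a * b * (a * b) = 1 from hd1, one_mul]
  -- the decomposition
  have dec : ∀ c ∈ cC z P, φ c * φ y = φ y * φ c → ∃ (k0 : G) (i m u v : ℕ),
      k0 ∈ cK z P ∧ c = k0 * y ^ i * s ^ m * a ^ u * b ^ v := by
    intro c hc h
    obtain ⟨i, m, u, v, e⟩ := hdec (φ c) h
    have hw : y ^ i * s ^ m * a ^ u * b ^ v ∈ cC z P :=
      mul_mem (mul_mem (mul_mem (pow_mem hy i) (pow_mem hs m)) (pow_mem ha u)) (pow_mem hb v)
    obtain ⟨k0, hk0, hc0⟩ := eq_mul_of_map_eq hJ hmul hker hinv hc hw (by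
      rw [e, hmul _ (mul_mem (mul_mem (pow_mem hy i) (pow_mem hs m)) (pow_mem ha u)) _ (pow_mem hb v),
        hmul _ (mul_mem (pow_mem hy i) (pow_mem hs m)) _ (pow_mem ha u), hmul _ (pow_mem hy i) _ (pow_mem hs m),
        hpow _ hy, hpow _ hs, hpow _ ha, hpow _ hb, hφa, hφb])
    refine ⟨k0, i, m, u, v, hk0, ?_⟩
    rw [hc0, ← K_comm hJ hk0 hw]; simp only [mul_assoc]
  have hp1 : p ≠ 1 := by
    intro e
    rw [e, mul_one] at hp
    obtain ⟨d, hd, q, hq, hq1, hdq⟩ := exists_shift hJ hy hy3 hyP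
    have hφd : φ d * φ y = φ y * φ d := by
      have h1 : φ (d * y * d⁻¹) = φ y := by
        rw [hdq, hmul _ hy _ (P_le_C hJ hq), (hker _ (P_le_C hJ hq)).mpr (Subgroup.mem_sup_right hq), mul_one]
      rw [hmul _ (mul_mem hd hy) _ (inv_mem hd), hmul _ hd _ hy, hinv _ hd, mul_inv_eq_iff_eq_mul] at h1
      exact h1
    obtain ⟨k0, i, m, u, v, hk0, rfl⟩ := dec d hd hφd
    apply hq1
    have hcs : Commute s y := mul_inv_eq_iff_eq_mul.mp hp
    have hcd : Commute (k0 * y ^ i * s ^ m * a ^ u * b ^ v) y :=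
      ((((show Commute k0 y from K_comm hJ hk0 hy).mul_left ((Commute.refl y).pow_left i)).mul_left
        (hcs.pow_left m)).mul_left ((show Commute a y from hay).pow_left u)).mul_left
        ((show Commute b y from hby).pow_left v)
    rw [hcd.eq, mul_inv_cancel_right] at hdq
    exact (mul_eq_left.mp hdq.symm)
  have hp3 : orderOf p = 3 := by
    have h1 : orderOf p ∣ 3 := by rw [← card_P hJ]; exact Subgroup.orderOf_dvd_natCard _ hpP
    rcases (Nat.dvd_prime Nat.prime_three).mp h1 with h | h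
    · exact absurd (orderOf_eq_one_iff.mp h) hp1
    · exact h
  have hPp : Subgroup.zpowers p = P := CfsgLib.Solvable.eq_of_le_of_card_le (Subgroup.zpowers_le.mpr hpP)
    (by rw [card_P hJ, Nat.card_zpowers, hp3])
  have hK : ∀ k ∈ cK z P, ∃ n i : ℕ, k = z ^ n * p ^ i := by
    intro k hk
    obtain ⟨a', q, ha', hq, rfl, -, -, -⟩ := mem_K hJ hk
    rw [← hPp] at hq
    obtain ⟨i, rfl⟩ := (mem_powers_iff_mem_zpowers.mpr hq : q ∈ Submonoid.powers p)
    rcases ha' with rfl | rfl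
    · exact ⟨0, i, by rw [pow_zero]⟩
    · exact ⟨1, i, by rw [pow_one]⟩
  -- the outer element
  obtain ⟨t0, ht0A, ht0C⟩ : ∃ t0, t0 ∈ cA z P ∧ t0 ∉ cC z P := by
    by_contra h
    push Not at h
    exact A_ne_C hJ (le_antisymm h C_le_A)
  have hCn : ∀ g ∈ cA z P, ∀ c ∈ cC z P, g * c * g⁻¹ ∈ cC z P := by
    intro g hg c hc
    have h2 : ((cC z P).subgroupOf (cA z P)).Normal := Subgroup.normal_of_index_eq_two (index_C hJ)
    exact h2.conj_mem ⟨c, C_le_A hc⟩ hc ⟨g, hg⟩
  have hy' : t0 * y * t0⁻¹ ∈ cC z P := hCn t0 ht0A y hy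
  obtain ⟨c, hc, hce⟩ := isConj_three hJ hy' hy
    (by rw [show t0 * y * t0⁻¹ = MulAut.conj t0 y from rfl, MulEquiv.orderOf_eq, hy3]) hy3
    (fun h => hyP ((Subgroup.mem_normalizer_iff.mp ht0A.2 y).mpr h)) hyP
  set t1 := c * t0
  have ht1A : t1 ∈ cA z P := mul_mem (C_le_A hc) ht0A
  have ht1C : t1 ∉ cC z P := fun h => ht0C (by simpa [t1] using mul_mem (inv_mem hc) h)
  have ht1y : t1 * y = y * t1 := by
    have h1 : t1 * y * t1⁻¹ = y := by
      calc t1 * y * t1⁻¹ = c * (t0 * y * t0⁻¹) * c⁻¹ := by simp only [t1]; group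
        _ = y := hce
    exact mul_inv_eq_iff_eq_mul.mp h1
  obtain ⟨e, m, hm, hem⟩ := Nat.exists_eq_pow_mul_and_not_dvd (orderOf_pos t1).ne' 2 (by norm_num)
  have htauA : t1 ^ m ∈ cA z P := pow_mem ht1A m
  have htauC : t1 ^ m ∉ cC z P := by
    obtain ⟨j, hj⟩ : Odd m := Nat.odd_iff.mpr (by omega)
    intro h
    apply ht1C
    have h2 : t1 * t1 ∈ cC z P := by
      have h3 := Subgroup.mul_self_mem_of_index_two (index_C hJ) (⟨t1, ht1A⟩ : cA z P)
      exact h3
    rw [hj, pow_succ', pow_mul, pow_two] at h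
    simpa using mul_mem h (inv_mem (pow_mem h2 j))
  have hord : orderOf (t1 ^ m) = 2 ^ e := by
    rw [orderOf_pow' t1 (by omega), hem, Nat.gcd_mul_left_left, Nat.mul_div_cancel _ (by omega)]
  refine ⟨p, y, s, a, b, t1 ^ m, hpP, hp3, hy, hy3, hyP, hs, hp, ha, hb, hkk, hbb, hab, hay, hby, hak, hbk, habk,
    rfl, ?_, fun c hc hcy => ?_, htauA, htauC, ((show Commute t1 y from ht1y).pow_left m).eq, ?_, e, hord⟩
  · have hsb : s * b * s⁻¹ ∈ cC z P := mul_mem (mul_mem hs hb) (inv_mem hs)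
    obtain ⟨k', hk', hke⟩ := eq_mul_of_map_eq hJ hmul hker hinv hsb (mul_mem ha hb) (by
      rw [hmul _ (mul_mem hs hb) _ (inv_mem hs), hmul _ hs _ hb, hinv _ hs, hmul _ ha _ hb, hφa, hφb, hσB])
    have hkk' : k' * k' = 1 := by
      have h1 : (s * b * s⁻¹) ^ 2 = 1 := by rw [conj_pow, pow_two, hbb, mul_one, mul_inv_cancel]
      rw [hke, (show Commute (a * b) k' from (K_comm hJ hk' (mul_mem ha hb)).symm).mul_pow, pow_two, pow_two,
        show a * b * (a * b) = 1 by
          calc a * b * (a * b) = a * (b * a) * b := by simp only [mul_assoc]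
            _ = (a * a) * (b * b) := by rw [← hab]; simp only [mul_assoc]
            _ = 1 := by rw [hkk, hbb, one_mul], one_mul] at h1
      exact h1
    rcases K_sq_one hJ hk' hkk' with rfl | rfl
    · exact Or.inl (by rw [hke, mul_one])
    · exact Or.inr hke
  · obtain ⟨k0, i, m', u, v, hk0, rfl⟩ := dec c hc (by rw [← hmul _ hc _ hy, ← hmul _ hy _ hc, hcy])
    -- the exponent of s is divisible by 3
    have hshift : ∀ n : ℕ, s ^ n * y * (s ^ n)⁻¹ = y * p ^ n := by
      intro n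
      induction n with
      | zero => simp
      | succ n ih =>
        calc s ^ (n + 1) * y * (s ^ (n + 1))⁻¹ = s * (s ^ n * y * (s ^ n)⁻¹) * s⁻¹ := by group
          _ = s * y * (p ^ n * s⁻¹) := by rw [ih]; simp only [mul_assoc]
          _ = y * p * p ^ n := by rw [K_comm hJ (pow_mem hpK n) (inv_mem hs), ← mul_assoc, hp]
          _ = y * p ^ (n + 1) := by rw [pow_succ', mul_assoc]
    have hsm : s ^ m' = 1 := by
      have hL : Commute (k0 * y ^ i) y :=
        (show Commute k0 y from K_comm hJ hk0 hy).mul_left ((Commute.refl y).pow_left i)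
      have hR : Commute (a ^ u * b ^ v) y :=
        ((show Commute a y from hay).pow_left u).mul_left ((show Commute b y from hby).pow_left v)
      have hcy' : Commute (k0 * y ^ i * s ^ m' * (a ^ u * b ^ v)) y := by
        rw [← mul_assoc]; exact hcy
      have hsy : Commute (s ^ m') y := by
        have := ((hL.inv_left).mul_left hcy').mul_left hR.inv_left
        simpa [mul_assoc] using this
      have h1 := hshift m'
      rw [hsy.eq, mul_inv_cancel_right] at h1
      have h2 : p ^ m' = 1 := mul_eq_left.mp h1.symm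
      rw [← orderOf_dvd_iff_pow_eq_one, hp3] at h2
      rw [← orderOf_dvd_iff_pow_eq_one, hs3]; exact h2
    obtain ⟨n, j, rfl⟩ := hK k0 hk0
    exact ⟨j, i, u, v, n, by rw [hsm, mul_one]⟩
  · have hpow' : t1 ^ m * p * (t1 ^ m)⁻¹ ∈ P := (Subgroup.mem_normalizer_iff.mp htauA.2 p).mp hpP
    rw [← hPp] at hpow'
    obtain ⟨n, hn⟩ := (mem_powers_iff_mem_zpowers.mpr hpow' : _ ∈ Submonoid.powers p)
    simp only at hn
    have e1 : p ^ n = p ^ (n % 3) := by rw [← hp3, pow_mod_orderOf]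
    have h2 : n % 3 < 3 := Nat.mod_lt _ (by norm_num)
    rw [← hn, e1]
    rw [e1] at hn
    interval_cases hh : n % 3
    · exfalso
      rw [pow_zero, eq_comm, mul_inv_eq_one, mul_eq_left] at hn
      exact hp1 hn
    · exfalso
      rw [pow_one, eq_comm, mul_inv_eq_iff_eq_mul] at hn
      refine htauC ⟨htauA.1, ?_⟩
      rw [← hPp, Subgroup.zpowers_eq_closure, Subgroup.centralizer_closure]
      exact Subgroup.mem_centralizer_singleton_iff.mpr hn
    · refine eq_inv_of_mul_eq_one_right ?_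
      rw [← pow_succ', show (2 + 1 : ℕ) = orderOf p from hp3.symm, pow_orderOf_eq_one]

end CfsgLib.J4Local
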