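/-
Janko-four type: the decomposition of `E` under a subgroup ⟨P, y⟩ of order nine, E = Q₀ Q₁ Q₂ with
Qᵢ = C_E(y pⁱ) of order 32, pairwise commuting.
-/
import Cfsg.Agent.J4Local.Basics
import Cfsg.Agent.LargeExtra.Basic
import Cfsg.Agent.LargeExtra.OrbitTransfer

set_option autoImplicit false
set_option linter.style.haveILetI false

namespace CfsgLib.J4Local

open Subgroup
open CfsgLib.Extra2 CfsgLib.LargeExtra

variable {G : Type*} [Group G] {z : G} {P : Subgroup G}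

/-- The fixed points of `y` in `E`. -/
abbrev cQ (z y : G) : Subgroup G := cE z ⊓ Subgroup.centralizer ({y} : Set G)

/-- The centraliser of `y` in `C(z)`. -/
abbrev cW (z y : G) : Subgroup G := cH z ⊓ Subgroup.centralizer ({y} : Set G)

theorem mem_cQ {y a : G} : a ∈ cQ z y ↔ a ∈ cE z ∧ a * y = y * a := by
  rw [Subgroup.mem_inf, Subgroup.mem_centralizer_singleton_iff]

theorem mem_cW {y a : G} : a ∈ cW z y ↔ a * z = z * a ∧ a * y = y * a := by
  rw [Subgroup.mem_inf, Subgroup.mem_centralizer_singleton_iff, mem_cH]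

theorem pre_E [Finite G] (hJ : Cfsg.IsOfJankoFourTypeWith z P) : Pre (cE z) z := by
  refine CfsgLib.OrbitTransfer.pre_of_pcore (orderOf_z hJ) rfl (extraspecial_E hJ) fun g hg => ?_
  refine centralizer_E_le hJ ⟨mem_cH.2 ?_, hg⟩
  exact (Subgroup.mem_centralizer_iff.1 hg z (z_mem_E hJ)).symm

theorem gen_split [Finite G] (hJ : Cfsg.IsOfJankoFourTypeWith z P) : Gen (cE z) z := (pre_E hJ).gen

theorem z_mul_self (hJ : Cfsg.IsOfJankoFourTypeWith z P) : z * z = 1 := by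
  have := pow_orderOf_eq_one z
  rwa [orderOf_z hJ, pow_two] at this

theorem z_ne (hJ : Cfsg.IsOfJankoFourTypeWith z P) : z ≠ 1 := fun h => by
  have := orderOf_z hJ
  rw [h, orderOf_one] at this
  omega

theorem conj_mem_E [Finite G] {h x : G} (hh : h * z = z * h) (hx : x ∈ cE z) :
    h * x * h⁻¹ ∈ cE z :=
  (Subgroup.mem_normalizer_iff.1 (H_le_normalizer_E (mem_cH.2 hh)) x).1 hx

theorem C_comm_z {g : G} (hg : g ∈ cC z P) : g * z = z * g := mem_cH.1 hg.1

theorem C_comm_P {g q : G} (hg : g ∈ cC z P) (hq : q ∈ P) : g * q = q * g :=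
  ((Subgroup.mem_centralizer_iff.1 hg.2) q hq).symm

/-- Conjugation by an element of odd order cannot shift an element by `z`. -/
theorem comm_of_shift (hz : z * z = 1) (hz1 : z ≠ 1) {r q : G} (hr : r ^ 3 = 1) (hrz : r * z = z * r)
    (h : r * q * r⁻¹ = q ∨ r * q * r⁻¹ = q * z) : q * r = r * q := by
  rcases h with h | h
  · exact (mul_inv_eq_iff_eq_mul.1 h).symm
  · exfalso
    apply hz1
    have hzr : r * z * r⁻¹ = z := by rw [hrz, mul_inv_cancel_right]
    have h3 : r * (r * (r * q * r⁻¹) * r⁻¹) * r⁻¹ = q * z * z * z := by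
      have s1 : r * (q * z) * r⁻¹ = q * z * z := by
        calc r * (q * z) * r⁻¹ = (r * q * r⁻¹) * (r * z * r⁻¹) := by group
          _ = _ := by rw [h, hzr]
      have s2 : r * (q * z * z) * r⁻¹ = q * z * z * z := by
        calc r * (q * z * z) * r⁻¹ = (r * q * r⁻¹) * (r * z * r⁻¹) * (r * z * r⁻¹) := by group
          _ = _ := by rw [h, hzr]
      rw [h, s1, s2]
    have h4 : r * (r * (r * q * r⁻¹) * r⁻¹) * r⁻¹ = r ^ 3 * q * (r ^ 3)⁻¹ := by
      simp only [pow_succ, pow_zero, one_mul, mul_inv_rev, mul_assoc]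
    rw [h4, hr, one_mul, inv_one, mul_one, mul_assoc q z z, hz, mul_one] at h3
    exact left_eq_mul.1 h3

section Split

variable [Finite G] (hJ : Cfsg.IsOfJankoFourTypeWith z P) {p y : G}

include hJ

/-- Congruence modulo `z` inside `E`. -/
theorem mk_eq {a b : G} (ha : a ∈ cE z) (hb : b ∈ cE z)
    (h : (QuotientGroup.mk (⟨a, ha⟩ : ↥(cE z)) : ↥(cE z) ⧸ Subgroup.center ↥(cE z)) =
      QuotientGroup.mk (⟨b, hb⟩ : ↥(cE z))) : a = b ∨ a = b * z := by
  have h1 := QuotientGroup.eq.1 h.symm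
  have h2 : b⁻¹ * a ∈ Subgroup.zpowers z := by
    rw [← (gen_split hJ).map_center]
    exact ⟨_, h1, rfl⟩
  rcases (mem_zpowers_iff (z_mul_self hJ)).1 h2 with e | e
  · exact Or.inl (inv_mul_eq_one.1 e).symm
  · exact Or.inr (inv_mul_eq_iff_eq_mul.1 e)

theorem mk_z : (QuotientGroup.mk (⟨z, z_mem_E hJ⟩ : ↥(cE z)) : ↥(cE z) ⧸ Subgroup.center ↥(cE z)) = 1 := by
  rw [QuotientGroup.eq_one_iff, Subgroup.mem_center_iff]
  exact fun b => Subtype.ext ((gen_split hJ).comm_z b b.2).eq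

theorem mk_comm (a b : ↥(cE z) ⧸ Subgroup.center ↥(cE z)) : a * b = b * a := by
  induction a using QuotientGroup.induction_on with
  | H a => induction b using QuotientGroup.induction_on with
    | H b =>
      rw [← QuotientGroup.mk_mul, ← QuotientGroup.mk_mul, QuotientGroup.eq, Subgroup.mem_center_iff]
      intro c
      apply Subtype.ext
      have h := (gen_split hJ).comm b⁻¹ (inv_mem b.2) a⁻¹ (inv_mem a.2)
      simp only [inv_inv] at h
      have e : ((a * b)⁻¹ * (b * a) : ↥(cE z)).1 = (b : G)⁻¹ * (a : G)⁻¹ * b * a := by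
        simp [mul_assoc]
      simp only [Subgroup.coe_mul] at *
      rw [e]
      rcases h with h | h <;> rw [h]
      · simp
      · exact ((gen_split hJ).comm_z c c.2).eq

/-- For an element `r` of order three centralising `z`, the norm of `x` is fixed by `r`. -/
theorem norm_fixed {r x : G} (hr : r ^ 3 = 1) (hrz : r * z = z * r) (hx : x ∈ cE z) :
    (x * (r * x * r⁻¹) * (r * (r * x * r⁻¹) * r⁻¹)) ∈ cQ z r := by
  set x1 := r * x * r⁻¹ with hx1
  set x2 := r * x1 * r⁻¹ with hx2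
  have h1 : x1 ∈ cE z := conj_mem_E hrz hx
  have h2 : x2 ∈ cE z := conj_mem_E hrz h1
  refine mem_cQ.2 ⟨mul_mem (mul_mem hx h1) h2, comm_of_shift (z_mul_self hJ) (z_ne hJ) hr hrz ?_⟩
  have h3 : r * (x * x1 * x2) * r⁻¹ = x1 * x2 * x := by
    have hx3 : r * x2 * r⁻¹ = x := by
      have : r * x2 * r⁻¹ = r ^ 3 * x * (r ^ 3)⁻¹ := by
        simp only [x2, x1, pow_succ, pow_zero, one_mul, mul_inv_rev, mul_assoc]
      rw [this, hr, inv_one, one_mul, mul_one]
    calc r * (x * x1 * x2) * r⁻¹ = (r * x * r⁻¹) * (r * x1 * r⁻¹) * (r * x2 * r⁻¹) := by group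
      _ = x1 * x2 * x := by rw [hx3]
  refine mk_eq hJ (conj_mem_E hrz (mul_mem (mul_mem hx h1) h2)) (mul_mem (mul_mem hx h1) h2) ?_
  have e : (⟨r * (x * x1 * x2) * r⁻¹, conj_mem_E hrz (mul_mem (mul_mem hx h1) h2)⟩ : ↥(cE z)) =
      ⟨x1, h1⟩ * ⟨x2, h2⟩ * ⟨x, hx⟩ := Subtype.ext h3
  have e' : (⟨x * x1 * x2, mul_mem (mul_mem hx h1) h2⟩ : ↥(cE z)) = ⟨x, hx⟩ * ⟨x1, h1⟩ * ⟨x2, h2⟩ := rfl
  rw [e, e']
  simp only [QuotientGroup.mk_mul]
  rw [mk_comm hJ, ← mul_assoc]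

theorem fixed_P {r : G} (hr : r ∈ P) (hr1 : r ≠ 1) {x : G} (hx : x ∈ cQ z r) : x = 1 ∨ x = z := by
  obtain ⟨hxE, hxr⟩ := mem_cQ.1 hx
  have hPr : Subgroup.zpowers r = P := by
    haveI : Fact (Nat.Prime 3) := ⟨Nat.prime_three⟩
    refine CfsgLib.Solvable.eq_of_le_of_card_le (Subgroup.zpowers_le.2 hr) ?_
    rw [card_P hJ, Nat.card_zpowers]
    have hd : orderOf r ∣ 3 := by
      have h1 := orderOf_dvd_natCard (⟨r, hr⟩ : ↥P)
      rwa [card_P hJ, Subgroup.orderOf_mk] at h1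
    rcases (Nat.dvd_prime Nat.prime_three).1 hd with e | e
    · exact absurd (orderOf_eq_one_iff.1 e) hr1
    · exact e.ge
  have hm : x ∈ cE z ⊓ Subgroup.centralizer (P : Set G) := by
    refine ⟨hxE, Subgroup.mem_centralizer_iff.2 ?_⟩
    intro g hg
    rw [← hPr] at hg
    obtain ⟨k, rfl⟩ := hg
    exact ((Commute.symm hxr).zpow_left k).eq
  rw [E_inf_centralizer hJ] at hm
  exact (mem_zpowers_iff (z_mul_self hJ)).1 hm

/-- The fixed points of `y` and of `y * p` commute. -/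
theorem comm_fixed (hp : p ∈ P) (hp1 : p ≠ 1) (hy3 : y ^ 3 = 1) (hy : y ∈ cC z P) {a b : G}
    (ha : a ∈ cQ z y) {r : G} (hr : r = y * p ∨ r = y * p * p) (hb : b ∈ cQ z r) : a * b = b * a := by
  obtain ⟨haE, hay⟩ := mem_cQ.1 ha
  obtain ⟨hbE, hbr⟩ := mem_cQ.1 hb
  have hyz : y * z = z * y := C_comm_z hy
  have hay' : y * a * y⁻¹ = a := by rw [← hay, mul_inv_cancel_right]
  have hzy : y * z * y⁻¹ = z := by rw [hyz, mul_inv_cancel_right]
  set b1 := y * b * y⁻¹ with hb1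
  set b2 := y * b1 * y⁻¹ with hb2
  have h1 : b1 ∈ cE z := conj_mem_E hyz hbE
  have h2 : b2 ∈ cE z := conj_mem_E hyz h1
  -- the norm is fixed by `y` and by `r`, hence by `p`
  have hN := norm_fixed hJ hy3 hyz hbE
  have hN1 : b * b1 * b2 = 1 ∨ b * b1 * b2 = z := by
    have hyr : y * r = r * y := by
      have hyp : y * p = p * y := C_comm_P hy hp
      rcases hr with rfl | rfl
      · exact ((Commute.refl y).mul_right hyp).eq
      · exact (((Commute.refl y).mul_right hyp).mul_right hyp).eq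
    have hrb : r * b * r⁻¹ = b := by rw [← hbr, mul_inv_cancel_right]
    have hconj : ∀ c : G, r * (y * c * y⁻¹) * r⁻¹ = y * (r * c * r⁻¹) * y⁻¹ := fun c => by
      calc r * (y * c * y⁻¹) * r⁻¹ = (r * y) * c * (r * y)⁻¹ := by group
        _ = (y * r) * c * (y * r)⁻¹ := by rw [hyr]
        _ = _ := by group
    have hNr : (b * b1 * b2) * r = r * (b * b1 * b2) := by
      have : r * (b * b1 * b2) * r⁻¹ = b * b1 * b2 := by
        calc r * (b * b1 * b2) * r⁻¹ = (r * b * r⁻¹) * (r * b1 * r⁻¹) * (r * b2 * r⁻¹) := by group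
          _ = _ := by rw [hb2, hconj, hb1, hconj, hrb]; rw [hconj, hrb]
      exact (mul_inv_eq_iff_eq_mul.1 this).symm
    obtain ⟨hNE, hNy⟩ := mem_cQ.1 hN
    have hNyi : Commute (b * b1 * b2) y⁻¹ := Commute.inv_right hNy
    rcases hr with rfl | rfl
    · refine fixed_P hJ hp hp1 (mem_cQ.2 ⟨hNE, ?_⟩)
      have := hNyi.mul_right (show Commute (b * b1 * b2) (y * p) from hNr)
      rwa [inv_mul_cancel_left] at this
    · have hpp : p * p ≠ 1 := fun e => by
        have h3 : p ^ 3 = 1 := by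
          have := Subgroup.pow_index_mem (⊥ : Subgroup ↥P) (⟨p, hp⟩ : ↥P)
          rw [Subgroup.index_bot, card_P hJ, Subgroup.mem_bot] at this
          exact congrArg Subtype.val this
        rw [pow_succ, pow_two, e, one_mul] at h3
        exact hp1 h3
      refine fixed_P hJ (mul_mem hp hp) hpp (mem_cQ.2 ⟨hNE, ?_⟩)
      have := hNyi.mul_right (show Commute (b * b1 * b2) (y * p * p) from hNr)
      rwa [mul_assoc y, inv_mul_cancel_left] at this
  have hza : a * z * a⁻¹ = z := by rw [((gen_split hJ).comm_z a haE).eq, mul_inv_cancel_right]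
  rcases conj_eq (gen_split hJ) haE hbE with e | e
  · exact mul_inv_eq_iff_eq_mul.1 e
  · exfalso
    have e1 : a * b1 * a⁻¹ = z * b1 := by
      calc a * b1 * a⁻¹ = (y * a * y⁻¹) * (y * b * y⁻¹) * (y * a * y⁻¹)⁻¹ := by rw [hay']
        _ = y * (a * b * a⁻¹) * y⁻¹ := by group
        _ = (y * z * y⁻¹) * (y * b * y⁻¹) := by rw [e]; group
        _ = z * b1 := by rw [hzy]
    have e2 : a * b2 * a⁻¹ = z * b2 := by
      calc a * b2 * a⁻¹ = (y * a * y⁻¹) * (y * b1 * y⁻¹) * (y * a * y⁻¹)⁻¹ := by rw [hay']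
        _ = y * (a * b1 * a⁻¹) * y⁻¹ := by group
        _ = (y * z * y⁻¹) * (y * b1 * y⁻¹) := by rw [e1]; group
        _ = z * b2 := by rw [hzy]
    have hfix : a * (b * b1 * b2) * a⁻¹ = b * b1 * b2 := by
      rcases hN1 with h | h <;> rw [h]
      · simp
      · exact hza
    have hprod : a * (b * b1 * b2) * a⁻¹ = z * (b * b1 * b2) := by
      have hbz : b * z = z * b := ((gen_split hJ).comm_z b hbE).eq
      have hb1z : b1 * z = z * b1 := ((gen_split hJ).comm_z b1 h1).eq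
      calc a * (b * b1 * b2) * a⁻¹ = (a * b * a⁻¹) * (a * b1 * a⁻¹) * (a * b2 * a⁻¹) := by group
        _ = z * b * (z * b1) * (z * b2) := by rw [e, e1, e2]
        _ = z * (b * z) * (b1 * z) * b2 := by group
        _ = z * (z * b) * (z * b1) * b2 := by rw [hbz, hb1z]
        _ = (z * z) * (b * z) * b1 * b2 := by group
        _ = z * (b * b1 * b2) := by rw [hbz, z_mul_self hJ]; group
    exact z_ne hJ (right_eq_mul.1 (hfix.symm.trans hprod))

/-- Every element of `E` is, up to `z`, a product of fixed points of `y`, `y p` and `y p²`. -/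
theorem exists_decomp (hp : p ∈ P) (hp1 : p ≠ 1) (hy3 : y ^ 3 = 1) (hy : y ∈ cC z P) {x : G}
    (hx : x ∈ cE z) :
    ∃ a ∈ cQ z y, ∃ b ∈ cQ z (y * p), ∃ c ∈ cQ z (y * p * p), x = a * b * c := by
  have hyp : Commute y p := C_comm_P hy hp
  have hp3 : p ^ 3 = 1 := by
    have := Subgroup.pow_index_mem (⊥ : Subgroup ↥P) (⟨p, hp⟩ : ↥P)
    rw [Subgroup.index_bot, card_P hJ, Subgroup.mem_bot] at this
    exact congrArg Subtype.val this
  have hpz : p * z = z * p := mem_cH.1 (P_le_H hJ hp)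
  have hyz : y * z = z * y := C_comm_z hy
  let f : G → G → G := fun g c => g * c * g⁻¹
  have hf : ∀ g h c, f g (f h c) = f (g * h) c := fun g h c => by simp [f, mul_assoc]
  let T : ℕ → ℕ → ↥(cE z) := fun i j => ⟨f (y ^ i * p ^ j) x,
    conj_mem_E (((Commute.pow_left hyz i).mul_left (Commute.pow_left hpz j))).eq hx⟩
  let π : ↥(cE z) → ↥(cE z) ⧸ Subgroup.center ↥(cE z) := QuotientGroup.mk
  have hmul : ∀ a b, π (a * b) = π a * π b := fun _ _ => rfl
  -- the four norms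
  have key : ∀ r : G, r ^ 3 = 1 → r * z = z * r →
      x * f r x * f (r * r) x ∈ cQ z r := fun r hr hrz => by
    have := norm_fixed hJ hr hrz hx
    simpa [f, mul_assoc] using this
  have hr1 : (y * p) ^ 3 = 1 := by rw [hyp.mul_pow, hy3, hp3, one_mul]
  have hr2 : (y * p * p) ^ 3 = 1 := by rw [(hyp.mul_left (Commute.refl p)).mul_pow, hr1, hp3, one_mul]
  have hz1 : (y * p) * z = z * (y * p) := (Commute.mul_left hyz hpz).eq
  have hz2 : (y * p * p) * z = z * (y * p * p) := ((Commute.mul_left hyz hpz).mul_left hpz).eq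
  obtain ⟨N0, hN0, e0⟩ : ∃ N ∈ cQ z y, N = x * f y x * f (y * y) x := ⟨_, key y hy3 hyz, rfl⟩
  obtain ⟨N1, hN1, e1⟩ : ∃ N ∈ cQ z (y * p), N = x * f (y * p) x * f (y * p * (y * p)) x :=
    ⟨_, key _ hr1 hz1, rfl⟩
  obtain ⟨N2, hN2, e2⟩ : ∃ N ∈ cQ z (y * p * p),
      N = x * f (y * p * p) x * f (y * p * p * (y * p * p)) x := ⟨_, key _ hr2 hz2, rfl⟩
  have hNp : x * f p x * f (p * p) x = 1 ∨ x * f p x * f (p * p) x = z :=
    fixed_P hJ hp hp1 (key p hp3 hpz)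
  have hall : N0 * f p N0 * f (p * p) N0 = 1 ∨ N0 * f p N0 * f (p * p) N0 = z := by
    have h := norm_fixed hJ hp3 hpz (mem_cQ.1 hN0).1
    refine fixed_P hJ hp hp1 ?_
    simpa [f, mul_assoc] using h
  -- names
  have hP : ∀ i j, f (y ^ i * p ^ j) x = (T i j : G) := fun _ _ => rfl
  have p2 : p * p = p ^ 2 := (pow_two p).symm
  have y2 : y * y = y ^ 2 := (pow_two y).symm
  have n1 : y * p * (y * p) = y ^ 2 * p ^ 2 := by
    rw [← pow_two, hyp.mul_pow]
  have n2 : y * p * p * (y * p * p) = y ^ 2 * p ^ 1 := by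
    rw [← pow_two, (hyp.mul_left (Commute.refl p)).mul_pow, hyp.mul_pow, mul_assoc, ← pow_add,
      pow_succ' p 3, hp3, mul_one, pow_one]
  have c : ∀ i j k l : ℕ, f (y ^ i * p ^ j) (T k l) = f (y ^ (i + k) * p ^ (j + l)) x := by
    intro i j k l
    rw [← hP, hf]
    congr 1
    rw [pow_add, pow_add, mul_assoc, ← mul_assoc (p ^ j), ((hyp.symm.pow_left j).pow_right k).eq]
    group
  have dist : ∀ g a b, f g (a * b) = f g a * f g b := fun g a b => by simp [f, mul_assoc]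
  set A0 := π (T 0 0) with hA0
  have s0 : (⟨N0, (mem_cQ.1 hN0).1⟩ : ↥(cE z)) = T 0 0 * T 1 0 * T 2 0 := Subtype.ext (by
    simp [T, e0, y2, f])
  have s1 : (⟨N1, (mem_cQ.1 hN1).1⟩ : ↥(cE z)) = T 0 0 * T 1 1 * T 2 2 := Subtype.ext (by
    simp only [e1, Subgroup.coe_mul]; rw [n1]; simp [T, f])
  have s2 : (⟨N2, (mem_cQ.1 hN2).1⟩ : ↥(cE z)) = T 0 0 * T 1 2 * T 2 1 := Subtype.ext (by
    simp only [e2, Subgroup.coe_mul]; rw [n2, mul_assoc y p p, p2]; simp [T, f])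
  have mz : ∀ (a : ↥(cE z)), ((a : G) = 1 ∨ (a : G) = z) → π a = 1 := fun a ha => by
    rcases ha with e | e
    · rw [show a = 1 from Subtype.ext e]; rfl
    · rw [show a = ⟨z, z_mem_E hJ⟩ from Subtype.ext e]; exact mk_z hJ
  have sp : π (T 0 0) * π (T 0 1) * π (T 0 2) = 1 := by
    rw [← hmul, ← hmul]
    refine mz _ ?_
    simpa [T, f, p2] using hNp
  have s9 : π (T 0 0) * π (T 1 0) * π (T 2 0) * (π (T 0 1) * π (T 1 1) * π (T 2 1)) *
      (π (T 0 2) * π (T 1 2) * π (T 2 2)) = 1 := by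
    simp only [← hmul]
    refine mz _ ?_
    have d1 : f p N0 = (T 0 1 : G) * T 1 1 * T 2 1 := by
      rw [show p = y ^ 0 * p ^ 1 by simp, show N0 = (T 0 0 : G) * T 1 0 * T 2 0 from congrArg Subtype.val s0,
        dist, dist, c, c, c]
    have d2 : f (p * p) N0 = (T 0 2 : G) * T 1 2 * T 2 2 := by
      rw [show p * p = y ^ 0 * p ^ 2 by simp [pow_two],
        show N0 = (T 0 0 : G) * T 1 0 * T 2 0 from congrArg Subtype.val s0, dist, dist, c, c, c]
    have d0 : N0 = (T 0 0 : G) * T 1 0 * T 2 0 := congrArg Subtype.val s0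
    rw [d1, d2, d0] at hall
    simpa [mul_assoc] using hall
  have hx2 : π (T 0 0) * π (T 0 0) = 1 := by
    rw [← hmul]
    refine mz _ ?_
    simpa [T, f] using (gen_split hJ).square x hx
  have main : π (T 0 0) = π (⟨N0 * N1 * N2,
      mul_mem (mul_mem (mem_cQ.1 hN0).1 (mem_cQ.1 hN1).1) (mem_cQ.1 hN2).1⟩) := by
    have e3 : (⟨N0 * N1 * N2, mul_mem (mul_mem (mem_cQ.1 hN0).1 (mem_cQ.1 hN1).1) (mem_cQ.1 hN2).1⟩ :
        ↥(cE z)) = T 0 0 * T 1 0 * T 2 0 * (T 0 0 * T 1 1 * T 2 2) * (T 0 0 * T 1 2 * T 2 1) := by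
      rw [← s0, ← s1, ← s2]; rfl
    rw [e3]
    simp only [hmul]
    letI : CommGroup (↥(cE z) ⧸ Subgroup.center ↥(cE z)) :=
      { (inferInstance : Group (↥(cE z) ⧸ Subgroup.center ↥(cE z))) with mul_comm := mk_comm hJ }
    calc π (T 0 0) = π (T 0 0) * (π (T 0 0) * π (T 0 0)) := by rw [hx2, mul_one]
      _ = π (T 0 0) * (π (T 0 0) * π (T 0 0)) *
          (π (T 0 0) * π (T 1 0) * π (T 2 0) * (π (T 0 1) * π (T 1 1) * π (T 2 1)) *
            (π (T 0 2) * π (T 1 2) * π (T 2 2))) := by rw [s9, mul_one]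
      _ = (π (T 0 0) * π (T 1 0) * π (T 2 0) * (π (T 0 0) * π (T 1 1) * π (T 2 2)) *
            (π (T 0 0) * π (T 1 2) * π (T 2 1))) * (π (T 0 0) * π (T 0 1) * π (T 0 2)) := by ac_rfl
      _ = _ := by rw [sp, mul_one]
  have hT : (T 0 0 : G) = x := by simp [T, f]
  rcases mk_eq hJ (T 0 0).2 _ main with e | e <;> rw [hT] at e
  · exact ⟨N0, hN0, N1, hN1, N2, hN2, e⟩
  · refine ⟨N0, hN0, N1, hN1, N2 * z, ?_, by rw [e]; group⟩
    exact mem_cQ.2 ⟨mul_mem (mem_cQ.1 hN2).1 (z_mem_E hJ),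
      (Commute.mul_left (mem_cQ.1 hN2).2 (Commute.symm hz2)).eq⟩

omit hJ in
theorem yp_sq {q : G} (hq : q ∈ P) (hJ : Cfsg.IsOfJankoFourTypeWith z P) : q ^ 3 = 1 := by
  have := Subgroup.pow_index_mem (⊥ : Subgroup ↥P) (⟨q, hq⟩ : ↥P)
  rw [Subgroup.index_bot, card_P hJ, Subgroup.mem_bot] at this
  exact congrArg Subtype.val this

/-- The three fixed-point groups commute pairwise. -/
theorem comm_three (hp : p ∈ P) (hp1 : p ≠ 1) (hy3 : y ^ 3 = 1) (hy : y ∈ cC z P) {a b c : G}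
    (ha : a ∈ cQ z y) (hb : b ∈ cQ z (y * p)) (hc : c ∈ cQ z (y * p * p)) :
    a * b = b * a ∧ a * c = c * a ∧ b * c = c * b := by
  refine ⟨comm_fixed hJ hp hp1 hy3 hy ha (Or.inl rfl) hb, comm_fixed hJ hp hp1 hy3 hy ha (Or.inr rfl) hc, ?_⟩
  have hPC : p ∈ cC z P := P_le_C hJ hp
  have hyp : Commute y p := C_comm_P hy hp
  have h3 : (y * p) ^ 3 = 1 := by rw [hyp.mul_pow, hy3, yp_sq hp hJ, one_mul]
  exact comm_fixed hJ hp hp1 h3 (mul_mem hy hPC) hb (Or.inl rfl) hc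

/-- The centre of `C_E(y)` is `⟨z⟩`. -/
theorem center_Q (hp : p ∈ P) (hp1 : p ≠ 1) (hy3 : y ^ 3 = 1) (hy : y ∈ cC z P) {a : G}
    (ha : a ∈ cQ z y) (hc : ∀ b ∈ cQ z y, a * b = b * a) : a = 1 ∨ a = z := by
  refine (gen_split hJ).center_iff a (mem_cQ.1 ha).1 fun x hx => ?_
  obtain ⟨a', ha', b, hb, c, hc', rfl⟩ := exists_decomp hJ hp hp1 hy3 hy hx
  exact ((Commute.mul_right (hc a' ha') (comm_fixed hJ hp hp1 hy3 hy ha (Or.inl rfl) hb)).mul_right
    (comm_fixed hJ hp hp1 hy3 hy ha (Or.inr rfl) hc'))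

/-- `C_E(y)` has order 32. -/
theorem card_Q (hp : p ∈ P) (hp1 : p ≠ 1) (hy3 : y ^ 3 = 1) (hy : y ∈ cC z P) {s : G}
    (hs : s ∈ cC z P) (hsy : s * y * s⁻¹ = y * p) : Nat.card ↥(cQ z y) = 32 := by
  have hsz := C_comm_z hs
  have hmap : ∀ r : G, (cQ z r).map (MulAut.conj s).toMonoidHom = cQ z (s * r * s⁻¹) := by
    intro r
    ext x
    constructor
    · rintro ⟨a, ha, rfl⟩
      obtain ⟨h1, h2⟩ := mem_cQ.1 ha
      refine mem_cQ.2 ⟨conj_mem_E hsz h1, ?_⟩
      show s * a * s⁻¹ * (s * r * s⁻¹) = s * r * s⁻¹ * (s * a * s⁻¹)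
      calc s * a * s⁻¹ * (s * r * s⁻¹) = s * (a * r) * s⁻¹ := by group
        _ = s * (r * a) * s⁻¹ := by rw [h2]
        _ = _ := by group
    · intro hx
      obtain ⟨h1, h2⟩ := mem_cQ.1 hx
      refine ⟨s⁻¹ * x * s, mem_cQ.2 ⟨by simpa using conj_mem_E (z := z) (Commute.inv_left hsz).eq h1, ?_⟩, ?_⟩
      · calc s⁻¹ * x * s * r = s⁻¹ * (x * (s * r * s⁻¹)) * s := by group
          _ = s⁻¹ * (s * r * s⁻¹ * x) * s := by rw [h2]
          _ = _ := by group
      · simp [mul_assoc]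
  have hsp : s * p * s⁻¹ = p := by rw [C_comm_P hs hp, mul_inv_cancel_right]
  have e2 : s * (y * p) * s⁻¹ = y * p * p := by
    calc s * (y * p) * s⁻¹ = (s * y * s⁻¹) * (s * p * s⁻¹) := by group
      _ = _ := by rw [hsy, hsp]
  have c1 : Nat.card ↥(cQ z (y * p)) = Nat.card ↥(cQ z y) := by
    rw [← hsy, ← hmap, Subgroup.card_map_of_injective (MulAut.conj s).injective]
  have c2 : Nat.card ↥(cQ z (y * p * p)) = Nat.card ↥(cQ z y) := by
    rw [← e2, ← hmap, Subgroup.card_map_of_injective (MulAut.conj s).injective, c1]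
  let φ : ↥(cQ z y) × ↥(cQ z (y * p)) × ↥(cQ z (y * p * p)) →* ↥(cE z) :=
    MonoidHom.mk' (fun t => ⟨(t.1 : G) * t.2.1 * t.2.2,
      mul_mem (mul_mem (mem_cQ.1 t.1.2).1 (mem_cQ.1 t.2.1.2).1) (mem_cQ.1 t.2.2.2).1⟩) fun t u => by
        obtain ⟨hab, -, -⟩ := comm_three hJ hp hp1 hy3 hy u.1.2 t.2.1.2 t.2.2.2
        obtain ⟨-, hac, -⟩ := comm_three hJ hp hp1 hy3 hy u.1.2 t.2.1.2 t.2.2.2
        obtain ⟨-, -, hbc⟩ := comm_three hJ hp hp1 hy3 hy t.1.2 u.2.1.2 t.2.2.2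
        apply Subtype.ext
        simp only [Prod.fst_mul, Prod.snd_mul, Subgroup.coe_mul]
        calc (t.1 : G) * u.1 * (t.2.1 * u.2.1) * (t.2.2 * u.2.2)
            = t.1 * ((u.1 : G) * t.2.1) * ((u.2.1 : G) * t.2.2) * u.2.2 := by group
          _ = t.1 * ((t.2.1 : G) * u.1) * ((t.2.2 : G) * u.2.1) * u.2.2 := by rw [hab, hbc]
          _ = t.1 * t.2.1 * ((u.1 : G) * t.2.2) * u.2.1 * u.2.2 := by group
          _ = t.1 * t.2.1 * ((t.2.2 : G) * u.1) * u.2.1 * u.2.2 := by rw [hac]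
          _ = _ := by group
  have hsurj : Function.Surjective φ := fun x => by
    obtain ⟨a, ha, b, hb, c, hc, e⟩ := exists_decomp hJ hp hp1 hy3 hy x.2
    exact ⟨⟨⟨a, ha⟩, ⟨b, hb⟩, ⟨c, hc⟩⟩, Subtype.ext e.symm⟩
  have hzQ : ∀ r : G, r * z = z * r → z ∈ cQ z r := fun r hr => mem_cQ.2 ⟨z_mem_E hJ, hr.symm⟩
  have hyz := C_comm_z hy
  have hpz : p * z = z * p := mem_cH.1 (P_le_H hJ hp)
  have z1 := hzQ y hyz
  have z2 := hzQ (y * p) (Commute.mul_left hyz hpz).eq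
  have z3 := hzQ (y * p * p) ((Commute.mul_left hyz hpz).mul_left hpz).eq
  have hzz := z_mul_self hJ
  have hne := z_ne hJ
  have hker : ∀ t ∈ φ.ker, ((t.1 : G) = 1 ∨ (t.1 : G) = z) ∧ ((t.2.1 : G) = 1 ∨ (t.2.1 : G) = z) ∧
      (t.2.2 : G) = ((t.1 : G) * t.2.1)⁻¹ := by
    rintro ⟨⟨a, ha⟩, ⟨b, hb⟩, ⟨c, hc⟩⟩ ht
    have e : a * b * c = 1 := congrArg Subtype.val ht
    have ec : c = (a * b)⁻¹ := eq_inv_of_mul_eq_one_right e
    refine ⟨center_Q hJ hp hp1 hy3 hy ha fun x hx => ?_, ?_, ec⟩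
    · have ea : a = c⁻¹ * b⁻¹ := by rw [ec]; group
      obtain ⟨h1, h2, -⟩ := comm_three hJ hp hp1 hy3 hy hx hb hc
      show a * x = x * a
      rw [ea]
      exact ((Commute.inv_right h2).mul_right (Commute.inv_right h1)).eq.symm
    · refine (gen_split hJ).center_iff b (mem_cQ.1 hb).1 fun x hx => ?_
      obtain ⟨x0, hx0, x1, hx1, x2, hx2, rfl⟩ := exists_decomp hJ hp hp1 hy3 hy hx
      have ha' : a = 1 ∨ a = z := center_Q hJ hp hp1 hy3 hy ha fun x hx => by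
        have ea : a = c⁻¹ * b⁻¹ := by rw [ec]; group
        obtain ⟨h1, h2, -⟩ := comm_three hJ hp hp1 hy3 hy hx hb hc
        show a * x = x * a
        rw [ea]
        exact ((Commute.inv_right h2).mul_right (Commute.inv_right h1)).eq.symm
      have hb' : Commute b x1 := by
        obtain ⟨-, -, h3⟩ := comm_three hJ hp hp1 hy3 hy ha hx1 hc
        have eb : b = a⁻¹ * c⁻¹ := by rw [ec]; group
        rw [eb]
        refine Commute.mul_left (Commute.inv_left ?_) (Commute.inv_left (Commute.symm h3))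
        rcases ha' with e | e <;> rw [e]
        · exact Commute.one_left _
        · exact ((gen_split hJ).comm_z x1 (mem_cQ.1 hx1).1).symm
      obtain ⟨k1, -, -⟩ := comm_three hJ hp hp1 hy3 hy hx0 hb hc
      obtain ⟨-, -, k2⟩ := comm_three hJ hp hp1 hy3 hy hx0 hb hx2
      exact ((Commute.symm k1).mul_right hb').mul_right k2
  have hzp : Nat.card ↥(Subgroup.zpowers z) = 2 := by rw [Nat.card_zpowers, orderOf_z hJ]
  have hker4 : Nat.card φ.ker ≤ 4 := by
    let g : ↥φ.ker → ↥(Subgroup.zpowers z) × ↥(Subgroup.zpowers z) := fun t =>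
      (⟨(t.1.1 : G), (mem_zpowers_iff hzz).2 (hker t.1 t.2).1⟩,
        ⟨(t.1.2.1 : G), (mem_zpowers_iff hzz).2 (hker t.1 t.2).2.1⟩)
    have hg : Function.Injective g := by
      intro t u htu
      have h1 : (t.1.1 : G) = u.1.1 := congrArg (fun q => (q.1 : G)) htu
      have h2 : (t.1.2.1 : G) = u.1.2.1 := congrArg (fun q => (q.2 : G)) htu
      refine Subtype.ext (Prod.ext (Subtype.ext h1) (Prod.ext (Subtype.ext h2) (Subtype.ext ?_)))
      rw [(hker t.1 t.2).2.2, (hker u.1 u.2).2.2, h1, h2]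
    have := Nat.card_le_card_of_injective g hg
    rwa [Nat.card_prod, hzp] at this
  have h := Subgroup.card_eq_card_quotient_mul_card_subgroup φ.ker
  rw [Nat.card_prod, Nat.card_prod, c1, c2,
    Nat.card_congr (QuotientGroup.quotientKerEquivOfSurjective φ hsurj).toEquiv, card_E hJ] at h
  have hdvd : Nat.card ↥(cQ z y) ∣ 2 ^ 13 := by
    have := Subgroup.card_dvd_of_le (inf_le_left : cQ z y ≤ cE z)
    rwa [card_E hJ] at this
  obtain ⟨m, -, hm⟩ := (Nat.dvd_prime_pow Nat.prime_two).1 hdvd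
  rw [hm] at h ⊢
  have hk := Nat.card_pos (α := ↥φ.ker)
  rw [← pow_add, ← pow_add] at h
  have hlo : 13 ≤ m + (m + m) := (Nat.pow_le_pow_iff_right (Nat.le_refl 2)).1 (by rw [h]; exact Nat.le_mul_of_pos_right _ hk)
  have hhi : m + (m + m) ≤ 15 := (Nat.pow_le_pow_iff_right (Nat.le_refl 2)).1 (by
    rw [h]; exact (Nat.mul_le_mul_left _ hker4).trans (by norm_num))
  have : m = 5 := by omega
  rw [this]; norm_num

end Split


end CfsgLib.J4Local
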