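/-
Janko-four type: coordinates on Q = C_E(y) attached to an involution of C_H(P) commuting with y and
acting non-trivially on Q.
-/
import Cfsg.Agent.J4Local.Esplit

set_option autoImplicit false
set_option linter.style.haveILetI false

namespace CfsgLib.J4Local

open Subgroup
open CfsgLib.Extra2 CfsgLib.LargeExtra

/-- Coordinate vectors. -/
abbrev Vec4 := ZMod 2 × ZMod 2 × ZMod 2 × ZMod 2

/-- The commutator form. -/
def bil (u v : Vec4) : ZMod 2 :=
  u.1 * v.2.2.2 + u.2.2.2 * v.1 + u.2.1 * v.2.2.1 + u.2.2.1 * v.2.1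

/-- The squaring form. -/
def qf (u : Vec4) : ZMod 2 := u.1 * u.2.2.2 + u.2.1 * u.2.2.1

variable {G : Type*} [Group G]

/-- A power with exponent modulo two. -/
def zp (g : G) (k : ZMod 2) : G := if k = 0 then 1 else g

theorem zp_zero (g : G) : zp g 0 = 1 := if_pos rfl

theorem zp_one (g : G) : zp g 1 = g := if_neg (by decide)

theorem zmod_cases : ∀ k : ZMod 2, k = 0 ∨ k = 1 := by decide

theorem zp_mul_self {g : G} (hg : g * g = 1) (j k : ZMod 2) : zp g j * zp g k = zp g (j + k) := by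
  rcases zmod_cases j with rfl | rfl <;> rcases zmod_cases k with rfl | rfl <;>
    simp [zp_zero, zp_one, hg, show (1 + 1 : ZMod 2) = 0 from by decide]

theorem zp_comm {g h : G} (hgh : g * h = h * g) (j : ZMod 2) : zp g j * h = h * zp g j := by
  rcases zmod_cases j with rfl | rfl <;> simp [zp_zero, zp_one, hgh]

theorem zp_swap {g h c : G} (hgh : g * h = h * g * c) (j k : ZMod 2) :
    zp g j * zp h k = zp h k * zp g j * zp c (j * k) := by
  rcases zmod_cases j with rfl | rfl <;> rcases zmod_cases k with rfl | rfl <;>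
    simp [zp_zero, zp_one, hgh]

/-- The element with given coordinates. -/
def elt (p e t : G) (u : Vec4) : G :=
  zp e u.1 * zp (p * e * p⁻¹) u.2.1 * zp t u.2.2.1 * zp (p * t * p⁻¹) u.2.2.2

/-- Coordinates on `C_E(y)`: two commuting involutions `e`, `t` and their conjugates under `p`. -/
structure Coord (z p y c e t : G) : Prop where
  e_mem : e ∈ cQ z y
  t_mem : t ∈ cQ z y
  pe_mem : p * e * p⁻¹ ∈ cQ z y
  pt_mem : p * t * p⁻¹ ∈ cQ z y
  e_sq : e * e = 1
  t_sq : t * t = 1
  e_pe : e * (p * e * p⁻¹) = (p * e * p⁻¹) * e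
  e_t : e * t = t * e
  pe_pt : (p * e * p⁻¹) * (p * t * p⁻¹) = (p * t * p⁻¹) * (p * e * p⁻¹)
  t_pt : t * (p * t * p⁻¹) = (p * t * p⁻¹) * t
  pt_e : (p * t * p⁻¹) * e = e * (p * t * p⁻¹) * z
  t_pe : t * (p * e * p⁻¹) = (p * e * p⁻¹) * t * z
  ppe : p * (p * e * p⁻¹) * p⁻¹ = e * (p * e * p⁻¹) ∨ p * (p * e * p⁻¹) * p⁻¹ = e * (p * e * p⁻¹) * z
  ppt : p * (p * t * p⁻¹) * p⁻¹ = t * (p * t * p⁻¹) ∨ p * (p * t * p⁻¹) * p⁻¹ = t * (p * t * p⁻¹) * z
  c_e : c * e * c⁻¹ = e
  c_pe : c * (p * e * p⁻¹) * c⁻¹ = p * e * p⁻¹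
  c_t : c * t * c⁻¹ = t * e
  c_pt : c * (p * t * p⁻¹) * c⁻¹ = (p * t * p⁻¹) * (p * e * p⁻¹)

section Exists

variable [Finite G] {z : G} {P : Subgroup G} (hJ : Cfsg.IsOfJankoFourTypeWith z P) {p y : G}

include hJ

/-- An element commuting with `p` cannot shift an element of `E` by `z`. -/
theorem exact_fix (hp : p ∈ P) (hp1 : p ≠ 1) {c x : G} (hcp : c * p = p * c) (hcz : c * z = z * c)
    (hx : x ∈ cE z) (h : c * x * c⁻¹ = x ∨ c * x * c⁻¹ = x * z) : c * x * c⁻¹ = x := by
  rcases h with h | h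
  · exact h
  · exfalso
    have hp3 : p ^ 3 = 1 := yp_sq hp hJ
    have hpz : p * z = z * p := mem_cH.1 (P_le_H hJ hp)
    have hN := fixed_P hJ hp hp1 (norm_fixed hJ hp3 hpz hx)
    set x1 := p * x * p⁻¹ with hx1
    set x2 := p * x1 * p⁻¹ with hx2
    have hcz' : c * z * c⁻¹ = z := by rw [hcz, mul_inv_cancel_right]
    have hpz' : p * z * p⁻¹ = z := by rw [hpz, mul_inv_cancel_right]
    have hconj : ∀ g : G, c * (p * g * p⁻¹) * c⁻¹ = p * (c * g * c⁻¹) * p⁻¹ := fun g => by
      calc c * (p * g * p⁻¹) * c⁻¹ = (c * p) * g * (c * p)⁻¹ := by group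
        _ = (p * c) * g * (p * c)⁻¹ := by rw [hcp]
        _ = _ := by group
    have h1 : c * x1 * c⁻¹ = x1 * z := by
      rw [hx1, hconj, h]
      calc p * (x * z) * p⁻¹ = (p * x * p⁻¹) * (p * z * p⁻¹) := by group
        _ = _ := by rw [hpz']
    have h2 : c * x2 * c⁻¹ = x2 * z := by
      rw [hx2, hconj, h1]
      calc p * (x1 * z) * p⁻¹ = (p * x1 * p⁻¹) * (p * z * p⁻¹) := by group
        _ = _ := by rw [hpz']
    have hxE1 : x1 ∈ cE z := conj_mem_E hpz hx
    have hxE2 : x2 ∈ cE z := conj_mem_E hpz hxE1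
    have key : c * (x * x1 * x2) * c⁻¹ = x * x1 * x2 * z := by
      calc c * (x * x1 * x2) * c⁻¹ = (c * x * c⁻¹) * (c * x1 * c⁻¹) * (c * x2 * c⁻¹) := by group
        _ = x * z * (x1 * z) * (x2 * z) := by rw [h, h1, h2]
        _ = x * (z * x1) * (z * x2) * z := by group
        _ = x * (x1 * z) * (z * x2) * z := by rw [((gen_split hJ).comm_z x1 hxE1).eq]
        _ = x * x1 * (z * z) * x2 * z := by group
        _ = _ := by rw [z_mul_self hJ, mul_one]
    have hfix : c * (x * x1 * x2) * c⁻¹ = x * x1 * x2 := by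
      rcases hN with e | e <;> rw [e]
      · simp
      · exact hcz'
    exact z_ne hJ (left_eq_mul.1 (hfix.symm.trans key))

/-- Coordinates attached to an involution `c` of `C_H(P)` moving an element of `C_E(y)` modulo `z`. -/
theorem exists_coord (hp : p ∈ P) (hp1 : p ≠ 1) (hy3 : y ^ 3 = 1) (hy : y ∈ cC z P)
    (hQ : Nat.card ↥(cQ z y) = 32) {c q₀ : G} (hc : c ∈ cC z P) (hcy : c * y = y * c)
    (hc2 : c * c = 1) (hq : q₀ ∈ cQ z y) (hq1 : c * q₀ * c⁻¹ ≠ q₀) :
    ∃ e t : G, Coord z p y c e t := by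
  have hcz := C_comm_z hc
  have hcp : c * p = p * c := C_comm_P hc hp
  have hci : c⁻¹ = c := inv_eq_of_mul_eq_one_right hc2
  have hpz : p * z = z * p := mem_cH.1 (P_le_H hJ hp)
  have hpy : p * y = y * p := (C_comm_P hy hp).symm
  have hzz := z_mul_self hJ
  have hE := gen_split hJ
  have hp3 : p ^ 3 = 1 := yp_sq hp hJ
  have hQconj : ∀ g : G, g * z = z * g → g * y = y * g → ∀ x ∈ cQ z y, g * x * g⁻¹ ∈ cQ z y := by
    intro g hgz hgy x hx
    obtain ⟨h1, h2⟩ := mem_cQ.1 hx
    refine mem_cQ.2 ⟨conj_mem_E hgz h1, ?_⟩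
    exact (Commute.mul_left (Commute.mul_left hgy h2) (Commute.inv_left hgy)).eq
  have hQc := hQconj c hcz hcy
  have hQp := hQconj p hpz hpy
  have hnm : ¬ (c * q₀ * c⁻¹ = q₀ ∨ c * q₀ * c⁻¹ = q₀ * z) := fun h =>
    hq1 (exact_fix hJ hp hp1 hcp hcz (mem_cQ.1 hq).1 h)
  -- the fixed element `e`
  set e := c * q₀ * c⁻¹ * q₀⁻¹ with he
  have heQ : e ∈ cQ z y := mul_mem (hQc _ hq) (inv_mem hq)
  have hce0 : c * e * c⁻¹ = e⁻¹ := by
    simp only [e, mul_inv_rev, inv_inv, hci]
    calc c * (c * q₀ * c * q₀⁻¹) * c = (c * c) * q₀ * c * q₀⁻¹ * c := by group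
      _ = _ := by rw [hc2]; group
  have hce : c * e * c⁻¹ = e := by
    refine exact_fix hJ hp hp1 hcp hcz (mem_cQ.1 heQ).1 ?_
    rw [hce0]
    rcases hE.square e (mem_cQ.1 heQ).1 with h | h
    · exact Or.inl (inv_eq_of_mul_eq_one_right h)
    · refine Or.inr (inv_eq_of_mul_eq_one_right ?_)
      rw [← mul_assoc, h, hzz]
  have hee : e * e = 1 := by
    have h := hce0.symm.trans hce
    calc e * e = e⁻¹ * e := by rw [h]
      _ = 1 := inv_mul_cancel e
  have he1 : e ≠ 1 := fun h => hnm (Or.inl (mul_inv_eq_one.1 h))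
  have hez : e ≠ z := fun h => hnm (Or.inr (by
    rw [mul_inv_eq_iff_eq_mul.1 h, (hE.comm_z q₀ (mem_cQ.1 hq).1).eq]))
  have hcq : c * q₀ * c⁻¹ = e * q₀ := by simp [e]
  have heq : e * q₀ = q₀ * e := by
    have h1 : c * (q₀ * q₀) * c⁻¹ = q₀ * q₀ := by
      rcases hE.square q₀ (mem_cQ.1 hq).1 with h | h <;> rw [h]
      · simp
      · rw [hcz, mul_inv_cancel_right]
    have h2 : e * q₀ * (e * q₀) = q₀ * q₀ := by
      rw [← h1, ← hcq]; group
    have h3 : e * q₀ * e = q₀ := mul_right_cancel (b := q₀) (by rw [← h2]; group)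
    calc e * q₀ = e * q₀ * (e * e) := by rw [hee, mul_one]
      _ = (e * q₀ * e) * e := by group
      _ = q₀ * e := by rw [h3]
  have hconj : ∀ g : G, c * (p * g * p⁻¹) * c⁻¹ = p * (c * g * c⁻¹) * p⁻¹ := fun g => by
    calc c * (p * g * p⁻¹) * c⁻¹ = (c * p) * g * (c * p)⁻¹ := by group
      _ = (p * c) * g * (p * c)⁻¹ := by rw [hcp]
      _ = _ := by group
  have hcpe : c * (p * e * p⁻¹) * c⁻¹ = p * e * p⁻¹ := by rw [hconj, hce]
  have hpeQ : p * e * p⁻¹ ∈ cQ z y := hQp _ heQ
  -- a product of three conjugates under `p` is `1` or `z`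
  have hnorm : ∀ x ∈ cQ z y, x * x = 1 → x * (p * x * p⁻¹) = (p * x * p⁻¹) * x ∧
      (p * (p * x * p⁻¹) * p⁻¹ = x * (p * x * p⁻¹) ∨
        p * (p * x * p⁻¹) * p⁻¹ = x * (p * x * p⁻¹) * z) := by
    intro x hx hxx
    set x1 := p * x * p⁻¹
    set x2 := p * x1 * p⁻¹
    have hx1 : x1 ∈ cQ z y := hQp _ hx
    have hx2 : x2 ∈ cQ z y := hQp _ hx1
    have hxx1 : x1 * x1 = 1 := by
      calc x1 * x1 = p * (x * x) * p⁻¹ := by simp only [x1]; group
        _ = 1 := by rw [hxx]; group
    have hxx2 : x2 * x2 = 1 := by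
      calc x2 * x2 = p * (x1 * x1) * p⁻¹ := by simp only [x2]; group
        _ = 1 := by rw [hxx1]; group
    have hN := fixed_P hJ hp hp1 (norm_fixed hJ hp3 hpz (mem_cQ.1 hx).1)
    have hx2z : x2 * z = z * x2 := (hE.comm_z x2 (mem_cQ.1 hx2).1).eq
    obtain ⟨k, hk, hk2, hprod⟩ : ∃ k : G, (k = 1 ∨ k = z) ∧ k * x2 = x2 * k ∧ x * x1 * x2 = k := by
      rcases hN with h | h
      · exact ⟨1, Or.inl rfl, by simp, h⟩
      · exact ⟨z, Or.inr rfl, hx2z.symm, h⟩
    have e12 : x * x1 = k * x2 := by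
      rw [← hprod, mul_assoc, hxx2, mul_one]
    have hkk : k * k = 1 := by rcases hk with rfl | rfl <;> simp [hzz]
    refine ⟨?_, ?_⟩
    · have hsq : (x * x1) * (x * x1) = 1 := by
        rw [e12]
        calc k * x2 * (k * x2) = k * (x2 * k) * x2 := by group
          _ = (k * k) * (x2 * x2) := by rw [← hk2]; group
          _ = 1 := by rw [hkk, hxx2, mul_one]
      have h := inv_eq_of_mul_eq_one_right hsq
      rw [mul_inv_rev, inv_eq_of_mul_eq_one_right hxx, inv_eq_of_mul_eq_one_right hxx1] at h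
      exact h.symm
    · rcases hk with rfl | rfl
      · rw [one_mul] at e12
        exact Or.inl e12.symm
      · refine Or.inr ?_
        rw [e12, ← hx2z, mul_assoc, hzz, mul_one]
  obtain ⟨hepe, hppe⟩ := hnorm e heQ hee
  set pe := p * e * p⁻¹ with hpe
  have hpe_sq : pe * pe = 1 := by
    calc pe * pe = p * (e * e) * p⁻¹ := by rw [hpe]; group
      _ = 1 := by rw [hee]; group
  -- `pe` does not commute with `q₀`
  have hpeq : pe * q₀ ≠ q₀ * pe := by
    intro hcomm
    let R : Subgroup G := cQ z y ⊓ Subgroup.centralizer ({e} : Set G)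
    have hzR : z ∈ R := ⟨mem_cQ.2 ⟨z_mem_E hJ, (C_comm_z hy).symm⟩,
      Subgroup.mem_centralizer_singleton_iff.2 (hE.comm_z e (mem_cQ.1 heQ).1).eq.symm⟩
    have hqR : q₀ ∈ R := ⟨hq, Subgroup.mem_centralizer_singleton_iff.2 heq.symm⟩
    have hpqR : p * q₀ * p⁻¹ ∈ R := by
      refine ⟨hQp _ hq, Subgroup.mem_centralizer_singleton_iff.2 ?_⟩
      -- `p q₀` commutes with `e` as `q₀` commutes with `e` and `pe`
      have hz2 : p⁻¹ * e * p = p * pe * p⁻¹ := by
        have hpi : p⁻¹ = p * p := inv_eq_of_mul_eq_one_right (by rw [← mul_assoc, ← pow_three', hp3])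
        rw [hpe, hpi]
        have hp4 : p = p * p * (p * p) := by
          calc p = p ^ 3 * p := by rw [hp3, one_mul]
            _ = _ := by simp [pow_succ, mul_assoc]
        calc p * p * e * p = p * p * e * (p * p * (p * p)) := by rw [← hp4]
          _ = _ := by group
      have hA : q₀ * (p⁻¹ * e * p) = p⁻¹ * e * p * q₀ := by
        rw [hz2]
        have hb : Commute q₀ (e * pe) := Commute.mul_right heq.symm hcomm.symm
        rcases hppe with h | h <;> rw [h]
        · exact hb.eq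
        · exact (hb.mul_right (hE.comm_z q₀ (mem_cQ.1 hq).1)).eq
      calc p * q₀ * p⁻¹ * e = p * (q₀ * (p⁻¹ * e * p)) * p⁻¹ := by group
        _ = p * (p⁻¹ * e * p * q₀) * p⁻¹ := by rw [hA]
        _ = _ := by group
    have hpeR : pe ∈ R := ⟨hpeQ, Subgroup.mem_centralizer_singleton_iff.2 hepe.symm⟩
    have heR : e ∈ R := ⟨heQ, Subgroup.mem_centralizer_singleton_iff.2 rfl⟩
    -- the fixed points of `c`
    let F : Subgroup G := R ⊓ Subgroup.centralizer ({c} : Set G)
    have cfix : ∀ {g : G}, c * g * c⁻¹ = g → g ∈ Subgroup.centralizer ({c} : Set G) := fun h =>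
      Subgroup.mem_centralizer_singleton_iff.2 (mul_inv_eq_iff_eq_mul.1 h).symm
    have hzF : z ∈ F := ⟨hzR, cfix (by rw [hcz, mul_inv_cancel_right])⟩
    have heF : e ∈ F := ⟨heR, cfix hce⟩
    have hpeF : pe ∈ F := ⟨hpeR, cfix hcpe⟩
    have hRQ : Nat.card ↥R ≠ 32 := by
      intro h32
      refine (center_Q hJ hp hp1 hy3 hy heQ fun b hb => ?_).elim he1 hez
      have : b ∈ R := by
        rw [show R = cQ z y from CfsgLib.Solvable.eq_of_le_of_card_le (inf_le_left : R ≤ cQ z y)
          (by rw [h32, hQ])]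
        exact hb
      exact (Subgroup.mem_centralizer_singleton_iff.1 this.2).symm
    have hRd : Nat.card ↥R ∣ 32 := hQ ▸ Subgroup.card_dvd_of_le inf_le_left
    have hFd : Nat.card ↥F ∣ Nat.card ↥R := Subgroup.card_dvd_of_le inf_le_left
    -- `F` contains the eight elements of `⟨z, e, pe⟩`
    have hF8 : 8 ≤ Nat.card ↥F := by
      let g : Bool × Bool × Bool → ↥F := fun i =>
        ⟨(if i.1 then z else 1) * (if i.2.1 then e else 1) * (if i.2.2 then pe else 1),
          mul_mem (mul_mem (by split_ifs <;> first | exact hzF | exact one_mem _)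
            (by split_ifs <;> first | exact heF | exact one_mem _))
            (by split_ifs <;> first | exact hpeF | exact one_mem _)⟩
      have hpe_ne : ∀ k : G, (k = 1 ∨ k = z ∨ k = e ∨ k = z * e) → pe ≠ k := by
        intro k hk h
        have hpk : ∀ w : G, (w = 1 ∨ w = z) → p * w * p⁻¹ = w := by
          rintro w (rfl | rfl)
          · simp
          · rw [hpz, mul_inv_cancel_right]
        have hfix1 : pe = e ∨ pe = z * e := by
          rcases hk with rfl | rfl | rfl | rfl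
          · exact absurd (by
              have h1 : p * e * p⁻¹ = p * 1 * p⁻¹ := by rw [← hpe, h]; group
              exact mul_left_cancel (mul_right_cancel h1)) he1
          · exact absurd (by
              have h1 : p * e * p⁻¹ = p * k * p⁻¹ := by rw [← hpe, h, hpk k (Or.inr rfl)]
              exact mul_left_cancel (mul_right_cancel h1)) hez
          · exact Or.inl h
          · exact Or.inr h
        refine (fixed_P hJ hp hp1 (mem_cQ.2 ⟨(mem_cQ.1 heQ).1, ?_⟩)).elim he1 hez
        refine comm_of_shift hzz (z_ne hJ) hp3 hpz ?_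
        rcases hfix1 with h | h
        · exact Or.inl h
        · exact Or.inr (by rw [← hpe, h, (hE.comm_z e (mem_cQ.1 heQ).1).eq])
      have hg : Function.Injective g := by
        have h4 : ∀ a b a' b' : Bool, (if a then z else 1) * (if b then e else (1 : G)) =
            (if a' then z else 1) * (if b' then e else 1) → a = a' ∧ b = b' := by
          have hzne := z_ne hJ
          have n1 : z * e ≠ 1 := fun h => hez (by
            have := inv_eq_of_mul_eq_one_right h
            rw [inv_eq_of_mul_eq_one_right hzz] at this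
            exact this.symm)
          intro a b a' b'
          cases a <;> cases b <;> cases a' <;> cases b' <;>
            simp [he1, hez, hzne, n1, he1.symm, hez.symm, hzne.symm, n1.symm]
        have hin : ∀ a b a' b' : Bool, ((if a then z else 1) * (if b then e else (1 : G)))⁻¹ *
            ((if a' then z else 1) * (if b' then e else 1)) ≠ pe := by
          have hzi := inv_eq_of_mul_eq_one_right hzz
          have hei := inv_eq_of_mul_eq_one_right hee
          have hzec := (hE.comm_z e (mem_cQ.1 heQ).1).eq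
          have hzzx : ∀ w : G, z * (z * w) = w := fun w => by rw [← mul_assoc, hzz, one_mul]
          intro a b a' b' h
          have hmem : pe = 1 ∨ pe = z ∨ pe = e ∨ pe = z * e := by
            rw [← h]
            cases a <;> cases b <;> cases a' <;> cases b' <;>
              simp [hzi, hei, hzz, hee, ← mul_assoc, hzec] <;>
              simp [mul_assoc, hzz, hee, hzec, hzzx]
          exact hpe_ne _ hmem rfl
        rintro ⟨a, b, d⟩ ⟨a', b', d'⟩ h
        have h0 : (if a then z else 1) * (if b then e else (1 : G)) * (if d then pe else 1) =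
            (if a' then z else 1) * (if b' then e else 1) * (if d' then pe else 1) :=
          congrArg Subtype.val h
        cases d <;> cases d'
        · simp only [Bool.false_eq_true, if_false, mul_one] at h0
          obtain ⟨rfl, rfl⟩ := h4 _ _ _ _ h0
          rfl
        · exfalso
          simp only [Bool.false_eq_true, if_false, if_true, mul_one] at h0
          exact hin a' b' a b (by rw [h0]; group)
        · exfalso
          simp only [Bool.false_eq_true, if_false, if_true, mul_one] at h0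
          exact hin a b a' b' (by rw [← h0]; group)
        · simp only [if_true] at h0
          obtain ⟨rfl, rfl⟩ := h4 _ _ _ _ (mul_right_cancel h0)
          rfl
      have := Nat.card_le_card_of_injective g hg
      simpa [Nat.card_eq_fintype_card] using this
    have hFR : F < R := by
      refine lt_of_le_of_ne inf_le_left fun h => ?_
      have h1 : q₀ ∈ F := h ▸ hqR
      exact hq1 (mul_inv_eq_iff_eq_mul.2 (Subgroup.mem_centralizer_singleton_iff.1 h1.2).symm)
    have hlt : Nat.card ↥F < Nat.card ↥R := by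
      refine lt_of_le_of_ne (Nat.le_of_dvd Nat.card_pos hFd) fun h => hFR.ne ?_
      exact CfsgLib.Solvable.eq_of_le_of_card_le inf_le_left h.ge
    -- so `R` has order 16 and `F` has order 8 with `q₀` and `p q₀` outside
    obtain ⟨i, -, hi⟩ := (Nat.dvd_prime_pow Nat.prime_two).1
      (show Nat.card ↥R ∣ 2 ^ 5 by simpa using hRd)
    obtain ⟨j, hj, hj'⟩ := (Nat.dvd_prime_pow Nat.prime_two).1 (show Nat.card ↥F ∣ 2 ^ i from hi ▸ hFd)
    have hi5 : i ≤ 5 := (Nat.pow_dvd_pow_iff_le_right (le_refl 2)).1 (by rw [← hi]; simpa using hRd)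
    have hj3 : 3 ≤ j := (Nat.pow_le_pow_iff_right (le_refl 2)).1 (by rw [← hj']; exact hF8)
    have hji : j < i := (Nat.pow_lt_pow_iff_right (le_refl 2)).1 (by rw [← hi, ← hj']; exact hlt)
    have hi' : i = 4 := by
      have : i ≠ 5 := fun h => hRQ (by rw [hi, h]; norm_num)
      omega
    have hj4 : j = 3 := by omega
    have hidx : (F.subgroupOf R).index = 2 := by
      have h := (F.subgroupOf R).card_mul_index
      rw [Nat.card_congr (Subgroup.subgroupOfEquivOfLe inf_le_left).toEquiv, hj', hi, hj4, hi'] at h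
      norm_num at h
      omega
    have hq0F : q₀ ∉ F := fun h1 =>
      hq1 (mul_inv_eq_iff_eq_mul.2 (Subgroup.mem_centralizer_singleton_iff.1 h1.2).symm)
    have hpq0F : p * q₀ * p⁻¹ ∉ F := fun h1 => by
      have h2 := (Subgroup.mem_centralizer_singleton_iff.1 h1.2).symm
      apply hq1
      have h3 : c * (p * q₀ * p⁻¹) * c⁻¹ = p * q₀ * p⁻¹ := mul_inv_eq_iff_eq_mul.2 h2
      rw [hconj] at h3
      exact mul_left_cancel (mul_right_cancel h3)
    have hprod : q₀ * (p * q₀ * p⁻¹) ∈ F := by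
      have := (Subgroup.mul_mem_iff_of_index_two hidx (a := (⟨q₀, hqR⟩ : ↥R))
        (b := ⟨p * q₀ * p⁻¹, hpqR⟩))
      simp only [Subgroup.mem_subgroupOf, Subgroup.coe_mul] at this
      exact this.2 (by simp [hq0F, hpq0F])
    have h5 : c * (q₀ * (p * q₀ * p⁻¹)) * c⁻¹ = q₀ * (p * q₀ * p⁻¹) :=
      mul_inv_eq_iff_eq_mul.2 (Subgroup.mem_centralizer_singleton_iff.1 hprod.2).symm
    have h6 : e * q₀ * (p * (e * q₀) * p⁻¹) = q₀ * (p * q₀ * p⁻¹) := by
      calc e * q₀ * (p * (e * q₀) * p⁻¹) = (c * q₀ * c⁻¹) * (p * (c * q₀ * c⁻¹) * p⁻¹) := by rw [hcq]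
        _ = (c * q₀ * c⁻¹) * (c * (p * q₀ * p⁻¹) * c⁻¹) := by rw [hconj]
        _ = c * (q₀ * (p * q₀ * p⁻¹)) * c⁻¹ := by group
        _ = _ := h5
    have h7 : e * pe = 1 := by
      have : e * q₀ * (p * (e * q₀) * p⁻¹) = (e * pe) * (q₀ * (p * q₀ * p⁻¹)) := by
        calc e * q₀ * (p * (e * q₀) * p⁻¹) = e * (q₀ * pe) * (p * q₀ * p⁻¹) := by rw [hpe]; group
          _ = _ := by rw [← hcomm]; group
      rw [this] at h6
      exact mul_eq_right.1 h6
    have hpee : pe = e := by
      rw [← inv_eq_of_mul_eq_one_right h7, inv_eq_of_mul_eq_one_right hee]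
    refine (fixed_P hJ hp hp1 (mem_cQ.2 ⟨(mem_cQ.1 heQ).1, ?_⟩)).elim he1 hez
    exact comm_of_shift hzz (z_ne hJ) hp3 hpz (Or.inl hpee)
  have hqpe : q₀ * pe = pe * q₀ * z := by
    rcases conj_eq hE (mem_cQ.1 hq).1 (mem_cQ.1 hpeQ).1 with h | h
    · exact absurd (mul_inv_eq_iff_eq_mul.1 h).symm hpeq
    · rw [mul_inv_eq_iff_eq_mul.1 h, mul_assoc z, (hE.comm_z _ (mul_mem (mem_cQ.1 hpeQ).1 (mem_cQ.1 hq).1)).eq]
  -- the second coordinate `t`
  obtain ⟨t, htQ, htt, hte, htpe, hct⟩ : ∃ t ∈ cQ z y, t * t = 1 ∧ e * t = t * e ∧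
      t * pe = pe * t * z ∧ c * t * c⁻¹ = t * e := by
    rcases hE.square q₀ (mem_cQ.1 hq).1 with h | h
    · exact ⟨q₀, hq, h, heq, hqpe, by rw [hcq, heq]⟩
    · refine ⟨q₀ * pe, mul_mem hq hpeQ, ?_, ?_, ?_, ?_⟩
      · calc q₀ * pe * (q₀ * pe) = q₀ * pe * (q₀ * pe) := rfl
          _ = q₀ * pe * (pe * q₀ * z) := by rw [hqpe]
          _ = q₀ * (pe * pe) * q₀ * z := by group
          _ = 1 := by rw [hpe_sq, mul_one, h, hzz]
      · exact (Commute.mul_right heq hepe).eq
      · calc q₀ * pe * pe = (q₀ * pe) * pe := rfl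
          _ = pe * q₀ * z * pe := by rw [hqpe]
          _ = pe * q₀ * (z * pe) := by group
          _ = _ := by rw [← (hE.comm_z pe (mem_cQ.1 hpeQ).1).eq]; group
      · calc c * (q₀ * pe) * c⁻¹ = (c * q₀ * c⁻¹) * (c * pe * c⁻¹) := by group
          _ = e * (q₀ * pe) := by rw [hcq, hcpe]; group
          _ = _ := (Commute.mul_right heq hepe).eq
  obtain ⟨htpt, hppt⟩ := hnorm t htQ htt
  set pt := p * t * p⁻¹ with hpt
  have hpz' : p * z * p⁻¹ = z := by rw [hpz, mul_inv_cancel_right]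
  have hz_t := (hE.comm_z t (mem_cQ.1 htQ).1).eq
  -- `pt` does not commute with `e`
  have hpte : pt * e = e * pt * z := by
    have hp2e : p⁻¹ * e * p = p * pe * p⁻¹ := by
      have hpi : p⁻¹ = p * p := inv_eq_of_mul_eq_one_right (by rw [← mul_assoc, ← pow_three', hp3])
      rw [hpe, hpi]
      have hp4 : p = p * p * (p * p) := by
        calc p = p ^ 3 * p := by rw [hp3, one_mul]
          _ = _ := by simp [pow_succ, mul_assoc]
      calc p * p * e * p = p * p * e * (p * p * (p * p)) := by rw [← hp4]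
        _ = _ := by group
    have hA : t * (p⁻¹ * e * p) = p⁻¹ * e * p * t * z := by
      rw [hp2e]
      have hb : t * (e * pe) = e * pe * t * z := by
        rw [← mul_assoc, ← hte, mul_assoc, htpe]; group
      rcases hppe with h | h <;> rw [h]
      · exact hb
      · calc t * (e * pe * z) = (t * (e * pe)) * z := by group
          _ = e * pe * (t * z) * z := by rw [hb]; group
          _ = e * pe * (z * t) * z := by rw [hz_t]
          _ = _ := by group
    calc pt * e = p * (t * (p⁻¹ * e * p)) * p⁻¹ := by rw [hpt]; group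
      _ = p * (p⁻¹ * e * p * t * z) * p⁻¹ := by rw [hA]
      _ = e * pt * (p * z * p⁻¹) := by rw [hpt]; group
      _ = _ := by rw [hpz']
  refine ⟨e, t, ⟨heQ, htQ, hpeQ, hQp _ htQ, hee, htt, hepe, hte, ?_, htpt, hpte, htpe, hppe, hppt, hce,
    hcpe, hct, ?_⟩⟩
  · calc (p * e * p⁻¹) * (p * t * p⁻¹) = p * (e * t) * p⁻¹ := by group
      _ = p * (t * e) * p⁻¹ := by rw [hte]
      _ = _ := by group
  · rw [hconj, hct]; group

end Exists

end CfsgLib.J4Local
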