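/-
Janko-four type: calculus of coordinates on Q = C_E(y).
-/
import Cfsg.Agent.J4Local.Coord

set_option autoImplicit false
set_option linter.style.haveILetI false

namespace CfsgLib.J4Local

open Subgroup
open CfsgLib.Extra2 CfsgLib.LargeExtra

/-- The cocycle of the product of two coordinate elements. -/
def cocy (u v : Vec4) : ZMod 2 := u.2.2.2 * v.1 + u.2.2.1 * v.2.1

theorem bil_eq : ∀ u v : Vec4, bil u v = cocy u v + cocy v u := by decide

theorem qf_eq : ∀ u : Vec4, qf u = cocy u u := by decide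

theorem vec_add_self : ∀ u : Vec4, u + u = 0 := by decide

theorem bil_nondeg : ∀ u : Vec4, bil u (1, 0, 0, 0) = 0 → bil u (0, 1, 0, 0) = 0 →
    bil u (0, 0, 1, 0) = 0 → bil u (0, 0, 0, 1) = 0 → u = 0 := by decide

variable {G : Type*} [Group G]

/-- The coordinates of an element, zero outside `C_E(y)`. -/
noncomputable def vec (z p e t g : G) : Vec4 := by
  classical
  exact if h : ∃ u : Vec4, ∃ k : ZMod 2, g = elt p e t u * zp z k then h.choose else 0

theorem zp_cases (g : G) (k : ZMod 2) : zp g k = 1 ∨ zp g k = g := by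
  rcases zmod_cases k with rfl | rfl
  · exact Or.inl (zp_zero g)
  · exact Or.inr (zp_one g)

theorem zp_mem {S : Subgroup G} {g : G} (hg : g ∈ S) (k : ZMod 2) : zp g k ∈ S := by
  rcases zp_cases g k with e | e <;> rw [e]
  · exact one_mem _
  · exact hg

theorem zp_conj (h g : G) (k : ZMod 2) : h * zp g k * h⁻¹ = zp (h * g * h⁻¹) k := by
  rcases zmod_cases k with rfl | rfl <;> simp [zp_zero, zp_one]

variable [Finite G] {z : G} {P : Subgroup G} {p y c e t : G}
  (hJ : Cfsg.IsOfJankoFourTypeWith z P) (hC : Coord z p y c e t) (hy : y ∈ cC z P)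
  (hQ : Nat.card ↥(cQ z y) = 32)

include hJ hy in
theorem z_mem_Q : z ∈ cQ z y := mem_cQ.2 ⟨z_mem_E hJ, (C_comm_z hy).symm⟩

include hC in
theorem elt_mem (u : Vec4) : elt p e t u ∈ cQ z y :=
  mul_mem (mul_mem (mul_mem (zp_mem hC.e_mem _) (zp_mem hC.pe_mem _)) (zp_mem hC.t_mem _))
    (zp_mem hC.pt_mem _)

omit [Finite G] in
theorem elt_e : elt p e t (1, 0, 0, 0) = e := by simp [elt, zp_zero, zp_one]

omit [Finite G] in
theorem elt_pe : elt p e t (0, 1, 0, 0) = p * e * p⁻¹ := by simp [elt, zp_zero, zp_one]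

omit [Finite G] in
theorem elt_t : elt p e t (0, 0, 1, 0) = t := by simp [elt, zp_zero, zp_one]

omit [Finite G] in
theorem elt_pt : elt p e t (0, 0, 0, 1) = p * t * p⁻¹ := by simp [elt, zp_zero, zp_one]

omit [Finite G] in
theorem elt_zero : elt p e t (0 : Vec4) = 1 := by simp [elt, zp_zero]

include hJ hC in
theorem elt_mul (u v : Vec4) :
    elt p e t u * elt p e t v = elt p e t (u + v) * zp z (cocy u v) := by
  obtain ⟨a, b, k, d⟩ := u
  obtain ⟨a', b', k', d'⟩ := v
  have hE := gen_split hJ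
  set pe := p * e * p⁻¹ with hpe
  set pt := p * t * p⁻¹ with hpt
  have hpe2 : pe * pe = 1 := by
    calc pe * pe = p * (e * e) * p⁻¹ := by rw [hpe]; group
      _ = 1 := by rw [hC.e_sq]; group
  have hpt2 : pt * pt = 1 := by
    calc pt * pt = p * (t * t) * p⁻¹ := by rw [hpt]; group
      _ = 1 := by rw [hC.t_sq]; group
  have cz : ∀ x ∈ cQ z y, ∀ j : ZMod 2, zp z j * x = x * zp z j := fun x hx j =>
    zp_comm (hE.comm_z x (mem_cQ.1 hx).1).eq.symm j
  have s1 : zp pt d * zp e a' = zp e a' * zp pt d * zp z (d * a') := zp_swap hC.pt_e d a'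
  have s2 : zp t k * zp e a' = zp e a' * zp t k :=
    (zp_comm (zp_comm hC.e_t a').symm k)
  have s3 : zp pe b * zp e a' = zp e a' * zp pe b :=
    (zp_comm (zp_comm hC.e_pe a').symm b)
  have s4 : zp pt d * zp pe b' = zp pe b' * zp pt d :=
    (zp_comm (zp_comm hC.pe_pt b').symm d)
  have s5 : zp t k * zp pe b' = zp pe b' * zp t k * zp z (k * b') := zp_swap hC.t_pe k b'
  have s6 : zp pt d * zp t k' = zp t k' * zp pt d :=
    (zp_comm (zp_comm hC.t_pt k').symm d)
  have m := cz
  have me := zp_mem hC.e_mem (S := cQ z y)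
  have sw : ∀ {A B : G}, A * B = B * A → ∀ x : G, A * (B * x) = B * (A * x) := fun {A B} h x => by
    rw [← mul_assoc, h, mul_assoc]
  have sw' : ∀ {A B C : G}, A * B = B * A * C → ∀ x : G, A * (B * x) = B * (A * (C * x)) :=
    fun {A B C} h x => by rw [← mul_assoc, h, mul_assoc, mul_assoc]
  have key : zp e a * (zp pe b * (zp t k * (zp pt d * (zp e a' * (zp pe b' * (zp t k' * (zp pt d' * 1))))))) =
      zp e a * (zp e a' * (zp pe b * (zp pe b' * (zp t k * (zp t k' * (zp pt d * (zp pt d' *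
        (zp z (k * b') * (zp z (d * a') * 1))))))))) := by
    rw [sw' s1, sw s2, sw s3, sw (m _ (zp_mem hC.pe_mem b') (d * a')), sw s4, sw' s5,
      sw (m _ (zp_mem hC.t_mem k') (d * a')), sw (m _ (zp_mem hC.pt_mem d') (d * a')),
      sw s6, sw (m _ (zp_mem hC.t_mem k') (k * b')),
      sw (m _ (zp_mem hC.pt_mem d) (k * b')), sw (m _ (zp_mem hC.pt_mem d') (k * b'))]
  show zp e a * zp pe b * zp t k * zp pt d * (zp e a' * zp pe b' * zp t k' * zp pt d') =
    zp e (a + a') * zp pe (b + b') * zp t (k + k') * zp pt (d + d') * zp z (d * a' + k * b')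
  rw [← zp_mul_self hC.e_sq, ← zp_mul_self hpe2, ← zp_mul_self hC.t_sq, ← zp_mul_self hpt2,
    add_comm (d * a'), ← zp_mul_self (z_mul_self hJ)]
  simpa only [mul_assoc, mul_one] using key

include hJ hC in
theorem elt_comm (u v : Vec4) :
    elt p e t u * elt p e t v = elt p e t v * elt p e t u * zp z (bil u v) := by
  rw [elt_mul hJ hC, elt_mul hJ hC, add_comm v u, mul_assoc, zp_mul_self (z_mul_self hJ)]
  congr 2
  rw [bil_eq, add_left_comm, ← two_mul, show (2 : ZMod 2) = 0 from by decide, zero_mul, add_zero]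

include hJ hC in
theorem elt_inj {u : Vec4} (h : elt p e t u = 1 ∨ elt p e t u = z) : u = 0 := by
  have hb : ∀ v, bil u v = 0 := by
    intro v
    rcases zmod_cases (bil u v) with e0 | e1
    · exact e0
    · exfalso
      have h1 := elt_comm hJ hC u v
      rw [e1, zp_one] at h1
      have hc : elt p e t u * elt p e t v = elt p e t v * elt p e t u := by
        rcases h with h | h <;> rw [h]
        · simp
        · exact ((gen_split hJ).comm_z _ (mem_cQ.1 (elt_mem hC v)).1).eq.symm
      rw [hc] at h1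
      exact z_ne hJ (left_eq_mul.1 h1)
  exact bil_nondeg u (hb _) (hb _) (hb _) (hb _)

include hJ hC in
theorem elt_ext {u v : Vec4} {j k : ZMod 2}
    (h : elt p e t u * zp z j = elt p e t v * zp z k) : u = v ∧ j = k := by
  have hzz := z_mul_self hJ
  have huv : u = v := by
    have h2 : elt p e t (u + v) * zp z (j + cocy u v) = zp z (k + cocy v v) := by
      calc elt p e t (u + v) * zp z (j + cocy u v)
          = (elt p e t u * elt p e t v) * zp z j := by
            rw [elt_mul hJ hC, add_comm j, ← zp_mul_self hzz, mul_assoc]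
        _ = elt p e t u * zp z j * elt p e t v := by
            rw [mul_assoc, ← zp_comm ((gen_split hJ).comm_z _ (mem_cQ.1 (elt_mem hC v)).1).eq.symm, ← mul_assoc]
        _ = elt p e t v * elt p e t v * zp z k := by
            rw [h, mul_assoc, zp_comm ((gen_split hJ).comm_z _ (mem_cQ.1 (elt_mem hC v)).1).eq.symm, ← mul_assoc]
        _ = _ := by
            rw [elt_mul hJ hC, vec_add_self, elt_zero, one_mul, zp_mul_self hzz, add_comm]
    have h3 : elt p e t (u + v) = zp z (k + cocy v v + (j + cocy u v)) := by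
      rw [← zp_mul_self hzz, ← h2, mul_assoc, zp_mul_self hzz, ← two_mul,
        show (2 : ZMod 2) = 0 from by decide, zero_mul, zp_zero, mul_one]
    have h4 := elt_inj hJ hC (u := u + v) (by rw [h3]; exact zp_cases z _)
    calc u = u + (v + v) := by rw [vec_add_self, add_zero]
      _ = (u + v) + v := (add_assoc u v v).symm
      _ = v := by rw [h4, zero_add]
  refine ⟨huv, ?_⟩
  subst huv
  have h5 := mul_left_cancel h
  rcases zmod_cases j with rfl | rfl <;> rcases zmod_cases k with rfl | rfl <;>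
    simp only [zp_zero, zp_one] at h5
  · rfl
  · exact absurd h5.symm (z_ne hJ)
  · exact absurd h5 (z_ne hJ)
  · rfl

include hJ hC hy hQ in
theorem exists_elt {g : G} (hg : g ∈ cQ z y) : ∃ u : Vec4, ∃ k : ZMod 2, g = elt p e t u * zp z k := by
  let f : Vec4 × ZMod 2 → ↥(cQ z y) := fun uk =>
    ⟨elt p e t uk.1 * zp z uk.2, mul_mem (elt_mem hC _) (zp_mem (z_mem_Q hJ hy) _)⟩
  have hf : Function.Injective f := fun a b hab =>
    Prod.ext (elt_ext hJ hC (congrArg Subtype.val hab)).1 (elt_ext hJ hC (congrArg Subtype.val hab)).2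
  obtain ⟨⟨u, k⟩, he⟩ := (hf.bijective_of_nat_card_le (by
    rw [hQ]; simp [Nat.card_eq_fintype_card])).2 ⟨g, hg⟩
  exact ⟨u, k, (congrArg Subtype.val he).symm⟩

include hJ hC in
theorem vec_eq {g : G} {u : Vec4} {k : ZMod 2} (h : g = elt p e t u * zp z k) : vec z p e t g = u := by
  classical
  have hex : ∃ u : Vec4, ∃ k : ZMod 2, g = elt p e t u * zp z k := ⟨u, k, h⟩
  unfold vec
  rw [dif_pos hex]
  obtain ⟨k', hk'⟩ := hex.choose_spec
  exact (elt_ext hJ hC (hk'.symm.trans h)).1

include hJ hC hy hQ in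
theorem exists_vec {g : G} (hg : g ∈ cQ z y) :
    ∃ k : ZMod 2, g = elt p e t (vec z p e t g) * zp z k := by
  obtain ⟨u, k, h⟩ := exists_elt hJ hC hy hQ hg
  exact ⟨k, by rw [vec_eq hJ hC h]; exact h⟩

include hJ hC in
theorem vec_elt (u : Vec4) : vec z p e t (elt p e t u) = u :=
  vec_eq hJ hC (k := 0) (by rw [zp_zero, mul_one])

include hJ hC in
theorem vec_e : vec z p e t e = (1, 0, 0, 0) := by
  conv_lhs => arg 5; rw [← elt_e (p := p) (e := e) (t := t)]
  exact vec_elt hJ hC _

include hJ hC in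
theorem vec_pe : vec z p e t (p * e * p⁻¹) = (0, 1, 0, 0) := by
  rw [← elt_pe (p := p) (e := e) (t := t)]
  exact vec_elt hJ hC _

include hJ hC in
theorem vec_t : vec z p e t t = (0, 0, 1, 0) := by
  conv_lhs => arg 5; rw [← elt_t (p := p) (e := e) (t := t)]
  exact vec_elt hJ hC _

include hJ hC in
theorem vec_pt : vec z p e t (p * t * p⁻¹) = (0, 0, 0, 1) := by
  rw [← elt_pt (p := p) (e := e) (t := t)]
  exact vec_elt hJ hC _

include hJ hC in
theorem vec_one : vec z p e t 1 = 0 := vec_eq hJ hC (k := 0) (by rw [elt_zero, zp_zero, one_mul])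

include hJ hC in
theorem vec_z : vec z p e t z = 0 := vec_eq hJ hC (k := 1) (by rw [elt_zero, zp_one, one_mul])

include hJ hC hy hQ in
theorem vec_mul {a b : G} (ha : a ∈ cQ z y) (hb : b ∈ cQ z y) :
    vec z p e t (a * b) = vec z p e t a + vec z p e t b := by
  obtain ⟨j, hj⟩ := exists_vec hJ hC hy hQ ha
  obtain ⟨k, hk⟩ := exists_vec hJ hC hy hQ hb
  refine vec_eq hJ hC (k := cocy (vec z p e t a) (vec z p e t b) + (j + k)) ?_
  generalize vec z p e t a = u at hj ⊢
  generalize vec z p e t b = v at hk ⊢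
  subst hj hk
  calc elt p e t u * zp z j * (elt p e t v * zp z k)
      = elt p e t u * (zp z j * elt p e t v) * zp z k := by group
    _ = (elt p e t u * elt p e t v) * (zp z j * zp z k) := by
        rw [zp_comm ((gen_split hJ).comm_z _ (mem_cQ.1 (elt_mem hC v)).1).eq.symm]; group
    _ = elt p e t (u + v) * (zp z (cocy u v) * (zp z j * zp z k)) := by
        rw [elt_mul hJ hC, mul_assoc]
    _ = _ := by rw [zp_mul_self (z_mul_self hJ), zp_mul_self (z_mul_self hJ)]

include hJ hC hy hQ in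
theorem vec_eq_zero {a : G} (ha : a ∈ cQ z y) : vec z p e t a = 0 ↔ a = 1 ∨ a = z := by
  constructor
  · intro h
    obtain ⟨j, hj⟩ := exists_vec hJ hC hy hQ ha
    rw [h, elt_zero, one_mul] at hj
    rw [hj]
    exact zp_cases z j
  · rintro (rfl | rfl)
    · exact vec_one hJ hC
    · exact vec_z hJ hC

include hJ hC hy hQ in
theorem vec_eq_iff {a b : G} (ha : a ∈ cQ z y) (hb : b ∈ cQ z y) :
    vec z p e t a = vec z p e t b ↔ a = b ∨ a = b * z := by
  constructor
  · intro h
    obtain ⟨j, hj⟩ := exists_vec hJ hC hy hQ ha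
    obtain ⟨k, hk⟩ := exists_vec hJ hC hy hQ hb
    have : a = b * zp z (k + j) := by
      rw [hk, mul_assoc, zp_mul_self (z_mul_self hJ), ← add_assoc, ← two_mul,
        show (2 : ZMod 2) = 0 from by decide, zero_mul, zero_add, ← h]
      exact hj
    rcases zp_cases z (k + j) with e | e <;> rw [e] at this
    · exact Or.inl (by rwa [mul_one] at this)
    · exact Or.inr this
  · rintro (rfl | rfl)
    · rfl
    · rw [vec_mul hJ hC hy hQ hb (z_mem_Q hJ hy), vec_z hJ hC, add_zero]

include hJ hC hy hQ in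
theorem comm_vec {a b : G} (ha : a ∈ cQ z y) (hb : b ∈ cQ z y) :
    a * b = b * a * zp z (bil (vec z p e t a) (vec z p e t b)) := by
  obtain ⟨j, hj⟩ := exists_vec hJ hC hy hQ ha
  obtain ⟨k, hk⟩ := exists_vec hJ hC hy hQ hb
  generalize vec z p e t a = u at hj
  generalize vec z p e t b = v at hk
  subst hj hk
  have hE := gen_split hJ
  have c1 := fun w i => zp_comm (hE.comm_z _ (mem_cQ.1 (elt_mem hC w)).1).eq.symm i
  calc elt p e t u * zp z j * (elt p e t v * zp z k)
      = elt p e t u * (zp z j * elt p e t v) * zp z k := by group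
    _ = (elt p e t u * elt p e t v) * (zp z j * zp z k) := by rw [c1]; group
    _ = elt p e t v * elt p e t u * (zp z (bil u v) * (zp z j * zp z k)) := by
        rw [elt_comm hJ hC]; group
    _ = elt p e t v * elt p e t u * (zp z k * zp z j * zp z (bil u v)) := by
        rw [zp_mul_self (z_mul_self hJ), zp_mul_self (z_mul_self hJ), zp_mul_self (z_mul_self hJ), zp_mul_self (z_mul_self hJ),
          add_comm (bil u v), add_comm j]
    _ = elt p e t v * (elt p e t u * zp z k) * zp z j * zp z (bil u v) := by group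
    _ = elt p e t v * zp z k * (elt p e t u * zp z j) * zp z (bil u v) := by rw [← c1 u k]; group

include hJ hC hy hQ in
theorem commute_iff {a b : G} (ha : a ∈ cQ z y) (hb : b ∈ cQ z y) :
    a * b = b * a ↔ bil (vec z p e t a) (vec z p e t b) = 0 := by
  constructor
  · intro h
    rcases zmod_cases (bil (vec z p e t a) (vec z p e t b)) with e0 | e1
    · exact e0
    · exfalso
      have h1 := comm_vec hJ hC hy hQ ha hb
      rw [e1, zp_one, h] at h1
      exact z_ne hJ (left_eq_mul.1 h1)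
  · intro h
    rw [comm_vec hJ hC hy hQ ha hb, h, zp_zero, mul_one]

include hJ hC hy hQ in
theorem sq_vec {a : G} (ha : a ∈ cQ z y) : a * a = zp z (qf (vec z p e t a)) := by
  obtain ⟨j, hj⟩ := exists_vec hJ hC hy hQ ha
  generalize vec z p e t a = u at hj
  subst hj
  have hE := gen_split hJ
  calc elt p e t u * zp z j * (elt p e t u * zp z j)
      = elt p e t u * (zp z j * elt p e t u) * zp z j := by group
    _ = (elt p e t u * elt p e t u) * (zp z j * zp z j) := by
        rw [zp_comm (hE.comm_z _ (mem_cQ.1 (elt_mem hC u)).1).eq.symm]; group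
    _ = _ := by
        rw [elt_mul hJ hC, vec_add_self, elt_zero, one_mul, zp_mul_self (z_mul_self hJ), qf_eq, ← two_mul,
          show (2 : ZMod 2) = 0 from by decide, zero_mul, zp_zero, mul_one]

include hJ hC hy hQ in
/-- Conjugation by an element normalising `Q` is linear on coordinates. -/
theorem vec_conj {h g : G} (hz : h * z = z * h) (hy' : h * y = y * h) (hg : g ∈ cQ z y) :
    vec z p e t (h * g * h⁻¹) =
      (vec z p e t g).1 • vec z p e t (h * e * h⁻¹) +
      (vec z p e t g).2.1 • vec z p e t (h * (p * e * p⁻¹) * h⁻¹) +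
      (vec z p e t g).2.2.1 • vec z p e t (h * t * h⁻¹) +
      (vec z p e t g).2.2.2 • vec z p e t (h * (p * t * p⁻¹) * h⁻¹) := by
  have hconj : ∀ x ∈ cQ z y, h * x * h⁻¹ ∈ cQ z y := by
    intro x hx
    obtain ⟨h1, h2⟩ := mem_cQ.1 hx
    refine mem_cQ.2 ⟨conj_mem_E hz h1, ?_⟩
    exact (Commute.mul_left (Commute.mul_left hy' h2) (Commute.inv_left hy')).eq
  have hzz : h * z * h⁻¹ = z := by rw [hz, mul_inv_cancel_right]
  have hzp : ∀ (x : G) (j : ZMod 2), x ∈ cQ z y →
      vec z p e t (zp (h * x * h⁻¹) j) = j • vec z p e t (h * x * h⁻¹) := by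
    intro x j hx
    rcases zmod_cases j with rfl | rfl
    · rw [zp_zero, zero_smul, vec_one hJ hC]
    · rw [zp_one, one_smul]
  obtain ⟨k, hk⟩ := exists_vec hJ hC hy hQ hg
  generalize vec z p e t g = u at hk
  subst hk
  obtain ⟨a, b, c', d⟩ := u
  have e1 : h * (elt p e t (a, b, c', d) * zp z k) * h⁻¹ = zp (h * e * h⁻¹) a *
      zp (h * (p * e * p⁻¹) * h⁻¹) b * zp (h * t * h⁻¹) c' * zp (h * (p * t * p⁻¹) * h⁻¹) d *
        zp (h * z * h⁻¹) k := by
    rw [← zp_conj h e a, ← zp_conj h (p * e * p⁻¹) b, ← zp_conj h t c', ← zp_conj h (p * t * p⁻¹) d,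
      ← zp_conj h z k]
    simp only [elt]
    group
  rw [e1, hzz]
  have m1 := zp_mem (hconj _ hC.e_mem) a
  have m2 := zp_mem (hconj _ hC.pe_mem) b
  have m3 := zp_mem (hconj _ hC.t_mem) c'
  have m4 := zp_mem (hconj _ hC.pt_mem) d
  rw [vec_mul hJ hC hy hQ (mul_mem (mul_mem (mul_mem m1 m2) m3) m4) (zp_mem (z_mem_Q hJ hy) k),
    vec_mul hJ hC hy hQ (mul_mem (mul_mem m1 m2) m3) m4, vec_mul hJ hC hy hQ (mul_mem m1 m2) m3,
    vec_mul hJ hC hy hQ m1 m2, hzp _ _ hC.e_mem, hzp _ _ hC.pe_mem, hzp _ _ hC.t_mem, hzp _ _ hC.pt_mem]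
  have : vec z p e t (zp z k) = 0 := (vec_eq_zero hJ hC hy hQ (zp_mem (z_mem_Q hJ hy) k)).2 (zp_cases z k)
  rw [this, add_zero]

end CfsgLib.J4Local
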