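/-
Janko-four type: the configuration at an element y of order three outside P.
-/
import Cfsg.Agent.J4Local.CoordApi
import Cfsg.Agent.J4Local.CentStruct

set_option autoImplicit false

namespace CfsgLib.J4Local

open Subgroup

/-- Elements of W = C_H(y) modulo Q. -/
def cRep {G : Type*} [Group G] (p y v w u : G) (i j : ℕ) (k l m : ZMod 2) : G :=
  y ^ j * p ^ i * zp v k * zp w l * zp u m

/-- The configuration: `v` centralises `Q = C_E(y)`, `w` is a transvection on it with coordinates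
`e`, `t`, and `u` in `C_H(y)` inverts `P` modulo `Q`, fixes `e`, `t`, `v` and maps `w` to `v w`. -/
structure Conf {G : Type*} [Group G] (z : G) (P : Subgroup G) (p y s v w u e t : G) : Prop where
  hJ : Cfsg.IsOfJankoFourTypeWith z P
  p_mem : p ∈ P
  p_ne : p ≠ 1
  y_mem : y ∈ cC z P
  y_ord : orderOf y = 3
  y_not : y ∉ P
  s_mem : s ∈ cC z P
  s_y : s * y * s⁻¹ = y * p
  card_Q : Nat.card ↥(cQ z y) = 32
  v_mem : v ∈ cC z P
  w_mem : w ∈ cC z P
  v_sq : v * v = 1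
  w_sq : w * w = 1
  v_w : v * w = w * v
  v_y : v * y = y * v
  w_y : w * y = y * w
  v_not : v ∉ cK z P
  w_not : w ∉ cK z P
  vw_not : v * w ∉ cK z P
  gen : ∀ c ∈ cC z P, c * y = y * c →
    ∃ i j : ℕ, ∃ n k l : ZMod 2, c = zp z n * y ^ j * p ^ i * zp v k * zp w l
  v_Q : ∀ q ∈ cQ z y, v * q = q * v
  coord : Coord z p y w e t
  u_mem : u ∈ cW z y
  u_not : ∀ q ∈ cE z, u * q ∉ cC z P
  u_p : ∃ q ∈ cQ z y, u * p * u⁻¹ = q * p⁻¹
  u_v : u * v * u⁻¹ = v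
  u_w : u * w * u⁻¹ = v * w
  u_e : u * e * u⁻¹ = e
  u_t : u * t * u⁻¹ = t
  u_sq : ∃ q ∈ cQ z y, ∃ k l : ZMod 2, u * u = q * zp v k * zp w l
  nf : ∀ h ∈ cW z y, ∃ q ∈ cQ z y, ∃ i j : ℕ, i < 3 ∧ j < 3 ∧ ∃ k l m : ZMod 2,
    h = q * cRep p y v w u i j k l m

end CfsgLib.J4Local
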