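/-
Janko-four type: existence of the configuration at an element of order three outside P.
-/
import Cfsg.Agent.J4Local.Conf

set_option autoImplicit false
set_option linter.unusedSectionVars false

namespace CfsgLib.J4Local

open Subgroup
open CfsgLib.Extra2 CfsgLib.LargeExtra

variable {G : Type*} [Group G] {z : G} {P : Subgroup G}

/-- The element centralises `C_E(r)`. -/
def FixQ (z r k : G) : Prop := ∀ q ∈ cQ z r, k * q = q * k

theorem FixQ.mul {r k l : G} (h1 : FixQ z r k) (h2 : FixQ z r l) : FixQ z r (k * l) := fun q hq =>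
  (Commute.mul_left (h1 q hq) (h2 q hq)).eq

/-- The products in the four-group `{1, a, b, a * b}`. -/
theorem four_group {G : Type*} [Group G] {a b k k' : G} (haa : a * a = 1) (hbb : b * b = 1)
    (hab : a * b = b * a) (hk : k = a ∨ k = b ∨ k = a * b) (hk' : k' = a ∨ k' = b ∨ k' = a * b) (hne : k' ≠ k) :
    k * k' = k' * k ∧ (a = k ∨ a = k' ∨ a = k * k') ∧ (b = k ∨ b = k' ∨ b = k * k') ∧
      ∀ x, (x = a ∨ x = b ∨ x = a * b) → x ≠ k → x ≠ k' → x * k' = k := by
  have aab : a * (a * b) = b := by rw [← mul_assoc, haa, one_mul]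
  have abb : a * b * b = a := by rw [mul_assoc, hbb, mul_one]
  have baa : b * (a * b) = a := by rw [hab, ← mul_assoc, hbb, one_mul]
  have aba : a * b * a = b := by rw [hab, mul_assoc, haa, mul_one]
  rcases hk with h | h | h <;> rcases hk' with h' | h' | h'
  all_goals first
    | exact absurd (h'.trans h.symm) hne
    | (rw [h, h']
       refine ⟨?_, ?_, ?_, ?_⟩
       · first | exact hab | exact hab.symm | rw [aab, aba] | rw [baa, abb]
       · simp [aab, baa, abb, aba, hab.symm]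
       · simp [aab, baa, abb, aba, hab.symm]
       · intro x hx n1 n2
         rcases hx with e | e | e
         all_goals first
           | exact absurd e n1
           | exact absurd e n2
           | (rw [e]; done)
           | (rw [e]; first | exact aab | exact abb | exact baa | exact aba | exact hab.symm | rfl))

variable [Finite G] (hJ : Cfsg.IsOfJankoFourTypeWith z P)

include hJ

theorem fixQ_z (r : G) : FixQ z r z := fun q hq => ((gen_split hJ).comm_z q (mem_cQ.1 hq).1).eq.symm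

theorem fixQ_conj {g : G} (hg : g * z = z * g) {r k : G} (h : FixQ z r k) :
    FixQ z (g * r * g⁻¹) (g * k * g⁻¹) := by
  intro q hq
  obtain ⟨hqE, hqr⟩ := mem_cQ.1 hq
  have hgz : g⁻¹ * z = z * g⁻¹ := (Commute.inv_left hg).eq
  have h' : g⁻¹ * q * g ∈ cQ z r := by
    refine mem_cQ.2 ⟨by simpa using conj_mem_E hgz hqE, ?_⟩
    calc g⁻¹ * q * g * r = g⁻¹ * (q * (g * r * g⁻¹)) * g := by group
      _ = g⁻¹ * (g * r * g⁻¹ * q) * g := by rw [hqr]
      _ = _ := by group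
  calc g * k * g⁻¹ * q = g * (k * (g⁻¹ * q * g)) * g⁻¹ := by group
    _ = g * (g⁻¹ * q * g * k) * g⁻¹ := by rw [h _ h']
    _ = _ := by group

theorem fixQ_all {p y k : G} (hp : p ∈ P) (hp1 : p ≠ 1) (hy3 : y ^ 3 = 1) (hy : y ∈ cC z P)
    (hk : k ∈ cC z P) (h0 : FixQ z y k) (h1 : FixQ z (y * p) k) (h2 : FixQ z (y * p * p) k) : k ∈ cK z P := by
  have hE : k ∈ cE z := by
    refine centralizer_E_le hJ ⟨hk.1, mem_centralizer_iff.2 fun x hx => ?_⟩
    obtain ⟨a, ha, b, hb, c, hc, rfl⟩ := exists_decomp hJ hp hp1 hy3 hy hx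
    exact (((show Commute k a from h0 a ha).mul_right (h1 b hb)).mul_right (h2 c hc)).eq.symm
  have h : k ∈ cE z ⊓ centralizer (P : Set G) := ⟨hE, hk.2⟩
  rw [E_inf_centralizer hJ] at h
  exact le_sup_left (a := zpowers z) h

section

variable {p y c e t : G} (hp : p ∈ P) (hp1 : p ≠ 1) (hy : y ∈ cC z P) (hC : Coord z p y c e t)
  (hQ : Nat.card ↥(cQ z y) = 32)

include hy hC hQ

theorem vec_conjC (hcz : c * z = z * c) (hcy : c * y = y * c) {g : G} (hg : g ∈ cQ z y) :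
    vec z p e t (c * g * c⁻¹) = ((vec z p e t g).1 + (vec z p e t g).2.2.1,
      (vec z p e t g).2.1 + (vec z p e t g).2.2.2, (vec z p e t g).2.2.1, (vec z p e t g).2.2.2) := by
  rw [vec_conj hJ hC hy hQ hcz hcy hg, hC.c_e, hC.c_pe, hC.c_t, hC.c_pt,
    vec_mul hJ hC hy hQ hC.t_mem hC.e_mem, vec_mul hJ hC hy hQ hC.pt_mem hC.pe_mem,
    vec_e hJ hC, vec_pe hJ hC, vec_t hJ hC, vec_pt hJ hC]
  generalize vec z p e t g = u
  revert u; decide

include hp

theorem vec_conjP {g : G} (hg : g ∈ cQ z y) :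
    vec z p e t (p * g * p⁻¹) = ((vec z p e t g).2.1, (vec z p e t g).1 + (vec z p e t g).2.1,
      (vec z p e t g).2.2.2, (vec z p e t g).2.2.1 + (vec z p e t g).2.2.2) := by
  have hpz : p * z = z * p := mem_cH.1 (P_le_H hJ hp)
  have hpy : p * y = y * p := (C_comm_P hy hp).symm
  have hzQ := z_mem_Q hJ hy
  have e1 : vec z p e t (p * (p * e * p⁻¹) * p⁻¹) = (1, 1, 0, 0) := by
    rcases hC.ppe with h | h <;> rw [h]
    · rw [vec_mul hJ hC hy hQ hC.e_mem hC.pe_mem, vec_e hJ hC, vec_pe hJ hC]; rfl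
    · rw [vec_mul hJ hC hy hQ (mul_mem hC.e_mem hC.pe_mem) hzQ,
        vec_mul hJ hC hy hQ hC.e_mem hC.pe_mem, vec_e hJ hC, vec_pe hJ hC, vec_z hJ hC]; rfl
  have e2 : vec z p e t (p * (p * t * p⁻¹) * p⁻¹) = (0, 0, 1, 1) := by
    rcases hC.ppt with h | h <;> rw [h]
    · rw [vec_mul hJ hC hy hQ hC.t_mem hC.pt_mem, vec_t hJ hC, vec_pt hJ hC]; rfl
    · rw [vec_mul hJ hC hy hQ (mul_mem hC.t_mem hC.pt_mem) hzQ,
        vec_mul hJ hC hy hQ hC.t_mem hC.pt_mem, vec_t hJ hC, vec_pt hJ hC, vec_z hJ hC]; rfl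
  rw [vec_conj hJ hC hy hQ hpz hpy hg, e1, e2, vec_pe hJ hC, vec_pt hJ hC]
  generalize vec z p e t g = u
  revert u; decide

include hp1

/-- An element fixing `e` and `t` centralises `C_E(y)`. -/
theorem fixQ_of_basis {d : G} (hd : d ∈ cC z P) (he : d * e * d⁻¹ = e) (ht : d * t * d⁻¹ = t) :
    FixQ z y d := by
  have hdp : Commute d p := C_comm_P hd hp
  have ce : Commute d e := mul_inv_eq_iff_eq_mul.1 he
  have ct : Commute d t := mul_inv_eq_iff_eq_mul.1 ht
  have cpe : Commute d (p * e * p⁻¹) := (hdp.mul_right ce).mul_right hdp.inv_right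
  have cpt : Commute d (p * t * p⁻¹) := (hdp.mul_right ct).mul_right hdp.inv_right
  have czp : ∀ {g : G} (k : ZMod 2), Commute d g → Commute d (zp g k) := fun {g} k h => by
    rcases zp_cases g k with e | e <;> rw [e]
    exacts [Commute.one_right _, h]
  intro q hq
  obtain ⟨u, k, rfl⟩ := exists_elt hJ hC hy hQ hq
  exact (((((czp u.1 ce).mul_right (czp u.2.1 cpe)).mul_right (czp u.2.2.1 ct)).mul_right
    (czp u.2.2.2 cpt)).mul_right (czp k (C_comm_z hd))).eq

theorem exact_of_vec {d x x' : G} (hdp : d * p = p * d) (hdz : d * z = z * d) (hdy : d * y = y * d)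
    (hx : x ∈ cQ z y) (hx' : x' = x) (h : vec z p e t (d * x * d⁻¹) = vec z p e t x) : d * x * d⁻¹ = x' := by
  subst hx'
  refine exact_fix hJ hp hp1 hdp hdz (mem_cQ.1 hx).1 ((vec_eq_iff hJ hC hy hQ ?_ hx).1 h)
  obtain ⟨h1, h2⟩ := mem_cQ.1 hx
  exact mem_cQ.2 ⟨conj_mem_E hdz h1, (Commute.mul_left (Commute.mul_left hdy h2) (Commute.inv_left hdy)).eq⟩

/-- An involution commuting with `c` centralises `C_E(y)`, or its product with `c` does. -/
theorem fixQ_or {d : G} (hcC : c ∈ cC z P) (hcy : c * y = y * c) (hc2 : c * c = 1) (hd : d ∈ cC z P)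
    (hdy : d * y = y * d) (hd2 : d * d = 1) (hdc : d * c = c * d) : FixQ z y d ∨ FixQ z y (d * c) := by
  have hdz := C_comm_z hd
  have hdp : d * p = p * d := C_comm_P hd hp
  have hcz := C_comm_z hcC
  have hdd : ∀ x : G, d * (d * x * d⁻¹) * d⁻¹ = x := fun x => by
    rw [show d * (d * x * d⁻¹) * d⁻¹ = d * d * x * (d * d)⁻¹ by group, hd2]; simp
  have hdQ : ∀ x ∈ cQ z y, d * x * d⁻¹ ∈ cQ z y := fun x hx => by
    obtain ⟨h1, h2⟩ := mem_cQ.1 hx
    exact mem_cQ.2 ⟨conj_mem_E hdz h1, (Commute.mul_left (Commute.mul_left hdy h2) (Commute.inv_left hdy)).eq⟩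
  have hswap : ∀ x : G, c * (d * x * d⁻¹) * c⁻¹ = d * (c * x * c⁻¹) * d⁻¹ := fun x => by
    rw [show c * (d * x * d⁻¹) * c⁻¹ = c * d * x * (c * d)⁻¹ by group, ← hdc]; group
  have hPswap : ∀ x : G, d * (p * x * p⁻¹) * d⁻¹ = p * (d * x * d⁻¹) * p⁻¹ := fun x => by
    rw [show d * (p * x * p⁻¹) * d⁻¹ = d * p * x * (d * p)⁻¹ by group, hdp]; group
  set X := vec z p e t (d * e * d⁻¹) with hX
  set Y := vec z p e t (d * t * d⁻¹) with hY
  have hXfix : (X.1 + X.2.2.1, X.2.1 + X.2.2.2, X.2.2.1, X.2.2.2) = X := by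
    have h := vec_conjC hJ hy hC hQ hcz hcy (hdQ e hC.e_mem)
    rw [hswap, hC.c_e] at h
    exact h.symm
  have hYfix : (Y.1 + Y.2.2.1, Y.2.1 + Y.2.2.2, Y.2.2.1, Y.2.2.2) = Y + X := by
    have h := vec_conjC hJ hy hC hQ hcz hcy (hdQ t hC.t_mem)
    rw [hswap, hC.c_t] at h
    rw [← h, show d * (t * e) * d⁻¹ = (d * t * d⁻¹) * (d * e * d⁻¹) by group,
      vec_mul hJ hC hy hQ (hdQ t hC.t_mem) (hdQ e hC.e_mem)]
  have hX2 : (1, 0, 0, 0) = X.1 • X + X.2.1 • (X.2.1, X.1 + X.2.1, X.2.2.2, X.2.2.1 + X.2.2.2) +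
      X.2.2.1 • Y + X.2.2.2 • (Y.2.1, Y.1 + Y.2.1, Y.2.2.2, Y.2.2.1 + Y.2.2.2) := by
    have h := vec_conj hJ hC hy hQ hdz hdy (hdQ e hC.e_mem)
    rwa [hdd, vec_e hJ hC, hPswap, hPswap, vec_conjP hJ hp hy hC hQ (hdQ e hC.e_mem),
      vec_conjP hJ hp hy hC hQ (hdQ t hC.t_mem)] at h
  have hYb : bil Y (Y.2.1, Y.1 + Y.2.1, Y.2.2.2, Y.2.2.1 + Y.2.2.2) = 0 := by
    rw [← vec_conjP hJ hp hy hC hQ (hdQ t hC.t_mem), ← commute_iff hJ hC hy hQ (hdQ t hC.t_mem)
      (by rw [← hPswap]; exact hdQ _ hC.pt_mem), ← hPswap]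
    calc d * t * d⁻¹ * (d * (p * t * p⁻¹) * d⁻¹) = d * (t * (p * t * p⁻¹)) * d⁻¹ := by group
      _ = _ := by rw [hC.t_pt]; group
  have key1 : ∀ X : Vec4, (X.1 + X.2.2.1, X.2.1 + X.2.2.2, X.2.2.1, X.2.2.2) = X →
      X.2.2.1 = 0 ∧ X.2.2.2 = 0 := by decide
  obtain ⟨hX3, hX4⟩ := key1 X hXfix
  have key2 : ∀ X : Vec4, X.2.2.1 = 0 → X.2.2.2 = 0 →
      ((1, 0, 0, 0) : Vec4) = X.1 • X + X.2.1 • (X.2.1, X.1 + X.2.1, X.2.2.2, X.2.2.1 + X.2.2.2) →
      X = (1, 0, 0, 0) := by decide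
  have hXe : X = (1, 0, 0, 0) := key2 X hX3 hX4 (by
    have h := hX2
    rw [hX3, hX4, zero_smul, zero_smul, add_zero, add_zero] at h
    rw [hX3, hX4]; exact h)
  have key3 : ∀ Y : Vec4, (Y.1 + Y.2.2.1, Y.2.1 + Y.2.2.2, Y.2.2.1, Y.2.2.2) = Y + (1, 0, 0, 0) →
      bil Y (Y.2.1, Y.1 + Y.2.1, Y.2.2.2, Y.2.2.1 + Y.2.2.2) = 0 →
      Y = (0, 0, 1, 0) ∨ Y = (1, 0, 1, 0) := by decide
  have hYt := key3 Y (hXe ▸ hYfix) hYb
  have hde : d * e * d⁻¹ = e :=
    exact_of_vec hJ hp hp1 hy hC hQ hdp hdz hdy hC.e_mem rfl (hXe.trans (vec_e hJ hC).symm)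
  rcases hYt with h | h
  · exact Or.inl (fixQ_of_basis hJ hp hp1 hy hC hQ hd hde
      (exact_of_vec hJ hp hp1 hy hC hQ hdp hdz hdy hC.t_mem rfl (h.trans (vec_t hJ hC).symm)))
  · right
    have hde2 : d * c * e * (d * c)⁻¹ = e := by
      rw [show d * c * e * (d * c)⁻¹ = d * (c * e * c⁻¹) * d⁻¹ by group, hC.c_e, hde]
    refine fixQ_of_basis hJ hp hp1 hy hC hQ (mul_mem hd hcC) hde2 ?_
    refine exact_of_vec hJ hp hp1 hy hC hQ (Commute.mul_left hdp (C_comm_P hcC hp)).eq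
      (Commute.mul_left hdz hcz).eq (Commute.mul_left hdy hcy).eq hC.t_mem rfl ?_
    rw [show d * c * t * (d * c)⁻¹ = d * (c * t * c⁻¹) * d⁻¹ by group, hC.c_t,
      show d * (t * e) * d⁻¹ = d * t * d⁻¹ * (d * e * d⁻¹) by group, hde,
      vec_mul hJ hC hy hQ (hdQ t hC.t_mem) hC.e_mem, ← hY, h, vec_e hJ hC, vec_t hJ hC]
    decide

end

section

variable {p y v w e t : G} (hp : p ∈ P) (hp1 : p ≠ 1) (hy : y ∈ cC z P) (hQ : Nat.card ↥(cQ z y) = 32)
  (hw : w ∈ cC z P) (hwy : w * y = y * w) (hwQ : Coord z p y w e t) (hv : FixQ z y v)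

include hp hp1 hy hQ hw hwy hwQ hv

/-- Adjusting an outer element to the coordinates. -/
theorem exists_u {g : G} (hgA : g ∈ cA z P) (hgC : g ∉ cC z P) (hgy : g * y = y * g)
    (hgp : g * p * g⁻¹ = p⁻¹) (hgv : g * v * g⁻¹ = v) (hgw : g * w * g⁻¹ = v * w)
    (hvC : v ∈ cC z P) (hvy : v * y = y * v) (hvw : v * w = w * v) (hvv : v * v = 1) (hww : w * w = 1)
    (hgg : ∀ i : ℕ, ∃ q ∈ cQ z y, ∃ k l : ZMod 2, (p ^ i * g) * (p ^ i * g) = q * zp v k * zp w l) :
    ∃ g0 u : G, g0 ∈ cA z P ∧ g0 ∉ cC z P ∧ g0 * y = y * g0 ∧ g0 * p * g0⁻¹ = p⁻¹ ∧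
      (∃ q ∈ cQ z y, u = g0 * q) ∧ u ∈ cW z y ∧ u * v * u⁻¹ = v ∧ u * w * u⁻¹ = v * w ∧
      u * e * u⁻¹ = e ∧ u * t * u⁻¹ = t ∧ (∃ q ∈ cQ z y, u * p * u⁻¹ = q * p⁻¹) ∧
      ∃ q ∈ cQ z y, ∃ k l : ZMod 2, u * u = q * zp v k * zp w l := by
  have hp3 : p ^ 3 = 1 := yp_sq hp hJ
  have hpC : p ∈ cC z P := P_le_C hJ hp
  have hpz : p * z = z * p := C_comm_z hpC
  have hpy : p * y = y * p := (C_comm_P hy hp).symm
  have hpv : Commute p v := (C_comm_P hvC hp).symm
  have hpw : Commute p w := (C_comm_P hw hp).symm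
  have hgz : g * z = z * g := mem_cH.1 hgA.1
  have hwz := C_comm_z hw
  have hconjQ : ∀ {h : G}, h * z = z * h → h * y = y * h → ∀ x ∈ cQ z y, h * x * h⁻¹ ∈ cQ z y := by
    intro h hz hy' x hx
    obtain ⟨h1, h2⟩ := mem_cQ.1 hx
    exact mem_cQ.2 ⟨conj_mem_E hz h1, (Commute.mul_left (Commute.mul_left hy' h2) (Commute.inv_left hy')).eq⟩
  have hvconj : ∀ x ∈ cQ z y, v * x * v⁻¹ = x := fun x hx => mul_inv_eq_iff_eq_mul.2 (hv x hx)
  -- the generic behaviour of `p ^ i * g`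
  have base : ∀ i : ℕ, (p ^ i * g) ∈ cA z P ∧ (p ^ i * g) ∉ cC z P ∧ (p ^ i * g) * y = y * (p ^ i * g) ∧
      (p ^ i * g) * p * (p ^ i * g)⁻¹ = p⁻¹ ∧ (p ^ i * g) * v * (p ^ i * g)⁻¹ = v ∧
      (p ^ i * g) * w * (p ^ i * g)⁻¹ = v * w := by
    intro i
    refine ⟨mul_mem (C_le_A (pow_mem hpC i)) hgA, fun h => hgC ?_, ?_, ?_, ?_, ?_⟩
    · simpa using mul_mem (inv_mem (pow_mem hpC i)) h
    · exact ((show Commute p y from hpy).pow_left i |>.mul_left hgy).eq
    all_goals rw [show ∀ x : G, p ^ i * g * x * (p ^ i * g)⁻¹ = p ^ i * (g * x * g⁻¹) * (p ^ i)⁻¹ from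
      fun x => by group]
    · rw [hgp, ((Commute.refl p).inv_right.pow_left i).eq, mul_inv_cancel_right]
    · rw [hgv, (hpv.pow_left i).eq, mul_inv_cancel_right]
    · rw [hgw, ((hpv.mul_right hpw).pow_left i).eq, mul_inv_cancel_right]
  -- some power makes `e` fixed modulo `z`
  have hgeQ := hconjQ hgz hgy e hwQ.e_mem
  obtain ⟨i, hi⟩ : ∃ i : ℕ, vec z p e t ((p ^ i * g) * e * (p ^ i * g)⁻¹) = (1, 0, 0, 0) := by
    set X := vec z p e t (g * e * g⁻¹) with hX
    have hXfix : (X.1 + X.2.2.1, X.2.1 + X.2.2.2, X.2.2.1, X.2.2.2) = X := by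
      have h := vec_conjC hJ hy hwQ hQ hwz hwy hgeQ
      have e1 : w * (g * e * g⁻¹) * w⁻¹ = g * e * g⁻¹ := by
        have h1 : v * w * (g * e * g⁻¹) * (v * w)⁻¹ = g * e * g⁻¹ := by
          rw [← hgw, show g * w * g⁻¹ * (g * e * g⁻¹) * (g * w * g⁻¹)⁻¹ = g * (w * e * w⁻¹) * g⁻¹ by group,
            hwQ.c_e]
        rw [show v * w * (g * e * g⁻¹) * (v * w)⁻¹ = v * (w * (g * e * g⁻¹) * w⁻¹) * v⁻¹ by group,
          hvconj _ (hconjQ hwz hwy _ hgeQ)] at h1
        exact h1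
      rw [e1] at h
      exact h.symm
    have hX0 : X ≠ 0 := fun h => by
      have h0 : vec z p e t e ≠ 0 := by rw [vec_e hJ hwQ]; decide
      apply h0
      rw [vec_eq_zero hJ hwQ hy hQ hwQ.e_mem]
      rcases (vec_eq_zero hJ hwQ hy hQ hgeQ).1 h with h | h
      · exact Or.inl (conj_eq_one_iff.1 h)
      · refine Or.inr (mul_left_cancel (a := g) (mul_right_cancel (b := g⁻¹) ?_))
        rw [h, hgz, mul_inv_cancel_right]
    have key : ∀ X : Vec4, (X.1 + X.2.2.1, X.2.1 + X.2.2.2, X.2.2.1, X.2.2.2) = X → X ≠ 0 →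
        X = (1, 0, 0, 0) ∨ X = (1, 1, 0, 0) ∨ X = (0, 1, 0, 0) := by decide
    have s1 : ∀ {x : G}, x ∈ cQ z y → p * x * p⁻¹ ∈ cQ z y := fun {x} hx => hconjQ hpz hpy x hx
    rcases key X hXfix hX0 with h | h | h
    · refine ⟨0, ?_⟩
      rw [pow_zero, one_mul, ← hX, h]
    · refine ⟨1, ?_⟩
      rw [pow_one, show p * g * e * (p * g)⁻¹ = p * (g * e * g⁻¹) * p⁻¹ by group,
        vec_conjP hJ hp hy hwQ hQ hgeQ, ← hX, h]
      decide
    · refine ⟨2, ?_⟩
      rw [pow_two, show p * p * g * e * (p * p * g)⁻¹ = p * (p * (g * e * g⁻¹) * p⁻¹) * p⁻¹ by group,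
        vec_conjP hJ hp hy hwQ hQ (s1 hgeQ), vec_conjP hJ hp hy hwQ hQ hgeQ, ← hX, h]
      decide
  set h0 := p ^ i * g with hh0
  obtain ⟨hA, hC', hy0, hp0, hv0, hw0⟩ := base i
  have hz0 : h0 * z = z * h0 := mem_cH.1 hA.1
  have hQ0 := hconjQ hz0 hy0
  obtain ⟨q2, hq2, k2, l2, hsq⟩ := hgg i
  -- the image of `t`
  set Y := vec z p e t (h0 * t * h0⁻¹) with hY
  have hteQ : h0 * (t * e) * h0⁻¹ = h0 * t * h0⁻¹ * (h0 * e * h0⁻¹) := by group
  have hwt : w * (h0 * t * h0⁻¹) * w⁻¹ = h0 * (t * e) * h0⁻¹ := by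
    have h1 : v * w * (h0 * t * h0⁻¹) * (v * w)⁻¹ = h0 * (t * e) * h0⁻¹ := by
      rw [← hw0, show h0 * w * h0⁻¹ * (h0 * t * h0⁻¹) * (h0 * w * h0⁻¹)⁻¹ = h0 * (w * t * w⁻¹) * h0⁻¹ by group,
        hwQ.c_t]
    rwa [show v * w * (h0 * t * h0⁻¹) * (v * w)⁻¹ = v * (w * (h0 * t * h0⁻¹) * w⁻¹) * v⁻¹ by group,
      hvconj _ (hconjQ hwz hwy _ (hQ0 t hwQ.t_mem))] at h1
  have hYfix : (Y.1 + Y.2.2.1, Y.2.1 + Y.2.2.2, Y.2.2.1, Y.2.2.2) = Y + (1, 0, 0, 0) := by
    have h := vec_conjC hJ hy hwQ hQ hwz hwy (hQ0 t hwQ.t_mem)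
    rw [hwt, hteQ, vec_mul hJ hwQ hy hQ (hQ0 t hwQ.t_mem) (hQ0 e hwQ.e_mem), hi] at h
    exact h.symm
  have hYb : bil ((Y.2.1, Y.1 + Y.2.1, Y.2.2.2, Y.2.2.1 + Y.2.2.2) : Vec4) Y = 0 := by
    rw [← vec_conjP hJ hp hy hwQ hQ (hQ0 t hwQ.t_mem),
      ← commute_iff hJ hwQ hy hQ (hconjQ hpz hpy _ (hQ0 t hwQ.t_mem)) (hQ0 t hwQ.t_mem)]
    have e1 : p * (h0 * t * h0⁻¹) * p⁻¹ = h0 * (p⁻¹ * t * p) * h0⁻¹ := by
      have e2 : h0 * p⁻¹ * h0⁻¹ = p := by
        rw [show h0 * p⁻¹ * h0⁻¹ = (h0 * p * h0⁻¹)⁻¹ by group, hp0, inv_inv]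
      calc p * (h0 * t * h0⁻¹) * p⁻¹
          = (h0 * p⁻¹ * h0⁻¹) * (h0 * t * h0⁻¹) * (h0 * p⁻¹ * h0⁻¹)⁻¹ := by rw [e2]
        _ = _ := by group
    rw [e1]
    have h2 : t * (p⁻¹ * t * p) = p⁻¹ * t * p * t := by
      calc t * (p⁻¹ * t * p) = p⁻¹ * ((p * t * p⁻¹) * t) * p := by group
        _ = p⁻¹ * (t * (p * t * p⁻¹)) * p := by rw [hwQ.t_pt]
        _ = _ := by group
    calc h0 * (p⁻¹ * t * p) * h0⁻¹ * (h0 * t * h0⁻¹) = h0 * (p⁻¹ * t * p * t) * h0⁻¹ := by group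
      _ = _ := by rw [← h2]; group
  have keyY : ∀ Y : Vec4, (Y.1 + Y.2.2.1, Y.2.1 + Y.2.2.2, Y.2.2.1, Y.2.2.2) = Y + (1, 0, 0, 0) →
      bil ((Y.2.1, Y.1 + Y.2.1, Y.2.2.2, Y.2.2.1 + Y.2.2.2) : Vec4) Y = 0 →
      Y = (0, 0, 1, 0) ∨ Y = (1, 0, 1, 0) := by decide
  -- multiply by `w` if necessary
  have hwwi : w * w⁻¹ = 1 := mul_inv_cancel w
  obtain ⟨g0, hg0A, hg0C, hg0y, hg0p, hg0v, hg0w, hg0e, hg0t, hg0sq⟩ : ∃ g0 : G, g0 ∈ cA z P ∧
      g0 ∉ cC z P ∧ g0 * y = y * g0 ∧ g0 * p * g0⁻¹ = p⁻¹ ∧ g0 * v * g0⁻¹ = v ∧ g0 * w * g0⁻¹ = v * w ∧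
      vec z p e t (g0 * e * g0⁻¹) = (1, 0, 0, 0) ∧ vec z p e t (g0 * t * g0⁻¹) = (0, 0, 1, 0) ∧
      ∃ q ∈ cQ z y, ∃ k l : ZMod 2, g0 * g0 = q * zp v k * zp w l := by
    rcases keyY Y hYfix hYb with h | h
    · exact ⟨h0, hA, hC', hy0, hp0, hv0, hw0, hi, h, q2, hq2, k2, l2, hsq⟩
    · refine ⟨h0 * w, mul_mem hA (C_le_A hw), fun h' => hC' ?_, (Commute.mul_left hy0 hwy).eq, ?_, ?_, ?_, ?_, ?_, ?_⟩
      · simpa using mul_mem h' (inv_mem hw)
      · rw [show h0 * w * p * (h0 * w)⁻¹ = h0 * (w * p * w⁻¹) * h0⁻¹ by group, ← hpw.eq,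
          mul_inv_cancel_right, hp0]
      · rw [show h0 * w * v * (h0 * w)⁻¹ = h0 * (w * v * w⁻¹) * h0⁻¹ by group, ← hvw,
          mul_inv_cancel_right, hv0]
      · rw [show h0 * w * w * (h0 * w)⁻¹ = h0 * w * h0⁻¹ by group, hw0]
      · rw [show h0 * w * e * (h0 * w)⁻¹ = h0 * (w * e * w⁻¹) * h0⁻¹ by group, hwQ.c_e, hi]
      · rw [show h0 * w * t * (h0 * w)⁻¹ = h0 * (w * t * w⁻¹) * h0⁻¹ by group, hwQ.c_t, hteQ,
          vec_mul hJ hwQ hy hQ (hQ0 t hwQ.t_mem) (hQ0 e hwQ.e_mem), hi, ← hY, h]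
        decide
      · refine ⟨(v * w) * q2 * (v * w)⁻¹, hconjQ (Commute.mul_left (C_comm_z hvC) hwz).eq
          (Commute.mul_left hvy hwy).eq _ hq2, k2 + 1, l2, ?_⟩
        have hv2 : Commute (v * w) (zp v k2) := by
          rcases zp_cases v k2 with e | e <;> rw [e]
          exacts [Commute.one_right _, (Commute.refl v).mul_left hvw.symm]
        have hw2 : Commute (v * w) (zp w l2) := by
          rcases zp_cases w l2 with e | e <;> rw [e]
          exacts [Commute.one_right _, (show Commute v w from hvw).mul_left (Commute.refl w)]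
        have hzv : zp v (k2 + 1) = zp v k2 * v := by rw [← zp_mul_self hvv, zp_one]
        calc h0 * w * (h0 * w) = (h0 * w * h0⁻¹) * (h0 * h0) * w := by group
          _ = v * w * (q2 * zp v k2 * zp w l2) * w := by rw [hw0, hsq]
          _ = (v * w * q2 * (v * w)⁻¹) * ((v * w) * (zp v k2 * zp w l2)) * w := by group
          _ = (v * w * q2 * (v * w)⁻¹) * ((zp v k2 * zp w l2) * (v * w)) * w := by
              rw [(hv2.mul_right hw2).eq]
          _ = (v * w * q2 * (v * w)⁻¹) * (zp v k2 * (zp w l2 * v)) * (w * w) := by simp only [mul_assoc]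
          _ = _ := by
              rw [hww, mul_one, zp_comm hvw.symm l2, hzv]
              simp only [mul_assoc]
  have hz0' : g0 * z = z * g0 := mem_cH.1 hg0A.1
  have hg0Q := hconjQ hz0' hg0y
  have hg0e' : g0 * e * g0⁻¹ = e := by
    obtain ⟨k, hk⟩ := exists_vec hJ hwQ hy hQ (hg0Q e hwQ.e_mem)
    rw [hg0e, elt_e] at hk
    obtain ⟨m, hm⟩ := exists_vec hJ hwQ hy hQ (hg0Q t hwQ.t_mem)
    rw [hg0t, elt_t] at hm
    -- conjugate `w t w = t e` by `g0`
    have h1 : v * w * (t * zp z m) * (v * w)⁻¹ = t * zp z m * (e * zp z k) := by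
      rw [← hg0w, ← hm, ← hk,
        show g0 * w * g0⁻¹ * (g0 * t * g0⁻¹) * (g0 * w * g0⁻¹)⁻¹ = g0 * (w * t * w⁻¹) * g0⁻¹ by group, hwQ.c_t]
      group
    have hzm : ∀ j : ZMod 2, Commute (v * w) (zp z j) := fun j => by
      rcases zp_cases z j with e | e <;> rw [e]
      exacts [Commute.one_right _, (Commute.mul_left (C_comm_z hvC) hwz)]
    have h2 : v * w * (t * zp z m) * (v * w)⁻¹ = t * e * zp z m := by
      calc v * w * (t * zp z m) * (v * w)⁻¹ = v * w * t * ((zp z m) * (v * w)⁻¹) := by group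
        _ = v * (w * t * w⁻¹) * v⁻¹ * zp z m := by rw [← ((hzm m).inv_left).eq]; group
        _ = _ := by rw [hwQ.c_t, hvconj _ (mul_mem hwQ.t_mem hwQ.e_mem)]
    have hze : zp z m * e = e * zp z m := by
      rcases zp_cases z m with e' | e' <;> rw [e']
      · simp
      · exact ((gen_split hJ).comm_z e (mem_cQ.1 hwQ.e_mem).1).eq.symm
    rw [h2, show t * zp z m * (e * zp z k) = t * (zp z m * e) * zp z k by group, hze,
      show t * (e * zp z m) * zp z k = t * e * (zp z m * zp z k) by group] at h1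
    have h3 : zp z k = 1 := mul_eq_left.1 (mul_left_cancel h1).symm
    rw [hk, h3, mul_one]
  -- the sign of `t`
  obtain ⟨m, hm⟩ := exists_vec hJ hwQ hy hQ (hg0Q t hwQ.t_mem)
  rw [hg0t, elt_t] at hm
  set pe := p * e * p⁻¹ with hpe
  set q := zp pe m with hq
  have hqQ : q ∈ cQ z y := zp_mem hwQ.pe_mem m
  have hqy : Commute q y := (mem_cQ.1 hqQ).2
  have hqz : Commute q z := (gen_split hJ).comm_z q (mem_cQ.1 hqQ).1
  have hqv : q * v * q⁻¹ = v := mul_inv_eq_iff_eq_mul.2 (hv q hqQ).symm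
  have hqw : q * w * q⁻¹ = w := by
    refine mul_inv_eq_iff_eq_mul.2 ?_
    rcases zp_cases pe m with e' | e' <;> rw [hq, e']
    · simp
    · exact (mul_inv_eq_iff_eq_mul.1 hwQ.c_pe).symm
  have hqe : q * e * q⁻¹ = e := by
    refine mul_inv_eq_iff_eq_mul.2 ?_
    rcases zp_cases pe m with e' | e' <;> rw [hq, e']
    · simp
    · exact hwQ.e_pe.symm
  have hqt : q * t * q⁻¹ = t * zp z m := by
    refine mul_inv_eq_iff_eq_mul.2 ?_
    rcases zmod_cases m with rfl | rfl <;> simp only [hq, zp_zero, zp_one]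
    · simp
    · have hzpe : z * pe = pe * z := ((gen_split hJ).comm_z pe (mem_cQ.1 hwQ.pe_mem).1).eq.symm
      rw [mul_assoc t z, hzpe, ← mul_assoc t, hwQ.t_pe, mul_assoc (pe * t), z_mul_self hJ, mul_one]
  have hc : ∀ x : G, g0 * q * x * (g0 * q)⁻¹ = g0 * (q * x * q⁻¹) * g0⁻¹ := fun x => by group
  refine ⟨g0, g0 * q, hg0A, hg0C, hg0y, hg0p, ⟨q, hqQ, rfl⟩,
    mem_cW.2 ⟨(Commute.mul_left hz0' hqz).eq, (Commute.mul_left hg0y hqy).eq⟩,
    by rw [hc, hqv, hg0v], by rw [hc, hqw, hg0w], by rw [hc, hqe, hg0e'], ?_, ?_, ?_⟩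
  · rw [hc, hqt, show g0 * (t * zp z m) * g0⁻¹ = g0 * t * g0⁻¹ * (g0 * zp z m * g0⁻¹) by group, hm, zp_conj,
      show g0 * z * g0⁻¹ = z by rw [hz0', mul_inv_cancel_right], mul_assoc, zp_mul_self (z_mul_self hJ),
      show m + m = 0 by rcases zmod_cases m with rfl | rfl <;> decide, zp_zero, mul_one]
  · refine ⟨g0 * (q * (p * q * p⁻¹)⁻¹) * g0⁻¹, hg0Q _ (mul_mem hqQ (inv_mem (hconjQ hpz hpy q hqQ))), ?_⟩
    calc g0 * q * p * (g0 * q)⁻¹ = g0 * (q * (p * q * p⁻¹)⁻¹) * g0⁻¹ * (g0 * p * g0⁻¹) := by group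
      _ = _ := by rw [hg0p]
  · obtain ⟨q0, hq0, k, l, hsq0⟩ := hg0sq
    set x := g0⁻¹ * q * g0 * q with hx
    have hxQ : x ∈ cQ z y := mul_mem (by
      simpa using hconjQ (Commute.inv_left hz0').eq (Commute.inv_left hg0y).eq q hqQ) hqQ
    set c := zp v k * zp w l with hcdef
    have hcC : c ∈ cC z P := mul_mem (zp_mem hvC k) (zp_mem hw l)
    have hcy : Commute c y := by
      refine Commute.mul_left ?_ ?_
      · rcases zp_cases v k with e' | e' <;> rw [e']
        exacts [Commute.one_left _, hvy]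
      · rcases zp_cases w l with e' | e' <;> rw [e']
        exacts [Commute.one_left _, hwy]
    refine ⟨q0 * (c * x * c⁻¹), mul_mem hq0 (hconjQ (C_comm_z hcC) hcy.eq x hxQ), k, l, ?_⟩
    calc g0 * q * (g0 * q) = g0 * g0 * x := by simp only [hx]; group
      _ = q0 * c * x := by rw [hsq0, hcdef]; simp only [mul_assoc]
      _ = q0 * (c * x * c⁻¹) * c := by group
      _ = _ := by rw [hcdef]; simp only [mul_assoc]

end

/-- The configuration exists. -/
theorem exists_conf : ∃ p y s v w u e t : G, Conf z P p y s v w u e t := by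
  obtain ⟨p, y, s, a, b, tau, hp, hp3, hy, hyo, hyP, hs, hsy, ha, hb, haa, hbb, hab, hay, hby, hak, hbk, habk,
    hsa, hsb, hgen, htA, htC, hty, htp, r0, htau⟩ := exists_frame hJ
  have hp1 : p ≠ 1 := fun h => by rw [h, orderOf_one] at hp3; norm_num at hp3
  have hpc : p ^ 3 = 1 := by rw [← hp3, pow_orderOf_eq_one]
  have hy3 : y ^ 3 = 1 := by rw [← hyo, pow_orderOf_eq_one]
  have hQ : Nat.card ↥(cQ z y) = 32 := card_Q hJ hp hp1 hy3 hy hs hsy
  have hzz := z_mul_self hJ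
  have hzK : z ∈ cK z P := Subgroup.mem_sup_left (mem_zpowers z)
  have hzC : z ∈ cC z P := K_le_C hJ hzK
  have hsz := C_comm_z hs
  have hzcK : ∀ {k : G}, k ∈ cC z P → z * k = k * z := fun {k} hk => (C_comm_z hk).symm
  have hpy : p * y = y * p := (C_comm_P hy hp).symm
  have hsp : s * p * s⁻¹ = p := by rw [C_comm_P hs hp, mul_inv_cancel_right]
  have hs1 : s * (y * p) * s⁻¹ = y * p * p := by
    rw [show s * (y * p) * s⁻¹ = s * y * s⁻¹ * (s * p * s⁻¹) by group, hsy, hsp]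
  have hs2 : s * (y * p * p) * s⁻¹ = y := by
    rw [show s * (y * p * p) * s⁻¹ = s * y * s⁻¹ * (s * p * s⁻¹) * (s * p * s⁻¹) by group, hsy, hsp,
      show y * p * p * p = y * p ^ 3 by rw [pow_three]; simp only [mul_assoc], hpc, mul_one]
  have aab : a * (a * b) = b := by rw [← mul_assoc, haa, one_mul]
  have abb : a * b * b = a := by rw [mul_assoc, hbb, mul_one]
  -- images under `s`
  have sab : s * (a * b) * s⁻¹ = a ∨ s * (a * b) * s⁻¹ = a * z := by
    rw [show s * (a * b) * s⁻¹ = s * a * s⁻¹ * (s * b * s⁻¹) by group, hsa]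
    rcases hsb with h | h <;> rw [h]
    · left; rw [hab, ← mul_assoc, hbb, one_mul]
    · right; rw [show b * (a * b * z) = b * (a * b) * z by group, hab, ← mul_assoc, hbb, one_mul]
  have modz : ∀ {r x k : G}, FixQ z r x → (x = k ∨ x = k * z) → FixQ z r k := by
    intro r x k h hx
    rcases hx with rfl | rfl
    · exact h
    · have := h.mul (fixQ_z hJ r)
      rwa [mul_assoc, hzz, mul_one] at this
  have tb : ∀ {r : G}, FixQ z r a → FixQ z (s * r * s⁻¹) b := fun {r} h => hsa ▸ fixQ_conj hJ hsz h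
  have tab : ∀ {r : G}, FixQ z r b → FixQ z (s * r * s⁻¹) (a * b) := fun {r} h =>
    modz (fixQ_conj hJ hsz h) hsb
  have ta : ∀ {r : G}, FixQ z r (a * b) → FixQ z (s * r * s⁻¹) a := fun {r} h => modz (fixQ_conj hJ hsz h) sab
  have notboth : ¬ (FixQ z y a ∧ FixQ z y b) := by
    rintro ⟨ha0, hb0⟩
    have ha1 : FixQ z (y * p) a := hsy ▸ ta (ha0.mul hb0)
    have hb1 : FixQ z (y * p) b := hsy ▸ tb ha0
    exact hak (fixQ_all hJ hp hp1 hy3 hy ha ha0 ha1 (hs1 ▸ ta (ha1.mul hb1)))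
  -- exactly one of the three fixes `C_E(y)`
  have hsome : ∃ k, (k = a ∨ k = b ∨ k = a * b) ∧ FixQ z y k := by
    by_cases ha0 : FixQ z y a
    · exact ⟨a, Or.inl rfl, ha0⟩
    obtain ⟨q0, hq0, hne⟩ : ∃ q0 ∈ cQ z y, a * q0 * a⁻¹ ≠ q0 := by
      simp only [FixQ, not_forall] at ha0
      obtain ⟨q0, hq0, hne⟩ := ha0
      exact ⟨q0, hq0, fun h => hne (mul_inv_eq_iff_eq_mul.1 h)⟩
    obtain ⟨e, t, hC⟩ := exists_coord hJ hp hp1 hy3 hy hQ ha hay haa hq0 hne
    rcases fixQ_or hJ hp hp1 hy hC hQ ha hay haa hb hby hbb hab.symm with h | h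
    · exact ⟨b, Or.inr (Or.inl rfl), h⟩
    · exact ⟨b * a, Or.inr (Or.inr hab.symm), h⟩
  have hone : ∀ {k l : G}, (k = a ∨ k = b ∨ k = a * b) → (l = a ∨ l = b ∨ l = a * b) →
      FixQ z y k → FixQ z y l → k = l := by
    intro k l hk hl h1 h2
    by_contra hne
    apply notboth
    rcases hk with rfl | rfl | rfl <;> rcases hl with rfl | rfl | rfl
    all_goals first
      | exact absurd rfl hne
      | exact ⟨h1, h2⟩
      | exact ⟨h2, h1⟩
      | exact ⟨h1, aab ▸ h1.mul h2⟩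
      | exact ⟨h2, aab ▸ h2.mul h1⟩
      | exact ⟨abb ▸ h2.mul h1, h1⟩
      | exact ⟨abb ▸ h1.mul h2, h2⟩
  obtain ⟨k, hkS, hk⟩ := hsome
  have memS : ∀ {x : G}, (x = a ∨ x = b ∨ x = a * b) → x ∈ cC z P ∧ x * y = y * x ∧ x * x = 1 ∧ x ∉ cK z P := by
    rintro x (rfl | rfl | rfl)
    exacts [⟨ha, hay, haa, hak⟩, ⟨hb, hby, hbb, hbk⟩, ⟨mul_mem ha hb, (Commute.mul_left hay hby).eq,
      by rw [mul_assoc, ← mul_assoc b, ← hab, mul_assoc a b b, hbb, mul_one, haa], habk⟩]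
  obtain ⟨hkC, hky, hkk, hkK⟩ := memS hkS
  set w := s * k * s⁻¹ with hwdef
  have hw : w ∈ cC z P := mul_mem (mul_mem hs hkC) (inv_mem hs)
  have hww : w * w = 1 := by
    rw [hwdef, show s * k * s⁻¹ * (s * k * s⁻¹) = s * (k * k) * s⁻¹ by group, hkk, mul_one, mul_inv_cancel]
  -- `w` up to `z`
  obtain ⟨k', hk'S, hk'ne, hwk'⟩ : ∃ k', (k' = a ∨ k' = b ∨ k' = a * b) ∧ k' ≠ k ∧ (w = k' ∨ w = k' * z) := by
    rcases hkS with h' | h' | h'
    · exact ⟨b, Or.inr (Or.inl rfl), fun h => habk (by rw [h.trans h', haa]; exact one_mem _),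
        Or.inl (by rw [hwdef, h', hsa])⟩
    · exact ⟨a * b, Or.inr (Or.inr rfl), fun h => hak (by rw [mul_eq_right.1 (h.trans h')]; exact one_mem _),
        by rw [hwdef, h']; exact hsb⟩
    · exact ⟨a, Or.inl rfl, fun h => hbk (by rw [mul_eq_left.1 (h.trans h').symm]; exact one_mem _),
        by rw [hwdef, h']; exact sab⟩
  obtain ⟨hk'C, hk'y, hk'k', hk'K⟩ := memS hk'S
  have hwy : w * y = y * w := by
    rcases hwk' with e | e <;> rw [e]
    · exact hk'y
    · exact (Commute.mul_left hk'y (C_comm_z hy).symm).eq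
  have hwnot : ¬ FixQ z y w := fun h => hk'ne (hone hk'S hkS (modz h hwk') hk)
  have hwQp : FixQ z (y * p) w := hsy ▸ fixQ_conj hJ hsz hk
  obtain ⟨hkk', haS, hbS, hmulS⟩ := four_group haa hbb hab hkS hk'S hk'ne
  have hkw : Commute k w := by
    rcases hwk' with e | e <;> rw [e]
    · exact hkk'
    · exact Commute.mul_right hkk' (C_comm_z hkC)
  -- every element of `C_C(y)` commutes with `w`
  have hwgen : ∀ c ∈ cC z P, c * y = y * c → Commute c w := by
    intro c hc hcy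
    obtain ⟨i, j, k0, l, n, rfl⟩ := hgen c hc hcy
    have hk'w : Commute k' w := by
      rcases hwk' with e | e
      · exact e ▸ Commute.refl k'
      · exact e ▸ (Commute.refl k').mul_right (C_comm_z hk'C)
    have hSw : ∀ {x : G}, (x = k ∨ x = k' ∨ x = k * k') → Commute x w := fun {x} hx => by
      rcases hx with e | e | e <;> rw [e]
      exacts [hkw, hk'w, hkw.mul_left hk'w]
    have hca : Commute a w := hSw haS
    have hcb : Commute b w := hSw hbS
    exact (((((show Commute z w from hzcK hw).pow_left n).mul_left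
      ((show Commute p w from (C_comm_P hw hp).symm).pow_left i)).mul_left
      ((show Commute y w from hwy.symm).pow_left j)).mul_left (hca.pow_left k0)).mul_left (hcb.pow_left l)
  -- `v`
  have htz : tau * z = z * tau := mem_cH.1 htA.1
  have hCn : ∀ c ∈ cC z P, tau * c * tau⁻¹ ∈ cC z P := fun c hc =>
    (Subgroup.normal_of_index_eq_two (index_C hJ)).conj_mem ⟨c, C_le_A hc⟩ hc ⟨tau, htA⟩
  have ht2C : tau * tau ∈ cC z P := Subgroup.mul_self_mem_of_index_two (index_C hJ) (⟨tau, htA⟩ : cA z P)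
  have ht2y : tau * tau * y = y * (tau * tau) := (Commute.mul_left hty hty).eq
  set v := tau * w * tau⁻¹ * w with hvdef
  have htwC := hCn w hw
  have hvC : v ∈ cC z P := mul_mem htwC hw
  have htwy : tau * w * tau⁻¹ * y = y * (tau * w * tau⁻¹) :=
    (Commute.mul_left (Commute.mul_left hty hwy) (Commute.inv_left hty)).eq
  have hvy : v * y = y * v := (Commute.mul_left htwy hwy).eq
  have htwQ : FixQ z (y * p⁻¹) (tau * w * tau⁻¹) := by
    have := fixQ_conj hJ htz hwQp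
    rwa [show tau * (y * p) * tau⁻¹ = tau * y * tau⁻¹ * (tau * p * tau⁻¹) by group, htp, hty,
      mul_inv_cancel_right] at this
  have hwy2 : w * y = y * w := hwy
  have hinv2 : p⁻¹ = p * p := inv_eq_of_mul_eq_one_right (by rw [← pow_three, hpc])
  rw [hinv2, ← mul_assoc] at htwQ
  have htwCw : Commute (tau * w * tau⁻¹) w := hwgen _ htwC htwy
  have htww : tau * w * tau⁻¹ * (tau * w * tau⁻¹) = 1 := by
    rw [show tau * w * tau⁻¹ * (tau * w * tau⁻¹) = tau * (w * w) * tau⁻¹ by group, hww, mul_one, mul_inv_cancel]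
  -- identify `tau w tau⁻¹` modulo `z`
  obtain ⟨x, hxS, hxx⟩ : ∃ x, (x = a ∨ x = b ∨ x = a * b ∨ x = 1) ∧
      (tau * w * tau⁻¹ = x ∨ tau * w * tau⁻¹ = x * z) := by
    obtain ⟨i, j, k0, l, n, hc⟩ := hgen _ htwC htwy
    have ca : ∀ m : ℕ, a ^ m = 1 ∨ a ^ m = a := fun m => by
      rcases Nat.even_or_odd m with ⟨r, rfl⟩ | ⟨r, rfl⟩
      · left; rw [← two_mul, pow_mul, pow_two, haa, one_pow]
      · right; rw [pow_succ, pow_mul, pow_two, haa, one_pow, one_mul]
    have cb : ∀ m : ℕ, b ^ m = 1 ∨ b ^ m = b := fun m => by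
      rcases Nat.even_or_odd m with ⟨r, rfl⟩ | ⟨r, rfl⟩
      · left; rw [← two_mul, pow_mul, pow_two, hbb, one_pow]
      · right; rw [pow_succ, pow_mul, pow_two, hbb, one_pow, one_mul]
    set r := p ^ i * y ^ j with hr
    set m := a ^ k0 * b ^ l with hm
    have hm2 : m * m = 1 := by
      rcases ca k0 with e | e <;> rcases cb l with e' | e' <;> rw [hm, e, e']
      · simp
      · simpa using hbb
      · simpa using haa
      · exact (memS (Or.inr (Or.inr rfl))).2.2.1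
    have hr3 : r ^ 3 = 1 := by
      rw [hr, (((show Commute p y from hpy).pow_left i).pow_right j).mul_pow, ← pow_mul, ← pow_mul,
        mul_comm i, mul_comm j, pow_mul, pow_mul, hpc, hy3, one_pow, one_pow, one_mul]
    have hcom : Commute r (z ^ n * m) := by
      have h1 : ∀ {g : G}, g * z = z * g → g * a = a * g → g * b = b * g → Commute g (z ^ n * m) := fun h1 h2 h3 =>
        ((show Commute _ z from h1).pow_right n).mul_right
          (((show Commute _ a from h2).pow_right k0).mul_right ((show Commute _ b from h3).pow_right l))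
      exact ((h1 (C_comm_z (P_le_C hJ hp)) (C_comm_P ha hp).symm (C_comm_P hb hp).symm).pow_left i).mul_left
        ((h1 (C_comm_z hy) hay.symm hby.symm).pow_left j)
    have hc' : tau * w * tau⁻¹ = r * (z ^ n * m) := by
      rw [hc, hr, hm]
      have hzr : Commute (z ^ n) (p ^ i * y ^ j) :=
        (((show Commute z p from hzcK (P_le_C hJ hp)).pow_left n).pow_right i).mul_right
          (((show Commute z y from hzcK hy).pow_left n).pow_right j)
      calc z ^ n * p ^ i * y ^ j * a ^ k0 * b ^ l = z ^ n * (p ^ i * y ^ j) * (a ^ k0 * b ^ l) := by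
            simp only [mul_assoc]
        _ = _ := by rw [hzr.eq]; simp only [mul_assoc]
    have hzm : (z ^ n * m) ^ 2 = 1 := by
      rw [((show Commute z m from hzcK (mul_mem (pow_mem ha k0) (pow_mem hb l))).pow_left n).mul_pow,
        pow_two m, hm2, mul_one, ← pow_mul, mul_comm, pow_mul, pow_two, hzz, one_pow]
    have hr1 : r = 1 := by
      have h := htww
      rw [hc', ← pow_two, hcom.mul_pow, hzm, mul_one] at h
      calc r = r ^ 3 * (r ^ 2)⁻¹ := by group
        _ = 1 := by rw [hr3, h, inv_one, mul_one]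
    rw [hr1, one_mul] at hc'
    have hmS : m = a ∨ m = b ∨ m = a * b ∨ m = 1 := by
      rcases ca k0 with e | e <;> rcases cb l with e' | e' <;> rw [hm, e, e']
      · simp
      · right; left; rw [one_mul]
      · left; rw [mul_one]
      · right; right; left; rfl
    refine ⟨m, hmS, ?_⟩
    rw [hc']
    rcases Nat.even_or_odd n with ⟨r', rfl⟩ | ⟨r', rfl⟩
    · left; rw [← two_mul, pow_mul, pow_two, hzz, one_pow, one_mul]
    · right
      rw [pow_succ, pow_mul, pow_two, hzz, one_pow, one_mul,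
        hzcK (mul_mem (pow_mem ha k0) (pow_mem hb l))]
  have htwK : tau * w * tau⁻¹ ∉ cK z P := by
    intro h
    obtain ⟨c, q, hc, hq, e, -, hq3, -⟩ := mem_K hJ h
    have hwK : w ∉ cK z P := by
      rcases hwk' with e | e <;> rw [e]
      exacts [hk'K, fun h => hk'K (by simpa using mul_mem h (inv_mem hzK))]
    apply hwK
    have hcase : tau⁻¹ * c * tau ∈ cK z P := by
      rcases hc with rfl | rfl
      · simp
      · rw [mul_assoc, ← htz]; simpa using hzK
    have hpq : tau⁻¹ * q * tau ∈ P := by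
      simpa using (Subgroup.mem_normalizer_iff.mp (inv_mem htA.2) q).mp hq
    rw [show w = tau⁻¹ * (tau * w * tau⁻¹) * tau by group, e,
      show tau⁻¹ * (c * q) * tau = (tau⁻¹ * c * tau) * (tau⁻¹ * q * tau) by group]
    exact mul_mem hcase (Subgroup.mem_sup_right hpq)
  have hxS' : x = a ∨ x = b ∨ x = a * b := by
    rcases hxS with e | e | e | e
    exacts [Or.inl e, Or.inr (Or.inl e), Or.inr (Or.inr e),
      absurd (by rcases hxx with e' | e' <;> rw [e', e] <;> simp [hzK]) htwK]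
  have hzs : s * z * s⁻¹ = z := by rw [hsz, mul_inv_cancel_right]
  have h2x : FixQ z (y * p * p) x := modz htwQ hxx
  have hxk : x ≠ k := fun e => hwnot (by
    rw [e] at h2x
    exact hwdef ▸ hs2 ▸ fixQ_conj hJ hsz h2x)
  have hxk' : x ≠ k' := fun e => by
    -- `k'` fixes the spaces at `y * p` and at `y * p * p`
    rw [e] at h2x
    have h1 : FixQ z (y * p) k' := modz hwQp hwk'
    have h2' : FixQ z (y * p * p) (s * k' * s⁻¹) := hs1 ▸ fixQ_conj hJ hsz h1
    have h3 : FixQ z y (s * (s * k' * s⁻¹) * s⁻¹) := hs2 ▸ fixQ_conj hJ hsz h2'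
    have h4 : FixQ z y (s * k' * s⁻¹) := hs2 ▸ fixQ_conj hJ hsz h2x
    rcases hk'S with e' | e' | e' <;> rw [e'] at h3 h4
    · rw [hsa] at h3 h4
      exact notboth ⟨abb ▸ (modz h3 hsb).mul h4, h4⟩
    · have h4' := modz h4 hsb
      have h5 : FixQ z y a := by
        refine modz (x := s * (s * b * s⁻¹) * s⁻¹) h3 ?_
        rcases hsb with e | e <;> rw [e]
        · exact sab
        · rw [show s * (a * b * z) * s⁻¹ = s * (a * b) * s⁻¹ * (s * z * s⁻¹) by group, hzs]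
          rcases sab with e' | e' <;> rw [e']
          · exact Or.inr rfl
          · left; rw [mul_assoc, hzz, mul_one]
      exact notboth ⟨h5, aab ▸ h5.mul h4'⟩
    · have h4' := modz h4 sab
      have h5 : FixQ z y b := by
        refine modz (x := s * (s * (a * b) * s⁻¹) * s⁻¹) h3 ?_
        rcases sab with e | e <;> rw [e]
        · exact Or.inl hsa
        · rw [show s * (a * z) * s⁻¹ = s * a * s⁻¹ * (s * z * s⁻¹) by group, hzs, hsa]
          exact Or.inr rfl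
      exact notboth ⟨h4', h5⟩
  -- `v` is `k` up to `z`
  have hvk : v = k ∨ v = k * z := by
    have hprod : x * k' = k := hmulS x hxS' hxk hxk'
    have hzk' : z * k' = k' * z := hzcK hk'C
    rw [hvdef]
    rcases hxx with e | e <;> rcases hwk' with e' | e'
    all_goals rw [e]
    · left; rw [e', hprod]
    · right; rw [e', ← mul_assoc, hprod]
    · right; rw [e', mul_assoc, hzk', ← mul_assoc, hprod]
    · left
      rw [e', show x * z * (k' * z) = x * (z * k') * z by group, hzk',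
        show x * (k' * z) * z = x * k' * (z * z) by group, hzz, mul_one, hprod]
  have hvv : v * v = 1 := by
    rcases hvk with e | e <;> rw [e]
    · exact hkk
    · rw [show k * z * (k * z) = k * (z * k) * z by group, hzcK hkC,
        show k * (k * z) * z = k * k * (z * z) by group, hkk, hzz, one_mul]
  have hvQ : FixQ z y v := by
    rcases hvk with e | e <;> rw [e]
    exacts [hk, hk.mul (fixQ_z hJ y)]
  have hvw : v * w = w * v := (Commute.mul_left htwCw (Commute.refl w)).eq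
  have htw : tau * w * tau⁻¹ = v * w := by rw [hvdef, mul_assoc _ w w, hww, mul_one]
  have htv : tau * v * tau⁻¹ = v := by
    rw [hvdef, show tau * (tau * w * tau⁻¹ * w) * tau⁻¹ = (tau * tau) * w * (tau * tau)⁻¹ * (tau * w * tau⁻¹) by group,
      (hwgen _ ht2C ht2y).eq, mul_inv_cancel_right, htwCw.eq]
  obtain ⟨q0, hq0, hne⟩ : ∃ q0 ∈ cQ z y, w * q0 * w⁻¹ ≠ q0 := by
    have h := hwnot
    simp only [FixQ, not_forall] at h
    obtain ⟨q0, hq0, hne⟩ := h
    exact ⟨q0, hq0, fun h => hne (mul_inv_eq_iff_eq_mul.1 h)⟩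
  obtain ⟨e, t, hC⟩ := exists_coord hJ hp hp1 hy3 hy hQ hw hwy hww hq0 hne
  have hvK : v ∉ cK z P := by
    rcases hvk with e | e <;> rw [e]
    exacts [hkK, fun h => hkK (by simpa using mul_mem h (inv_mem hzK))]
  have hwK : w ∉ cK z P := by
    rcases hwk' with e | e <;> rw [e]
    exacts [hk'K, fun h => hk'K (by simpa using mul_mem h (inv_mem hzK))]
  have hvwK : v * w ∉ cK z P := htw ▸ htwK
  -- the generation in the new elements
  have expr : ∀ x : G, (x = a ∨ x = b) → ∃ n k0 l0 : ZMod 2, x = zp z n * zp v k0 * zp w l0 := by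
    have hzv : z * v = v * z := hzcK hvC
    have hzw : z * w = w * z := hzcK hw
    have hkv : ∃ n : ZMod 2, k = zp z n * v := by
      rcases hvk with e | e
      · exact ⟨0, by rw [zp_zero, one_mul, e]⟩
      · exact ⟨1, by rw [zp_one, e, hzcK (mul_mem hkC hzC), mul_assoc, hzz, mul_one]⟩
    have hkw' : ∃ n : ZMod 2, k' = zp z n * w := by
      rcases hwk' with e | e
      · exact ⟨0, by rw [zp_zero, one_mul, e]⟩
      · exact ⟨1, by rw [zp_one, e, hzcK (mul_mem hk'C hzC), mul_assoc, hzz, mul_one]⟩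
    obtain ⟨n1, e1⟩ := hkv
    obtain ⟨n2, e2⟩ := hkw'
    have c3 : k * k' = zp z (n1 + n2) * zp v 1 * zp w 1 := by
      rw [e1, e2, zp_one, zp_one, ← zp_mul_self hzz, mul_assoc (zp z n1) v, ← mul_assoc v,
        ← zp_comm hzv]
      simp only [mul_assoc]
    intro x hx
    have hx3 : x = k ∨ x = k' ∨ x = k * k' := by
      rcases hx with e | e <;> rw [e]
      exacts [haS, hbS]
    rcases hx3 with e | e | e
    · exact ⟨n1, 1, 0, by rw [zp_one, zp_zero, mul_one, e, e1]⟩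
    · exact ⟨n2, 0, 1, by rw [zp_zero, zp_one, mul_one, e, e2]⟩
    · exact ⟨_, 1, 1, e.trans c3⟩
  have hgen' : ∀ c ∈ cC z P, c * y = y * c →
      ∃ i j : ℕ, ∃ n k l : ZMod 2, c = zp z n * y ^ j * p ^ i * zp v k * zp w l := by
    let R : G → Prop := fun c => ∃ i j : ℕ, ∃ n k l : ZMod 2, c = zp z n * y ^ j * p ^ i * zp v k * zp w l
    have cw : ∀ {g : G} (m : ZMod 2) {x : G}, Commute g x → Commute (zp g m) x := fun {g} m {x} h => by
      rcases zp_cases g m with e | e <;> rw [e]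
      exacts [Commute.one_left _, h]
    have hmulR : ∀ {c d : G}, R c → R d → R (c * d) := by
      rintro _ _ ⟨i, j, n, k, l, rfl⟩ ⟨i', j', n', k', l', rfl⟩
      refine ⟨i + i', j + j', n + n', k + k', l + l', ?_⟩
      have c1 : Commute (zp w l) (zp v k') := (cw k' (cw l (show Commute w v from hvw.symm)).symm).symm
      have c2 : Commute (zp v k * zp w l) (zp z n' * y ^ j' * p ^ i') :=
        ((Commute.mul_right (cw n' (Commute.mul_right (cw k (C_comm_z hvC)).symm (cw l (C_comm_z hw)).symm)).symm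
          ((Commute.mul_left (cw k (show Commute v y from hvy)) (cw l (show Commute w y from hwy))).pow_right j')).mul_right
          ((Commute.mul_left (cw k (show Commute v p from C_comm_P hvC hp))
            (cw l (show Commute w p from C_comm_P hw hp))).pow_right i'))
      have c3 : Commute (y ^ j * p ^ i) (zp z n') :=
        (Commute.mul_left (((show Commute z y from hzcK hy).pow_right j).symm)
          (((show Commute z p from hzcK (P_le_C hJ hp)).pow_right i).symm)).symm |> fun _ =>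
        (cw n' (Commute.mul_right ((show Commute z y from hzcK hy).pow_right j)
          ((show Commute z p from hzcK (P_le_C hJ hp)).pow_right i))).symm
      have c4 : Commute (p ^ i) (y ^ j') := ((show Commute p y from hpy).pow_left i).pow_right j'
      calc zp z n * y ^ j * p ^ i * zp v k * zp w l * (zp z n' * y ^ j' * p ^ i' * zp v k' * zp w l')
          = zp z n * (y ^ j * p ^ i) * ((zp v k * zp w l) * (zp z n' * y ^ j' * p ^ i')) * zp v k' * zp w l' := by
            simp only [mul_assoc]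
        _ = zp z n * ((y ^ j * p ^ i) * zp z n') * y ^ j' * p ^ i' * zp v k * (zp w l * zp v k') * zp w l' := by
            rw [c2.eq]; simp only [mul_assoc]
        _ = (zp z n * zp z n') * y ^ j * (p ^ i * y ^ j') * p ^ i' * (zp v k * zp v k') * (zp w l * zp w l') := by
            rw [c3.eq, c1.eq]; simp only [mul_assoc]
        _ = _ := by
            rw [c4.eq, zp_mul_self hzz, zp_mul_self hvv, zp_mul_self hww, pow_add, pow_add]
            simp only [mul_assoc]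
    have hone' : R 1 := ⟨0, 0, 0, 0, 0, by simp [zp_zero]⟩
    have hpow : ∀ {c : G}, R c → ∀ n : ℕ, R (c ^ n) := fun {c} h n => by
      induction n with
      | zero => rw [pow_zero]; exact hone'
      | succ n ih => rw [pow_succ]; exact hmulR ih h
    have Rz : R z := ⟨0, 0, 1, 0, 0, by simp [zp_zero, zp_one]⟩
    have Rp : R p := ⟨1, 0, 0, 0, 0, by simp [zp_zero]⟩
    have Ry : R y := ⟨0, 1, 0, 0, 0, by simp [zp_zero]⟩
    have Rx : ∀ {x : G}, (x = a ∨ x = b) → R x := fun {x} hx => by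
      obtain ⟨n, k0, l0, e⟩ := expr x hx
      exact ⟨0, 0, n, k0, l0, by simpa using e⟩
    intro c hc hcy
    obtain ⟨i, j, k0, l, n, rfl⟩ := hgen c hc hcy
    exact hmulR (hmulR (hmulR (hmulR (hpow Rz n) (hpow Rp i)) (hpow Ry j)) (hpow (Rx (Or.inl rfl)) k0))
      (hpow (Rx (Or.inr rfl)) l)
  -- the squares
  have hgg : ∀ i : ℕ, ∃ q ∈ cQ z y, ∃ k l : ZMod 2, (p ^ i * tau) * (p ^ i * tau) = q * zp v k * zp w l := by
    intro i
    have hsq : (p ^ i * tau) * (p ^ i * tau) = tau * tau := by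
      have h1 : tau * p ^ i = (p ^ i)⁻¹ * tau := by
        refine mul_inv_eq_iff_eq_mul.1 ?_
        rw [← conj_pow, htp, inv_pow]
      rw [mul_assoc, ← mul_assoc tau, h1, ← mul_assoc, ← mul_assoc, mul_inv_cancel, one_mul]
    obtain ⟨i', j, n, k, l, he⟩ := hgen' _ ht2C ht2y
    refine ⟨zp z n, zp_mem (z_mem_Q hJ hy) n, k, l, ?_⟩
    rw [hsq, he]
    -- the part of order three is trivial
    set r := y ^ j * p ^ i' with hr
    have hcom : Commute r (zp z n * zp v k * zp w l) := by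
      have h1 : ∀ {g : G}, g * z = z * g → g * v = v * g → g * w = w * g → Commute g (zp z n * zp v k * zp w l) := by
        intro g e1 e2 e3
        have cz : ∀ {x : G} (m : ZMod 2), g * x = x * g → Commute g (zp x m) := fun {x} m h => by
          rcases zp_cases x m with e | e <;> rw [e]
          exacts [Commute.one_right _, h]
        exact ((cz n e1).mul_right (cz k e2)).mul_right (cz l e3)
      exact ((h1 (C_comm_z hy) hvy.symm hwy.symm).pow_left j).mul_left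
        ((h1 (C_comm_z (P_le_C hJ hp)) (C_comm_P hvC hp).symm (C_comm_P hw hp).symm).pow_left i')
    have hrr : r ^ 3 = 1 := by
      rw [hr, (((show Commute y p from hpy.symm).pow_left j).pow_right i').mul_pow, ← pow_mul, ← pow_mul,
        mul_comm i', mul_comm j, pow_mul, pow_mul, hpc, hy3, one_pow, one_pow, one_mul]
    have hee : tau * tau = r * (zp z n * zp v k * zp w l) := by
      rw [he, hr]
      have hzr : Commute (zp z n) (y ^ j * p ^ i') := by
        rcases zp_cases z n with e | e <;> rw [e]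
        exacts [Commute.one_left _, ((show Commute z y from hzcK hy).pow_right j).mul_right
          ((show Commute z p from hzcK (P_le_C hJ hp)).pow_right i')]
      calc zp z n * y ^ j * p ^ i' * zp v k * zp w l = zp z n * (y ^ j * p ^ i') * (zp v k * zp w l) := by
            simp only [mul_assoc]
        _ = _ := by rw [hzr.eq]; simp only [mul_assoc]
    have hr1 : r = 1 := by
      have h4 : (tau * tau) ^ (2 ^ (r0 + 1)) = 1 := by
        rw [← pow_two, ← pow_mul, show 2 * 2 ^ (r0 + 1) = orderOf tau * 4 by rw [htau]; ring, pow_mul,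
          pow_orderOf_eq_one, one_pow]
      have hs : (zp z n * zp v k * zp w l) ^ 2 = 1 := by
        have sq1 : ∀ {g : G} (m : ZMod 2), g * g = 1 → zp g m ^ 2 = 1 := fun {g} m h => by
          rw [pow_two, zp_mul_self h, show m + m = 0 by rcases zmod_cases m with rfl | rfl <;> decide, zp_zero]
        have c1 : Commute (zp z n) (zp v k) := by
          rcases zp_cases z n with e | e <;> rcases zp_cases v k with e' | e' <;> rw [e, e']
          exacts [Commute.one_left _, Commute.one_right _, hzcK hvC]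
        have c2 : Commute (zp z n * zp v k) (zp w l) := by
          rcases zp_cases w l with e | e <;> rw [e]
          · exact Commute.one_right _
          · refine Commute.mul_left ?_ ?_
            · rcases zp_cases z n with e | e <;> rw [e]
              exacts [Commute.one_left _, hzcK hw]
            · rcases zp_cases v k with e | e <;> rw [e]
              exacts [Commute.one_left _, hvw]
        rw [c2.mul_pow, c1.mul_pow, sq1 n hzz, sq1 k hvv, sq1 l hww, one_mul, one_mul]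
      rw [hee, hcom.mul_pow, pow_succ' 2 r0, pow_mul (zp z n * zp v k * zp w l), hs, one_pow, mul_one] at h4
      have h5 : orderOf r ∣ 3 := orderOf_dvd_of_pow_eq_one hrr
      have h6 : orderOf r ∣ 2 ^ (r0 + 1) := orderOf_dvd_of_pow_eq_one (by rw [pow_succ' 2 r0]; exact h4)
      have h7 := Nat.eq_one_of_dvd_coprimes (Nat.Coprime.pow_right (r0 + 1) (by norm_num : Nat.Coprime 3 2)) h5 h6
      exact orderOf_eq_one_iff.1 h7
    calc zp z n * y ^ j * p ^ i' * zp v k * zp w l = zp z n * r * zp v k * zp w l := by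
          rw [hr]; simp only [mul_assoc]
      _ = _ := by rw [hr1, mul_one]
  obtain ⟨g0, u, hg0A, hg0C, hg0y, hg0p, ⟨q1, hq1, hu1⟩, huW, huv, huw, hue, hut, hup, husq⟩ :=
    exists_u hJ hp hp1 hy hQ hw hwy hC hvQ htA htC hty htp htv htw hvC hvy hvw hvv hww hgg
  have hEC : ∀ g : G, g ∈ cA z P → g ∈ cE z → g ∈ cC z P := fun g hg hgE => by
    refine ⟨hg.1, mem_centralizer_iff.2 fun q hq => ?_⟩
    have h1 : g * q * g⁻¹ * q⁻¹ ∈ P := mul_mem ((Subgroup.mem_normalizer_iff.mp hg.2 q).mp hq) (inv_mem hq)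
    have h2 : g * q * g⁻¹ * q⁻¹ ∈ cE z := by
      have := (Subgroup.mem_normalizer_iff.mp (H_le_normalizer_E (P_le_H hJ hq)) g⁻¹).mp (inv_mem hgE)
      simpa [mul_assoc] using mul_mem hgE this
    have hd : P ⊓ cE z = ⊥ := Subgroup.inf_eq_bot_of_coprime (by rw [card_P hJ, card_E hJ]; decide)
    have h3 : g * q * g⁻¹ * q⁻¹ = 1 := by simpa [hd] using (Subgroup.mem_inf.mpr ⟨h1, h2⟩)
    exact (mul_inv_eq_iff_eq_mul.mp (mul_inv_eq_one.mp h3)).symm
  refine ⟨p, y, s, v, w, u, e, t, ⟨hJ, hp, hp1, hy, hyo, hyP, hs, hsy, hQ, hvC, hw, hvv, hww, hvw, hvy, hwy, hvK,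
    hwK, hvwK, hgen', hvQ, hC, huW, ?_, hup, huv, huw, hue, hut, husq, ?_⟩⟩
  · intro q hq h
    apply hg0C
    have hg0z : g0 * z = z * g0 := mem_cH.1 hg0A.1
    have hqq : q1 * q ∈ cE z := mul_mem (mem_cQ.1 hq1).1 hq
    have h' : g0 * (q1 * q) ∈ cC z P := by rw [← mul_assoc, ← hu1]; exact h
    have : q1 * q ∈ cC z P := hEC _ (by simpa using mul_mem (inv_mem hg0A) (C_le_A h')) hqq
    exact (mul_mem_cancel_right this).1 h'
  · intro h hh
    obtain ⟨hhz, hhy⟩ := mem_cW.1 hh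
    have hH : h ∈ cA z P ⊔ cE z := H_eq hJ ▸ mem_cH.2 hhz
    obtain ⟨al, hal, x, hx, rfl⟩ :=
      (CfsgLib.Solvable.mem_sup_of_le_normalizer (inf_le_left.trans H_le_normalizer_E)).mp hH
    have hd : al⁻¹ * y * al * y⁻¹ = x * (y * x⁻¹ * y⁻¹) := by
      calc al⁻¹ * y * al * y⁻¹ = al⁻¹ * (y * (al * x)) * x⁻¹ * y⁻¹ := by group
        _ = al⁻¹ * (al * x * y) * x⁻¹ * y⁻¹ := by rw [hhy]
        _ = _ := by group
    have hn : al⁻¹ * y * al ∈ cC z P := by
      have h := (Subgroup.normal_of_index_eq_two (index_C hJ)).conj_mem ⟨y, C_le_A hy⟩ hy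
        (⟨al⁻¹, inv_mem hal⟩ : cA z P)
      rw [Subgroup.mem_subgroupOf] at h
      simp only [Subgroup.coe_mul, InvMemClass.coe_inv, inv_inv] at h
      exact h
    have hm : al⁻¹ * y * al * y⁻¹ ∈ cE z ⊓ centralizer (P : Set G) :=
      ⟨hd ▸ mul_mem hx (conj_mem_E (C_comm_z hy) (inv_mem hx)), (mul_mem hn (inv_mem hy)).2⟩
    rw [E_inf_centralizer hJ, mem_zpowers_iff hzz] at hm
    have hal_y : al * y = y * al := by
      rcases hm with e | e
      · rw [mul_inv_eq_one] at e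
        conv_lhs => rw [← e]
        group
      · exfalso
        have e' : al⁻¹ * y * al = z * y := mul_inv_eq_iff_eq_mul.1 e
        have h3 : (al⁻¹ * y * al) ^ 3 = 1 := by
          rw [show al⁻¹ * y * al = al⁻¹ * y * al⁻¹⁻¹ by rw [inv_inv], conj_pow, hy3]; simp
        rw [e', (show Commute z y from hzcK hy).mul_pow, hy3, mul_one] at h3
        apply z_ne hJ
        calc z = z ^ 3 * (z * z)⁻¹ := by group
          _ = 1 := by rw [h3, hzz, inv_one, mul_one]
    have hxy : x * y = y * x := by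
      have h1 : al * (x * y) = al * (y * x) := by
        calc al * (x * y) = al * x * y := by rw [mul_assoc]
          _ = y * (al * x) := hhy
          _ = al * (y * x) := by rw [← mul_assoc, ← hal_y, mul_assoc]
      exact mul_left_cancel h1
    have hxQ : x ∈ cQ z y := mem_cQ.2 ⟨hx, hxy⟩
    have hconjQ : ∀ {g : G}, g * z = z * g → g * y = y * g → ∀ x ∈ cQ z y, g * x * g⁻¹ ∈ cQ z y := by
      intro g hz hy' x hx
      obtain ⟨h1, h2⟩ := mem_cQ.1 hx
      exact mem_cQ.2 ⟨conj_mem_E hz h1, (Commute.mul_left (Commute.mul_left hy' h2) (Commute.inv_left hy')).eq⟩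
    obtain ⟨c, hc, hcy, m, x', hx', hal'⟩ : ∃ c ∈ cC z P, c * y = y * c ∧ ∃ m : ZMod 2, ∃ x' ∈ cQ z y,
        al = c * zp u m * x' := by
      by_cases hC' : al ∈ cC z P
      · exact ⟨al, hC', hal_y, 0, 1, one_mem _, by rw [zp_zero, mul_one, mul_one]⟩
      · refine ⟨al * g0⁻¹, ?_, (Commute.mul_left hal_y (Commute.inv_left hg0y)).eq, 1, q1⁻¹, inv_mem hq1, ?_⟩
        · have h2 := (Subgroup.mul_mem_iff_of_index_two (index_C hJ) (a := (⟨al, hal⟩ : cA z P))
            (b := (⟨g0⁻¹, inv_mem hg0A⟩ : cA z P))).mpr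
            ⟨fun h => absurd h hC', fun h => absurd (inv_inv g0 ▸ inv_mem h : g0 ∈ cC z P) hg0C⟩
          exact h2
        · rw [zp_one, hu1]; group
    obtain ⟨i, j, n, k0, l, rfl⟩ := hgen' c hc hcy
    have hyW : y ∈ cW z y := mem_cW.2 ⟨C_comm_z hy, rfl⟩
    have hpW : p ∈ cW z y := mem_cW.2 ⟨C_comm_z (P_le_C hJ hp), hpy⟩
    have hvW : v ∈ cW z y := mem_cW.2 ⟨C_comm_z hvC, hvy⟩
    have hwW : w ∈ cW z y := mem_cW.2 ⟨C_comm_z hw, hwy⟩
    set R := cRep p y v w u (i % 3) (j % 3) k0 l m with hR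
    have hRW : R ∈ cW z y :=
      mul_mem (mul_mem (mul_mem (mul_mem (pow_mem hyW _) (pow_mem hpW _)) (zp_mem hvW k0)) (zp_mem hwW l))
        (zp_mem huW m)
    refine ⟨zp z n * (R * (x' * x) * R⁻¹), mul_mem (zp_mem (z_mem_Q hJ hy) n)
      (hconjQ (mem_cW.1 hRW).1 (mem_cW.1 hRW).2 _ (mul_mem hx' hxQ)), i % 3, j % 3, Nat.mod_lt _ (by norm_num),
      Nat.mod_lt _ (by norm_num), k0, l, m, ?_⟩
    have hyj : y ^ (j % 3) = y ^ j := by rw [← hyo, pow_mod_orderOf]
    have hpi : p ^ (i % 3) = p ^ i := by rw [← hp3, pow_mod_orderOf]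
    rw [hal', ← hR, show zp z n * (R * (x' * x) * R⁻¹) * R = zp z n * R * (x' * x) by group]
    simp only [hR, cRep, hyj, hpi, mul_assoc]

end CfsgLib.J4Local
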