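/-
Janko-four type: the central involution is not weakly closed in E.
-/
import Cfsg.Agent.J4Local.Basics
import Cfsg.Agent.LargeExtra.NoFusion

set_option autoImplicit false

namespace CfsgLib.J4Local

open Subgroup

variable {G : Type*} [Group G] [Finite G] {z : G} {P : Subgroup G}

/-- Some conjugate of `z` other than `z` lies in `E`. -/
theorem exists_fused [IsSimpleGroup G] (hG : ¬ IsMulCommutative G) (hJ : Cfsg.IsOfJankoFourTypeWith z P) :
    ∃ g : G, g * z * g⁻¹ ∈ cE z ∧ g * z * g⁻¹ ≠ z := by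
  by_contra hno
  push Not at hno
  have hz1 : z ≠ 1 := fun h => by
    have := orderOf_z hJ
    rw [h, orderOf_one] at this
    omega
  have hpre : CfsgLib.LargeExtra.Pre (cE z) z :=
    CfsgLib.OrbitTransfer.pre_of_pcore (orderOf_z hJ) rfl (extraspecial_E hJ) fun g hg =>
      centralizer_E_le hJ ⟨mem_cH.2 (Subgroup.mem_centralizer_iff.1 hg z (z_mem_E hJ)).symm, hg⟩
  have hres : Cfsg.pResidual 2 G = ⊤ := by
    haveI : (Cfsg.pResidual 2 G).Normal := by
      constructor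
      intro n hn g
      have hle : Cfsg.pResidual 2 G ≤ (Cfsg.pResidual 2 G).comap (MulAut.conj g).toMonoidHom := by
        refine (Subgroup.closure_le _).2 fun m hm => Subgroup.subset_closure ?_
        show Nat.Coprime (orderOf ((MulAut.conj g) m)) 2
        rw [MulEquiv.orderOf_eq]
        exact hm
      exact hle hn
    refine (IsSimpleGroup.eq_bot_or_eq_top_of_normal _ inferInstance).resolve_left fun h => ?_
    haveI : Fact (Nat.Prime 3) := ⟨Nat.prime_three⟩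
    obtain ⟨x, hx⟩ := exists_prime_orderOf_dvd_card' (G := ↥P) 3 (by rw [card_P hJ])
    have hxG : orderOf (x : G) = 3 := by rw [Subgroup.orderOf_coe, hx]
    have hmem : (x : G) ∈ Cfsg.pResidual 2 G := Subgroup.subset_closure (by
      show Nat.Coprime (orderOf (x : G)) 2
      rw [hxG]; decide)
    rw [h, Subgroup.mem_bot] at hmem
    rw [hmem, orderOf_one] at hxG
    omega
  obtain ⟨N, -, -, -, -, ⟨hnor, ⟨e⟩⟩, -⟩ := hJ.2.2.2.2.1
  haveI := hnor
  haveI hN2 : (Cfsg.Inn ↥Cfsg.Spor.M22).Normal := inferInstance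
  have hcard : Nat.card (MulAut ↥Cfsg.Spor.M22 ⧸ Cfsg.Inn ↥Cfsg.Spor.M22) = 2 := CfsgLib.Golay.Cert.out_m22
  haveI : IsCyclic (MulAut ↥Cfsg.Spor.M22 ⧸ Cfsg.Inn ↥Cfsg.Spor.M22) := isCyclic_of_prime_card (p := 2) hcard
  letI : CommGroup (MulAut ↥Cfsg.Spor.M22 ⧸ Cfsg.Inn ↥Cfsg.Spor.M22) := IsCyclic.commGroup
  let θ : ↥(cH z) →* (MulAut ↥Cfsg.Spor.M22 ⧸ Cfsg.Inn ↥Cfsg.Spor.M22) :=
    (QuotientGroup.mk' _).comp (e.toMonoidHom.comp (QuotientGroup.mk' _))
  have hθ : Function.Surjective θ :=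
    (QuotientGroup.mk'_surjective _).comp (e.surjective.comp (QuotientGroup.mk'_surjective _))
  have h1 : ∀ x, θ x = 1 := fun x =>
    CfsgLib.NoFusion.char_eq_one hpre θ hres
      (fun b => by
        have := pow_card_eq_one' (x := b)
        rwa [hcard, pow_two] at this)
      (extraspecial_E hJ).1.1 (n := 6) (by norm_num) (by rw [card_E hJ]) hno x
  have : ∀ b : MulAut ↥Cfsg.Spor.M22 ⧸ Cfsg.Inn ↥Cfsg.Spor.M22, b = 1 := fun b => by
    obtain ⟨x, rfl⟩ := hθ b
    exact h1 x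
  haveI : Subsingleton (MulAut ↥Cfsg.Spor.M22 ⧸ Cfsg.Inn ↥Cfsg.Spor.M22) := ⟨fun a b => (this a).trans (this b).symm⟩
  rw [Nat.card_of_subsingleton (1 : MulAut ↥Cfsg.Spor.M22 ⧸ Cfsg.Inn ↥Cfsg.Spor.M22)] at hcard
  omega

end CfsgLib.J4Local
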