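/-
Janko-four type: calculus in W = C_H(y) by coordinates.
-/
import Cfsg.Agent.J4Local.Conf

set_option autoImplicit false
set_option linter.style.haveILetI false

namespace CfsgLib.J4Local

open Subgroup
open CfsgLib.Extra2 CfsgLib.LargeExtra

/-- The action of `p` on coordinates. -/
def matP (x : Vec4) : Vec4 := (x.2.1, x.1 + x.2.1, x.2.2.2, x.2.2.1 + x.2.2.2)

/-- The action of `w` on coordinates. -/
def matW (x : Vec4) : Vec4 := (x.1 + x.2.2.1, x.2.1 + x.2.2.2, x.2.2.1, x.2.2.2)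

/-- The action of `u` on coordinates. -/
def matU (x : Vec4) : Vec4 := (x.1 + x.2.1, x.2.1, x.2.2.1 + x.2.2.2, x.2.2.2)

/-- The action of `cRep p y v w u i j k l m` on coordinates. -/
def mat (i : ℕ) (l m : ZMod 2) (x : Vec4) : Vec4 :=
  matP^[i] (matW^[l.val] (matU^[m.val] x))

theorem combo_P : ∀ x : Vec4, matP x = x.1 • ((0, 1, 0, 0) : Vec4) + x.2.1 • ((1, 1, 0, 0) : Vec4) +
    x.2.2.1 • ((0, 0, 0, 1) : Vec4) + x.2.2.2 • ((0, 0, 1, 1) : Vec4) := by decide

theorem combo_W : ∀ x : Vec4, matW x = x.1 • ((1, 0, 0, 0) : Vec4) + x.2.1 • ((0, 1, 0, 0) : Vec4) +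
    x.2.2.1 • ((1, 0, 1, 0) : Vec4) + x.2.2.2 • ((0, 1, 0, 1) : Vec4) := by decide

theorem combo_U : ∀ x : Vec4, matU x = x.1 • ((1, 0, 0, 0) : Vec4) + x.2.1 • ((1, 1, 0, 0) : Vec4) +
    x.2.2.1 • ((0, 0, 1, 0) : Vec4) + x.2.2.2 • ((0, 0, 1, 1) : Vec4) := by decide

theorem combo_one : ∀ x : Vec4, x = x.1 • ((1, 0, 0, 0) : Vec4) + x.2.1 • ((0, 1, 0, 0) : Vec4) +
    x.2.2.1 • ((0, 0, 1, 0) : Vec4) + x.2.2.2 • ((0, 0, 0, 1) : Vec4) := by decide

variable {G : Type*} [Group G] {z : G} {P : Subgroup G} {p y s v w u e t : G}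

/-- No conjugate of `z` other than `z` lies in `C_H(P)`. -/
def NoGoal (z : G) (P : Subgroup G) : Prop := ∀ g : G, g * z * g⁻¹ ∈ cC z P → g * z * g⁻¹ = z

variable [Finite G] (hC : Conf z P p y s v w u e t)

include hC

theorem Conf.y_cube : y ^ 3 = 1 := by rw [← hC.y_ord, pow_orderOf_eq_one]

theorem Conf.p_cube : p ^ 3 = 1 := yp_sq hC.p_mem hC.hJ

theorem Conf.p_memC : p ∈ cC z P := P_le_C hC.hJ hC.p_mem

theorem Conf.py : p * y = y * p := (C_comm_P hC.y_mem hC.p_mem).symm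

theorem Conf.p_W : p ∈ cW z y := mem_cW.2 ⟨C_comm_z hC.p_memC, hC.py⟩

theorem Conf.y_W : y ∈ cW z y := mem_cW.2 ⟨C_comm_z hC.y_mem, rfl⟩

theorem Conf.v_W : v ∈ cW z y := mem_cW.2 ⟨C_comm_z hC.v_mem, hC.v_y⟩

theorem Conf.w_W : w ∈ cW z y := mem_cW.2 ⟨C_comm_z hC.w_mem, hC.w_y⟩

theorem Conf.z_Q : z ∈ cQ z y := z_mem_Q hC.hJ hC.y_mem

theorem Conf.Q_le_W : cQ z y ≤ cW z y := inf_le_inf_right _ E_le_H

theorem Conf.z_W : z ∈ cW z y := hC.Q_le_W hC.z_Q

theorem Conf.z_C : z ∈ cC z P := ⟨z_mem_H, z_mem_C_P hC.hJ⟩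

theorem Conf.cRep_mem (i j : ℕ) (k l m : ZMod 2) : cRep p y v w u i j k l m ∈ cW z y :=
  mul_mem (mul_mem (mul_mem (mul_mem (pow_mem hC.y_W j) (pow_mem hC.p_W i)) (zp_mem hC.v_W k))
    (zp_mem hC.w_W l)) (zp_mem hC.u_mem m)

theorem Conf.conj_Q {h x : G} (hh : h ∈ cW z y) (hx : x ∈ cQ z y) : h * x * h⁻¹ ∈ cQ z y := by
  obtain ⟨h1, h2⟩ := mem_cW.1 hh
  obtain ⟨hE, hy⟩ := mem_cQ.1 hx
  exact mem_cQ.2 ⟨conj_mem_E h1 hE, (Commute.mul_left (Commute.mul_left h2 hy) (Commute.inv_left h2)).eq⟩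

theorem Conf.vec_P {x : G} (hx : x ∈ cQ z y) :
    vec z p e t (p * x * p⁻¹) = matP (vec z p e t x) := by
  have hJ := hC.hJ
  have hy := hC.y_mem
  have hQ := hC.card_Q
  have hc := hC.coord
  obtain ⟨h1, h2⟩ := mem_cW.1 hC.p_W
  rw [vec_conj hJ hc hy hQ h1 h2 hx, combo_P, vec_pe hJ hc, vec_pt hJ hc]
  have e1 : vec z p e t (p * (p * e * p⁻¹) * p⁻¹) = (1, 1, 0, 0) := by
    rw [((vec_eq_iff hJ hc hy hQ (hC.conj_Q hC.p_W hc.pe_mem) (mul_mem hc.e_mem hc.pe_mem))).2 hc.ppe,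
      vec_mul hJ hc hy hQ hc.e_mem hc.pe_mem, vec_e hJ hc, vec_pe hJ hc]
    decide
  have e2 : vec z p e t (p * (p * t * p⁻¹) * p⁻¹) = (0, 0, 1, 1) := by
    rw [((vec_eq_iff hJ hc hy hQ (hC.conj_Q hC.p_W hc.pt_mem) (mul_mem hc.t_mem hc.pt_mem))).2 hc.ppt,
      vec_mul hJ hc hy hQ hc.t_mem hc.pt_mem, vec_t hJ hc, vec_pt hJ hc]
    decide
  rw [e1, e2]

theorem Conf.vec_W {x : G} (hx : x ∈ cQ z y) :
    vec z p e t (w * x * w⁻¹) = matW (vec z p e t x) := by
  have hJ := hC.hJ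
  have hy := hC.y_mem
  have hQ := hC.card_Q
  have hc := hC.coord
  obtain ⟨h1, h2⟩ := mem_cW.1 hC.w_W
  rw [vec_conj hJ hc hy hQ h1 h2 hx, combo_W, hc.c_e, hc.c_pe, hc.c_t, hc.c_pt,
    vec_mul hJ hc hy hQ hc.t_mem hc.e_mem, vec_mul hJ hc hy hQ hc.pt_mem hc.pe_mem,
    vec_e hJ hc, vec_pe hJ hc, vec_t hJ hc, vec_pt hJ hc]
  simp

theorem Conf.vec_inner {q x : G} (hq : q ∈ cQ z y) (hx : x ∈ cQ z y) :
    vec z p e t (q * x * q⁻¹) = vec z p e t x := by
  refine (vec_eq_iff hC.hJ hC.coord hC.y_mem hC.card_Q (hC.conj_Q (hC.Q_le_W hq) hx) hx).2 ?_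
  rcases conj_eq (gen_split hC.hJ) (mem_cQ.1 hq).1 (mem_cQ.1 hx).1 with h | h
  · exact Or.inl h
  · exact Or.inr (by rw [h, ((gen_split hC.hJ).comm_z x (mem_cQ.1 hx).1).eq])

theorem Conf.vec_U {x : G} (hx : x ∈ cQ z y) :
    vec z p e t (u * x * u⁻¹) = matU (vec z p e t x) := by
  have hJ := hC.hJ
  have hy := hC.y_mem
  have hQ := hC.card_Q
  have hc := hC.coord
  obtain ⟨h1, h2⟩ := mem_cW.1 hC.u_mem
  obtain ⟨q, hq, hqp⟩ := hC.u_p
  have aux : ∀ f : G, f ∈ cQ z y → u * f * u⁻¹ = f →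
      vec z p e t (u * (p * f * p⁻¹) * u⁻¹) = matP (matP (vec z p e t f)) := by
    intro f hf huf
    have h3 : u * (p * f * p⁻¹) * u⁻¹ = q * (p⁻¹ * f * p) * q⁻¹ := by
      calc u * (p * f * p⁻¹) * u⁻¹ = (u * p * u⁻¹) * (u * f * u⁻¹) * (u * p * u⁻¹)⁻¹ := by group
        _ = _ := by rw [hqp, huf]; group
    have hpi : p⁻¹ = p * p := inv_eq_of_mul_eq_one_right (by rw [← mul_assoc, ← pow_three', hC.p_cube])
    have h4 : p⁻¹ * f * p = p * (p * f * p⁻¹) * p⁻¹ := by
      calc p⁻¹ * f * p = p⁻¹ * f * (p⁻¹)⁻¹ := by rw [inv_inv]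
        _ = (p * p) * f * (p * p)⁻¹ := by rw [hpi]
        _ = _ := by group
    rw [h3, h4, hC.vec_inner hq (hC.conj_Q hC.p_W (hC.conj_Q hC.p_W hf)),
      hC.vec_P (hC.conj_Q hC.p_W hf), hC.vec_P hf]
  rw [vec_conj hJ hc hy hQ h1 h2 hx, combo_U, aux e hc.e_mem hC.u_e, aux t hc.t_mem hC.u_t, hC.u_e, hC.u_t,
    vec_e hJ hc, vec_t hJ hc]
  rfl

theorem Conf.vec_Vy {g x : G} (hg : g = v ∨ g = y) (hx : x ∈ cQ z y) : g * x * g⁻¹ = x := by
  rcases hg with rfl | rfl
  · rw [hC.v_Q x hx, mul_inv_cancel_right]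
  · rw [← (mem_cQ.1 hx).2, mul_inv_cancel_right]

/-- The action of `q * cRep p y v w u i j k l m` on coordinates. -/
theorem Conf.vec_act {q x : G} (hq : q ∈ cQ z y) (i j : ℕ) (k l m : ZMod 2) (hx : x ∈ cQ z y) :
    vec z p e t (q * cRep p y v w u i j k l m * x * (q * cRep p y v w u i j k l m)⁻¹) =
      mat i l m (vec z p e t x) := by
  set x1 := zp u m * x * (zp u m)⁻¹ with hx1
  set x2 := zp w l * x1 * (zp w l)⁻¹ with hx2
  have m1 : x1 ∈ cQ z y := hC.conj_Q (zp_mem hC.u_mem m) hx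
  have m2 : x2 ∈ cQ z y := hC.conj_Q (zp_mem hC.w_W l) m1
  have v1 : vec z p e t x1 = matU^[m.val] (vec z p e t x) := by
    rw [hx1]
    rcases zmod_cases m with rfl | rfl
    · simp [zp_zero]
    · simp [zp_one, hC.vec_U hx, ZMod.val_one]
  have v2 : vec z p e t x2 = matW^[l.val] (vec z p e t x1) := by
    rw [hx2]
    rcases zmod_cases l with rfl | rfl
    · simp [zp_zero]
    · simp [zp_one, hC.vec_W m1, ZMod.val_one]
  have hp : ∀ (n : ℕ), ∀ x3 ∈ cQ z y, vec z p e t (p ^ n * x3 * (p ^ n)⁻¹) = matP^[n] (vec z p e t x3) := by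
    intro n
    induction n with
    | zero => intro x3 _; simp
    | succ n ih =>
      intro x3 h3
      have : p ^ (n + 1) * x3 * (p ^ (n + 1))⁻¹ = p * (p ^ n * x3 * (p ^ n)⁻¹) * p⁻¹ := by
        rw [pow_succ']; group
      rw [this, hC.vec_P (hC.conj_Q (pow_mem hC.p_W n) h3), ih x3 h3, Function.iterate_succ_apply']
  have hvv : zp v k * x2 * (zp v k)⁻¹ = x2 := by
    rcases zp_cases v k with h | h <;> rw [h]
    · simp
    · exact hC.vec_Vy (Or.inl rfl) m2
  have m3 : p ^ i * x2 * (p ^ i)⁻¹ ∈ cQ z y := hC.conj_Q (pow_mem hC.p_W i) m2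
  have hyy : y ^ j * (p ^ i * x2 * (p ^ i)⁻¹) * (y ^ j)⁻¹ = p ^ i * x2 * (p ^ i)⁻¹ := by
    rw [← ((show Commute _ y from (mem_cQ.1 m3).2).pow_right j).eq, mul_inv_cancel_right]
  have e1 : q * cRep p y v w u i j k l m * x * (q * cRep p y v w u i j k l m)⁻¹ =
      q * (y ^ j * (p ^ i * (zp v k * x2 * (zp v k)⁻¹) * (p ^ i)⁻¹) * (y ^ j)⁻¹) * q⁻¹ := by
    simp only [cRep, hx2, hx1]; group
  rw [e1, hvv, hyy, hC.vec_inner hq m3, hp i x2 m2, v2, v1]
  rfl

theorem Conf.v_not_Q {q : G} (hq : q ∈ cE z) : q * v ∉ cE z := by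
  intro h
  have hv : v ∈ cE z := by simpa using mul_mem (inv_mem hq) h
  have : v ∈ cE z ⊓ Subgroup.centralizer (P : Set G) := ⟨hv, hC.v_mem.2⟩
  rw [E_inf_centralizer hC.hJ] at this
  exact hC.v_not (Subgroup.mem_sup_left this)

theorem Conf.z_cases {g : G} (hg : g ∈ cC z P) (hgE : g ∈ cE z) : g = 1 ∨ g = z := by
  have : g ∈ cE z ⊓ Subgroup.centralizer (P : Set G) := ⟨hgE, hg.2⟩
  rw [E_inf_centralizer hC.hJ] at this
  exact (mem_zpowers_iff (z_mul_self hC.hJ)).1 this

theorem Conf.rep_zero {i j : ℕ} {k l m : ZMod 2} (hi : i < 3) (hj : j < 3)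
    (h : cRep p y v w u i j k l m ∈ cE z) : i = 0 ∧ j = 0 ∧ k = 0 ∧ l = 0 ∧ m = 0 := by
  have hc : y ^ j * p ^ i * zp v k * zp w l ∈ cC z P :=
    mul_mem (mul_mem (mul_mem (pow_mem hC.y_mem j) (pow_mem hC.p_memC i)) (zp_mem hC.v_mem k))
      (zp_mem hC.w_mem l)
  rcases zmod_cases m with rfl | rfl
  · simp only [cRep, zp_zero, mul_one] at h
    have hz := hC.z_cases hc h
    have hyp : Commute y p := C_comm_P hC.y_mem hC.p_mem
    have hzz := z_mul_self hC.hJ
    have hsq : (y ^ j * p ^ i * zp v k * zp w l) * (y ^ j * p ^ i * zp v k * zp w l) = 1 := by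
      rcases hz with e1 | e1 <;> rw [e1]
      · exact one_mul 1
      · exact hzz
    have hvp : Commute v p := C_comm_P hC.v_mem hC.p_mem
    have hwp : Commute w p := C_comm_P hC.w_mem hC.p_mem
    set r := zp v k * zp w l with hr
    have hrr : r * r = 1 := by
      have hk : zp v k * zp v k = 1 := by
        rw [zp_mul_self hC.v_sq, ← two_mul, show (2 : ZMod 2) = 0 from by decide, zero_mul, zp_zero]
      have hl : zp w l * zp w l = 1 := by
        rw [zp_mul_self hC.w_sq, ← two_mul, show (2 : ZMod 2) = 0 from by decide, zero_mul, zp_zero]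
      calc r * r = zp v k * (zp w l * zp v k) * zp w l := by rw [hr]; group
        _ = zp v k * (zp v k * zp w l) * zp w l := by
            rw [zp_comm (zp_comm hC.v_w k).symm l]
        _ = (zp v k * zp v k) * (zp w l * zp w l) := by group
        _ = 1 := by rw [hk, hl, one_mul]
    have hry : Commute r y := by
      refine Commute.mul_left ?_ ?_
      · exact zp_comm hC.v_y k
      · exact zp_comm hC.w_y l
    have hrp : Commute r p := by
      refine Commute.mul_left ?_ ?_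
      · exact zp_comm hvp k
      · exact zp_comm hwp l
    have hg : Commute (y ^ j * p ^ i) r :=
      ((hry.symm.pow_left j).mul_left (hrp.symm.pow_left i))
    have h2 : (y ^ j * p ^ i) * (y ^ j * p ^ i) = 1 := by
      have : (y ^ j * p ^ i * r) * (y ^ j * p ^ i * r) = 1 := by
        rw [← hsq, hr]; group
      calc (y ^ j * p ^ i) * (y ^ j * p ^ i) = (y ^ j * p ^ i) * (y ^ j * p ^ i) * (r * r) := by
            rw [hrr, mul_one]
        _ = (y ^ j * p ^ i) * ((y ^ j * p ^ i) * r) * r := by group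
        _ = (y ^ j * p ^ i) * (r * (y ^ j * p ^ i)) * r := by rw [hg.eq]
        _ = 1 := by rw [← this]; group
    have h3 : (y ^ j * p ^ i) ^ 3 = 1 := by
      rw [(hyp.pow_pow j i).mul_pow, ← pow_mul, ← pow_mul, mul_comm j, mul_comm i, pow_mul, pow_mul,
        hC.y_cube, hC.p_cube, one_pow, one_pow, one_mul]
    have h1 : y ^ j * p ^ i = 1 := by
      rw [pow_succ, pow_two, h2, one_mul] at h3
      exact h3
    have hj0 : j = 0 := by
      by_contra hne
      apply hC.y_not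
      have hyj : y ^ j ∈ P := by
        rw [eq_inv_of_mul_eq_one_left h1]
        exact inv_mem (pow_mem hC.p_mem i)
      interval_cases j
      · exact absurd rfl hne
      · simpa using hyj
      · have := mul_mem hyj hyj
        have h4 : y ^ 2 * y ^ 2 = y := by
          rw [← pow_add, show 2 + 2 = 3 + 1 from rfl, pow_succ, hC.y_cube, one_mul]
        rwa [h4] at this
    subst hj0
    have hi0 : i = 0 := by
      rw [pow_zero, one_mul] at h1
      by_contra hne
      apply hC.p_ne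
      interval_cases i
      · exact absurd rfl hne
      · simpa using h1
      · have h3 := hC.p_cube
        rw [pow_succ, h1, one_mul] at h3
        exact h3
    subst hi0
    simp only [pow_zero, one_mul] at hz
    have hK : zp v k * zp w l ∈ cK z P := by
      rcases hz with e1 | e1 <;> rw [e1]
      · exact one_mem _
      · exact Subgroup.mem_sup_left (Subgroup.mem_zpowers z)
    rcases zmod_cases k with rfl | rfl <;> rcases zmod_cases l with rfl | rfl <;>
      simp only [zp_zero, zp_one, one_mul, mul_one] at hK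
    · exact ⟨rfl, rfl, rfl, rfl, rfl⟩
    · exact absurd hK hC.w_not
    · exact absurd hK hC.v_not
    · exact absurd hK hC.vw_not
  · exfalso
    simp only [cRep, zp_one] at h
    set c := y ^ j * p ^ i * zp v k * zp w l
    refine hC.u_not (c * u)⁻¹ (inv_mem h) ?_
    have : u * (c * u)⁻¹ = c⁻¹ := by group
    rw [this]
    exact inv_mem hc

theorem Conf.u_sq' : ∃ q ∈ cQ z y, ∃ k : ZMod 2, u * u = q * zp v k := by
  obtain ⟨q, hq, k, l, huu⟩ := hC.u_sq
  rcases zmod_cases l with rfl | rfl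
  · exact ⟨q, hq, k, by rw [huu, zp_zero, mul_one]⟩
  · exfalso
    rw [zp_one] at huu
    have h1 : u * (u * u) * u⁻¹ = u * u := by group
    rw [huu] at h1
    have huv : u * zp v k * u⁻¹ = zp v k := by rw [zp_conj, hC.u_v]
    have h2 : u * (q * zp v k * w) * u⁻¹ = (u * q * u⁻¹) * zp v k * (v * w) := by
      calc u * (q * zp v k * w) * u⁻¹ = (u * q * u⁻¹) * (u * zp v k * u⁻¹) * (u * w * u⁻¹) := by group
        _ = _ := by rw [huv, hC.u_w]
    rw [h2, mul_assoc, ← mul_assoc (zp v k), zp_comm rfl, mul_assoc v, ← mul_assoc] at h1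
    have h3 : u * q * u⁻¹ * v = q := by
      have := mul_right_cancel (b := zp v k * w) (c := q) (a := u * q * u⁻¹ * v) (by
        rw [h1, mul_assoc])
      exact this
    exact hC.v_not_Q (mem_cQ.1 (hC.conj_Q hC.u_mem hq)).1 (by rw [h3]; exact (mem_cQ.1 hq).1)

/-- An involution of `W` with trivial `P`-part has trivial `y`-part. -/
theorem Conf.invol_rep {h : G} (hW : h ∈ cW z y) (h2 : h * h = 1) :
    ∃ q ∈ cQ z y, ∃ i j : ℕ, i < 3 ∧ j < 3 ∧ ∃ k l m : ZMod 2,
      h = q * cRep p y v w u i j k l m ∧ ((i = 0 ∨ m = 0) → i = 0 ∧ j = 0) := by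
  obtain ⟨q, hq, i, j, hi, hj, k, l, m, hh⟩ := hC.nf h hW
  refine ⟨q, hq, i, j, hi, hj, k, l, m, hh, fun him => ?_⟩
  set c := cRep p y v w u i j k l m with hc
  have hcW := hC.cRep_mem i j k l m
  have hcc : c * c ∈ cE z := by
    have h3 : q * (c * q * c⁻¹) * (c * c) = 1 := by rw [← h2, hh]; group
    rw [eq_inv_of_mul_eq_one_right h3]
    exact inv_mem (mul_mem (mem_cQ.1 hq).1 (mem_cQ.1 (hC.conj_Q hcW hq)).1)
  have hyp : Commute y p := C_comm_P hC.y_mem hC.p_mem
  have hyW : ∀ g ∈ cW z y, Commute y g := fun g hg => (mem_cW.1 hg).2.symm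
  rcases zmod_cases m with rfl | rfl
  · -- inner: the square is `y^(2j) p^(2i)`
    have e1 : c * c = cRep p y v w u ((i + i) % 3) ((j + j) % 3) 0 0 0 := by
      have ep : p ^ ((i + i) % 3) = p ^ (i + i) := by
        conv_rhs => rw [← Nat.mod_add_div (i + i) 3, pow_add, pow_mul, hC.p_cube, one_pow, mul_one]
      have ey : y ^ ((j + j) % 3) = y ^ (j + j) := by
        conv_rhs => rw [← Nat.mod_add_div (j + j) 3, pow_add, pow_mul, hC.y_cube, one_pow, mul_one]
      set r := zp v k * zp w l with hr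
      have hrW : r ∈ cW z y := mul_mem (zp_mem hC.v_W k) (zp_mem hC.w_W l)
      have hrp : Commute r p :=
        Commute.mul_left (zp_comm (C_comm_P hC.v_mem hC.p_mem) k) (zp_comm (C_comm_P hC.w_mem hC.p_mem) l)
      have hk : zp v k * zp v k = 1 := by
        rw [zp_mul_self hC.v_sq, ← two_mul, show (2 : ZMod 2) = 0 from by decide, zero_mul, zp_zero]
      have hl : zp w l * zp w l = 1 := by
        rw [zp_mul_self hC.w_sq, ← two_mul, show (2 : ZMod 2) = 0 from by decide, zero_mul, zp_zero]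
      have hrr : r * r = 1 := by
        calc r * r = zp v k * (zp w l * zp v k) * zp w l := by rw [hr]; group
          _ = zp v k * (zp v k * zp w l) * zp w l := by rw [zp_comm (zp_comm hC.v_w k).symm l]
          _ = (zp v k * zp v k) * (zp w l * zp w l) := by group
          _ = 1 := by rw [hk, hl, one_mul]
      have hcr : c = y ^ j * p ^ i * r := by simp [hc, cRep, hr, zp_zero, mul_assoc]
      have hg : Commute r (y ^ j * p ^ i) := ((hyW r hrW).symm.pow_right j).mul_right (hrp.pow_right i)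
      calc c * c = (y ^ j * p ^ i) * (r * (y ^ j * p ^ i)) * r := by rw [hcr]; group
        _ = (y ^ j * p ^ i) * (y ^ j * p ^ i) * (r * r) := by rw [hg.eq]; group
        _ = y ^ j * (p ^ i * y ^ j) * p ^ i := by rw [hrr, mul_one]; group
        _ = y ^ j * (y ^ j * p ^ i) * p ^ i := by rw [(hyp.pow_pow j i).eq]
        _ = y ^ (j + j) * p ^ (i + i) := by rw [pow_add, pow_add]; group
        _ = _ := by simp [cRep, zp_zero, ep, ey]
    rw [e1] at hcc
    obtain ⟨h0, h0', -⟩ := hC.rep_zero (Nat.mod_lt _ (by norm_num)) (Nat.mod_lt _ (by norm_num)) hcc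
    constructor <;> omega
  · rcases him with rfl | hm
    · refine ⟨rfl, ?_⟩
      obtain ⟨q1, hq1, k1, huu⟩ := hC.u_sq'
      have huk : u * zp v k * u⁻¹ = zp v k := by rw [zp_conj, hC.u_v]
      have hul : u * zp w l * u⁻¹ = zp v l * zp w l := by
        rw [zp_conj, hC.u_w]
        rcases zmod_cases l with rfl | rfl <;> simp [zp_zero, zp_one]
      set r := zp v k * zp w l with hr
      have hrW : r ∈ cW z y := mul_mem (zp_mem hC.v_W k) (zp_mem hC.w_W l)
      have hur : u * r * u⁻¹ = zp v (k + l) * zp w l := by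
        calc u * r * u⁻¹ = (u * zp v k * u⁻¹) * (u * zp w l * u⁻¹) := by rw [hr]; group
          _ = _ := by rw [huk, hul, ← mul_assoc, zp_mul_self hC.v_sq]
      have hcr : c = y ^ j * (r * u) := by simp [hc, cRep, hr, zp_one, mul_assoc]
      have hrr : r * (u * r * u⁻¹) = zp v l := by
        rw [hur, hr]
        calc zp v k * zp w l * (zp v (k + l) * zp w l)
            = zp v k * (zp w l * zp v (k + l)) * zp w l := by group
          _ = zp v k * (zp v (k + l) * zp w l) * zp w l := by rw [zp_comm (zp_comm hC.v_w (k + l)).symm l]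
          _ = (zp v k * zp v (k + l)) * (zp w l * zp w l) := by group
          _ = zp v l := by
              rw [zp_mul_self hC.v_sq, zp_mul_self hC.w_sq, ← add_assoc, ← two_mul, ← two_mul,
                show (2 : ZMod 2) = 0 from by decide, zero_mul, zero_mul, zero_add, zp_zero, mul_one]
      have hru : Commute (r * u) y := ((hyW r hrW).symm).mul_left (mem_cW.1 hC.u_mem).2
      have e2 : c * c = y ^ (j + j) * (zp v l * (q1 * zp v k1)) := by
        calc c * c = y ^ j * ((r * u) * y ^ j) * (r * u) := by rw [hcr]; group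
          _ = y ^ j * (y ^ j * (r * u)) * (r * u) := by rw [(hru.pow_right j).eq]
          _ = y ^ (j + j) * ((r * (u * r * u⁻¹)) * (u * u)) := by rw [pow_add]; group
          _ = _ := by rw [hrr, huu]
      rw [e2] at hcc
      have hvq : zp v l * q1 = q1 * zp v l := zp_comm (hC.v_Q q1 hq1) l
      have e3 : y ^ (j + j) * (zp v l * (q1 * zp v k1)) = q1 * (y ^ (j + j) * zp v (l + k1)) := by
        rw [← mul_assoc (zp v l), hvq, mul_assoc q1, zp_mul_self hC.v_sq, ← mul_assoc,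
          ← ((show Commute q1 y from (mem_cQ.1 hq1).2).pow_right (j + j)).eq, mul_assoc]
      rw [e3] at hcc
      have h4 : y ^ (j + j) * zp v (l + k1) ∈ cE z := by
        simpa using mul_mem (inv_mem (mem_cQ.1 hq1).1) hcc
      have ey : y ^ ((j + j) % 3) = y ^ (j + j) := by
        conv_rhs => rw [← Nat.mod_add_div (j + j) 3, pow_add, pow_mul, hC.y_cube, one_pow, mul_one]
      have h5 : cRep p y v w u 0 ((j + j) % 3) (l + k1) 0 0 ∈ cE z := by
        simpa [cRep, zp_zero, ey] using h4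
      obtain ⟨-, h0, -⟩ := hC.rep_zero (by norm_num) (Nat.mod_lt _ (by norm_num)) h5
      omega
    · exact absurd hm (by decide)

/-- An involution `q * w` or `q * v * w` of `W` is conjugate into `C_H(P)`, off `z`. -/
theorem Conf.w_coset {x q : G} (hq : q ∈ cQ z y) {k : ZMod 2}
    (hx : x = q * cRep p y v w u 0 0 k 1 0) (hx2 : x * x = 1) :
    ∃ a : G, a * x * a⁻¹ ∈ cC z P ∧ a * x * a⁻¹ ≠ z := by
  have hJ := hC.hJ
  have hc := hC.coord
  set g := zp v k * w with hg
  have hx' : x = q * g := by rw [hx]; simp [cRep, zp_zero, zp_one, hg, mul_assoc]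
  have hgW : g ∈ cW z y := mul_mem (zp_mem hC.v_W k) hC.w_W
  have hgg : g * g = 1 := by
    rw [hg]
    calc zp v k * w * (zp v k * w) = zp v k * (w * zp v k) * w := by group
      _ = (zp v k * zp v k) * (w * w) := by rw [← zp_comm hC.v_w k]; group
      _ = 1 := by
          rw [zp_mul_self hC.v_sq, hC.w_sq, mul_one, ← two_mul, show (2 : ZMod 2) = 0 from by decide,
            zero_mul, zp_zero]
  have hgi : g⁻¹ = g := inv_eq_of_mul_eq_one_right hgg
  have hqg : g * q * g⁻¹ = q⁻¹ := by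
    refine (inv_eq_of_mul_eq_one_right ?_).symm
    rw [hgi, ← hx2, hx']; group
  have hfix : matW (vec z p e t q) = vec z p e t q := by
    have h1 := hC.vec_act (one_mem _) 0 0 k 1 0 hq
    have h2 : (1 : G) * cRep p y v w u 0 0 k 1 0 = g := by simp [cRep, zp_zero, zp_one, hg]
    rw [h2, hqg] at h1
    have h3 : vec z p e t q⁻¹ = vec z p e t q := by
      refine (vec_eq_iff hJ hc hC.y_mem hC.card_Q (inv_mem hq) hq).2 ?_
      rcases (gen_split hJ).square q (mem_cQ.1 hq).1 with e1 | e1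
      · exact Or.inl (inv_eq_of_mul_eq_one_right e1)
      · exact Or.inr (inv_eq_of_mul_eq_one_right (by rw [← mul_assoc, e1, z_mul_self hJ]))
    rw [h3] at h1
    simpa [mat, ZMod.val_one] using h1.symm
  have hvec : (vec z p e t q).2.2.1 = 0 ∧ (vec z p e t q).2.2.2 = 0 :=
    (by decide : ∀ a : Vec4, matW a = a → a.2.2.1 = 0 ∧ a.2.2.2 = 0) _ hfix
  obtain ⟨n, hn⟩ := exists_vec hJ hc hC.y_mem hC.card_Q hq
  generalize vec z p e t q = a at hn hvec
  obtain ⟨a1, a2, a3, a4⟩ := a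
  obtain ⟨rfl, rfl⟩ := hvec
  simp only [elt, zp_zero, mul_one] at hn
  set pe := p * e * p⁻¹ with hpe
  set pt := p * t * p⁻¹ with hpt
  have hpt2 : pt * pt = 1 := by
    calc pt * pt = p * (t * t) * p⁻¹ := by rw [hpt]; group
      _ = 1 := by rw [hc.t_sq]; group
  have hvt : ∀ f ∈ cQ z y, Commute f (zp v k) := fun f hf => (zp_comm (hC.v_Q f hf) k).symm
  have hwz : Commute (zp z n) w := zp_comm (C_comm_z hC.w_mem).symm n
  have ct : t * w * t⁻¹ = e * w := by
    have h1 : w * t⁻¹ = (t * e)⁻¹ * w := by rw [← hc.c_t]; group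
    rw [mul_assoc, h1, ← mul_assoc, mul_inv_rev, inv_eq_of_mul_eq_one_right hc.e_sq,
      inv_eq_of_mul_eq_one_right hc.t_sq, ← mul_assoc t, ← hc.e_t, mul_assoc e, hc.t_sq, mul_one]
  have cpt : pt * w * pt⁻¹ = pe * w := by
    have h0 : w * pt * w⁻¹ = pt * pe := hc.c_pt
    have h1 : w * pt⁻¹ = (pt * pe)⁻¹ * w := by rw [← h0]; group
    have hpe2 : pe * pe = 1 := by
      calc pe * pe = p * (e * e) * p⁻¹ := by rw [hpe]; group
        _ = 1 := by rw [hc.e_sq]; group
    rw [mul_assoc, h1, ← mul_assoc, mul_inv_rev, inv_eq_of_mul_eq_one_right hpe2,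
      inv_eq_of_mul_eq_one_right hpt2, ← mul_assoc pt, ← hc.pe_pt, mul_assoc pe, hpt2, mul_one]
  set a := zp pt a2 * zp t a1 with ha
  have haQ : a ∈ cQ z y := mul_mem (zp_mem hc.pt_mem _) (zp_mem hc.t_mem _)
  have hte : pt * e * pt⁻¹ = e * z := by
    have h0 : pt * e = e * pt * z := hc.pt_e
    calc pt * e * pt⁻¹ = e * (pt * z) * pt⁻¹ := by rw [h0]; group
      _ = e * (z * pt) * pt⁻¹ := by rw [((gen_split hJ).comm_z pt (mem_cQ.1 hc.pt_mem).1).eq]
      _ = e * z := by group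
  have haw : a * w * a⁻¹ = zp z (a1 * a2) * (zp e a1 * zp pe a2) * w := by
    have h1 : a * w * a⁻¹ = zp pt a2 * (zp t a1 * w * (zp t a1)⁻¹) * (zp pt a2)⁻¹ := by rw [ha]; group
    rw [h1]
    rcases zmod_cases a1 with rfl | rfl <;> rcases zmod_cases a2 with rfl | rfl <;>
      simp only [zp_zero, zp_one, one_mul, mul_one, inv_one, zero_mul, mul_zero]
    · exact cpt
    · exact ct
    · rw [ct]
      calc pt * (e * w) * pt⁻¹ = (pt * e * pt⁻¹) * (pt * w * pt⁻¹) := by group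
        _ = e * z * (pe * w) := by rw [hte, cpt]
        _ = (z * e) * (pe * w) := by rw [((gen_split hJ).comm_z e (mem_cQ.1 hc.e_mem).1).eq]
        _ = _ := by group
  refine ⟨a⁻¹, ?_⟩
  have hval : a⁻¹ * x * a⁻¹⁻¹ = zp z (n + a1 * a2) * g := by
    have hzcomm : ∀ (i : ZMod 2), ∀ f ∈ cQ z y, f * zp z i = zp z i * f := fun i f hf =>
      (zp_comm ((gen_split hJ).comm_z f (mem_cQ.1 hf).1).eq.symm i).symm
    have hx3 : x = zp z (n + a1 * a2) * zp v k * (a * w * a⁻¹) := by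
      rw [haw, hx', hn, hg]
      have h5 : zp e a1 * zp pe a2 ∈ cQ z y := mul_mem (zp_mem hc.e_mem _) (zp_mem hc.pe_mem _)
      have h6 : zp v k * (zp z (a1 * a2) * (zp e a1 * zp pe a2)) = zp z (a1 * a2) * (zp e a1 * zp pe a2) * zp v k :=
        (hvt _ (mul_mem (zp_mem hC.z_Q _) h5)).symm.eq
      calc zp e a1 * zp pe a2 * zp z n * (zp v k * w)
          = (zp e a1 * zp pe a2) * zp z n * zp v k * w := by group
        _ = zp z n * (zp e a1 * zp pe a2) * zp v k * w := by rw [hzcomm n _ h5]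
        _ = zp z (n + a1 * a2) * (zp z (a1 * a2) * (zp e a1 * zp pe a2) * zp v k) * w := by
            rw [← zp_mul_self (z_mul_self hJ) n]
            have h7 : zp z (a1 * a2) * zp z (a1 * a2) = 1 := by
              rw [zp_mul_self (z_mul_self hJ), ← two_mul, show (2 : ZMod 2) = 0 from by decide, zero_mul, zp_zero]
            calc zp z n * (zp e a1 * zp pe a2) * zp v k * w
                = zp z n * (zp z (a1 * a2) * zp z (a1 * a2)) * (zp e a1 * zp pe a2) * zp v k * w := by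
                  rw [h7, mul_one]
              _ = _ := by group
        _ = _ := by rw [← h6]; group
    have hza : Commute a⁻¹ (zp z (n + a1 * a2)) := Commute.inv_left (hzcomm _ a haQ)
    have hva : Commute a⁻¹ (zp v k) := Commute.inv_left (hvt a haQ)
    rw [hx3, inv_inv]
    calc a⁻¹ * (zp z (n + a1 * a2) * zp v k * (a * w * a⁻¹)) * a
        = (a⁻¹ * zp z (n + a1 * a2)) * zp v k * a * w := by group
      _ = zp z (n + a1 * a2) * (a⁻¹ * zp v k) * a * w := by rw [hza.eq]; group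
      _ = _ := by rw [hva.eq, hg]; group
  rw [hval]
  refine ⟨mul_mem (zp_mem hC.z_C _) (mul_mem (zp_mem hC.v_mem _) hC.w_mem), fun h => ?_⟩
  have hgK : g ∈ cK z P := by
    have : g = (zp z (n + a1 * a2))⁻¹ * z := by
      calc g = (zp z (n + a1 * a2))⁻¹ * (zp z (n + a1 * a2) * g) := by group
        _ = _ := by rw [h]
    rw [this]
    exact mul_mem (inv_mem (zp_mem (Subgroup.mem_sup_left (Subgroup.mem_zpowers z)) _))
      (Subgroup.mem_sup_left (Subgroup.mem_zpowers z))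
  rcases zmod_cases k with rfl | rfl <;> simp only [hg, zp_zero, zp_one, one_mul] at hgK
  · exact hC.w_not hgK
  · exact hC.vw_not hgK

end CfsgLib.J4Local
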