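/-
Janko-four type: fusion of `z` inside C(y), under the assumption that no other conjugate of `z`
lies in C_H(P).
-/
import Cfsg.Agent.J4Local.WCalc

set_option autoImplicit false
set_option linter.style.haveILetI false
set_option synthInstance.maxSize 2048
set_option synthInstance.maxHeartbeats 200000

namespace CfsgLib.J4Local

open Subgroup
open CfsgLib.Extra2 CfsgLib.LargeExtra

variable {G : Type*} [Group G]

/-- A conjugate of `z` other than `z` in `C_E(y)`. -/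
def Omega (z y a : G) : Prop := a ∈ cQ z y ∧ a ≠ z ∧ ∃ g : G, g * z * g⁻¹ = a

/-- Vectors off the line of `e`, singular. -/
def Big (x : Vec4) : Prop := qf x = 0 ∧ ¬ (x.2.2.1 = 0 ∧ x.2.2.2 = 0)

/-- Non-zero vectors of the line of `e`. -/
def Small (x : Vec4) : Prop := x ≠ 0 ∧ x.2.2.1 = 0 ∧ x.2.2.2 = 0

instance (x : Vec4) : Decidable (Big x) := inferInstanceAs (Decidable (_ ∧ _))

instance (x : Vec4) : Decidable (Small x) := inferInstanceAs (Decidable (_ ∧ _))

theorem big_or_small : ∀ x : Vec4, qf x = 0 → x ≠ 0 → Big x ∨ Small x := by decide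

theorem big_trans : ∀ a b : Vec4, Big a → Big b → ∃ i : Fin 3, ∃ l : ZMod 2, mat i l 0 a = b := by
  decide +kernel

theorem small_trans : ∀ a b : Vec4, Small a → Small b → ∃ i : Fin 3, mat i 0 0 a = b := by
  decide +kernel

theorem fix_centre : ∀ (a : Vec4) (i : Fin 3) (l m : ZMod 2), qf a = 0 → a ≠ 0 →
    (∀ x, bil x a = 0 → mat i l m x = x) → i = 0 ∧ l = 0 ∧ m = 0 := by decide +kernel

theorem perp_perp : ∀ a q : Vec4, qf a = 0 → a ≠ 0 → (∀ x, bil x a = 0 → bil q x = 0) →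
    q = 0 ∨ q = a := by decide +kernel

theorem fix_e : ∀ (i : Fin 3) (l m : ZMod 2), mat i l m (1, 0, 0, 0) = (1, 0, 0, 0) → i = 0 := by
  decide +kernel

theorem fix_t : ∀ (i : Fin 3) (l m : ZMod 2), mat i l m (0, 0, 1, 0) = (0, 0, 1, 0) → i = 0 ∧ l = 0 := by
  decide +kernel

theorem fix_e_pe : ∀ (i : Fin 3) (l m : ZMod 2), mat i l m (1, 0, 0, 0) = (1, 0, 0, 0) →
    mat i l m (0, 1, 0, 0) = (0, 1, 0, 0) → i = 0 ∧ m = 0 := by decide +kernel

theorem perp_line : ∀ a q : Vec4, qf a = 0 → a ≠ 0 → bil q a = 0 → bil q (matP a) = 0 →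
    q = 0 ∨ q = a ∨ q = matP a ∨ q = a + matP a := by decide +kernel

theorem off_line : ∀ a q : Vec4, qf a = 0 → a ≠ 0 → qf q = 0 → q ≠ 0 → bil q a = 0 → q ≠ a →
    q ≠ matP a → q ≠ matP (matP a) → bil (matP a) q = 1 := by decide +kernel

theorem line_image : ∀ (a : Vec4) (i : Fin 3) (l m : ZMod 2), qf a = 0 → a ≠ 0 → mat i l m a = a →
    mat i l m (matP a) = matP a ∨ mat i l m (matP a) = a + matP a := by decide +kernel

theorem matP_facts : ∀ a : Vec4, qf a = 0 → a ≠ 0 → qf (matP a) = 0 ∧ matP a ≠ 0 ∧ matP a ≠ a ∧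
    bil a (matP a) = 0 ∧ a + matP a = matP (matP a) := by decide +kernel

theorem nondeg_exists : ∀ a : Vec4, a ≠ 0 → ∃ x, bil x a = 1 := by decide

variable [Finite G] {z : G} {P : Subgroup G} {p y s v w u e t : G} (hC : Conf z P p y s v w u e t)

include hC

/-- An element of order three of `C(z)` is conjugate there into `C_H(P)`. -/
theorem Conf.three_into_C {r : G} (hr : r * z = z * r) (hr3 : orderOf r = 3) :
    ∃ h : G, h * z = z * h ∧ h * r * h⁻¹ ∈ cC z P := by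
  have hJ := hC.hJ
  haveI : Fact (Nat.Prime 3) := ⟨Nat.prime_three⟩
  obtain ⟨N, -, hNH, -, hcardN, ⟨hnor, ⟨eN⟩⟩, -⟩ := hJ.2.2.2.2.1
  haveI := hnor
  have hH : Nat.card ↥(cH z) = 887040 * (3 * 2 ^ 13) := by
    rw [Subgroup.card_eq_card_quotient_mul_card_subgroup (N.subgroupOf (cH z)), Nat.card_congr eN.toEquiv,
      card_aut_m22]
    congr 1
    rw [Nat.card_congr (Subgroup.subgroupOfEquivOfLe hNH).toEquiv, hcardN, card_E hJ]
  let C0 := (cC z P).subgroupOf (cH z)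
  have hC0 : Nat.card ↥C0 = 6 * 443520 := by
    rw [Nat.card_congr (Subgroup.subgroupOfEquivOfLe inf_le_left).toEquiv, card_C hJ]
  obtain ⟨S⟩ : Nonempty (Sylow 3 ↥C0) := inferInstance
  have hidx : C0.index = 2 ^ 13 := by
    have h := C0.card_mul_index
    rw [hC0, hH] at h
    norm_num at h ⊢
    omega
  have hS : ¬ 3 ∣ ((S : Subgroup ↥C0).map C0.subtype).index := by
    rw [Subgroup.index_map, Subgroup.ker_subtype, sup_bot_eq, Subgroup.range_subtype, hidx,
      Nat.prime_three.dvd_mul]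
    rintro (h | h)
    · exact S.not_dvd_index h
    · norm_num at h
  let S' : Sylow 3 ↥(cH z) := ((S.2).map C0.subtype).toSylow hS
  have hrp : IsPGroup 3 ↥(Subgroup.zpowers (⟨r, mem_cH.2 hr⟩ : ↥(cH z))) :=
    IsPGroup.of_card (n := 1) (by rw [Nat.card_zpowers, Subgroup.orderOf_mk, hr3, pow_one])
  obtain ⟨T, hT⟩ := hrp.exists_le_sylow
  obtain ⟨g, hg⟩ := MulAction.exists_smul_eq ↥(cH z) T S'
  refine ⟨g, mem_cH.1 g.2, ?_⟩
  have h1 : g * ⟨r, mem_cH.2 hr⟩ * g⁻¹ ∈ (S' : Subgroup ↥(cH z)) := by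
    rw [← hg, Sylow.coe_subgroup_smul]
    exact ⟨⟨r, mem_cH.2 hr⟩, hT (Subgroup.mem_zpowers _), rfl⟩
  obtain ⟨x, -, hx⟩ := h1
  have h2 := x.2
  simp only [Subgroup.coe_subtype] at hx
  rw [hx] at h2
  exact h2

/-- Fusion of `z` with an element commuting with `y` happens in `C(y)`. -/
theorem Conf.exists_Y (hNG : NoGoal z P) {x g : G} (hx : g * z * g⁻¹ = x) (hxz : x * z = z * x)
    (hxy : x * y = y * x) : ∃ n : G, n * y = y * n ∧ n * z * n⁻¹ = x := by
  have hJ := hC.hJ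
  have hr : g⁻¹ * y * g * z = z * (g⁻¹ * y * g) := by
    calc g⁻¹ * y * g * z = g⁻¹ * (y * (g * z * g⁻¹)) * g := by group
      _ = g⁻¹ * ((g * z * g⁻¹) * y) * g := by rw [hx, hxy]
      _ = _ := by group
  have hr3 : orderOf (g⁻¹ * y * g) = 3 := by
    rw [← hC.y_ord]
    exact MulEquiv.orderOf_eq (MulAut.conj g).symm y
  obtain ⟨h, hhz, hhC⟩ := hC.three_into_C hr hr3
  set k := g * h⁻¹ with hk
  set r := h * (g⁻¹ * y * g) * h⁻¹ with hrdef
  have hkr : k * r * k⁻¹ = y := by simp only [k, r]; group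
  have hkz : k * z * k⁻¹ = x := by
    have e1 : h⁻¹ * z * h = z := by rw [mul_assoc, ← hhz, inv_mul_cancel_left]
    calc k * z * k⁻¹ = g * (h⁻¹ * z * h) * g⁻¹ := by simp only [k]; group
      _ = x := by rw [e1, hx]
  have hr3' : orderOf r = 3 := by
    rw [← hr3]
    exact MulEquiv.orderOf_eq (MulAut.conj h) _
  by_cases hrP : r ∈ P
  · exfalso
    have hPr : Subgroup.zpowers r = P := CfsgLib.Solvable.eq_of_le_of_card_le (Subgroup.zpowers_le.2 hrP)
      (by rw [card_P hJ, Nat.card_zpowers, hr3'])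
    have hu : k⁻¹ * z * k ∈ cC z P := by
      refine ⟨mem_cH.2 ?_, Subgroup.mem_centralizer_iff.2 ?_⟩
      · calc k⁻¹ * z * k * z = k⁻¹ * (z * (k * z * k⁻¹)) * k := by group
          _ = k⁻¹ * ((k * z * k⁻¹) * z) * k := by rw [hkz, hxz]
          _ = _ := by group
      · intro a ha
        rw [← hPr] at ha
        obtain ⟨n, rfl⟩ := ha
        have hc : Commute r (k⁻¹ * z * k) := by
          have hyz := C_comm_z hC.y_mem
          have e1 : r = k⁻¹ * y * k := by rw [← hkr]; group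
          show r * (k⁻¹ * z * k) = k⁻¹ * z * k * r
          rw [e1]
          calc k⁻¹ * y * k * (k⁻¹ * z * k) = k⁻¹ * (y * z) * k := by group
            _ = k⁻¹ * (z * y) * k := by rw [hyz]
            _ = _ := by group
        exact (hc.zpow_left n).eq
    have hfix : k⁻¹ * z * k = z := by
      have h1 := hNG k⁻¹ (by rw [inv_inv]; exact hu)
      rwa [inv_inv] at h1
    have hkH : k ∈ cH z := mem_cH.2 (by
      calc k * z = k * (k⁻¹ * z * k) := by rw [hfix]
        _ = z * k := by group)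
    rw [H_eq hJ] at hkH
    obtain ⟨a, ha, b, hb, hab⟩ := (CfsgLib.Solvable.mem_sup_of_le_normalizer
      (inf_le_left.trans H_le_normalizer_E)).1 hkH
    -- `y` lies in `P E`
    have hrz : r * z = z * r := mem_cH.1 (P_le_H hJ hrP)
    have haz : a * z = z * a := mem_cH.1 ha.1
    have hbr : b * r * b⁻¹ * r⁻¹ ∈ cE z := by
      have := conj_mem_E hrz (inv_mem hb)
      simpa [mul_assoc] using mul_mem hb this
    have h1 : y * (a * r * a⁻¹)⁻¹ ∈ cE z := by
      have : y * (a * r * a⁻¹)⁻¹ = a * (b * r * b⁻¹ * r⁻¹) * a⁻¹ := by rw [← hkr, ← hab]; group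
      rw [this]
      exact conj_mem_E haz hbr
    have har : a * r * a⁻¹ ∈ P := (Subgroup.mem_normalizer_iff.1 ha.2 r).1 hrP
    have h2 := hC.z_cases (mul_mem hC.y_mem (inv_mem (P_le_C hJ har))) h1
    rcases h2 with h2 | h2
    · exact hC.y_not (by rw [mul_inv_eq_one.1 h2]; exact har)
    · have h3 : y = z * (a * r * a⁻¹) := mul_inv_eq_iff_eq_mul.1 h2
      have h4 := hC.y_cube
      have hq3 := yp_sq har hJ
      rw [h3, (show Commute z (a * r * a⁻¹) from (C_comm_z (P_le_C hJ har)).symm).mul_pow, hq3, mul_one,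
        pow_succ, pow_two, z_mul_self hJ, one_mul] at h4
      exact z_ne hJ h4
  · obtain ⟨c, hc, hcr⟩ := isConj_three hJ hhC hC.y_mem hr3' hC.y_ord hrP hC.y_not
    refine ⟨k * c⁻¹, ?_, ?_⟩
    · have : k * c⁻¹ * y * (k * c⁻¹)⁻¹ = y := by
        calc k * c⁻¹ * y * (k * c⁻¹)⁻¹ = k * (c⁻¹ * y * c) * k⁻¹ := by group
          _ = k * r * k⁻¹ := by rw [← hcr]; group
          _ = y := hkr
      exact mul_inv_eq_iff_eq_mul.1 this
    · have hcz : c⁻¹ * z * c = z := by rw [mul_assoc, ← C_comm_z hc, inv_mul_cancel_left]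
      calc k * c⁻¹ * z * (k * c⁻¹)⁻¹ = k * (c⁻¹ * z * c) * k⁻¹ := by group
        _ = x := by rw [hcz, hkz]

theorem Conf.vec_ne {a : G} (ha : a ∈ cQ z y) (h1 : a ≠ 1) (hz : a ≠ z) : vec z p e t a ≠ 0 := fun h =>
  ((vec_eq_zero hC.hJ hC.coord hC.y_mem hC.card_Q ha).1 h).elim h1 hz

theorem Conf.omega_props {a : G} (ha : Omega z y a) :
    a ∈ cQ z y ∧ a * a = 1 ∧ a ≠ 1 ∧ a ≠ z ∧ qf (vec z p e t a) = 0 ∧ vec z p e t a ≠ 0 := by
  obtain ⟨haQ, haz, g, hg⟩ := ha
  have ha2 : a * a = 1 := by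
    rw [← hg]
    calc g * z * g⁻¹ * (g * z * g⁻¹) = g * (z * z) * g⁻¹ := by group
      _ = 1 := by rw [z_mul_self hC.hJ]; group
  have ha1 : a ≠ 1 := fun h => z_ne hC.hJ (by
    calc z = g⁻¹ * (g * z * g⁻¹) * g := by group
      _ = 1 := by rw [hg, h]; group)
  refine ⟨haQ, ha2, ha1, haz, ?_, hC.vec_ne haQ ha1 haz⟩
  have h := sq_vec hC.hJ hC.coord hC.y_mem hC.card_Q haQ
  rw [ha2] at h
  rcases zmod_cases (qf (vec z p e t a)) with e0 | e1
  · exact e0
  · rw [e1, zp_one] at h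
    exact absurd h.symm (z_ne hC.hJ)

theorem Conf.omega_conj {a h : G} (hh : h ∈ cW z y) (ha : Omega z y a) : Omega z y (h * a * h⁻¹) := by
  obtain ⟨haQ, haz, g, hg⟩ := ha
  refine ⟨hC.conj_Q hh haQ, fun e1 => haz ?_, h * g, by rw [← hg]; group⟩
  have hz : h * z * h⁻¹ = z := by rw [(mem_cW.1 hh).1, mul_inv_cancel_right]
  exact mul_left_cancel (mul_right_cancel (e1.trans hz.symm))

theorem Conf.exists_shift_elt {a : G} (ha : a ∈ cQ z y) (h : vec z p e t a ≠ 0) :
    ∃ x ∈ cQ z y, x * a * x⁻¹ = a * z := by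
  obtain ⟨x, hx⟩ := nondeg_exists _ h
  refine ⟨elt p e t x, elt_mem hC.coord x, ?_⟩
  have h1 := comm_vec hC.hJ hC.coord hC.y_mem hC.card_Q (elt_mem hC.coord x) ha
  rw [vec_elt hC.hJ hC.coord, hx, zp_one] at h1
  rw [h1]
  have hxz := ((gen_split hC.hJ).comm_z _ (mem_cQ.1 (elt_mem hC.coord x)).1).eq
  calc a * elt p e t x * z * (elt p e t x)⁻¹ = a * (elt p e t x * z) * (elt p e t x)⁻¹ := by group
    _ = a * (z * elt p e t x) * (elt p e t x)⁻¹ := by rw [hxz]
    _ = _ := by group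

theorem Conf.omega_vec {a b : G} (ha : Omega z y a) (hb : b ∈ cQ z y)
    (h : vec z p e t b = vec z p e t a) : Omega z y b := by
  obtain ⟨haQ, -, -, -, -, hne⟩ := hC.omega_props ha
  rcases (vec_eq_iff hC.hJ hC.coord hC.y_mem hC.card_Q hb haQ).1 h with rfl | rfl
  · exact ha
  · obtain ⟨x, hx, hxa⟩ := hC.exists_shift_elt haQ hne
    rw [← hxa]
    exact hC.omega_conj (hC.Q_le_W hx) ha

theorem Conf.omega_trans {a b : G} (ha : Omega z y a) (hb : b ∈ cQ z y)
    (h : (Big (vec z p e t a) ∧ Big (vec z p e t b)) ∨ (Small (vec z p e t a) ∧ Small (vec z p e t b))) :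
    Omega z y b := by
  obtain ⟨haQ, -⟩ := hC.omega_props ha
  obtain ⟨i, l, hil⟩ : ∃ i : Fin 3, ∃ l : ZMod 2, mat i l 0 (vec z p e t a) = vec z p e t b := by
    rcases h with ⟨h1, h2⟩ | ⟨h1, h2⟩
    · exact big_trans _ _ h1 h2
    · obtain ⟨i, hi⟩ := small_trans _ _ h1 h2
      exact ⟨i, 0, hi⟩
  refine hC.omega_vec (hC.omega_conj (hC.cRep_mem i 0 0 l 0) ha) hb ?_
  have := hC.vec_act (one_mem (cQ z y)) i 0 0 l 0 haQ
  rw [one_mul, hil] at this
  exact this.symm

theorem Conf.v_central {h : G} (hh : h ∈ cW z y) : v * h = h * v := by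
  obtain ⟨q, hq, i, j, -, -, k, l, m, rfl⟩ := hC.nf h hh
  have hvp : Commute v p := C_comm_P hC.v_mem hC.p_mem
  have hvu : Commute v u := by
    show v * u = u * v
    exact ((mul_inv_eq_iff_eq_mul).1 hC.u_v).symm
  have h1 : Commute v (zp v k) := (zp_comm rfl k).symm
  have h2 : Commute v (zp w l) := (zp_comm hC.v_w.symm l).symm
  have h3 : Commute v (zp u m) := (zp_comm hvu.eq.symm m).symm
  exact ((show Commute v q from hC.v_Q q hq).mul_right
    ((((((show Commute v y from hC.v_y).pow_right j).mul_right (hvp.pow_right i)).mul_right h1).mul_right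
      h2).mul_right h3)).eq

theorem Conf.center_conj {n : G} (hn : n * y = y * n) (h : n * z * n⁻¹ ∈ cE z) :
    n⁻¹ * z * n ∈ cQ z y := by
  obtain ⟨x, hx, hxz⟩ := (pre_E hC.hJ).center_mem_conj h
  have e1 : n⁻¹ * z * n = x := by
    rw [← hxz]
    show n⁻¹ * (n * x * n⁻¹) * n = x
    group
  refine mem_cQ.2 ⟨e1 ▸ hx, ?_⟩
  exact (Commute.mul_left (Commute.mul_left (Commute.inv_left hn) (C_comm_z hC.y_mem).symm) hn).eq

theorem Conf.conj_mem_W {n x t' : G} (hn : n * y = y * n) (hnz : n * z * n⁻¹ = t') (hxy : x * y = y * x)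
    (hxt : x * t' = t' * x) : n⁻¹ * x * n ∈ cW z y := by
  refine mem_cW.2 ⟨?_, (Commute.mul_left (Commute.mul_left (Commute.inv_left hn) hxy) hn).eq⟩
  calc n⁻¹ * x * n * z = n⁻¹ * (x * (n * z * n⁻¹)) * n := by group
    _ = n⁻¹ * ((n * z * n⁻¹) * x) * n := by rw [hnz, hxt]
    _ = _ := by group

/-- Two conjugating elements differ by an element of `W`. -/
theorem Conf.conj_eq_W {n n' : G} (hn : n * y = y * n) (hn' : n' * y = y * n')
    (h : n * z * n⁻¹ = n' * z * n'⁻¹) : n⁻¹ * n' ∈ cW z y := by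
  refine mem_cW.2 ⟨?_, (Commute.mul_left (Commute.inv_left hn) hn').eq⟩
  calc n⁻¹ * n' * z = n⁻¹ * (n' * z * n'⁻¹) * n' := by group
    _ = n⁻¹ * (n * z * n⁻¹) * n' := by rw [h]
    _ = _ := by group

/-- An involution of `W` centralising the centraliser in `Q` of a singular `a`. -/
theorem Conf.central_form {a h : G} (ha : a ∈ cQ z y) (hqa : qf (vec z p e t a) = 0)
    (hna : vec z p e t a ≠ 0) (hh : h ∈ cW z y) (h2 : h * h = 1)
    (hc : ∀ x ∈ cQ z y, x * a = a * x → h * x = x * h) :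
    ∃ k n b : ZMod 2, h = zp z n * zp a b * zp v k := by
  have hJ := hC.hJ
  have hcd := hC.coord
  obtain ⟨q, hq, i, j, hi, hj, k, l, m, hh', himp⟩ := hC.invol_rep hh h2
  have hperp : ∀ x, bil x (vec z p e t a) = 0 → elt p e t x * a = a * elt p e t x := fun x hx =>
    (commute_iff hJ hcd hC.y_mem hC.card_Q (elt_mem hcd x) ha).2 (by rw [vec_elt hJ hcd]; exact hx)
  obtain ⟨rfl, rfl, rfl⟩ : i = 0 ∧ l = 0 ∧ m = 0 := by
    have := fix_centre (vec z p e t a) ⟨i, hi⟩ l m hqa hna fun x hx => by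
      have h1 := hc _ (elt_mem hcd x) (hperp x hx)
      have h2' := hC.vec_act hq i j k l m (elt_mem hcd x)
      rw [← hh', h1, mul_inv_cancel_right, vec_elt hJ hcd] at h2'
      exact h2'.symm
    exact ⟨by simpa [Fin.ext_iff] using this.1, this.2.1, this.2.2⟩
  obtain ⟨-, rfl⟩ := himp (Or.inl rfl)
  have hh'' : h = q * zp v k := by rw [hh']; simp [cRep, zp_zero]
  have hvq : vec z p e t q = 0 ∨ vec z p e t q = vec z p e t a := by
    refine perp_perp _ _ hqa hna fun x hx => ?_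
    have h1 := hc _ (elt_mem hcd x) (hperp x hx)
    rw [← vec_elt hJ hcd x, ← commute_iff hJ hcd hC.y_mem hC.card_Q hq (elt_mem hcd x)]
    rw [hh''] at h1
    have h3 : zp v k * elt p e t x = elt p e t x * zp v k := zp_comm (hC.v_Q _ (elt_mem hcd x)) k
    rw [mul_assoc, h3, ← mul_assoc, ← mul_assoc] at h1
    exact mul_right_cancel h1
  rcases hvq with h0 | h0
  · obtain ⟨n, hn⟩ := exists_vec hJ hcd hC.y_mem hC.card_Q hq
    refine ⟨k, n, 0, ?_⟩
    rw [hh'', hn, h0, elt_zero, one_mul, zp_zero, mul_one]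
  · rcases (vec_eq_iff hJ hcd hC.y_mem hC.card_Q hq ha).1 h0 with e1 | e1
    · exact ⟨k, 0, 1, by rw [hh'', e1, zp_zero, zp_one, one_mul]⟩
    · refine ⟨k, 1, 1, ?_⟩
      rw [hh'', e1, zp_one, zp_one, ((gen_split hJ).comm_z a (mem_cQ.1 ha).1).eq]

/-- For a fused element `a` of `Q`: an involution `c` in `v⟨z⟩` and an element swapping `z` and `a`. -/
theorem Conf.swap (hNG : NoGoal z P) {a : G} (ha : Omega z y a) :
    ∃ (c σ : G) (α : ZMod 2), c = v * zp z α ∧ σ * y = y * σ ∧ σ * z * σ⁻¹ = a ∧ σ * a * σ⁻¹ = z ∧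
      σ * c * σ⁻¹ = c ∧ (∃ g : G, g * (c * z) * g⁻¹ = c * a) ∧ (∃ g : G, g * (c * z) * g⁻¹ = c * (a * z)) := by
  have hJ := hC.hJ
  obtain ⟨haQ, ha2, ha1, haz, hqa, hna⟩ := hC.omega_props ha
  obtain ⟨-, -, g, hg⟩ := ha
  have hzz := z_mul_self hJ
  have hE := gen_split hJ
  have haZ : a * z = z * a := (hE.comm_z a (mem_cQ.1 haQ).1).eq
  obtain ⟨n, hn, hna'⟩ := hC.exists_Y hNG hg haZ (mem_cQ.1 haQ).2
  have hz' := hC.center_conj hn (by rw [hna']; exact (mem_cQ.1 haQ).1)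
  set z' := n⁻¹ * z * n with hz'def
  have hvz' : v * z' = z' * v := hC.v_Q z' hz'
  -- the conjugate of `v`
  have hvt : n * v * n⁻¹ ∈ cW z y := by
    refine mem_cW.2 ⟨?_, ?_⟩
    · calc n * v * n⁻¹ * z = n * (v * (n⁻¹ * z * n)) * n⁻¹ := by group
        _ = n * ((n⁻¹ * z * n) * v) * n⁻¹ := by rw [← hz'def, hvz']
        _ = _ := by group
    · exact (Commute.mul_left (Commute.mul_left hn hC.v_y) (Commute.inv_left hn)).eq
  obtain ⟨k, α, β, hform⟩ := hC.central_form haQ hqa hna hvt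
    (by
      calc n * v * n⁻¹ * (n * v * n⁻¹) = n * (v * v) * n⁻¹ := by group
        _ = 1 := by rw [hC.v_sq]; group)
    fun x hx hxa => by
      have h1 : n⁻¹ * x * n ∈ cW z y := hC.conj_mem_W hn hna' (mem_cQ.1 hx).2 hxa
      have h2 := hC.v_central h1
      calc n * v * n⁻¹ * x = n * (v * (n⁻¹ * x * n)) * n⁻¹ := by group
        _ = n * ((n⁻¹ * x * n) * v) * n⁻¹ := by rw [h2]
        _ = _ := by group
  obtain rfl : k = 1 := by
    rcases zmod_cases k with rfl | rfl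
    · exfalso
      rw [zp_zero, mul_one] at hform
      have h1 : n⁻¹ * (zp z α * zp a β) * n ∈ cE z := by
        have : n⁻¹ * (zp z α * zp a β) * n = zp z' α * zp z β := by
          have e1 : n⁻¹ * a * n = z := by rw [← hna']; group
          have e2 : n⁻¹ * zp z α * n = zp z' α := by
            rcases zmod_cases α with rfl | rfl <;> simp [zp_zero, zp_one, hz'def]
          have e3 : n⁻¹ * zp a β * n = zp z β := by
            rcases zmod_cases β with rfl | rfl <;> simp [zp_zero, zp_one, e1]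
          rw [← e2, ← e3]; group
        rw [this]
        exact mul_mem (zp_mem (mem_cQ.1 hz').1 _) (zp_mem (z_mem_E hJ) _)
      rw [← hform] at h1
      have h2 : n⁻¹ * (n * v * n⁻¹) * n = v := by group
      rw [h2] at h1
      have := hC.v_not_Q (one_mem (cE z))
      rw [one_mul] at this
      exact this h1
    · rfl
  rw [zp_one] at hform
  set c := v * zp z α with hcdef
  have hcW : c ∈ cW z y := mul_mem hC.v_W (zp_mem hC.z_W _)
  have hac : ∀ x ∈ cQ z y, c * x = x * c := fun x hx =>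
    (Commute.mul_left (hC.v_Q x hx) (zp_comm ((hE.comm_z x (mem_cQ.1 hx).1).eq.symm) α)).eq
  have hnc : n * v * n⁻¹ = c * zp a β := by
    rw [hform, hcdef]
    calc zp z α * zp a β * v = zp z α * (zp a β * v) := by group
      _ = zp z α * (v * zp a β) := by rw [zp_comm (hC.v_Q a haQ).symm β]
      _ = (zp z α * v) * zp a β := by group
      _ = (v * zp z α) * zp a β := by rw [zp_comm (C_comm_z hC.v_mem).symm α]
  have hcconj : n⁻¹ * c * n = v * zp z β := by
    have e1 : n⁻¹ * a * n = z := by rw [← hna']; group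
    have e3 : n⁻¹ * zp a β * n = zp z β := by
      rcases zmod_cases β with rfl | rfl <;> simp [zp_zero, zp_one, e1]
    have e4 : c = n * v * n⁻¹ * zp a β := by
      rw [hnc, mul_assoc, zp_mul_self ha2, ← two_mul, show (2 : ZMod 2) = 0 from by decide, zero_mul,
        zp_zero, mul_one]
    calc n⁻¹ * c * n = v * (n⁻¹ * zp a β * n) := by rw [e4]; group
      _ = _ := by rw [e3]
  -- the element moving `z`
  have hz'ne : vec z p e t z' ≠ 0 := by
    refine hC.vec_ne hz' (fun h => z_ne hJ ?_) (fun h => haz ?_)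
    · calc z = n * z' * n⁻¹ := by rw [hz'def]; group
        _ = 1 := by rw [h]; group
    · calc a = n * z * n⁻¹ := hna'.symm
        _ = n * z' * n⁻¹ := by rw [h]
        _ = z := by rw [hz'def]; group
  obtain ⟨r0, hr0, hr0z⟩ := hC.exists_shift_elt hz' hz'ne
  set r := n * r0 * n⁻¹ with hr
  have hrz : r * z * r⁻¹ = z * a := by
    calc r * z * r⁻¹ = n * (r0 * (n⁻¹ * z * n) * r0⁻¹) * n⁻¹ := by rw [hr]; group
      _ = n * ((n⁻¹ * z * n) * z) * n⁻¹ := by rw [← hz'def, hr0z]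
      _ = z * (n * z * n⁻¹) := by group
      _ = _ := by rw [hna']
  have hra : r * a * r⁻¹ = a := by
    rw [← hna', hr]
    calc n * r0 * n⁻¹ * (n * z * n⁻¹) * (n * r0 * n⁻¹)⁻¹ = n * (r0 * z * r0⁻¹) * n⁻¹ := by group
      _ = _ := by rw [(hE.comm_z r0 (mem_cQ.1 hr0).1).eq]; group
  have hry : r * y = y * r :=
    (Commute.mul_left (Commute.mul_left hn (mem_cQ.1 hr0).2) (Commute.inv_left hn)).eq
  have hrc : r * c * r⁻¹ = c := by
    have hc0 : r0 * (v * zp z β) = v * zp z β * r0 := by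
      have h5 : Commute r0 (v * zp z β) :=
        (show Commute v r0 from hC.v_Q r0 hr0).symm.mul_right
          ((zp_comm ((hE.comm_z r0 (mem_cQ.1 hr0).1).eq.symm) β : Commute (zp z β) r0).symm)
      exact h5.eq
    calc r * c * r⁻¹ = n * (r0 * (n⁻¹ * c * n) * r0⁻¹) * n⁻¹ := by rw [hr]; group
      _ = n * (n⁻¹ * c * n) * n⁻¹ := by rw [hcconj, hc0, mul_inv_cancel_right]
      _ = c := by group
  obtain ⟨q0, hq0, hq0a⟩ := hC.exists_shift_elt haQ hna
  have hq0z : q0 * z * q0⁻¹ = z := by rw [(hE.comm_z q0 (mem_cQ.1 hq0).1).eq, mul_inv_cancel_right]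
  have hq0c : q0 * c * q0⁻¹ = c := by rw [← hac q0 hq0, mul_inv_cancel_right]
  have cm : ∀ g' A B : G, g' * (A * B) * g'⁻¹ = (g' * A * g'⁻¹) * (g' * B * g'⁻¹) := fun g' A B => by group
  have c3 : ∀ (g1 g2 g3 A : G), g1 * g2 * g3 * A * (g1 * g2 * g3)⁻¹ =
      g1 * (g2 * (g3 * A * g3⁻¹) * g2⁻¹) * g1⁻¹ := fun g1 g2 g3 A => by group
  refine ⟨c, r * q0 * r, α, rfl, ?_, ?_, ?_, ?_, ⟨q0 * r, ?_⟩, ⟨r, ?_⟩⟩
  · exact (Commute.mul_left (Commute.mul_left hry (mem_cQ.1 hq0).2) hry).eq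
  · rw [c3, hrz, cm q0 z a, hq0z, hq0a, show z * (a * z) = a by rw [haZ, ← mul_assoc, hzz, one_mul], hra]
  · rw [c3, hra, hq0a, cm r a z, hra, hrz, show a * (z * a) = z by rw [← haZ, ← mul_assoc, ha2, one_mul]]
  · rw [c3, hrc, hq0c, hrc]
  · calc q0 * r * (c * z) * (q0 * r)⁻¹ = q0 * ((r * c * r⁻¹) * (r * z * r⁻¹)) * q0⁻¹ := by group
      _ = (q0 * c * q0⁻¹) * ((q0 * z * q0⁻¹) * (q0 * a * q0⁻¹)) := by rw [hrc, hrz]; group
      _ = c * (z * (a * z)) := by rw [hq0c, hq0z, hq0a]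
      _ = _ := by rw [← mul_assoc z, ← haZ, mul_assoc a, hzz, mul_one]
  · rw [cm, hrc, hrz, ← haZ]

/-- No conjugate of `z` has the shape `v z^i a` with `a` fused. -/
theorem Conf.v_omega (hNG : NoGoal z P) {a : G} (ha : Omega z y a) (i : ZMod 2) {g : G}
    (hg : g * z * g⁻¹ = v * zp z i * a) : False := by
  have hJ := hC.hJ
  obtain ⟨haQ, -⟩ := hC.omega_props ha
  obtain ⟨c, σ, α, hc, -, -, -, -, ⟨g1, hg1⟩, ⟨g2, hg2⟩⟩ := hC.swap hNG ha
  have hzz := z_mul_self hJ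
  have haZ : a * z = z * a := ((gen_split hJ).comm_z a (mem_cQ.1 haQ).1).eq
  have hcz : c * z ∈ cC z P := mul_mem (by rw [hc]; exact mul_mem hC.v_mem (zp_mem hC.z_C _)) hC.z_C
  have hne : c * z ≠ z := fun h => by
    have h1 : c = 1 := mul_eq_right.1 h
    apply hC.v_not
    have : v = (zp z α)⁻¹ := eq_inv_of_mul_eq_one_left (hc ▸ h1)
    rw [this]
    exact inv_mem (zp_mem (Subgroup.mem_sup_left (Subgroup.mem_zpowers z)) _)
  have key : ∃ g3 : G, g3 * (c * z) * g3⁻¹ = v * zp z i * a := by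
    rcases zmod_cases (i + α) with h | h
    · have : α = i := by
        have : ∀ x y : ZMod 2, x + y = 0 → y = x := by decide
        exact this _ _ h
      exact ⟨g1, by rw [hg1, hc, this]⟩
    · have hai : zp z i = zp z α * z := by
        have : ∀ x y : ZMod 2, x + y = 1 → x = y + 1 := by decide
        rw [this _ _ h, ← zp_mul_self hzz, zp_one]
      refine ⟨g2, ?_⟩
      rw [hg2, hc, hai, haZ]
      group
  obtain ⟨g3, hg3⟩ := key
  refine hne ?_
  have h := hNG (g3⁻¹ * g) (by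
    have : g3⁻¹ * g * z * (g3⁻¹ * g)⁻¹ = c * z := by
      calc g3⁻¹ * g * z * (g3⁻¹ * g)⁻¹ = g3⁻¹ * (g * z * g⁻¹) * g3 := by group
        _ = c * z := by rw [hg, ← hg3]; group
    rw [this]; exact hcz)
  refine Eq.trans ?_ h
  calc c * z = g3⁻¹ * (g3 * (c * z) * g3⁻¹) * g3 := by group
    _ = _ := by rw [hg3, ← hg]; group

theorem Conf.v_central_z (hNG : NoGoal z P) {q : G} (hq : q ∈ cQ z y) (h0 : vec z p e t q = 0) {g : G}
    (hg : g * z * g⁻¹ = v * q) : False := by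
  have hC' : v * q ∈ cC z P := by
    refine mul_mem hC.v_mem ?_
    rcases (vec_eq_zero hC.hJ hC.coord hC.y_mem hC.card_Q hq).1 h0 with rfl | rfl
    · exact one_mem _
    · exact hC.z_C
  have h := hNG g (by rw [hg]; exact hC')
  rw [hg] at h
  apply hC.v_not
  have : v = z * q⁻¹ := by rw [← h]; group
  rw [this]
  rcases (vec_eq_zero hC.hJ hC.coord hC.y_mem hC.card_Q hq).1 h0 with rfl | rfl <;>
    simp only [inv_one, mul_one, mul_inv_cancel]
  · exact Subgroup.mem_sup_left (Subgroup.mem_zpowers z)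
  · exact one_mem _

end CfsgLib.J4Local
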