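/-
Janko-four type: for a fused `a` in Q the line of `a` lies in the conjugate of E attached to `a`, and
no element of the line of `e` is fused.
-/
import Cfsg.Agent.J4Local.Fusion1

set_option autoImplicit false
set_option linter.style.haveILetI false
set_option maxHeartbeats 800000

namespace CfsgLib.J4Local

open Subgroup
open CfsgLib.Extra2 CfsgLib.LargeExtra

theorem perp_e : ∀ x : Vec4, bil x (1, 0, 0, 0) = 0 → x.2.2.2 = 0 := by decide

variable {G : Type*} [Group G] [Finite G] {z : G} {P : Subgroup G} {p y s v w u e t : G}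
  (hC : Conf z P p y s v w u e t)

include hC

/-- An element with non-trivial outer part is outside `E`. -/
theorem Conf.outer_not {q : G} (hq : q ∈ cE z) (k : ZMod 2) : q * (zp v k * u) ∉ cE z := by
  intro h
  have h1 : cRep p y v w u 0 0 k 0 1 ∈ cE z := by
    have : q⁻¹ * (q * (zp v k * u)) ∈ cE z := mul_mem (inv_mem hq) h
    rw [inv_mul_cancel_left] at this
    simpa [cRep, zp_zero, zp_one] using this
  exact absurd (hC.rep_zero (by norm_num) (by norm_num) h1).2.2.2.2 (by decide)

/-- An involution in the coset of `w` is not a conjugate of `z`. -/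
theorem Conf.no_w (hNG : NoGoal z P) {x q : G} (hq : q ∈ cQ z y) {k : ZMod 2}
    (hx : x = q * cRep p y v w u 0 0 k 1 0) (hx2 : x * x = 1) {g : G} (hg : g * z * g⁻¹ = x) : False := by
  obtain ⟨a, haC, haz⟩ := hC.w_coset hq hx hx2
  have e1 : a * g * z * (a * g)⁻¹ = a * x * a⁻¹ := by rw [← hg]; group
  exact haz (e1 ▸ hNG (a * g) (e1 ▸ haC))

/-- A commutator with an element of `w` or `u` outside `E`. -/
theorem Conf.comm_out {q : G} (hq : q ∈ cQ z y) {k l m : ZMod 2} (h : ¬ (l = 0 ∧ m = 0)) :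
    ∃ x : G, x ∈ cW z y ∧ x * e = e * x ∧
      x * (q * cRep p y v w u 0 0 k l m) * x⁻¹ * (q * cRep p y v w u 0 0 k l m)⁻¹ ∉ cE z := by
  have hvw : Commute v w := hC.v_w
  have hvu : u * v * u⁻¹ = v := hC.u_v
  have huv : Commute u v := mul_inv_eq_iff_eq_mul.1 hvu
  rcases zmod_cases m with rfl | rfl
  · have hl : l = 1 := (zmod_cases l).resolve_left fun h0 => h ⟨h0, rfl⟩
    subst hl
    refine ⟨u, hC.u_mem, (mul_inv_eq_iff_eq_mul.1 hC.u_e), ?_⟩
    set r := cRep p y v w u 0 0 k 1 0 with hr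
    have hr' : r = zp v k * w := by simp [hr, cRep, zp_zero, zp_one]
    have hur : u * r * u⁻¹ * r⁻¹ = v := by
      have h1 : u * r * u⁻¹ = zp v k * (v * w) := by
        rw [hr']
        calc u * (zp v k * w) * u⁻¹ = (u * zp v k * u⁻¹) * (u * w * u⁻¹) := by group
          _ = _ := by rw [zp_conj, hvu, hC.u_w]
      rw [h1, hr']
      calc zp v k * (v * w) * (zp v k * w)⁻¹ = zp v k * v * (zp v k)⁻¹ := by group
        _ = v := by rw [zp_comm rfl k, mul_inv_cancel_right]
    intro hm
    have h2 : u * (q * r) * u⁻¹ * (q * r)⁻¹ = (u * q * u⁻¹) * v * q⁻¹ := by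
      calc u * (q * r) * u⁻¹ * (q * r)⁻¹ = (u * q * u⁻¹) * (u * r * u⁻¹ * r⁻¹) * q⁻¹ := by group
        _ = _ := by rw [hur]
    rw [h2] at hm
    have h3 := mul_mem hm (mem_cQ.1 hq).1
    rw [inv_mul_cancel_right] at h3
    exact hC.v_not_Q (mem_cQ.1 (hC.conj_Q hC.u_mem hq)).1 h3
  · refine ⟨w, hC.w_W, (mul_inv_eq_iff_eq_mul.1 hC.coord.c_e), ?_⟩
    set r := cRep p y v w u 0 0 k l 1 with hr
    have hr' : r = zp v k * zp w l * u := by simp [hr, cRep, zp_one]
    have hwu : w * u * w⁻¹ * u⁻¹ = v := by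
      have h1 : u * w⁻¹ * u⁻¹ = (v * w)⁻¹ := by rw [← hC.u_w]; group
      calc w * u * w⁻¹ * u⁻¹ = w * (u * w⁻¹ * u⁻¹) := by group
        _ = v⁻¹ := by rw [h1]; group
        _ = v := inv_eq_of_mul_eq_one_right hC.v_sq
    set r0 := zp v k * zp w l with hr0
    have hw0 : w * r0 * w⁻¹ = r0 := by
      have : Commute w r0 := (show Commute (zp v k) w from zp_comm hC.v_w k).symm.mul_right
        ((show Commute (zp w l) w from zp_comm rfl l).symm)
      rw [this.eq, mul_inv_cancel_right]
    have hr0v : r0 * v * r0⁻¹ = v := by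
      have : Commute r0 v := (show Commute (zp v k) v from zp_comm rfl k).mul_left (zp_comm hC.v_w.symm l)
      rw [this.eq, mul_inv_cancel_right]
    intro hm
    have h2 : w * (q * r) * w⁻¹ * (q * r)⁻¹ = (w * q * w⁻¹) * v * q⁻¹ := by
      calc w * (q * r) * w⁻¹ * (q * r)⁻¹ = (w * q * w⁻¹) * ((w * r0 * w⁻¹) * (w * u * w⁻¹ * u⁻¹) * r0⁻¹) * q⁻¹ := by
            rw [hr']; group
        _ = (w * q * w⁻¹) * (r0 * v * r0⁻¹) * q⁻¹ := by rw [hw0, hwu]
        _ = _ := by rw [hr0v]
    rw [h2] at hm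
    have h3 := mul_mem hm (mem_cQ.1 hq).1
    rw [inv_mul_cancel_right] at h3
    exact hC.v_not_Q (mem_cQ.1 (hC.conj_Q hC.w_W hq)).1 h3

theorem Conf.W_Q {g : G} (hg : g ∈ cE z) (hy : g * y = y * g) : g ∈ cQ z y := mem_cQ.2 ⟨hg, hy⟩

/-- The line of `b = e` or `b = t`, when fused, lies in the conjugate of `E` at `b`. -/
theorem Conf.line_base (hNG : NoGoal z P) {b : G} (hb : b = e ∨ b = t) (hΩ : Omega z y b) {n : G}
    (hn : n * y = y * n) (hnb : n * z * n⁻¹ = b) : n⁻¹ * (p * b * p⁻¹) * n ∈ cE z := by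
  have hJ := hC.hJ
  have hcd := hC.coord
  have hy := hC.y_mem
  have hQ := hC.card_Q
  have hE := gen_split hJ
  have hzz := z_mul_self hJ
  obtain ⟨hbQ, hb2, -, hbz, hqb, hnb0⟩ := hC.omega_props hΩ
  obtain ⟨c, σ, α, hc, hσy, hσz, hσb, hσc, -, -⟩ := hC.swap hNG hΩ
  suffices key : σ⁻¹ * (p * b * p⁻¹) * σ ∈ cE z by
    have hw0 := hC.conj_eq_W hn hσy (hnb.trans hσz.symm)
    have := conj_mem_E (mem_cW.1 hw0).1 key
    convert this using 1
    group
  have hσi : σ⁻¹ * z * σ = b := by rw [← hσb]; group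
  have hσb' : σ⁻¹ * b * σ = z := by rw [← hσz]; group
  set pb := p * b * p⁻¹ with hpb
  have hpbQ : pb ∈ cQ z y := hC.conj_Q hC.p_W hbQ
  have hpbb : pb * b = b * pb := by
    rcases hb with rfl | rfl
    · exact hcd.e_pe.symm
    · exact hcd.t_pt.symm
  obtain ⟨-, -, g, hg⟩ := hΩ
  set a := σ⁻¹ * pb * σ with ha
  have hpbW := hC.Q_le_W hpbQ
  have haW : a ∈ cW z y := hC.conj_mem_W hσy hσz (mem_cQ.1 hpbQ).2 hpbb
  have ha2 : a * a = 1 := by
    calc a * a = σ⁻¹ * p * (b * b) * p⁻¹ * σ := by rw [ha, hpb]; group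
      _ = 1 := by rw [hb2]; group
  have hag : (σ⁻¹ * p * g) * z * (σ⁻¹ * p * g)⁻¹ = a := by rw [ha, hpb, ← hg]; group
  have hab : a * b = b * a := by
    rw [ha, ← hσi]
    calc σ⁻¹ * pb * σ * (σ⁻¹ * z * σ) = σ⁻¹ * (pb * z) * σ := by group
      _ = σ⁻¹ * (z * pb) * σ := by rw [(hE.comm_z pb (mem_cQ.1 hpbQ).1).eq]
      _ = _ := by group
  obtain ⟨q, hq, i, j, hi, hj, k, l, m, haq, himp⟩ := hC.invol_rep haW ha2
  have hfix : mat i l m (vec z p e t b) = vec z p e t b := by
    have h1 := hC.vec_act hq i j k l m hbQ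
    rw [← haq, hab, mul_inv_cancel_right] at h1
    exact h1.symm
  have hi0 : i = 0 ∧ (b = t → l = 0) := by
    rcases hb with h | h <;> rw [h] at hfix
    · rw [vec_e hJ hcd] at hfix
      refine ⟨by simpa [Fin.ext_iff] using fix_e ⟨i, hi⟩ l m hfix, fun h' => ?_⟩
      exfalso
      have := congrArg (vec z p e t) (h.symm.trans h')
      rw [vec_e hJ hcd, vec_t hJ hcd] at this
      exact absurd this (by decide)
    · rw [vec_t hJ hcd] at hfix
      have := fix_t ⟨i, hi⟩ l m hfix
      exact ⟨by simpa [Fin.ext_iff] using this.1, fun _ => this.2⟩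
  obtain ⟨rfl, hlt⟩ := hi0
  obtain ⟨-, rfl⟩ := himp (Or.inl rfl)
  rcases zmod_cases m with rfl | rfl
  · rcases zmod_cases l with rfl | rfl
    · rcases zmod_cases k with rfl | rfl
      · rw [haq]
        simpa [cRep, zp_zero] using (mem_cQ.1 hq).1
      · exfalso
        have haq' : a = v * q := by rw [haq, hC.v_Q q hq]; simp [cRep, zp_zero, zp_one]
        have hq2 : q * q = 1 := by
          calc q * q = (v * v) * (q * q) := by rw [hC.v_sq, one_mul]
            _ = v * (v * q) * q := by group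
            _ = v * (q * v) * q := by rw [hC.v_Q q hq]
            _ = (v * q) * (v * q) := by group
            _ = 1 := by rw [← haq', ha2]
        have hqf : qf (vec z p e t q) = 0 := by
          have h := sq_vec hJ hcd hy hQ hq
          rw [hq2] at h
          rcases zmod_cases (qf (vec z p e t q)) with e0 | e1
          · exact e0
          · rw [e1, zp_one] at h; exact absurd h.symm (z_ne hJ)
        have hvq0 : vec z p e t q ≠ 0 := fun h0 => hC.v_central_z hNG hq h0 (hag.trans haq')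
        have hnΩ : ¬ Omega z y q := fun hΩq => hC.v_omega hNG hΩq 0 (g := σ⁻¹ * p * g)
          (by rw [hag, haq', zp_zero, mul_one])
        have hqb' : bil (vec z p e t q) (vec z p e t b) = 0 := by
          refine (commute_iff hJ hcd hy hQ hq hbQ).1 ?_
          refine mul_left_cancel (a := v) ?_
          calc v * (q * b) = (v * q) * b := (mul_assoc _ _ _).symm
            _ = b * (v * q) := by rw [← haq', hab]
            _ = (b * v) * q := (mul_assoc _ _ _).symm
            _ = (v * b) * q := by rw [hC.v_Q b hbQ]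
            _ = v * (b * q) := mul_assoc _ _ _
        have hΩb : Omega z y b := ⟨hbQ, hbz, g, hg⟩
        have hΩp := hC.omega_conj hC.p_W hΩb
        have hΩpp := hC.omega_conj hC.p_W hΩp
        have hbil : bil (vec z p e t pb) (vec z p e t q) = 1 := by
          rw [hpb, hC.vec_P hbQ]
          refine off_line _ _ hqb hnb0 hqf hvq0 hqb' ?_ ?_ ?_
          · exact fun h => hnΩ (hC.omega_vec hΩb hq h)
          · exact fun h => hnΩ (hC.omega_vec hΩp hq (by rw [hC.vec_P hbQ]; exact h))
          · exact fun h => hnΩ (hC.omega_vec hΩpp hq (by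
              rw [hC.vec_P (hC.conj_Q hC.p_W hbQ), hC.vec_P hbQ]; exact h))
        set a0 := q * zp z α with ha0
        have ha0Q : a0 ∈ cQ z y := mul_mem hq (zp_mem hC.z_Q α)
        have hca : a = c * a0 := by
          rw [haq', hc, ha0]
          calc v * q = v * (zp z α * zp z α) * q := by
                rw [zp_mul_self hzz, ← two_mul, show (2 : ZMod 2) = 0 from by decide, zero_mul, zp_zero, mul_one]
            _ = v * zp z α * (zp z α * q) := by group
            _ = _ := by rw [zp_comm (hE.comm_z q (mem_cQ.1 hq).1).eq.symm]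
        have hcc : Commute c a0 := by
          rw [hc]
          exact (show Commute v a0 from hC.v_Q a0 ha0Q).mul_left
            (zp_comm (hE.comm_z a0 (mem_cQ.1 ha0Q).1).eq.symm α)
        -- `a` as a conjugate by `σ` of an element of `Q`
        have hw0 := hC.conj_eq_W hσy (n' := σ⁻¹) (Commute.inv_left hσy).eq (by rw [inv_inv, hσi, hσz])
        obtain ⟨q', hq', haq''⟩ : ∃ q' ∈ cQ z y, a = σ * q' * σ⁻¹ :=
          ⟨_, hC.conj_Q hw0 hpbQ, by rw [ha]; group⟩
        have hprod : pb * a0 = σ * (a0 * q') * σ⁻¹ := by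
          have e1 : pb = σ * a * σ⁻¹ := by rw [ha]; group
          calc pb * a0 = (σ * c * σ⁻¹) * (σ * a0 * σ⁻¹) * a0 := by rw [e1, hca]; group
            _ = (σ * (c * a0) * σ⁻¹) * a0 := by group
            _ = (σ * (a0 * c) * σ⁻¹) * a0 := by rw [hcc.eq]
            _ = (σ * a0 * σ⁻¹) * (σ * c * σ⁻¹) * a0 := by group
            _ = (σ * a0 * σ⁻¹) * a := by rw [hσc, hca]; group
            _ = _ := by rw [haq'']; group
        have ha02 : a0 * a0 = 1 := by
          rw [ha0]
          calc q * zp z α * (q * zp z α) = q * (zp z α * q) * zp z α := by group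
            _ = q * q * (zp z α * zp z α) := by
                rw [zp_comm (hE.comm_z q (mem_cQ.1 hq).1).eq.symm]; group
            _ = 1 := by
                rw [hq2, one_mul, zp_mul_self hzz, ← two_mul, show (2 : ZMod 2) = 0 from by decide, zero_mul,
                  zp_zero]
        have hpb2 : pb * pb = 1 := by
          calc pb * pb = p * (b * b) * p⁻¹ := by rw [hpb]; group
            _ = 1 := by rw [hb2]; group
        have hsq : (pb * a0) * (pb * a0) = z := by
          have hv : vec z p e t a0 = vec z p e t q := by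
            rw [ha0, vec_mul hJ hcd hy hQ hq (zp_mem hC.z_Q α),
              (vec_eq_zero hJ hcd hy hQ (zp_mem hC.z_Q α)).2 (zp_cases z α), add_zero]
          have h1 := comm_vec hJ hcd hy hQ hpbQ ha0Q
          rw [hv, hbil, zp_one] at h1
          calc pb * a0 * (pb * a0) = pb * a0 * (a0 * pb * z) := by rw [← h1]
            _ = pb * (a0 * a0) * pb * z := by group
            _ = z := by rw [ha02, mul_one, hpb2, one_mul]
        rw [hprod] at hsq
        have h3 : σ * ((a0 * q') * (a0 * q')) * σ⁻¹ = z := by rw [← hsq]; group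
        rcases hE.square (a0 * q') (mem_cQ.1 (mul_mem ha0Q hq')).1 with e1 | e1 <;> rw [e1] at h3
        · rw [mul_one, mul_inv_cancel] at h3; exact z_ne hJ h3.symm
        · exact hbz (hσz.symm.trans h3)
    · exact (hC.no_w hNG hq haq ha2 hag).elim
  · exfalso
    rcases hb with rfl | rfl
    · -- `b = e`: use `w`
      set r := cRep p y v w u 0 0 k l 1 with hr
      set h := σ * w * σ⁻¹ with hh
      have hwb : w * b = b * w := mul_inv_eq_iff_eq_mul.1 hcd.c_e
      have hhW : h ∈ cW z y := by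
        refine mem_cW.2 ⟨?_, (Commute.mul_left (Commute.mul_left hσy hC.w_y) (Commute.inv_left hσy)).eq⟩
        calc h * z = σ * (w * (σ⁻¹ * z * σ)) * σ⁻¹ := by rw [hh]; group
          _ = σ * ((σ⁻¹ * z * σ) * w) * σ⁻¹ := by rw [hσi, hwb]
          _ = _ := by rw [hh]; group
      have hhe : h * b * h⁻¹ = b := by
        calc h * b * h⁻¹ = σ * (w * (σ⁻¹ * b * σ) * w⁻¹) * σ⁻¹ := by rw [hh]; group
          _ = σ * z * σ⁻¹ := by rw [hσb', ← C_comm_z hC.w_mem |>.symm, mul_inv_cancel_right]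
          _ = b := hσz
      obtain ⟨q1, hq1, i1, j1, hi1, -, k1, l1, m1, hrep⟩ := hC.nf h hhW
      have hvb : mat i1 l1 m1 (vec z p b t b) = vec z p b t b := by
        have h1 := hC.vec_act hq1 i1 j1 k1 l1 m1 hbQ
        rw [← hrep, hhe] at h1
        exact h1.symm
      have hvp : vec z p b t (h * pb * h⁻¹) = vec z p b t pb ∨
          vec z p b t (h * pb * h⁻¹) = vec z p b t (b * pb) := by
        have h1 := hC.vec_act hq1 i1 j1 k1 l1 m1 hpbQ
        rw [← hrep] at h1
        rw [h1, vec_mul hJ hcd hy hQ hbQ hpbQ, hpb, hC.vec_P hbQ]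
        exact line_image _ ⟨i1, hi1⟩ l1 m1 hqb hnb0 hvb
      have hwa : w * a * w⁻¹ = σ⁻¹ * (h * pb * h⁻¹) * σ := by rw [hh, ha]; group
      have hcase : ∃ x ∈ cE z, w * a * w⁻¹ = x * a := by
        have hz1 : ∀ x : G, x ∈ cQ z y → vec z p b t (h * pb * h⁻¹) = vec z p b t x →
            h * pb * h⁻¹ = x ∨ h * pb * h⁻¹ = z * x := fun x hx hv => by
          rcases (vec_eq_iff hJ hcd hy hQ (hC.conj_Q hhW hpbQ) hx).1 hv with e1 | e1
          · exact Or.inl e1
          · exact Or.inr (by rw [e1, (hE.comm_z x (mem_cQ.1 hx).1).eq])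
        rcases hvp with hv | hv <;> rcases hz1 _ (by first | exact hpbQ | exact mul_mem hbQ hpbQ) hv with e1 | e1 <;>
          rw [hwa, e1]
        · exact ⟨1, one_mem _, by rw [ha, one_mul]⟩
        · exact ⟨b, (mem_cQ.1 hbQ).1, by rw [ha, ← hσi]; group⟩
        · exact ⟨z, z_mem_E hJ, by rw [ha, ← hσb']; group⟩
        · exact ⟨b * z, mul_mem (mem_cQ.1 hbQ).1 (z_mem_E hJ), by
            calc σ⁻¹ * (z * (b * pb)) * σ = (σ⁻¹ * z * σ) * (σ⁻¹ * b * σ) * a := by rw [ha]; group
              _ = _ := by rw [hσi, hσb']⟩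
      obtain ⟨x0, hx0, hwax⟩ := hcase
      have hwq : w * (q * r) * w⁻¹ * (q * r)⁻¹ ∈ cE z := by
        rw [← haq, hwax, mul_inv_cancel_right]; exact hx0
      -- compare with the commutator of `w` and the outer element
      set r0 := zp v k * zp w l with hr0
      have hr' : r = r0 * u := by simp [hr, hr0, cRep, zp_one]
      have hwu : w * u * w⁻¹ * u⁻¹ = v := by
        have h1 : u * w⁻¹ * u⁻¹ = (v * w)⁻¹ := by rw [← hC.u_w]; group
        calc w * u * w⁻¹ * u⁻¹ = w * (u * w⁻¹ * u⁻¹) := by group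
          _ = v⁻¹ := by rw [h1]; group
          _ = v := inv_eq_of_mul_eq_one_right hC.v_sq
      have hw0 : w * r0 * w⁻¹ = r0 := by
        have : Commute w r0 := (show Commute (zp v k) w from zp_comm hC.v_w k).symm.mul_right
          ((show Commute (zp w l) w from zp_comm rfl l).symm)
        rw [this.eq, mul_inv_cancel_right]
      have hr0v : r0 * v * r0⁻¹ = v := by
        have : Commute r0 v := (show Commute (zp v k) v from zp_comm rfl k).mul_left (zp_comm hC.v_w.symm l)
        rw [this.eq, mul_inv_cancel_right]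
      have h2 : w * (q * r) * w⁻¹ * (q * r)⁻¹ = (w * q * w⁻¹) * v * q⁻¹ := by
        calc w * (q * r) * w⁻¹ * (q * r)⁻¹ =
            (w * q * w⁻¹) * ((w * r0 * w⁻¹) * (w * u * w⁻¹ * u⁻¹) * r0⁻¹) * q⁻¹ := by rw [hr']; group
          _ = (w * q * w⁻¹) * (r0 * v * r0⁻¹) * q⁻¹ := by rw [hw0, hwu]
          _ = _ := by rw [hr0v]
      rw [h2] at hwq
      have h3 := mul_mem hwq (mem_cQ.1 hq).1
      rw [inv_mul_cancel_right] at h3
      exact hC.v_not_Q (mem_cQ.1 (hC.conj_Q hC.w_W hq)).1 h3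
    · -- `b = t`: use `e`
      obtain rfl := hlt rfl
      have hau : a = q * (zp v k * u) := by rw [haq]; simp [cRep, zp_zero, zp_one]
      have hanE : a ∉ cE z := by rw [hau]; exact hC.outer_not (mem_cQ.1 hq).1 k
      have heQ := hcd.e_mem
      set e' := σ⁻¹ * e * σ with he'
      have he'W : e' ∈ cW z y := hC.conj_mem_W hσy hσz (mem_cQ.1 heQ).2 hcd.e_t
      have he'2 : e' * e' = 1 := by
        calc e' * e' = σ⁻¹ * (e * e) * σ := by rw [he']; group
          _ = 1 := by rw [hcd.e_sq]; group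
      have hez : e * z = z * e := (hE.comm_z e (mem_cQ.1 heQ).1).eq
      have he'b : e' * b = b * e' := by
        rw [he', ← hσi]
        calc σ⁻¹ * e * σ * (σ⁻¹ * z * σ) = σ⁻¹ * (e * z) * σ := by group
          _ = σ⁻¹ * (z * e) * σ := by rw [hez]
          _ = _ := by group
      obtain ⟨q2, hq2, i2, j2, hi2, -, k2, l2, m2, he'q, himp2⟩ := hC.invol_rep he'W he'2
      have hfix2 : mat i2 l2 m2 (0, 0, 1, 0) = (0, 0, 1, 0) := by
        have h1 := hC.vec_act hq2 i2 j2 k2 l2 m2 hbQ
        rw [← he'q, he'b, mul_inv_cancel_right, vec_t hJ hcd] at h1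
        exact h1.symm
      obtain ⟨hi2', rfl⟩ := fix_t ⟨i2, hi2⟩ l2 m2 hfix2
      have hi20 : i2 = 0 := by simpa [Fin.ext_iff] using hi2'
      subst hi20
      obtain ⟨-, rfl⟩ := himp2 (Or.inl rfl)
      have he'q' : e' = q2 * (zp v k2 * zp u m2) := by rw [he'q]; simp [cRep, zp_zero]
      rcases zmod_cases m2 with rfl | rfl
      · rw [zp_zero, mul_one] at he'q'
        -- `e` is a conjugate by `σ⁻¹` of an element of `Q`, up to `c`
        have hw1 := hC.conj_eq_W (n := σ⁻¹) (n' := σ) (Commute.inv_left hσy).eq hσy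
          (by rw [inv_inv, hσi, hσz])
        rw [inv_inv] at hw1
        obtain ⟨c1, hc1, r, hr, hr1⟩ : ∃ c1 : G, (c1 = 1 ∨ c1 = c) ∧ ∃ r ∈ cQ z y, c1 * e = σ⁻¹ * r * σ := by
          have e1 : e = σ * e' * σ⁻¹ := by rw [he']; group
          rcases zmod_cases k2 with rfl | rfl
          · rw [zp_zero, mul_one] at he'q'
            exact ⟨1, Or.inl rfl, _, hC.conj_Q hw1 hq2, by rw [e1, he'q']; group⟩
          · rw [zp_one] at he'q'
            refine ⟨c, Or.inr rfl, _, hC.conj_Q hw1 (mul_mem hq2 (zp_mem hC.z_Q α)), ?_⟩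
            have hcv : c * (q2 * v) = q2 * zp z α := by
              rw [hc]
              calc v * zp z α * (q2 * v) = v * (zp z α * q2) * v := by group
                _ = v * (q2 * zp z α) * v := by rw [zp_comm (hE.comm_z q2 (mem_cQ.1 hq2).1).eq.symm]
                _ = (v * q2) * (zp z α * v) := by group
                _ = (q2 * v) * (v * zp z α) := by
                    rw [hC.v_Q q2 hq2, zp_comm (C_comm_z hC.v_mem).symm]
                _ = q2 * (v * v) * zp z α := by group
                _ = _ := by rw [hC.v_sq, mul_one]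
            calc c * e = (σ * c * σ⁻¹) * (σ * e' * σ⁻¹) := by rw [hσc, e1]
              _ = σ * (c * (q2 * v)) * σ⁻¹ := by rw [he'q']; group
              _ = _ := by rw [hcv]; group
        have hcW : c ∈ cW z y := hc ▸ mul_mem hC.v_W (zp_mem hC.z_W α)
        have hccomm : ∀ x ∈ cW z y, c1 * x = x * c1 := by
          rcases hc1 with rfl | rfl
          · simp
          · intro x hx
            rw [hc]
            exact ((show Commute v x from hC.v_central hx).mul_left
              (zp_comm (mem_cW.1 hx).1.symm α)).eq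
        -- `a` commutes with `c1 e`
        have hcomm : pb * r = r * pb := by
          rcases conj_eq hE (mem_cQ.1 hpbQ).1 (mem_cQ.1 hr).1 with e1 | e1
          · exact mul_inv_eq_iff_eq_mul.1 e1
          · exfalso
            have h1 : a * (c1 * e) * a⁻¹ = b * (c1 * e) := by
              rw [ha, hr1]
              calc σ⁻¹ * pb * σ * (σ⁻¹ * r * σ) * (σ⁻¹ * pb * σ)⁻¹ = σ⁻¹ * (pb * r * pb⁻¹) * σ := by group
                _ = (σ⁻¹ * z * σ) * (σ⁻¹ * r * σ) := by rw [e1]; group
                _ = _ := by rw [hσi]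
            have hae : a * e * a⁻¹ = e ∨ a * e * a⁻¹ = z * e := by
              have hre : zp v k * u * e * (zp v k * u)⁻¹ = e := by
                calc zp v k * u * e * (zp v k * u)⁻¹ = zp v k * (u * e * u⁻¹) * (zp v k)⁻¹ := by group
                  _ = e := by rw [hC.u_e, zp_comm (hC.v_Q e heQ) k, mul_inv_cancel_right]
              have h2 : a * e * a⁻¹ = q * e * q⁻¹ := by
                rw [hau]
                calc q * (zp v k * u) * e * (q * (zp v k * u))⁻¹ =
                    q * (zp v k * u * e * (zp v k * u)⁻¹) * q⁻¹ := by group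
                  _ = _ := by rw [hre]
              rw [h2]
              exact conj_eq hE (mem_cQ.1 hq).1 (mem_cQ.1 heQ).1
            have h3 : a * (c1 * e) * a⁻¹ = c1 * (a * e * a⁻¹) := by
              calc a * (c1 * e) * a⁻¹ = (a * c1) * e * a⁻¹ := by group
                _ = (c1 * a) * e * a⁻¹ := by rw [hccomm a haW]
                _ = _ := by group
            rw [h3] at h1
            rcases hae with e2 | e2 <;> rw [e2] at h1
            · have : b = 1 := mul_eq_right.1 h1.symm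
              exact hnb0 ((vec_eq_zero hJ hcd hy hQ hbQ).2 (Or.inl this))
            · have hbz' : b = z := by
                have : c1 * (z * e) = z * (c1 * e) := by
                  rw [← mul_assoc, hccomm z hC.z_W, mul_assoc]
                rw [this] at h1
                exact (mul_right_cancel h1).symm
              exact hbz hbz'
        have hcomm2 : r * b = b * r := by
          have h1 : c1 * e * z = z * (c1 * e) := by
            calc c1 * e * z = c1 * (e * z) := mul_assoc _ _ _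
              _ = c1 * z * e := by rw [hez, mul_assoc]
              _ = _ := by rw [hccomm z hC.z_W, mul_assoc]
          rw [hr1] at h1
          have h2 : σ⁻¹ * r * σ * (σ⁻¹ * b * σ) = σ⁻¹ * b * σ * (σ⁻¹ * r * σ) := by rwa [hσb']
          calc r * b = σ * (σ⁻¹ * r * σ * (σ⁻¹ * b * σ)) * σ⁻¹ := by group
            _ = σ * (σ⁻¹ * b * σ * (σ⁻¹ * r * σ)) * σ⁻¹ := by rw [h2]
            _ = _ := by group
        have hvr : vec z p e b r = 0 ∨ vec z p e b r = vec z p e b b ∨
            vec z p e b r = vec z p e b pb ∨ vec z p e b r = vec z p e b (b * pb) := by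
          rw [vec_mul hJ hcd hy hQ hbQ hpbQ, hpb, hC.vec_P hbQ]
          refine perp_line _ _ hqb hnb0 ((commute_iff hJ hcd hy hQ hr hbQ).1 hcomm2) ?_
          rw [← hC.vec_P hbQ, ← hpb]
          exact (commute_iff hJ hcd hy hQ hr hpbQ).1 hcomm.symm
        have hc1E : c1 ∉ cE z ∨ c1 = 1 := by
          rcases hc1 with rfl | rfl
          · exact Or.inr rfl
          · refine Or.inl fun h => hC.v_not_Q (one_mem _) ?_
            rw [one_mul]
            have := mul_mem h (inv_mem (zp_mem (z_mem_E hJ) α))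
            rw [hc, mul_inv_cancel_right] at this
            exact this
        -- the four possibilities
        have hsmall : ∀ x : G, (x = 1 ∨ x = z ∨ x = b ∨ x = b * z ∨ x = z * b) → c1 * e ≠ x := by
          intro x hx hce
          have hxE : x ∈ cQ z y := by
            rcases hx with rfl | rfl | rfl | rfl | rfl
            · exact one_mem _
            · exact hC.z_Q
            · exact hbQ
            · exact mul_mem hbQ hC.z_Q
            · exact mul_mem hC.z_Q hbQ
          rcases hc1E with h | h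
          · apply h
            have : c1 = x * e⁻¹ := by rw [← hce]; group
            rw [this]
            exact mul_mem (mem_cQ.1 hxE).1 (inv_mem (mem_cQ.1 heQ).1)
          · rw [h, one_mul] at hce
            have hv : vec z p e b x = 0 ∨ vec z p e b x = vec z p e b b := by
              rcases hx with rfl | rfl | rfl | rfl | rfl
              · exact Or.inl (vec_one hJ hcd)
              · exact Or.inl (vec_z hJ hcd)
              · exact Or.inr rfl
              · exact Or.inr (by rw [vec_mul hJ hcd hy hQ hbQ hC.z_Q, vec_z hJ hcd, add_zero])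
              · exact Or.inr (by rw [vec_mul hJ hcd hy hQ hC.z_Q hbQ, vec_z hJ hcd, zero_add])
            rw [← hce, vec_e hJ hcd, vec_t hJ hcd] at hv
            rcases hv with h' | h' <;> exact absurd h' (by decide)
        have hbig : ∀ x : G, x ∈ cE z → c1 * e ≠ x * a := by
          intro x hx hce
          apply hanE
          rcases hc1 with rfl | rfl
          · have : a = x⁻¹ * (1 * e) := by rw [hce]; group
            rw [this]
            exact mul_mem (inv_mem hx) (mul_mem (one_mem _) (mem_cQ.1 heQ).1)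
          · exfalso
            have h1 : cRep p y v w u 0 0 (k + 1) 0 1 ∈ cE z := by
              have e2 : cRep p y v w u 0 0 (k + 1) 0 1 = v * (q⁻¹ * a) := by
                rw [hau, inv_mul_cancel_left, ← mul_assoc, add_comm k 1]
                simp only [cRep, pow_zero, one_mul, zp_zero, mul_one, zp_one, ← zp_mul_self hC.v_sq]
              rw [e2]
              have e3 : a = x⁻¹ * (v * (zp z α * e)) := by
                rw [← mul_assoc v, ← hc, hce]; group
              have hy1 : q⁻¹ * x⁻¹ ∈ cE z := mul_mem (inv_mem (mem_cQ.1 hq).1) (inv_mem hx)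
              have e4 : v * (q⁻¹ * a) = (v * (q⁻¹ * x⁻¹) * v⁻¹) * (zp z α * e) := by
                rw [e3, inv_eq_of_mul_eq_one_right hC.v_sq]; group
              rw [e4]
              exact mul_mem (conj_mem_E (C_comm_z hC.v_mem) hy1)
                (mul_mem (zp_mem (z_mem_E hJ) α) (mem_cQ.1 heQ).1)
            exact absurd (hC.rep_zero (by norm_num) (by norm_num) h1).2.2.2.2 (by decide)
        rcases hvr with hv | hv | hv | hv
        · rcases (vec_eq_zero hJ hcd hy hQ hr).1 hv with e1 | e1 <;> rw [e1] at hr1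
          · exact hsmall 1 (Or.inl rfl) (by rw [hr1]; group)
          · exact hsmall b (Or.inr (Or.inr (Or.inl rfl))) (by rw [hr1, hσi])
        · rcases (vec_eq_iff hJ hcd hy hQ hr hbQ).1 hv with e1 | e1 <;> rw [e1] at hr1
          · exact hsmall z (Or.inr (Or.inl rfl)) (by rw [hr1, hσb'])
          · refine hsmall (z * b) (Or.inr (Or.inr (Or.inr (Or.inr rfl)))) ?_
            rw [hr1]
            calc σ⁻¹ * (b * z) * σ = (σ⁻¹ * b * σ) * (σ⁻¹ * z * σ) := by group
              _ = z * b := by rw [hσb', hσi]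
        · rcases (vec_eq_iff hJ hcd hy hQ hr hpbQ).1 hv with e1 | e1 <;> rw [e1] at hr1
          · exact hbig 1 (one_mem _) (by rw [hr1, ha, one_mul])
          · refine hbig b (mem_cQ.1 hbQ).1 ?_
            rw [hr1]
            conv_rhs => rw [ha, ← hσi]
            rw [(hE.comm_z pb (mem_cQ.1 hpbQ).1).eq]
            group
        · rcases (vec_eq_iff hJ hcd hy hQ hr (mul_mem hbQ hpbQ)).1 hv with e1 | e1 <;> rw [e1] at hr1
          · refine hbig z (z_mem_E hJ) ?_
            rw [hr1]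
            conv_rhs => rw [ha, ← hσb']
            group
          · refine hbig (z * b) (mul_mem (z_mem_E hJ) (mem_cQ.1 hbQ).1) ?_
            rw [hr1, mul_assoc b pb z, (hE.comm_z pb (mem_cQ.1 hpbQ).1).eq]
            calc σ⁻¹ * (b * (z * pb)) * σ = (σ⁻¹ * b * σ) * (σ⁻¹ * z * σ) * (σ⁻¹ * pb * σ) := by group
              _ = z * b * a := by rw [hσb', hσi, ha]
      · -- `e' a` is in `Q⟨v⟩`, but `(e pt)² = z`
        rw [zp_one] at he'q'
        obtain ⟨q3, hq3, k3, huu⟩ := hC.u_sq'
        have huk : u * zp v k * u⁻¹ = zp v k := by rw [zp_conj, hC.u_v]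
        obtain ⟨q4, hq4, n4, hform⟩ : ∃ q4 ∈ cQ z y, ∃ n4 : ZMod 2, e' * a = q4 * zp v n4 := by
          refine ⟨q2 * (u * q * u⁻¹) * q3,
            mul_mem (mul_mem hq2 (hC.conj_Q hC.u_mem hq)) hq3, k2 + k + k3, ?_⟩
          have hvq : zp v k2 * (u * q * u⁻¹) = (u * q * u⁻¹) * zp v k2 :=
            zp_comm (hC.v_Q _ (hC.conj_Q hC.u_mem hq)) k2
          have hvq3 : zp v (k2 + k) * q3 = q3 * zp v (k2 + k) := zp_comm (hC.v_Q _ hq3) _
          calc e' * a = q2 * (zp v k2 * (u * q * u⁻¹)) * (u * zp v k * u⁻¹) * (u * u) := by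
                rw [he'q', hau]; group
            _ = q2 * (u * q * u⁻¹) * (zp v k2 * zp v k) * (q3 * zp v k3) := by
                rw [hvq, huk, huu]; group
            _ = q2 * (u * q * u⁻¹) * (zp v (k2 + k) * q3) * zp v k3 := by
                rw [zp_mul_self hC.v_sq]; group
            _ = q2 * (u * q * u⁻¹) * q3 * (zp v (k2 + k) * zp v k3) := by rw [hvq3]; group
            _ = _ := by rw [zp_mul_self hC.v_sq]
        have hsq : (e' * a) * (e' * a) = b := by
          have hpt : pb * e = e * pb * z := hcd.pt_e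
          have hpb2 : pb * pb = 1 := by
            calc pb * pb = p * (b * b) * p⁻¹ := by rw [hpb]; group
              _ = 1 := by rw [hb2]; group
          calc e' * a * (e' * a) = σ⁻¹ * (e * (pb * e) * pb) * σ := by rw [he', ha]; group
            _ = σ⁻¹ * (e * (e * pb * z) * pb) * σ := by rw [hpt]
            _ = σ⁻¹ * ((e * e) * pb * (z * pb)) * σ := by group
            _ = σ⁻¹ * ((e * e) * (pb * pb) * z) * σ := by
                rw [← (hE.comm_z pb (mem_cQ.1 hpbQ).1).eq]; group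
            _ = b := by rw [hcd.e_sq, hpb2, ← hσi]; group
        have hv4 : zp v n4 * q4 = q4 * zp v n4 := zp_comm (hC.v_Q _ hq4) n4
        have h4 : (q4 * zp v n4) * (q4 * zp v n4) = q4 * q4 := by
          calc q4 * zp v n4 * (q4 * zp v n4) = q4 * (zp v n4 * q4) * zp v n4 := by group
            _ = (q4 * q4) * (zp v n4 * zp v n4) := by rw [hv4]; group
            _ = _ := by
                rw [zp_mul_self hC.v_sq, ← two_mul, show (2 : ZMod 2) = 0 from by decide, zero_mul, zp_zero,
                  mul_one]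
        rw [hform, h4] at hsq
        rcases hE.square q4 (mem_cQ.1 hq4).1 with e1 | e1 <;> rw [e1] at hsq
        · exact hnb0 ((vec_eq_zero hJ hcd hy hQ hbQ).2 (Or.inl hsq.symm))
        · exact hbz hsq.symm

theorem Conf.e_omega_props : (e ∈ cQ z y ∧ t ∈ cQ z y) ∧ Small (vec z p e t e) ∧ Big (vec z p e t t) := by
  refine ⟨⟨hC.coord.e_mem, hC.coord.t_mem⟩, ?_, ?_⟩
  · rw [vec_e hC.hJ hC.coord]; decide
  · rw [vec_t hC.hJ hC.coord]; decide

/-- The line of any fused `a` lies in the conjugate of `E` at `a`. -/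
theorem Conf.line (hNG : NoGoal z P) {a : G} (hΩ : Omega z y a) {n : G} (hn : n * y = y * n)
    (hna : n * z * n⁻¹ = a) : n⁻¹ * (p * a * p⁻¹) * n ∈ cE z := by
  have hJ := hC.hJ
  have hcd := hC.coord
  have hy := hC.y_mem
  have hQ := hC.card_Q
  obtain ⟨haQ, -, -, haz, hqa, hna0⟩ := hC.omega_props hΩ
  obtain ⟨⟨heQ, htQ⟩, hSe, hBt⟩ := hC.e_omega_props
  obtain ⟨b, hb, hbQ, i, l, hil⟩ : ∃ b : G, (b = e ∨ b = t) ∧ b ∈ cQ z y ∧ ∃ i : Fin 3, ∃ l : ZMod 2,
      mat i l 0 (vec z p e t b) = vec z p e t a := by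
    rcases big_or_small _ hqa hna0 with h | h
    · exact ⟨t, Or.inr rfl, htQ, big_trans _ _ hBt h⟩
    · obtain ⟨i, hi⟩ := small_trans _ _ hSe h
      exact ⟨e, Or.inl rfl, heQ, i, 0, hi⟩
  set h := cRep p y v w u i 0 0 l 0 with hh
  have hhW : h ∈ cW z y := hC.cRep_mem _ _ _ _ _
  have hvec : vec z p e t (h * b * h⁻¹) = vec z p e t a := by
    have := hC.vec_act (one_mem (cQ z y)) i 0 0 l 0 hbQ
    rw [one_mul, hil] at this
    exact this
  -- an exact conjugate
  obtain ⟨h', hh'W, hh'b, hh'p⟩ : ∃ h' ∈ cW z y, h' * b * h'⁻¹ = a ∧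
      vec z p e t (h' * (p * b * p⁻¹) * h'⁻¹) = vec z p e t (p * a * p⁻¹) := by
    have hp : vec z p e t (h * (p * b * p⁻¹) * h⁻¹) = vec z p e t (p * a * p⁻¹) := by
      have hcomm : p * h = h * p := by
        have hwp : Commute p (zp w l) := (zp_comm (C_comm_P hC.w_mem hC.p_mem) l).symm
        have : h = p ^ (i : ℕ) * zp w l := by simp [hh, cRep, zp_zero]
        rw [this]
        exact (((Commute.refl p).pow_right _).mul_right hwp).eq
      have e1 : h * (p * b * p⁻¹) * h⁻¹ = p * (h * b * h⁻¹) * p⁻¹ := by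
        calc h * (p * b * p⁻¹) * h⁻¹ = (h * p) * b * (h * p)⁻¹ := by group
          _ = (p * h) * b * (p * h)⁻¹ := by rw [hcomm]
          _ = _ := by group
      rw [e1, hC.vec_P (hC.conj_Q hhW hbQ), hC.vec_P haQ, hvec]
    rcases (vec_eq_iff hJ hcd hy hQ haQ (hC.conj_Q hhW hbQ)).1 hvec.symm with e1 | e1
    · exact ⟨h, hhW, e1.symm, hp⟩
    · obtain ⟨x, hx, hxb⟩ := hC.exists_shift_elt (hC.conj_Q hhW hbQ) (hvec ▸ hna0)
      refine ⟨x * h, mul_mem (hC.Q_le_W hx) hhW, ?_, ?_⟩
      · rw [e1, ← hxb]; group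
      · have e2 : x * h * (p * b * p⁻¹) * (x * h)⁻¹ = x * (h * (p * b * p⁻¹) * h⁻¹) * x⁻¹ := by group
        rw [e2, hC.vec_inner hx (hC.conj_Q hhW (hC.conj_Q hC.p_W hbQ)), hp]
  have hb' : Omega z y b := by
    have h1 := hC.omega_conj (inv_mem hh'W) hΩ
    have e2 : h'⁻¹ * a * h'⁻¹⁻¹ = b := by rw [← hh'b]; group
    rwa [e2] at h1
  obtain ⟨h1z, h1y⟩ := mem_cW.1 hh'W
  have hkey := hC.line_base hNG hb hb' (n := h'⁻¹ * n) (Commute.mul_left (Commute.inv_left h1y) hn).eq (by
    calc h'⁻¹ * n * z * (h'⁻¹ * n)⁻¹ = h'⁻¹ * (n * z * n⁻¹) * h' := by group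
      _ = b := by rw [hna, ← hh'b]; group)
  have hz' := hC.center_conj hn (by rw [hna]; exact (mem_cQ.1 haQ).1)
  have e1 : (h'⁻¹ * n)⁻¹ * (p * b * p⁻¹) * (h'⁻¹ * n) = n⁻¹ * (h' * (p * b * p⁻¹) * h'⁻¹) * n := by group
  rw [e1] at hkey
  rcases (vec_eq_iff hJ hcd hy hQ (hC.conj_Q hC.p_W haQ)
      (hC.conj_Q hh'W (hC.conj_Q hC.p_W hbQ))).1 hh'p.symm with e2 | e2 <;> rw [e2]
  · exact hkey
  · have e3 : n⁻¹ * (h' * (p * b * p⁻¹) * h'⁻¹ * z) * n =
        (n⁻¹ * (h' * (p * b * p⁻¹) * h'⁻¹) * n) * (n⁻¹ * z * n) := by group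
    rw [e3]
    exact mul_mem hkey (mem_cQ.1 hz').1

/-- No element of the line of `e` is fused. -/
theorem Conf.no_small (hNG : NoGoal z P) {a : G} (hΩa : Omega z y a) (hS : Small (vec z p e t a)) : False := by
  have hJ := hC.hJ
  have hcd := hC.coord
  have hy := hC.y_mem
  have hQ := hC.card_Q
  have hE := gen_split hJ
  obtain ⟨⟨heQ, htQ⟩, hSe, -⟩ := hC.e_omega_props
  have hΩ : Omega z y e := hC.omega_trans hΩa heQ (Or.inr ⟨hS, hSe⟩)
  obtain ⟨-, -, he1, hez, -, -⟩ := hC.omega_props hΩ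
  obtain ⟨c, σ, α, -, hσy, hσz, hσe, -, -, -⟩ := hC.swap hNG hΩ
  have hσi : σ⁻¹ * z * σ = e := by rw [← hσe]; group
  have hσe' : σ⁻¹ * e * σ = z := by rw [← hσz]; group
  set pe := p * e * p⁻¹ with hpe
  have hpeQ : pe ∈ cQ z y := hcd.pe_mem
  set a1 := σ⁻¹ * pe * σ with ha1
  have ha1Q : a1 ∈ cQ z y := mem_cQ.2 ⟨hC.line hNG hΩ hσy hσz,
    (Commute.mul_left (Commute.mul_left (Commute.inv_left hσy) (mem_cQ.1 hpeQ).2) hσy).eq⟩
  set b' := σ⁻¹ * t * σ with hb'
  have hb'W : b' ∈ cW z y := hC.conj_mem_W hσy hσz (mem_cQ.1 htQ).2 hcd.e_t.symm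
  have hb'2 : b' * b' = 1 := by
    calc b' * b' = σ⁻¹ * (t * t) * σ := by rw [hb']; group
      _ = 1 := by rw [hcd.t_sq]; group
  have htz : t * z = z * t := (hE.comm_z t (mem_cQ.1 htQ).1).eq
  have hb'e : b' * e = e * b' := by
    rw [hb', ← hσi]
    calc σ⁻¹ * t * σ * (σ⁻¹ * z * σ) = σ⁻¹ * (t * z) * σ := by group
      _ = σ⁻¹ * (z * t) * σ := by rw [htz]
      _ = _ := by group
  obtain ⟨q, hq, i, j, hi, hj, k, l, m, hbq, himp⟩ := hC.invol_rep hb'W hb'2
  have hfix : mat i l m (1, 0, 0, 0) = (1, 0, 0, 0) := by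
    have h1 := hC.vec_act hq i j k l m heQ
    rw [← hbq, hb'e, mul_inv_cancel_right, vec_e hJ hcd] at h1
    exact h1.symm
  have hi0 : i = 0 := by simpa [Fin.ext_iff] using fix_e ⟨i, hi⟩ l m hfix
  subst hi0
  obtain ⟨-, rfl⟩ := himp (Or.inl rfl)
  have hcomm : b' * a1 * b'⁻¹ = e * a1 := by
    have htpe : t * pe = pe * t * z := hcd.t_pe
    calc b' * a1 * b'⁻¹ = σ⁻¹ * (t * pe * t⁻¹) * σ := by rw [hb', ha1]; group
      _ = σ⁻¹ * (pe * (t * z * t⁻¹)) * σ := by rw [htpe]; group
      _ = σ⁻¹ * (pe * z) * σ := by rw [htz, mul_inv_cancel_right]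
      _ = σ⁻¹ * (z * pe) * σ := by rw [(hE.comm_z pe (mem_cQ.1 hpeQ).1).eq]
      _ = (σ⁻¹ * z * σ) * a1 := by rw [ha1]; group
      _ = _ := by rw [hσi]
  by_cases hlm : l = 0 ∧ m = 0
  · obtain ⟨rfl, rfl⟩ := hlm
    have hb'' : b' = q * zp v k := by rw [hbq]; simp [cRep, zp_zero]
    have h1 : b' * a1 * b'⁻¹ = q * a1 * q⁻¹ := by
      rw [hb'']
      calc q * zp v k * a1 * (q * zp v k)⁻¹ = q * (zp v k * a1 * (zp v k)⁻¹) * q⁻¹ := by group
        _ = _ := by rw [zp_comm (hC.v_Q a1 ha1Q) k, mul_inv_cancel_right]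
    rw [h1] at hcomm
    rcases conj_eq hE (mem_cQ.1 hq).1 (mem_cQ.1 ha1Q).1 with e1 | e1 <;> rw [e1] at hcomm
    · exact he1 (mul_eq_right.1 hcomm.symm)
    · exact hez (mul_right_cancel hcomm).symm
  · obtain ⟨x, hxW, hxe, hxout⟩ := hC.comm_out hq (k := k) hlm
    rw [← hbq] at hxout
    set h := σ * x * σ⁻¹ with hh
    have hhW : h ∈ cW z y := by
      refine mem_cW.2 ⟨?_, (Commute.mul_left (Commute.mul_left hσy (mem_cW.1 hxW).2) (Commute.inv_left hσy)).eq⟩
      calc h * z = σ * (x * (σ⁻¹ * z * σ)) * σ⁻¹ := by rw [hh]; group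
        _ = σ * ((σ⁻¹ * z * σ) * x) * σ⁻¹ := by rw [hσi, hxe]
        _ = _ := by rw [hh]; group
    have hhe : h * e = e * h := by
      calc h * e = σ * (x * (σ⁻¹ * e * σ)) * σ⁻¹ := by rw [hh]; group
        _ = σ * ((σ⁻¹ * e * σ) * x) * σ⁻¹ := by rw [hσe', (mem_cW.1 hxW).1]
        _ = _ := by rw [hh]; group
    set r := h * t * h⁻¹ with hr
    have hrQ : r ∈ cQ z y := hC.conj_Q hhW htQ
    have hre : r * e = e * r := by
      rw [hr]
      exact ((Commute.mul_left (Commute.mul_left hhe hcd.e_t.symm) (Commute.inv_left hhe))).eq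
    have h4 : (vec z p e t r).2.2.2 = 0 := by
      refine perp_e _ ?_
      rw [← vec_e (p := p) hJ hcd]
      exact (commute_iff hJ hcd hy hQ hrQ heQ).1 hre
    obtain ⟨n, hn⟩ := exists_vec hJ hcd hy hQ hrQ
    generalize vec z p e t r = aa at hn h4
    obtain ⟨a', b1, d, a4⟩ := aa
    obtain rfl : a4 = 0 := h4
    simp only [elt, zp_zero, mul_one, ← hpe] at hn
    have hxb : x * b' * x⁻¹ = zp z a' * zp a1 b1 * zp b' d * zp e n := by
      have e1 : x * b' * x⁻¹ = σ⁻¹ * r * σ := by rw [hr, hh, hb']; group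
      have hz1 : ∀ (g : G) (i : ZMod 2), σ⁻¹ * zp g i * σ = zp (σ⁻¹ * g * σ) i := fun g i => by
        simpa using zp_conj σ⁻¹ g i
      calc x * b' * x⁻¹ = (σ⁻¹ * zp e a' * σ) * (σ⁻¹ * zp pe b1 * σ) * (σ⁻¹ * zp t d * σ) *
            (σ⁻¹ * zp z n * σ) := by rw [e1, hn]; group
        _ = _ := by rw [hz1, hz1, hz1, hz1, hσe', hσi]
    have hA : zp z a' * zp a1 b1 ∈ cE z := mul_mem (zp_mem (z_mem_E hJ) _) (zp_mem (mem_cQ.1 ha1Q).1 _)
    have hB : zp e n ∈ cE z := zp_mem (mem_cQ.1 heQ).1 _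
    obtain ⟨hxz, -⟩ := mem_cW.1 hxW
    rcases zmod_cases d with rfl | rfl
    · rw [zp_zero, mul_one] at hxb
      have h5 : x * b' * x⁻¹ ∈ cE z := by rw [hxb]; exact mul_mem hA hB
      have hbE : b' ∈ cE z := by
        have := conj_mem_E (Commute.inv_left hxz).eq h5
        convert this using 1
        group
      rw [hbq] at hbE
      have hrep : cRep p y v w u 0 0 k l m ∈ cE z := by
        have := mul_mem (inv_mem (mem_cQ.1 hq).1) hbE
        rwa [inv_mul_cancel_left] at this
      obtain ⟨-, -, -, hl, hm⟩ := hC.rep_zero (by norm_num) (by norm_num) hrep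
      exact hlm ⟨hl, hm⟩
    · rw [zp_one] at hxb
      apply hxout
      have : x * b' * x⁻¹ * b'⁻¹ = (zp z a' * zp a1 b1) * (b' * zp e n * b'⁻¹) := by rw [hxb]; group
      rw [this]
      exact mul_mem hA (conj_mem_E (mem_cW.1 hb'W).1 hB)

end CfsgLib.J4Local
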