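/-
Janko-four type: every noncentral involution of `E = O₂(C(z))` is conjugate in `C_H(P)` to one
commuting with a given element of order three outside `P`.
-/
import Cfsg.Agent.J4Local.Basics
import Cfsg.Agent.FGSA.ExtraTwoType
import Mathlib.GroupTheory.Perm.Cycle.Type

set_option autoImplicit false

namespace CfsgLib.J4Local

open Subgroup

section Count

variable {G : Type*} [Group G]

theorem modEq_of_eq {a b n : ℕ} (h : a = b) : a ≡ b [MOD n] := congrArg (· % n) h

/-- The noncentral square roots of the identity in `F`. -/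
def invSet (z : G) (F : Subgroup G) : Set G := {w | w ∈ F ∧ w * w = 1 ∧ w ≠ 1 ∧ w ≠ z}

theorem modEq_ncard_fixed [Finite G] {g : G} {q : ℕ} [Fact q.Prime] (hg : g ^ q = 1) (S : Set G)
    (hS : ∀ s ∈ S, g * s * g⁻¹ ∈ S) :
    S.ncard ≡ {s | s ∈ S ∧ g * s = s * g}.ncard [MOD q] := by
  classical
  haveI : Fintype ↥S := Fintype.ofFinite _
  let f : Function.End ↥S := fun s => ⟨g * s * g⁻¹, hS s s.2⟩
  have hpow : ∀ (n : ℕ) (s : ↥S), ((f ^ n) s : G) = g ^ n * s * (g ^ n)⁻¹ := by
    intro n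
    induction n with
    | zero => intro s; simp; rfl
    | succ n ih =>
      intro s
      rw [pow_succ]
      show ((f ^ n) (f s) : G) = _
      rw [ih, pow_succ]
      show g ^ n * (g * s * g⁻¹) * (g ^ n)⁻¹ = _
      group
  have hf : f ^ q ^ 1 = 1 := by
    funext s
    apply Subtype.ext
    rw [hpow, pow_one, hg]
    simp
    rfl
  have h := Equiv.Perm.card_fixedPoints_modEq (p := q) (n := 1) hf
  rw [← Nat.card_eq_fintype_card, ← Nat.card_eq_fintype_card, Nat.card_coe_set_eq S] at h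
  rw [← Nat.card_coe_set_eq {s | s ∈ S ∧ g * s = s * g}]
  refine h.trans (modEq_of_eq (Nat.card_congr ?_))
  exact
    { toFun := fun s => ⟨(s.1 : G), s.1.2, by
        have := congrArg Subtype.val (s.2 : f s.1 = s.1)
        exact mul_inv_eq_iff_eq_mul.mp this⟩
      invFun := fun s => ⟨⟨s.1, s.2.1⟩, Subtype.ext (mul_inv_eq_iff_eq_mul.mpr s.2.2)⟩
      left_inv := fun _ => rfl
      right_inv := fun _ => rfl }

end Count

section Orbit

variable {G : Type*} [Group G] [Finite G] {z : G} {P : Subgroup G}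

theorem center_E (hJ : Cfsg.IsOfJankoFourTypeWith z P) {a : G} (ha : a ∈ cE z) :
    (⟨a, ha⟩ : ↥(cE z)) ∈ Subgroup.center ↥(cE z) ↔ a = 1 ∨ a = z := by
  haveI : Fact (Nat.Prime 2) := ⟨Nat.prime_two⟩
  have hzc : (⟨z, z_mem_E hJ⟩ : ↥(cE z)) ∈ Subgroup.center ↥(cE z) :=
    Subgroup.mem_center_iff.mpr fun b => Subtype.ext (mem_cH.mp (E_le_H b.2))
  have hz1 : z ≠ 1 := fun h => by simpa [h] using orderOf_z hJ
  have hzz : z ^ (2 : ℤ) = 1 := by
    rw [zpow_two, ← pow_two, ← orderOf_z hJ, pow_orderOf_eq_one]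
  constructor
  · intro hc
    obtain ⟨i, hi⟩ := CfsgLib.ExtraspecialIso.exists_zpow (extraspecial_E hJ) hzc
      (fun h => hz1 (congrArg Subtype.val h)) hc
    have hi' : a = z ^ i := by simpa using congrArg Subtype.val hi
    obtain ⟨t, rfl | rfl⟩ := Int.even_or_odd' i
    · left; rw [hi', zpow_mul, hzz, one_zpow]
    · right; rw [hi', zpow_add, zpow_mul, hzz, one_zpow, one_mul, zpow_one]
  · rintro (rfl | rfl)
    · exact one_mem _
    · exact hzc

/-- Order and number of square roots of the identity for a subgroup with radical `⟨z⟩`. -/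
theorem count_sub (hJ : Cfsg.IsOfJankoFourTypeWith z P) {F : Subgroup G} (hF : F ≤ cE z)
    (hzF : z ∈ F) (hrad : ∀ a ∈ F, (∀ b ∈ F, a * b = b * a) → a = 1 ∨ a = z) :
    ∃ k : ℕ, Nat.card ↥F = 2 ^ (2 * k + 1) ∧
      ((invSet z F).ncard + 2 = 2 ^ (2 * k) + 2 ^ k ∨
        (invSet z F).ncard + 2 + 2 ^ k = 2 ^ (2 * k)) := by
  classical
  have hz1 : z ≠ 1 := fun h => by simpa [h] using orderOf_z hJ
  have hzc : (⟨z, z_mem_E hJ⟩ : ↥(cE z)) ∈ Subgroup.center ↥(cE z) := (center_E hJ _).mpr (Or.inr rfl)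
  have hfr : CfsgLib.ExtraspecialIso.Frame (F.subgroupOf (cE z)) := by
    refine ⟨fun a ha => ?_, fun a ha hc => ?_⟩
    · show (a : G) ∈ F
      rcases (center_E hJ a.2).mp ha with h | h <;> rw [h]
      · exact one_mem F
      · exact hzF
    · refine (center_E hJ a.2).mpr (hrad a ha fun b hb => ?_)
      exact congrArg Subtype.val (hc ⟨b, hF hb⟩ hb).eq
  obtain ⟨k, hk, hcase⟩ := CfsgLib.ExtraTwoType.formula (extraspecial_E hJ) hzc
    (fun h => hz1 (congrArg Subtype.val h)) _ _ le_rfl hfr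
  rw [Nat.card_congr (Subgroup.subgroupOfEquivOfLe hF).toEquiv] at hk
  have hc : CfsgLib.ExtraTwoType.cnt (F.subgroupOf (cE z)) = (invSet z F).ncard + 2 := by
    have h1 : CfsgLib.ExtraTwoType.cnt (F.subgroupOf (cE z)) = {w : G | w ∈ F ∧ w * w = 1}.ncard := by
      rw [CfsgLib.ExtraTwoType.cnt, ← Nat.card_coe_set_eq]
      refine Nat.card_congr
        { toFun := fun h => ⟨((h.1 : ↥(cE z)) : G), h.1.2, by
            have := congrArg Subtype.val h.2
            simpa [pow_two] using this⟩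
          invFun := fun w => ⟨⟨⟨w.1, hF w.2.1⟩, w.2.1⟩, Subtype.ext (by simpa [pow_two] using w.2.2)⟩
          left_inv := fun _ => rfl
          right_inv := fun _ => rfl }
    have h2 : {w : G | w ∈ F ∧ w * w = 1} = insert 1 (insert z (invSet z F)) := by
      ext w
      constructor
      · intro hw
        by_cases h1 : w = 1
        · exact Or.inl h1
        by_cases h2 : w = z
        · exact Or.inr (Or.inl h2)
        exact Or.inr (Or.inr ⟨hw.1, hw.2, h1, h2⟩)
      · rintro (rfl | rfl | hw)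
        · exact ⟨one_mem F, one_mul 1⟩
        · exact ⟨hzF, by rw [← pow_two, ← orderOf_z hJ, pow_orderOf_eq_one]⟩
        · exact ⟨hw.1, hw.2.1⟩
    rw [h1, h2, Set.ncard_insert_of_notMem ?_, Set.ncard_insert_of_notMem ?_]
    · exact fun h => h.2.2.2 rfl
    · rintro (h | h)
      · exact hz1 h.symm
      · exact h.2.2.1 rfl
  refine ⟨k, hk, ?_⟩
  rcases hcase with ⟨h, -⟩ | ⟨-, h, -⟩
  · exact Or.inl (hc ▸ h)
  · exact Or.inr (hc ▸ h)

/-- The centraliser in `E` of an element of odd prime order of `H`. -/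
theorem fixed_data (hJ : Cfsg.IsOfJankoFourTypeWith z P) {g : G} {q : ℕ} [Fact q.Prime] (hq : q ≠ 2)
    (hg : g ∈ cH z) (hgq : g ^ q = 1) :
    ∃ k : ℕ, k ≤ 6 ∧ Nat.card ↥(cE z ⊓ Subgroup.centralizer {g}) = 2 ^ (2 * k + 1) ∧
      ((invSet z (cE z ⊓ Subgroup.centralizer {g})).ncard + 2 = 2 ^ (2 * k) + 2 ^ k ∨
        (invSet z (cE z ⊓ Subgroup.centralizer {g})).ncard + 2 + 2 ^ k = 2 ^ (2 * k)) ∧
      2 ^ 13 ≡ 2 ^ (2 * k + 1) [MOD q] ∧
      (invSet z (cE z)).ncard ≡ (invSet z (cE z ⊓ Subgroup.centralizer {g})).ncard [MOD q] := by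
  classical
  set F := cE z ⊓ Subgroup.centralizer {g} with hFdef
  have hconjE : ∀ e ∈ cE z, g * e * g⁻¹ ∈ cE z := fun e he =>
    (Subgroup.mem_normalizer_iff.mp (H_le_normalizer_E hg) e).mp he
  have hmemF : ∀ e : G, e ∈ F ↔ e ∈ cE z ∧ g * e = e * g := fun e => by
    rw [hFdef, Subgroup.mem_inf, Subgroup.mem_centralizer_singleton_iff, eq_comm (a := e * g)]
  have hgz : g * z * g⁻¹ = z := mul_inv_eq_iff_eq_mul.mpr (mem_cH.mp hg)
  have hzF : z ∈ F := (hmemF z).mpr ⟨z_mem_E hJ, mem_cH.mp hg⟩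
  have hrad : ∀ a ∈ F, (∀ b ∈ F, a * b = b * a) → a = 1 ∨ a = z := by
    intro a ha hab
    obtain ⟨haE, hga⟩ := (hmemF a).mp ha
    rw [← center_E hJ haE]
    by_contra hnc
    rw [Subgroup.mem_center_iff] at hnc
    push Not at hnc
    obtain ⟨b, hb⟩ := hnc
    haveI : Fact (Nat.Prime 2) := ⟨Nat.prime_two⟩
    have hstep := (CfsgLib.Extraspecial.card_commHom_step (extraspecial_E hJ) (H := ⊤)
      (x := (⟨a, haE⟩ : ↥(cE z))) (y := b) (Subgroup.mem_top b) hb).1
    rw [Subgroup.card_top, card_E hJ, top_inf_eq] at hstep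
    have hS : {e : G | e ∈ cE z ∧ e * a ≠ a * e}.ncard = 2 ^ 12 := by
      have h1 : {e : G | e ∈ cE z ∧ e * a = a * e}.ncard = 2 ^ 12 := by
        have h2 : Nat.card ↥(Subgroup.centralizer ({(⟨a, haE⟩ : ↥(cE z))} : Set ↥(cE z))) = 2 ^ 12 := by
          omega
        rw [← h2, ← Nat.card_coe_set_eq]
        exact Nat.card_congr
          { toFun := fun e => ⟨⟨e.1, e.2.1⟩, Subgroup.mem_centralizer_singleton_iff.mpr
              (Subtype.ext e.2.2)⟩
            invFun := fun e => ⟨((e.1 : ↥(cE z)) : G), e.1.2,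
              congrArg Subtype.val (Subgroup.mem_centralizer_singleton_iff.mp e.2)⟩
            left_inv := fun _ => rfl
            right_inv := fun _ => rfl }
      have h3 : ({e : G | e ∈ cE z ∧ e * a ≠ a * e}).ncard + {e : G | e ∈ cE z ∧ e * a = a * e}.ncard
          = 2 ^ 13 := by
        rw [← Set.ncard_union_eq, ← card_E hJ, ← Nat.card_coe_set_eq]
        · exact Nat.card_congr (Equiv.setCongr (by
            ext e
            constructor
            · rintro (h | h) <;> exact h.1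
            · intro h
              by_cases h' : e * a = a * e
              · exact Or.inr ⟨h, h'⟩
              · exact Or.inl ⟨h, h'⟩))
        · rw [Set.disjoint_left]
          exact fun e h h' => h.2 h'.2
      omega
    have hm := modEq_ncard_fixed hgq {e : G | e ∈ cE z ∧ e * a ≠ a * e} (fun e he => by
      refine ⟨hconjE e he.1, fun h => he.2 ?_⟩
      have hga' : g * a * g⁻¹ = a := mul_inv_eq_iff_eq_mul.mpr hga
      have hx : g * (e * a) * g⁻¹ = g * (a * e) * g⁻¹ := by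
        calc g * (e * a) * g⁻¹ = (g * e * g⁻¹) * (g * a * g⁻¹) := by group
          _ = (g * a * g⁻¹) * (g * e * g⁻¹) := by rw [hga']; exact h
          _ = _ := by group
      exact mul_left_cancel (mul_right_cancel hx))
    have hemp : {s : G | s ∈ {e : G | e ∈ cE z ∧ e * a ≠ a * e} ∧ g * s = s * g} = ∅ := by
      ext s
      simp only [Set.mem_setOf_eq, Set.mem_empty_iff_false, iff_false]
      rintro ⟨⟨hsE, hsa⟩, hgs⟩
      exact hsa (hab s ((hmemF s).mpr ⟨hsE, hgs⟩)).symm
    rw [hS, hemp, Set.ncard_empty, Nat.modEq_zero_iff_dvd] at hm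
    exact hq ((Nat.prime_dvd_prime_iff_eq (Fact.out) Nat.prime_two).mp
      ((Fact.out : q.Prime).dvd_of_dvd_pow hm))
  obtain ⟨k, hk, hcase⟩ := count_sub hJ (inf_le_left : F ≤ cE z) hzF hrad
  have hk6 : k ≤ 6 := by
    have := Subgroup.card_le_card_group (F.subgroupOf (cE z))
    rw [Nat.card_congr (Subgroup.subgroupOfEquivOfLe (inf_le_left : F ≤ cE z)).toEquiv, hk, card_E hJ,
      Nat.pow_le_pow_iff_right (by norm_num)] at this
    omega
  refine ⟨k, hk6, hk, hcase, ?_, ?_⟩
  · have h := modEq_ncard_fixed hgq (cE z : Set G) hconjE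
    rw [← hk, ← card_E hJ, ← Nat.card_coe_set_eq] at *
    refine h.trans (modEq_of_eq ?_)
    rw [← Nat.card_coe_set_eq]
    exact Nat.card_congr (Equiv.setCongr (Set.ext fun e => (hmemF e).symm))
  · have h := modEq_ncard_fixed hgq (invSet z (cE z)) (fun s hs => by
      obtain ⟨h1, h2, h3, h4⟩ := hs
      refine ⟨hconjE s h1, ?_, ?_, ?_⟩
      · rw [show g * s * g⁻¹ * (g * s * g⁻¹) = g * (s * s) * g⁻¹ by group, h2]; group
      · exact fun h => h3 (conj_eq_one_iff.mp h)
      · intro h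
        exact h4 (mul_left_cancel (mul_right_cancel (h.trans hgz.symm))))
    refine h.trans (modEq_of_eq (congrArg Set.ncard ?_))
    ext s
    constructor
    · rintro ⟨⟨h1, h2⟩, h3⟩
      exact ⟨(hmemF s).mpr ⟨h1, h3⟩, h2⟩
    · rintro ⟨h1, h2⟩
      exact ⟨⟨((hmemF s).mp h1).1, h2⟩, ((hmemF s).mp h1).2⟩

theorem centralizer_E_of_card (hJ : Cfsg.IsOfJankoFourTypeWith z P) {g : G} {q : ℕ} [Fact q.Prime]
    (hq : q ≠ 2) (hg : g ∈ cH z) (hgo : orderOf g = q)
    (h : Nat.card ↥(cE z ⊓ Subgroup.centralizer {g}) = 2 ^ 13) : False := by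
  have heq : cE z ⊓ Subgroup.centralizer {g} = cE z :=
    CfsgLib.Solvable.eq_of_le_of_card_le inf_le_left (by rw [h, card_E hJ])
  have hgE : g ∈ cE z := by
    refine centralizer_E_le hJ ⟨hg, Subgroup.mem_centralizer_iff.mpr fun e he => ?_⟩
    rw [← heq] at he
    exact Subgroup.mem_centralizer_singleton_iff.mp he.2
  have hd := Subgroup.orderOf_dvd_natCard _ hgE
  rw [hgo, card_E hJ] at hd
  exact hq ((Nat.prime_dvd_prime_iff_eq (Fact.out) Nat.prime_two).mp
    ((Fact.out : q.Prime).dvd_of_dvd_pow hd))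

/-- An element of `E` centralising `P` is central. -/
theorem eq_one_or_z (hJ : Cfsg.IsOfJankoFourTypeWith z P) {p s : G} (hp : p ∈ P) (hpo : orderOf p = 3)
    (hs : s ∈ cE z) (hps : Commute p s) : s = 1 ∨ s = z := by
  have hzp : Subgroup.zpowers p = P := CfsgLib.Solvable.eq_of_le_of_card_le
    (Subgroup.zpowers_le.mpr hp) (by rw [Nat.card_zpowers, hpo, card_P hJ])
  have hC : s ∈ Subgroup.centralizer (P : Set G) := by
    refine Subgroup.mem_centralizer_iff.mpr fun q hq => ?_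
    rw [SetLike.mem_coe, ← hzp] at hq
    obtain ⟨i, rfl⟩ := Subgroup.mem_zpowers_iff.mp hq
    exact hps.zpow_left i
  have hmem : s ∈ Subgroup.zpowers z := E_inf_centralizer hJ ▸ Subgroup.mem_inf.mpr ⟨hs, hC⟩
  obtain ⟨i, rfl⟩ := Subgroup.mem_zpowers_iff.mp hmem
  have hzz : z ^ (2 : ℤ) = 1 := by
    rw [zpow_two, ← pow_two, ← orderOf_z hJ, pow_orderOf_eq_one]
  obtain ⟨t, rfl | rfl⟩ := Int.even_or_odd' i
  · exact Or.inl (by rw [zpow_mul, hzz, one_zpow])
  · exact Or.inr (by rw [zpow_add, zpow_mul, hzz, one_zpow, one_mul, zpow_one])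

/-- An element of order three generating `P` fixes no noncentral involution of `E`. -/
theorem three_dvd_invSet (hJ : Cfsg.IsOfJankoFourTypeWith z P) {F : Subgroup G} (hF : F ≤ cE z)
    (hPF : ∀ p ∈ P, ∀ f ∈ F, p * f * p⁻¹ ∈ F) : 3 ∣ (invSet z F).ncard := by
  haveI : Fact (Nat.Prime 3) := ⟨Nat.prime_three⟩
  obtain ⟨⟨p, hpP⟩, hp⟩ := exists_prime_orderOf_dvd_card' (G := ↥P) 3 (by rw [card_P hJ])
  rw [← Subgroup.orderOf_coe] at hp
  change orderOf p = 3 at hp
  have hpz : p * z * p⁻¹ = z := mul_inv_eq_iff_eq_mul.mpr (mem_cH.mp (P_le_H hJ hpP))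
  have h := modEq_ncard_fixed (q := 3) (by rw [← hp, pow_orderOf_eq_one]) (invSet z F) (fun s hs => by
    obtain ⟨h1, h2, h3, h4⟩ := hs
    refine ⟨hPF p hpP s h1, ?_, ?_, ?_⟩
    · rw [show p * s * p⁻¹ * (p * s * p⁻¹) = p * (s * s) * p⁻¹ by group, h2]; group
    · exact fun h => h3 (conj_eq_one_iff.mp h)
    · intro h
      exact h4 (mul_left_cancel (mul_right_cancel (h.trans hpz.symm))))
  have hemp : {s : G | s ∈ invSet z F ∧ p * s = s * p} = ∅ := by
    ext s
    simp only [Set.mem_setOf_eq, Set.mem_empty_iff_false, iff_false]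
    rintro ⟨⟨hsF, h2, h3, h4⟩, hps⟩
    rcases eq_one_or_z hJ hpP hp (hF hsF) hps with h | h
    · exact h3 h
    · exact h4 h
  rwa [hemp, Set.ncard_empty, Nat.modEq_zero_iff_dvd] at h

theorem card_invSet_E (hJ : Cfsg.IsOfJankoFourTypeWith z P) : (invSet z (cE z)).ncard = 4158 := by
  obtain ⟨k, hk, hcase⟩ := count_sub hJ le_rfl (z_mem_E hJ) (fun a ha hc => by
    rw [← center_E hJ ha, Subgroup.mem_center_iff]
    exact fun b => Subtype.ext (hc b b.2).symm)
  rw [card_E hJ] at hk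
  have hk6 : k = 6 := by
    have := Nat.pow_right_injective le_rfl hk
    omega
  subst hk6
  have h3 := three_dvd_invSet hJ le_rfl fun p hp f hf =>
    (Subgroup.mem_normalizer_iff.mp (H_le_normalizer_E (P_le_H hJ hp)) f).mp hf
  norm_num at hcase
  omega

/-- Elements of order seven or eleven of `C` fix no noncentral involution of `E`. -/
theorem no_seven_eleven (hJ : Cfsg.IsOfJankoFourTypeWith z P) {q : ℕ} [Fact q.Prime]
    (hq : q = 7 ∨ q = 11) {d : G} (hd : d ∈ cC z P) (hdo : orderOf d = q)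
    {u : G} (hu : u ∈ invSet z (cE z)) (hdu : d * u = u * d) : False := by
  have hq2 : q ≠ 2 := by omega
  obtain ⟨k, hk6, hk, hcase, hmod, hmodX⟩ := fixed_data hJ hq2 hd.1 (by rw [← hdo, pow_orderOf_eq_one])
  have hdP : ∀ p ∈ P, ∀ f ∈ cE z ⊓ Subgroup.centralizer {d},
      p * f * p⁻¹ ∈ cE z ⊓ Subgroup.centralizer {d} := by
    intro p hp f hf
    refine ⟨(Subgroup.mem_normalizer_iff.mp (H_le_normalizer_E (P_le_H hJ hp)) f).mp hf.1, ?_⟩
    have h1 : Commute f d := Subgroup.mem_centralizer_singleton_iff.mp hf.2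
    have h2 : Commute p d := Subgroup.mem_centralizer_iff.mp hd.2 p hp
    exact Subgroup.mem_centralizer_singleton_iff.mpr
      (((h2.mul_left h1).mul_left h2.inv_left)).eq
  have h3 := three_dvd_invSet hJ (inf_le_left) hdP
  have huF : u ∈ invSet z (cE z ⊓ Subgroup.centralizer {d}) :=
    ⟨⟨hu.1, Subgroup.mem_centralizer_singleton_iff.mpr hdu.symm⟩, hu.2⟩
  have hpos : 0 < (invSet z (cE z ⊓ Subgroup.centralizer {d})).ncard := (Set.ncard_pos).mpr ⟨u, huF⟩
  rw [card_invSet_E hJ] at hmodX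
  rcases Nat.lt_or_eq_of_le hk6 with hlt | rfl
  · unfold Nat.ModEq at hmod hmodX
    rcases hq with rfl | rfl <;> interval_cases k
    all_goals (revert hcase hmod hmodX; norm_num; all_goals omega)
  · exact centralizer_E_of_card hJ hq2 hd.1 hdo hk

/-- (A) An element of order seven of `C` centralises only `⟨z⟩` in `E`. -/
theorem E_inf_centralizer_seven (hJ : Cfsg.IsOfJankoFourTypeWith z P) {d : G} (hd : d ∈ cC z P)
    (hdo : orderOf d = 7) : cE z ⊓ Subgroup.centralizer ({d} : Set G) = Subgroup.zpowers z := by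
  haveI : Fact (Nat.Prime 7) := ⟨by norm_num⟩
  obtain ⟨k, hk6, hk, hcase, hmod, hmodX⟩ :=
    fixed_data hJ (q := 7) (by norm_num) hd.1 (by rw [← hdo, pow_orderOf_eq_one])
  have h3 := three_dvd_invSet hJ (inf_le_left : cE z ⊓ Subgroup.centralizer {d} ≤ cE z) (by
    intro p hp f hf
    refine ⟨(Subgroup.mem_normalizer_iff.mp (H_le_normalizer_E (P_le_H hJ hp)) f).mp hf.1, ?_⟩
    have h1 : Commute f d := Subgroup.mem_centralizer_singleton_iff.mp hf.2
    have h2 : Commute p d := Subgroup.mem_centralizer_iff.mp hd.2 p hp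
    exact Subgroup.mem_centralizer_singleton_iff.mpr (((h2.mul_left h1).mul_left h2.inv_left)).eq)
  rw [card_invSet_E hJ] at hmodX
  rcases Nat.lt_or_eq_of_le hk6 with hlt | rfl
  · have hk0 : k = 0 := by
      unfold Nat.ModEq at hmod hmodX
      interval_cases k
      all_goals (revert hcase hmod hmodX; norm_num; try omega)
    subst hk0
    have hz : z ∈ cE z ⊓ Subgroup.centralizer ({d} : Set G) :=
      Subgroup.mem_inf.mpr ⟨z_mem_E hJ, Subgroup.mem_centralizer_singleton_iff.mpr (mem_cH.mp hd.1).symm⟩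
    refine (CfsgLib.Solvable.eq_of_le_of_card_le (Subgroup.zpowers_le.mpr hz) ?_).symm
    rw [hk, Nat.card_zpowers, orderOf_z hJ]
    norm_num
  · exact (centralizer_E_of_card hJ (by norm_num) hd.1 hdo hk).elim

/-- (B) An element of order eleven of `C` centralises no noncentral involution of `E`. -/
theorem involution_centralizer_eleven (hJ : Cfsg.IsOfJankoFourTypeWith z P) {d : G} (hd : d ∈ cC z P)
    (hdo : orderOf d = 11) {u : G} (hu : u ∈ cE z) (hdu : d * u = u * d) (hu2 : u * u = 1) :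
    u = 1 ∨ u = z := by
  haveI : Fact (Nat.Prime 11) := ⟨by norm_num⟩
  by_contra h
  push Not at h
  exact no_seven_eleven hJ (Or.inr rfl) hd hdo ⟨hu, hu2, h⟩ hdu

theorem exists_fixed_involution (hJ : Cfsg.IsOfJankoFourTypeWith z P) {y : G} (hy : y ∈ cC z P)
    (hy3 : orderOf y = 3) (hyP : y ∉ P)
    (hQ : Nat.card ↥(cE z ⊓ Subgroup.centralizer ({y} : Set G)) = 32)
    (hconj : ∀ r ∈ cC z P, orderOf r = 3 → r ∉ P → ∃ c ∈ cC z P, c * r * c⁻¹ = y)
    {u : G} (hu : u ∈ cE z) (hu2 : u * u = 1) (hu1 : u ≠ 1) (huz : u ≠ z) :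
    ∃ c ∈ cC z P, c * u * c⁻¹ * y = y * (c * u * c⁻¹) := by
  classical
  by_contra hno
  push Not at hno
  have huX : u ∈ invSet z (cE z) := ⟨hu, hu2, hu1, huz⟩
  let S0 : Subgroup ↥(cC z P) := (Subgroup.centralizer ({u} : Set G)).subgroupOf (cC z P)
  have hmemS : ∀ c : ↥(cC z P), c ∈ S0 ↔ (c : G) * u = u * c := fun c => by
    rw [Subgroup.mem_subgroupOf, Subgroup.mem_centralizer_singleton_iff]
  have hcop : ∀ q : ℕ, q = 3 ∨ q = 7 ∨ q = 11 → ¬ q ∣ Nat.card ↥S0 := by
    intro q hq hdvd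
    haveI : Fact q.Prime := ⟨by rcases hq with rfl | rfl | rfl <;> norm_num⟩
    obtain ⟨r, hr⟩ := exists_prime_orderOf_dvd_card' q hdvd
    rw [← Subgroup.orderOf_coe, ← Subgroup.orderOf_coe] at hr
    have hru := (hmemS r.1).mp r.2
    rcases hq with rfl | hq
    · by_cases hrP : ((r : ↥(cC z P)) : G) ∈ P
      · rcases eq_one_or_z hJ hrP hr hu hru with h | h
        · exact hu1 h
        · exact huz h
      · obtain ⟨c, hc, hcr⟩ := hconj _ r.1.2 hr hrP
        refine hno c hc ?_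
        rw [← hcr]
        calc c * u * c⁻¹ * (c * _ * c⁻¹) = c * (u * ((r : ↥(cC z P)) : G)) * c⁻¹ := by group
          _ = c * (((r : ↥(cC z P)) : G) * u) * c⁻¹ := by rw [hru]
          _ = _ := by group
    · exact no_seven_eleven hJ hq r.1.2 hr huX hru
  -- the orbit
  let f : ↥(cC z P) → G := fun c => c * u * (c : G)⁻¹
  set O := Set.range f with hOdef
  have hOcard : O.ncard * Nat.card ↥S0 = 2661120 := by
    have hlift : ∀ a b : ↥(cC z P), a⁻¹ * b ∈ S0 ↔ f a = f b := by
      intro a b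
      rw [hmemS, Subgroup.coe_mul, Subgroup.coe_inv]
      show _ ↔ (a : G) * u * (a : G)⁻¹ = b * u * (b : G)⁻¹
      constructor
      · intro h
        calc (a : G) * u * (a : G)⁻¹ = a * (u * ((a : G)⁻¹ * b)) * (b : G)⁻¹ := by group
          _ = a * ((a : G)⁻¹ * b * u) * (b : G)⁻¹ := by rw [h]
          _ = _ := by group
      · intro h
        calc (a : G)⁻¹ * b * u = (a : G)⁻¹ * (b * u * (b : G)⁻¹) * b := by group
          _ = (a : G)⁻¹ * (a * u * (a : G)⁻¹) * b := by rw [h]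
          _ = _ := by group
    let φ : ↥(cC z P) ⧸ S0 → O := Quotient.lift (fun c => (⟨f c, ⟨c, rfl⟩⟩ : O))
      (fun a b hab => Subtype.ext ((hlift a b).mp (QuotientGroup.leftRel_apply.mp hab)))
    have hbij : Function.Bijective φ := by
      constructor
      · rintro ⟨a⟩ ⟨b⟩ hab
        exact QuotientGroup.eq.mpr ((hlift a b).mpr (congrArg Subtype.val hab))
      · rintro ⟨_, c, rfl⟩
        exact ⟨QuotientGroup.mk c, rfl⟩
    rw [← Nat.card_coe_set_eq, ← Nat.card_congr (Equiv.ofBijective φ hbij),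
      ← Subgroup.card_eq_card_quotient_mul_card_subgroup, card_C hJ]
  have hdvd : 2079 ∣ O.ncard := by
    have hc : Nat.Coprime 2079 (Nat.card ↥S0) := by
      have h3 := (Nat.prime_three.coprime_iff_not_dvd).mpr (hcop 3 (by omega))
      have h7 := ((by norm_num : Nat.Prime 7).coprime_iff_not_dvd).mpr (hcop 7 (by omega))
      have h11 := ((by norm_num : Nat.Prime 11).coprime_iff_not_dvd).mpr (hcop 11 (by omega))
      have := (((h3.pow_left 3).mul_left h7).mul_left h11)
      simpa using this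
    exact hc.dvd_of_dvd_mul_right (by rw [hOcard]; norm_num)
  have hz2 : z * z = 1 := by rw [← pow_two, ← orderOf_z hJ, pow_orderOf_eq_one]
  have hcz : ∀ c ∈ cC z P, c * z = z * c := fun c hc => mem_cH.mp hc.1
  set O' := (fun w => w * z) '' O with hO'
  have hsub : O ∪ O' ⊆ invSet z (cE z) := by
    have hO : ∀ w ∈ O, w ∈ invSet z (cE z) := by
      rintro _ ⟨c, rfl⟩
      refine ⟨(Subgroup.mem_normalizer_iff.mp (H_le_normalizer_E c.2.1) u).mp hu, ?_, ?_, ?_⟩
      · show (c : G) * u * (c : G)⁻¹ * ((c : G) * u * (c : G)⁻¹) = 1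
        rw [show (c : G) * u * (c : G)⁻¹ * ((c : G) * u * (c : G)⁻¹) = c * (u * u) * (c : G)⁻¹ by group,
          hu2]
        group
      · exact fun h => hu1 (conj_eq_one_iff.mp h)
      · intro h
        refine huz ?_
        have h' : (c : G) * u * (c : G)⁻¹ = c * z * (c : G)⁻¹ := by
          rw [hcz c c.2, mul_inv_cancel_right]; exact h
        exact mul_left_cancel (mul_right_cancel h')
    rintro w (hw | ⟨w, hw, rfl⟩)
    · exact hO w hw
    · obtain ⟨h1, h2, h3, h4⟩ := hO w hw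
      have hwz : w * z = z * w := mem_cH.mp (E_le_H h1)
      refine ⟨mul_mem h1 (z_mem_E hJ), ?_, ?_, ?_⟩
      · show w * z * (w * z) = 1
        rw [show w * z * (w * z) = w * (z * w) * z by group, ← hwz,
          show w * (w * z) * z = (w * w) * (z * z) by group, h2, hz2, mul_one]
      · intro h
        exact h4 ((mul_eq_one_iff_eq_inv.mp h).trans (inv_eq_of_mul_eq_one_right hz2))
      · exact fun h => h3 (mul_eq_right.mp h)
  have hcard' : O'.ncard = O.ncard := Set.ncard_image_of_injective _ (mul_left_injective z)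
  have hbig : 4158 ≤ (O ∪ O').ncard := by
    have hpos : 0 < O.ncard := (Set.ncard_pos).mpr ⟨u, 1, by simp [f]⟩
    by_cases hdis : Disjoint O O'
    · rw [Set.ncard_union_eq hdis, hcard']
      omega
    · -- the orbit is stable under multiplication by z
      obtain ⟨w, hw, w', hw', hww⟩ := Set.not_disjoint_iff.mp hdis
      obtain ⟨a, rfl⟩ := hw
      obtain ⟨b, rfl⟩ := hw'
      have hall : ∀ v ∈ O, v * z ∈ O := by
        rintro _ ⟨c, rfl⟩
        refine ⟨c * b⁻¹ * a, ?_⟩
        show ((c * b⁻¹ * a : ↥(cC z P)) : G) * u * ((c * b⁻¹ * a : ↥(cC z P)) : G)⁻¹ =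
          (c : G) * u * (c : G)⁻¹ * z
        have hww' : (b : G) * u * (b : G)⁻¹ * z = a * u * (a : G)⁻¹ := hww
        simp only [Subgroup.coe_mul, Subgroup.coe_inv]
        calc _ = (c : G) * (b : G)⁻¹ * ((a : G) * u * (a : G)⁻¹) * b * (c : G)⁻¹ := by group
          _ = (c : G) * (b : G)⁻¹ * ((b : G) * u * (b : G)⁻¹ * z) * b * (c : G)⁻¹ := by rw [hww']
          _ = (c : G) * u * ((b : G)⁻¹ * (z * b)) * (c : G)⁻¹ := by group
          _ = (c : G) * u * z * (c : G)⁻¹ := by rw [← hcz b b.2]; group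
          _ = (c : G) * u * (z * (c : G)⁻¹) := by group
          _ = (c : G) * u * ((c : G)⁻¹ * z) := by rw [← hcz _ (inv_mem c.2)]
          _ = _ := by group
      have heven : 2 ∣ O.ncard := by
        haveI : Fact (Nat.Prime 2) := ⟨Nat.prime_two⟩
        haveI : Fintype ↥O := Fintype.ofFinite _
        let σ : Function.End ↥O := fun v => ⟨v.1 * z, hall v.1 v.2⟩
        have hσ : σ ^ 2 ^ 1 = 1 := by
          funext v
          apply Subtype.ext
          show v.1 * z * z = v.1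
          rw [mul_assoc, hz2, mul_one]
        have h := Equiv.Perm.card_fixedPoints_modEq (p := 2) (n := 1) hσ
        have h0 : Fintype.card (Function.fixedPoints σ) = 0 := Fintype.card_eq_zero_iff.mpr ⟨fun v => by
          have := congrArg Subtype.val (v.2 : σ v.1 = v.1)
          have hz1 : z = 1 := mul_eq_left.mp this
          simpa [hz1] using orderOf_z hJ⟩
        rw [h0, Nat.modEq_zero_iff_dvd, ← Nat.card_eq_fintype_card, Nat.card_coe_set_eq] at h
        exact h
      have := Set.ncard_le_ncard (Set.subset_union_left (s := O) (t := O'))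
      omega
  have heq : O ∪ O' = invSet z (cE z) :=
    Set.eq_of_subset_of_ncard_le hsub (by rw [card_invSet_E hJ]; exact hbig)
  haveI : Fact (Nat.Prime 3) := ⟨Nat.prime_three⟩
  obtain ⟨k, hk6, hk, hcase, -, -⟩ := fixed_data hJ (q := 3) (by norm_num) hy.1
    (by rw [← hy3, pow_orderOf_eq_one])
  have hk2 : k = 2 := by
    rw [hQ] at hk
    have := Nat.pow_right_injective le_rfl (show 2 ^ 5 = 2 ^ (2 * k + 1) from hk)
    omega
  subst hk2
  norm_num at hcase
  obtain ⟨w, ⟨hwE, hwy⟩, hw⟩ := (Set.ncard_pos (s := invSet z (cE z ⊓ Subgroup.centralizer {y}))).mp (by omega)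
  have hwy' : w * y = y * w := Subgroup.mem_centralizer_singleton_iff.mp hwy
  have hwX : w ∈ invSet z (cE z) := ⟨hwE, hw⟩
  rw [← heq] at hwX
  rcases hwX with ⟨c, rfl⟩ | ⟨w', ⟨c, rfl⟩, rfl⟩
  · exact hno c c.2 hwy'
  · refine hno c c.2 ?_
    have hzy : z * y = y * z := (hcz y hy).symm
    have h' : (c : G) * u * (c : G)⁻¹ * z * y = y * ((c : G) * u * (c : G)⁻¹ * z) := hwy'
    rw [mul_assoc _ z y, hzy, ← mul_assoc, ← mul_assoc y] at h'
    exact mul_right_cancel h'

end Orbit

end CfsgLib.J4Local
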