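/-
Janko-four type: multiplication of normal forms in W, and the square roots of the elements of `v Q`.
-/
import Cfsg.Agent.J4Local.WCalc

set_option autoImplicit false
set_option maxHeartbeats 800000

namespace CfsgLib.J4Local

open Subgroup

theorem prod_m : ∀ (i i1 i2 : Fin 3) (l l1 l2 m m1 m2 : ZMod 2),
    mat i l m (1, 0, 0, 0) = mat i1 l1 m1 (mat i2 l2 m2 (1, 0, 0, 0)) →
    mat i l m (0, 1, 0, 0) = mat i1 l1 m1 (mat i2 l2 m2 (0, 1, 0, 0)) → m = m1 + m2 := by
  decide +kernel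

theorem sq_inner : ∀ (i : Fin 3) (l : ZMod 2),
    mat i l 0 (mat i l 0 (1, 0, 0, 0)) = (1, 0, 0, 0) → i = 0 := by decide +kernel

variable {G : Type*} [Group G] [Finite G] {z : G} {P : Subgroup G} {p y s v w u e t : G}
  (hC : Conf z P p y s v w u e t)

include hC

/-- The linear map of a product is the product of the linear maps. -/
theorem Conf.rep_mul {h1 h2 h3 r1 r2 r3 : G} {i1 j1 i2 j2 i3 j3 : ℕ} {k1 l1 m1 k2 l2 m2 k3 l3 m3 : ZMod 2}
    (hr1 : r1 ∈ cQ z y) (hr2 : r2 ∈ cQ z y) (hr3 : r3 ∈ cQ z y)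
    (e1 : h1 = r1 * cRep p y v w u i1 j1 k1 l1 m1) (e2 : h2 = r2 * cRep p y v w u i2 j2 k2 l2 m2)
    (e3 : h3 = r3 * cRep p y v w u i3 j3 k3 l3 m3) (e4 : h1 = h2 * h3) (X : Vec4) :
    mat i1 l1 m1 X = mat i2 l2 m2 (mat i3 l3 m3 X) := by
  have hJ := hC.hJ
  have hcd := hC.coord
  have hX := elt_mem hcd X
  have a1 := hC.vec_act hr1 i1 j1 k1 l1 m1 hX
  have a3 := hC.vec_act hr3 i3 j3 k3 l3 m3 hX
  have hm : r3 * cRep p y v w u i3 j3 k3 l3 m3 * elt p e t X * (r3 * cRep p y v w u i3 j3 k3 l3 m3)⁻¹ ∈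
      cQ z y := hC.conj_Q (mul_mem (hC.Q_le_W hr3) (hC.cRep_mem _ _ _ _ _)) hX
  have a2 := hC.vec_act hr2 i2 j2 k2 l2 m2 hm
  rw [a3, vec_elt hJ hcd] at a2
  rw [vec_elt hJ hcd] at a1
  rw [← a1, ← a2, ← e1, ← e2, ← e3, e4]
  congr 1
  group

/-- A square root in W of an element of `v Q` is outer. -/
theorem Conf.sq_outer {π q q' : G} {i j : ℕ} {k l m : ZMod 2} (hi : i < 3) (hq : q ∈ cQ z y) (hq' : q' ∈ cQ z y)
    (hπ : π = q * cRep p y v w u i j k l m) (hsq : π * π = v * q') : m = 1 := by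
  rcases zmod_cases m with rfl | rfl
  swap
  · rfl
  exfalso
  have hrep : π * π = q' * cRep p y v w u 0 0 1 0 0 := by
    rw [hsq, hC.v_Q q' hq']; simp [cRep, zp_zero, zp_one]
  have hs2 := hC.rep_mul hq' hq hq hrep hπ hπ rfl (1, 0, 0, 0)
  have hi0 : i = 0 := by
    have := sq_inner ⟨i, hi⟩ l (hs2.symm.trans (by decide))
    simpa [Fin.ext_iff] using this
  subst hi0
  set r := y ^ j * zp v k * zp w l with hr
  have hπr : π = q * r := by rw [hπ]; simp [cRep, zp_zero, hr]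
  have hr2 : r * r = y ^ (2 * j) := by
    have c1 : Commute (y ^ j) (zp v k) :=
      (show Commute (zp v k) (y ^ j) from zp_comm ((show Commute v y from hC.v_y).pow_right j).eq k).symm
    have c2 : Commute (y ^ j) (zp w l) :=
      (show Commute (zp w l) (y ^ j) from zp_comm ((show Commute w y from hC.w_y).pow_right j).eq l).symm
    have c3 : zp w l * zp v k = zp v k * zp w l :=
      zp_comm (show Commute (zp v k) w from zp_comm hC.v_w k).symm.eq l
    have hv : zp v k * zp v k = 1 := by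
      rw [zp_mul_self hC.v_sq, ← two_mul, show (2 : ZMod 2) = 0 from by decide, zero_mul, zp_zero]
    have hw : zp w l * zp w l = 1 := by
      rw [zp_mul_self hC.w_sq, ← two_mul, show (2 : ZMod 2) = 0 from by decide, zero_mul, zp_zero]
    calc r * r = y ^ j * ((zp v k * zp w l) * y ^ j) * (zp v k * zp w l) := by rw [hr]; group
      _ = y ^ j * (y ^ j * (zp v k * zp w l)) * (zp v k * zp w l) := by rw [← (c1.mul_right c2).eq]
      _ = (y ^ j * y ^ j) * (zp v k * (zp w l * zp v k) * zp w l) := by group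
      _ = (y ^ j * y ^ j) * ((zp v k * zp v k) * (zp w l * zp w l)) := by rw [c3]; group
      _ = _ := by rw [hv, hw, mul_one, mul_one, ← pow_add, two_mul]
  set q3 := q * (r * q * r⁻¹) with hq3
  have hrW : r ∈ cW z y :=
    mul_mem (mul_mem (pow_mem hC.y_W _) (zp_mem hC.v_W _)) (zp_mem hC.w_W _)
  have hq3Q : q3 ∈ cQ z y := mul_mem hq (hC.conj_Q hrW hq)
  have hjE : y ^ (2 * j) * v ∈ cE z := by
    have h1 : q3 * y ^ (2 * j) = v * q' := by
      rw [← hsq, hπr, ← hr2, hq3]; group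
    have h2 : y ^ (2 * j) * v = q3⁻¹ * q' := by
      calc y ^ (2 * j) * v = q3⁻¹ * (q3 * y ^ (2 * j)) * v := by group
        _ = q3⁻¹ * ((v * q') * v) := by rw [h1]; group
        _ = q3⁻¹ * ((q' * v) * v) := by rw [hC.v_Q q' hq']
        _ = q3⁻¹ * q' * (v * v) := by group
        _ = _ := by rw [hC.v_sq, mul_one]
    rw [h2]
    exact mul_mem (inv_mem (mem_cQ.1 hq3Q).1) (mem_cQ.1 hq').1
  rw [← pow_mod_orderOf, hC.y_ord] at hjE
  have hE : cRep p y v w u 0 (2 * j % 3) 1 0 0 ∈ cE z := by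
    simpa [cRep, zp_zero, zp_one] using hjE
  exact absurd (hC.rep_zero (by norm_num) (Nat.mod_lt _ (by norm_num)) hE).2.2.1 (by decide)

end CfsgLib.J4Local
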