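/-
Janko-four type: some conjugate of `z` other than `z` lies in C_H(P).

Assuming not, the fused elements of `Q = C_E(y)` are the elements over the two lines off `e`, an inner
involution `v q` outside `E` is fused, and the images in `W` of two anti-commuting fused elements under a
conjugating element of `C(y)` give a contradiction.
-/
import Cfsg.Agent.J4Local.Fusion2
import Cfsg.Agent.J4Local.RepMul
import Cfsg.Agent.J4Local.OrbitFix
import Cfsg.Agent.J4Local.Fused
import Cfsg.Agent.J4Local.InnerInvolution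

set_option autoImplicit false
set_option linter.style.haveILetI false
set_option maxHeartbeats 800000
set_option synthInstance.maxSize 2048
set_option synthInstance.maxHeartbeats 200000

namespace CfsgLib.J4Local

open Subgroup
open CfsgLib.Extra2 CfsgLib.LargeExtra

theorem big_small : ∀ a b : Vec4, Big a → Small b → bil a b = 0 → Big (a + b) := by decide +kernel

theorem small_small : ∀ a b : Vec4, Small a → Small b → a + b = 0 ∨ Small (a + b) := by decide +kernel

theorem line_big : ∀ a b : Vec4, Big a → Big b → bil b a = 0 → Big (b + a) →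
    b = matP a ∨ a = matP b := by decide +kernel

theorem matP_two : ∀ a : Vec4, a ≠ 0 → matP (matP a) ≠ matP a ∧ matP (matP (matP a)) = a := by
  decide

variable {G : Type*} [Group G] [Finite G] {z : G} {P : Subgroup G} {p y s v w u e t : G}
  (hC : Conf z P p y s v w u e t)

include hC

/-- A conjugate of `z` in W, other than `z`: inner ones are known, the others are outer. -/
theorem Conf.fused_W (hNG : NoGoal z P) (hT : Omega z y t) {h : G} (hW : h ∈ cW z y) (hne : h ≠ z) {g : G}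
    (hg : g * z * g⁻¹ = h) :
    ((Omega z y h ∧ Big (vec z p e t h)) ∨ (∃ q ∈ cQ z y, h = v * q ∧ Small (vec z p e t q))) ∨
      ∃ q ∈ cQ z y, ∃ i j : ℕ, i < 3 ∧ ∃ k l : ZMod 2, h = q * cRep p y v w u i j k l 1 := by
  have hJ := hC.hJ
  have hcd := hC.coord
  have hh2 : h * h = 1 := by
    rw [← hg]
    calc g * z * g⁻¹ * (g * z * g⁻¹) = g * (z * z) * g⁻¹ := by group
      _ = 1 := by rw [z_mul_self hJ]; group
  obtain ⟨q, hq, i, j, hi, -, k, l, m, hrep, himp⟩ := hC.invol_rep hW hh2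
  rcases zmod_cases m with rfl | rfl
  · left
    obtain ⟨rfl, rfl⟩ := himp (Or.inr rfl)
    rcases zmod_cases l with rfl | rfl
    · rcases zmod_cases k with rfl | rfl
      · have hhq : h = q := by rw [hrep]; simp [cRep, zp_zero]
        have hΩ : Omega z y h := ⟨hhq ▸ hq, hne, g, hg⟩
        obtain ⟨-, -, -, -, hqf, hv0⟩ := hC.omega_props hΩ
        rcases big_or_small _ hqf hv0 with hb | hs
        · exact Or.inl ⟨hΩ, hb⟩
        · exact (hC.no_small hNG hΩ hs).elim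
      · have hhq : h = v * q := by rw [hrep, hC.v_Q q hq]; simp [cRep, zp_zero, zp_one]
        have hq2 : q * q = 1 := by
          calc q * q = (v * v) * (q * q) := by rw [hC.v_sq, one_mul]
            _ = v * (v * q) * q := by group
            _ = v * (q * v) * q := by rw [hC.v_Q q hq]
            _ = (v * q) * (v * q) := by group
            _ = 1 := by rw [← hhq, hh2]
        have hqf : qf (vec z p e t q) = 0 := by
          have hs := sq_vec hJ hcd hC.y_mem hC.card_Q hq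
          rw [hq2] at hs
          rcases zmod_cases (qf (vec z p e t q)) with e0 | e1
          · exact e0
          · rw [e1, zp_one] at hs; exact absurd hs.symm (z_ne hJ)
        by_cases h0 : vec z p e t q = 0
        · exact (hC.v_central_z hNG hq h0 (hg.trans hhq)).elim
        · rcases big_or_small _ hqf h0 with hb | hs
          · refine (hC.v_omega hNG (hC.omega_trans hT hq (Or.inl ⟨?_, hb⟩)) 0 (g := g) ?_).elim
            · exact hC.e_omega_props.2.2
            · rw [hg, hhq, zp_zero, mul_one]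
          · exact Or.inr ⟨q, hq, hhq, hs⟩
    · exact (hC.no_w hNG hq hrep hh2 hg).elim
  · exact Or.inr ⟨q, hq, i, j, hi, k, l, hrep⟩

/-- An inner fused element commuting with a fused `v q'` cannot give a fused product with it. -/
theorem Conf.inner_bad (hNG : NoGoal z P) (hT : Omega z y t) {a q' : G} (hq' : q' ∈ cQ z y)
    (hs' : Small (vec z p e t q'))
    (ha : (Omega z y a ∧ Big (vec z p e t a)) ∨ ∃ q ∈ cQ z y, a = v * q ∧ Small (vec z p e t q))
    (hc : a * (v * q') = (v * q') * a) (hne : a * (v * q') ≠ z) {g : G}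
    (hg : g * z * g⁻¹ = a * (v * q')) : False := by
  have hJ := hC.hJ
  have hcd := hC.coord
  have hy := hC.y_mem
  have hQ := hC.card_Q
  rcases ha with ⟨hΩ, hb⟩ | ⟨q, hq, rfl, hs⟩
  · obtain ⟨haQ, -⟩ := hC.omega_props hΩ
    have hva : v * a = a * v := hC.v_Q a haQ
    have hcq : a * q' = q' * a := by
      refine mul_left_cancel (a := v) ?_
      calc v * (a * q') = a * (v * q') := by rw [← mul_assoc, hva, mul_assoc]
        _ = (v * q') * a := hc
        _ = _ := mul_assoc _ _ _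
    have hbig : Big (vec z p e t (a * q')) := by
      rw [vec_mul hJ hcd hy hQ haQ hq']
      exact big_small _ _ hb hs' ((commute_iff hJ hcd hy hQ haQ hq').1 hcq)
    refine hC.v_omega hNG (hC.omega_trans hT (mul_mem haQ hq') (Or.inl ⟨hC.e_omega_props.2.2, hbig⟩)) 0
      (g := g) ?_
    rw [hg, zp_zero, mul_one, ← mul_assoc, ← hva, mul_assoc]
  · have hprod : v * q * (v * q') = q * q' := by
      calc v * q * (v * q') = v * (q * v) * q' := by group
        _ = v * (v * q) * q' := by rw [hC.v_Q q hq]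
        _ = (v * v) * (q * q') := by group
        _ = q * q' := by rw [hC.v_sq, one_mul]
    rw [hprod] at hg hne
    have hqq : q * q' ∈ cQ z y := mul_mem hq hq'
    rcases small_small _ _ hs hs' with h0 | h1
    · rw [← vec_mul hJ hcd hy hQ hq hq'] at h0
      rcases (vec_eq_zero hJ hcd hy hQ hqq).1 h0 with e1 | e1
      · exact z_ne hJ (by
          calc z = g⁻¹ * (g * z * g⁻¹) * g := by group
            _ = 1 := by rw [hg, e1]; group)
      · exact hne e1
    · rw [← vec_mul hJ hcd hy hQ hq hq'] at h1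
      exact hC.no_small hNG ⟨hqq, hne, g, hg⟩ h1

/-- No inner involution `v q₁` over `e` is fused. -/
theorem Conf.no_inner (hNG : NoGoal z P) (hT : Omega z y t) {q1 : G} (hq1 : q1 ∈ cQ z y)
    (hv1 : vec z p e t q1 = (1, 0, 0, 0)) {g0 : G} (hg0 : g0 * z * g0⁻¹ = v * q1) : False := by
  have hJ := hC.hJ
  have hcd := hC.coord
  have hy := hC.y_mem
  have hQ := hC.card_Q
  have hE := gen_split hJ
  obtain ⟨⟨-, htQ⟩, -, -⟩ := hC.e_omega_props
  set x := v * q1 with hx
  have hxW : x ∈ cW z y := mul_mem hC.v_W (hC.Q_le_W hq1)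
  obtain ⟨hxz, hxy⟩ := mem_cW.1 hxW
  have hvE : ∀ q ∈ cE z, v * q ∉ cE z := fun q hq h => hC.v_not_Q (one_mem (cE z)) (by
    rw [one_mul]
    have := mul_mem h (inv_mem hq)
    rwa [mul_inv_cancel_right] at this)
  have hxE : x ∉ cE z := hvE q1 (mem_cQ.1 hq1).1
  obtain ⟨g, hgy, hgz⟩ := hC.exists_Y hNG hg0 hxz hxy
  set x' := g⁻¹ * z * g with hx'
  have hx'W : x' ∈ cW z y := hC.conj_mem_W hgy hgz (mem_cW.1 hC.z_W).2 hxz.symm
  have hx'E : x' ∉ cE z := by
    intro h
    have hgi : g⁻¹ * y = y * g⁻¹ := (Commute.inv_left hgy).eq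
    have h1 := hC.center_conj hgi (by rw [inv_inv]; exact h)
    rw [inv_inv, hgz] at h1
    exact hxE (mem_cQ.1 h1).1
  -- the two fused elements to be moved
  set q2 := p * q1 * p⁻¹ with hq2def
  have hq2 : q2 ∈ cQ z y := hC.conj_Q hC.p_W hq1
  have hv2 : vec z p e t q2 = (0, 1, 0, 0) := by rw [hq2def, hC.vec_P hq1, hv1]; decide
  set b0 := v * q2 with hb0
  have hb0g : (p * g) * z * (p * g)⁻¹ = b0 := by
    calc (p * g) * z * (p * g)⁻¹ = (p * v * p⁻¹) * (p * q1 * p⁻¹) := by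
          rw [mul_inv_rev, ← mul_assoc, mul_assoc p g z, mul_assoc p, hgz, hx]; group
      _ = _ := by rw [← C_comm_P hC.v_mem hC.p_mem, mul_inv_cancel_right]
  have hb0W : b0 ∈ cW z y := mul_mem hC.v_W (hC.Q_le_W hq2)
  have hcomm1 : ∀ q ∈ cQ z y, bil (vec z p e t q) (1, 0, 0, 0) = 0 → q * x = x * q := by
    intro q hq h0
    have h1 : q * q1 = q1 * q := (commute_iff hJ hcd hy hQ hq hq1).2 (by rw [hv1]; exact h0)
    rw [hx]
    exact (Commute.mul_right (show Commute q v from (hC.v_Q q hq).symm) h1).eq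
  have htx : t * x = x * t := hcomm1 t htQ (by rw [vec_t hJ hcd]; decide)
  have hb0x : b0 * x = x * b0 := by
    have h1 : q2 * x = x * q2 := hcomm1 q2 hq2 (by rw [hv2]; decide)
    exact (Commute.mul_left (show Commute v x from hC.v_central hxW) h1).eq
  set a := g⁻¹ * t * g with ha
  set b := g⁻¹ * b0 * g with hb
  have haW : a ∈ cW z y := hC.conj_mem_W hgy hgz (mem_cQ.1 htQ).2 htx
  have hbW : b ∈ cW z y := hC.conj_mem_W hgy hgz (mem_cW.1 hb0W).2 hb0x
  obtain ⟨-, -, gt, hgt⟩ := id hT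
  have hag : (g⁻¹ * gt) * z * (g⁻¹ * gt)⁻¹ = a := by rw [ha, ← hgt]; group
  have hbg : (g⁻¹ * (p * g)) * z * (g⁻¹ * (p * g))⁻¹ = b := by rw [hb, ← hb0g]; group
  have htE : t ∈ cE z := (mem_cQ.1 htQ).1
  have haz : a ≠ z := fun h => hxE (by
    have : x = t := by rw [← hgz, ← h, ha]; group
    rw [this]; exact htE)
  have hveq : ∀ q ∈ cQ z y, v * q = x → vec z p e t q = (1, 0, 0, 0) := fun q hq h => by
    rw [mul_left_cancel (h.trans hx)]; exact hv1
  have hbz : b ≠ z := fun h => by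
    have : b0 = x := by rw [← hgz, ← h, hb]; group
    exact absurd ((hv2.symm).trans (hveq q2 hq2 this)) (by decide)
  -- the product has square `x'`
  set π := a * b with hπ
  have hπ2 : π * π = x' := by
    have h1 : t * b0 * (t * b0) = z := by
      have hc := comm_vec hJ hcd hy hQ htQ hq2
      rw [vec_t hJ hcd, hv2, show bil (0, 0, 1, 0) (0, 1, 0, 0) = 1 from by decide, zp_one] at hc
      have hq22 : q2 * q2 = 1 := by
        rw [sq_vec hJ hcd hy hQ hq2, hv2, show qf (0, 1, 0, 0) = 0 from by decide, zp_zero]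
      calc t * b0 * (t * b0) = t * (v * (q2 * t) * v) * q2 := by rw [hb0]; group
        _ = t * (q2 * t) * (v * v) * q2 := by
            rw [hC.v_Q _ (mul_mem hq2 htQ)]; group
        _ = (t * q2) * (t * q2) := by rw [hC.v_sq]; group
        _ = (q2 * t * z) * (t * q2) := by rw [← hc]
        _ = q2 * (t * (z * t)) * q2 := by group
        _ = (q2 * (t * t)) * z * q2 := by rw [← (hE.comm_z t htE).eq]; group
        _ = q2 * (z * q2) := by rw [hcd.t_sq]; group
        _ = (q2 * q2) * z := by rw [← (hE.comm_z q2 (mem_cQ.1 hq2).1).eq]; group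
        _ = z := by rw [hq22, one_mul]
    calc π * π = g⁻¹ * (t * b0 * (t * b0)) * g := by rw [hπ, ha, hb]; group
      _ = x' := by rw [h1]
  have hπW : π ∈ cW z y := mul_mem haW hbW
  obtain ⟨qp, hqp, ip, jp, hip, -, kp, lp, mp, hπrep⟩ := hC.nf π hπW
  -- `x'` is `v q'` with `q'` over the line of `e`
  have hx'g : g⁻¹ * z * g⁻¹⁻¹ = x' := by rw [inv_inv]
  have hx'z : x' ≠ z := fun h => hxE (by
    have : x = z := by rw [← hgz]; nth_rw 1 [← h]; rw [hx']; group
    rw [this]; exact z_mem_E hJ)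
  obtain ⟨q', hq', hx'q, hs'⟩ : ∃ q' ∈ cQ z y, x' = v * q' ∧ Small (vec z p e t q') := by
    rcases hC.fused_W hNG hT hx'W hx'z hx'g with (⟨hΩ, -⟩ | h) | ⟨r, hr, i, j, hi, k, l, hrep⟩
    · exact absurd (mem_cQ.1 (hC.omega_props hΩ).1).1 hx'E
    · exact h
    · exfalso
      have h := hC.rep_mul hr hqp hqp hrep hπrep hπrep hπ2.symm
      have := prod_m ⟨i, hi⟩ ⟨ip, hip⟩ ⟨ip, hip⟩ l lp lp 1 mp mp (h _) (h _)
      rcases zmod_cases mp with h' | h' <;> rw [h'] at this <;> exact absurd this (by decide)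
  -- commutation with `x'`
  have hcx : ∀ c : G, c * z = z * c → g⁻¹ * c * g * x' = x' * (g⁻¹ * c * g) := fun c hc => by
    calc g⁻¹ * c * g * x' = g⁻¹ * (c * z) * g := by rw [hx']; group
      _ = g⁻¹ * (z * c) * g := by rw [hc]
      _ = _ := by rw [hx']; group
  have htz : t * z = z * t := (hE.comm_z t htE).eq
  have hb0z : b0 * z = z * b0 := (mem_cW.1 hb0W).1
  have hax : a * x' = x' * a := hcx t htz
  have hbx : b * x' = x' * b := hcx b0 hb0z
  -- products with `x'` are fused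
  obtain ⟨r0, hr0, hr0t⟩ := hC.exists_shift_elt htQ (by rw [vec_t hJ hcd]; decide)
  obtain ⟨r1, hr1, hr1b⟩ := hC.exists_shift_elt hq2 (by rw [hv2]; decide)
  have haxg : (g⁻¹ * (r0 * gt)) * z * (g⁻¹ * (r0 * gt))⁻¹ = a * x' := by
    calc g⁻¹ * (r0 * gt) * z * (g⁻¹ * (r0 * gt))⁻¹ = g⁻¹ * (r0 * (gt * z * gt⁻¹) * r0⁻¹) * g := by group
      _ = g⁻¹ * (t * z) * g := by rw [hgt, hr0t]
      _ = _ := by rw [ha, hx']; group
  have hbxg : (g⁻¹ * (r1 * (p * g))) * z * (g⁻¹ * (r1 * (p * g)))⁻¹ = b * x' := by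
    calc g⁻¹ * (r1 * (p * g)) * z * (g⁻¹ * (r1 * (p * g)))⁻¹ =
        g⁻¹ * (r1 * ((p * g) * z * (p * g)⁻¹) * r1⁻¹) * g := by group
      _ = g⁻¹ * ((r1 * v * r1⁻¹) * (r1 * q2 * r1⁻¹)) * g := by rw [hb0g, hb0]; group
      _ = g⁻¹ * (v * (q2 * z)) * g := by rw [← hC.v_Q r1 hr1, mul_inv_cancel_right, hr1b]
      _ = _ := by rw [hb, hb0, hx']; group
  have hax_ne : a * x' ≠ z := fun h => hxE (by
    have : x = t * z := by
      calc x = g * z * g⁻¹ := hgz.symm
        _ = g * (a * x') * g⁻¹ := by rw [h]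
        _ = _ := by rw [ha, hx']; group
    rw [this]; exact mul_mem htE (z_mem_E hJ))
  have hbx_ne : b * x' ≠ z := fun h => by
    have h1 : v * (q2 * z) = x := by
      calc v * (q2 * z) = g * (b * x') * g⁻¹ := by rw [hb, hb0, hx']; group
        _ = x := by rw [h, hgz]
    have h2 := hveq _ (mul_mem hq2 hC.z_Q) h1
    rw [vec_mul hJ hcd hy hQ hq2 hC.z_Q, hv2, vec_z hJ hcd, add_zero] at h2
    exact absurd h2 (by decide)
  rw [hx'q] at hax hbx haxg hbxg hax_ne hbx_ne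
  rcases hC.fused_W hNG hT haW haz hag with hin | ⟨ra, hra, ia, ja, hia, ka, la, harep⟩
  · exact hC.inner_bad hNG hT hq' hs' hin hax hax_ne haxg
  rcases hC.fused_W hNG hT hbW hbz hbg with hin | ⟨rb, hrb, ib, jb, hib, kb, lb, hbrep⟩
  · exact hC.inner_bad hNG hT hq' hs' hin hbx hbx_ne hbxg
  -- both outer: `π` is inner, so its square is in `Q ⟨y⟩`
  have hm := hC.rep_mul hqp hra hrb hπrep harep hbrep rfl
  have hmp := prod_m ⟨ip, hip⟩ ⟨ia, hia⟩ ⟨ib, hib⟩ lp la lb mp 1 1 (hm _) (hm _)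
  have h1 := hC.sq_outer hip hqp hq' hπrep (hπ2.trans hx'q)
  rw [h1] at hmp
  exact absurd hmp (by decide)

/-- An element fixing a vector and its image under `P` centralises `P`. -/
theorem Conf.not_inverts {a q q' : G} (ha : a * p * a⁻¹ = p⁻¹) (hq : q ∈ cQ z y) (hq' : q' ∈ cQ z y)
    (hv : vec z p e t q' = matP (vec z p e t q)) (h0 : vec z p e t q ≠ 0)
    (hfq : a * q * a⁻¹ = q ∨ a * q * a⁻¹ = z * q) (hfq' : a * q' * a⁻¹ = q' ∨ a * q' * a⁻¹ = z * q')
    (haz : a * z * a⁻¹ = z) : False := by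
  have hJ := hC.hJ
  have hcd := hC.coord
  have hy := hC.y_mem
  have hQ := hC.card_Q
  have hzQ := hC.z_Q
  have hvz : ∀ c ∈ cQ z y, vec z p e t (z * c) = vec z p e t c := fun c hc => by
    rw [vec_mul hJ hcd hy hQ hzQ hc, vec_z hJ hcd, zero_add]
  obtain ⟨c, hc, hac⟩ : ∃ c ∈ cQ z y, vec z p e t c = vec z p e t q ∧ a * q * a⁻¹ = c := by
    rcases hfq with h | h
    · exact ⟨q, hq, rfl, h⟩
    · exact ⟨z * q, mul_mem hzQ hq, hvz q hq, h⟩
  obtain ⟨hcv, hac⟩ := hac
  have hpi : p⁻¹ ∈ cW z y := inv_mem hC.p_W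
  have h1 : vec z p e t (p⁻¹ * c * p) = matP (matP (vec z p e t c)) := by
    have hm : p⁻¹ * c * p ∈ cQ z y := by simpa using hC.conj_Q hpi hc
    have h2 : matP (vec z p e t (p⁻¹ * c * p)) = vec z p e t c := by
      rw [← hC.vec_P hm]; congr 1; group
    have : ∀ A B : Vec4, matP A = B → A = matP (matP B) := by decide +kernel
    exact this _ _ h2
  have h3 : a * (p * q * p⁻¹) * a⁻¹ = p⁻¹ * c * p := by
    calc a * (p * q * p⁻¹) * a⁻¹ = (a * p * a⁻¹) * (a * q * a⁻¹) * (a * p * a⁻¹)⁻¹ := by group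
      _ = _ := by rw [ha, hac, inv_inv]
  have hpq := hC.conj_Q hC.p_W hq
  have h4 : vec z p e t (a * (p * q * p⁻¹) * a⁻¹) = vec z p e t q' := by
    rcases (vec_eq_iff hJ hcd hy hQ hpq hq').1 (by rw [hC.vec_P hq, hv]) with h5 | h5
    · rw [h5]
      rcases hfq' with h6 | h6 <;> rw [h6]
      exact hvz q' hq'
    · rw [h5]
      have e1 : a * (q' * z) * a⁻¹ = (a * q' * a⁻¹) * z := by
        calc a * (q' * z) * a⁻¹ = (a * q' * a⁻¹) * (a * z * a⁻¹) := by group
          _ = _ := by rw [haz]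
      rw [e1]
      rcases hfq' with h6 | h6 <;> rw [h6]
      · rw [vec_mul hJ hcd hy hQ hq' hzQ, vec_z hJ hcd, add_zero]
      · rw [vec_mul hJ hcd hy hQ (mul_mem hzQ hq') hzQ, vec_z hJ hcd, add_zero, hvz q' hq']
  rw [h3, h1, hcv, hv] at h4
  exact (matP_two _ h0).1 h4

/-- Some inner involution outside `E`, commuting with `z`, is fused. -/
theorem Conf.exists_inner (hNG : NoGoal z P) (hT : Omega z y t) :
    ∃ (q : G) (g : G), q ∈ cQ z y ∧ q * q = 1 ∧ g * z * g⁻¹ = v * q := by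
  have hJ := hC.hJ
  have hcd := hC.coord
  have hy := hC.y_mem
  have hQ := hC.card_Q
  have hE := gen_split hJ
  have hzz := z_mul_self hJ
  obtain ⟨⟨heQ, htQ⟩, -, hBt⟩ := hC.e_omega_props
  obtain ⟨-, -, gt, hgt⟩ := id hT
  have htz : t * z = z * t := (hE.comm_z t (mem_cQ.1 htQ).1).eq
  obtain ⟨n, hn, hnt⟩ := hC.exists_Y hNG hgt htz (mem_cQ.1 htQ).2
  set pt := p * t * p⁻¹ with hpt
  have hptQ : pt ∈ cQ z y := hcd.pt_mem
  have hΩpt : Omega z y pt := hC.omega_conj hC.p_W hT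
  set z0 := n⁻¹ * z * n with hz0
  have hz0Q : z0 ∈ cQ z y := hC.center_conj hn (by rw [hnt]; exact (mem_cQ.1 htQ).1)
  set z1 := n⁻¹ * pt * n with hz1
  have hz1Q : z1 ∈ cQ z y := mem_cQ.2 ⟨hC.line hNG hT hn hnt,
    (Commute.mul_left (Commute.mul_left (Commute.inv_left hn) (mem_cQ.1 hptQ).2) hn).eq⟩
  have hnz : ∀ c : G, n⁻¹ * c * n = z → c = t := fun c h => by
    calc c = n * (n⁻¹ * c * n) * n⁻¹ := by group
      _ = t := by rw [h, hnt]
  have hconjΩ : ∀ c : G, c ∈ cQ z y → n⁻¹ * c * n ∈ cQ z y → c ≠ t → (∃ g : G, g * z * g⁻¹ = c) →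
      Omega z y (n⁻¹ * c * n) := by
    rintro c - hc hct ⟨g, hg⟩
    exact ⟨hc, fun h => hct (hnz c h), n⁻¹ * g, by rw [← hg]; group⟩
  have hΩ0 : Omega z y z0 := ⟨hz0Q, fun h => (hC.omega_props hT).2.2.2.1 (hnz z h).symm, n⁻¹,
    by rw [hz0, inv_inv]⟩
  have hptt : pt ≠ t := fun h => by
    have := congrArg (vec z p e t) h
    rw [hpt, vec_pt hJ hcd, vec_t hJ hcd] at this
    exact absurd this (by decide)
  have hΩ1 : Omega z y z1 := hconjΩ pt hptQ hz1Q hptt hΩpt.2.2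
  have hz10 : n⁻¹ * (pt * z) * n = z1 * z0 := by rw [hz1, hz0]; group
  have hptz : Omega z y (pt * z) := hC.omega_vec hΩpt (mul_mem hptQ hC.z_Q)
    (by rw [vec_mul hJ hcd hy hQ hptQ hC.z_Q, vec_z hJ hcd, add_zero])
  have hΩ10 : Omega z y (z1 * z0) := by
    rw [← hz10]
    refine hconjΩ _ hptz.1 (by rw [hz10]; exact mul_mem hz1Q hz0Q) (fun h => ?_) hptz.2.2
    have := congrArg (vec z p e t) h
    rw [vec_mul hJ hcd hy hQ hptQ hC.z_Q, vec_z hJ hcd, add_zero, hpt, vec_pt hJ hcd, vec_t hJ hcd] at this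
    exact absurd this (by decide)
  have hbig : ∀ c : G, Omega z y c → Big (vec z p e t c) := fun c hc => by
    obtain ⟨-, -, -, -, h1, h2⟩ := hC.omega_props hc
    exact (big_or_small _ h1 h2).resolve_right fun h => hC.no_small hNG hc h
  have hptzc : pt * z = z * pt := (hE.comm_z pt (mem_cQ.1 hptQ).1).eq
  have hz10c : z1 * z0 = z0 * z1 := by
    rw [← hz10, hptzc, hz0, hz1]; group
  have hline : vec z p e t z1 = matP (vec z p e t z0) ∨ vec z p e t z0 = matP (vec z p e t z1) := by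
    refine line_big _ _ (hbig _ hΩ0) (hbig _ hΩ1) ((commute_iff hJ hcd hy hQ hz1Q hz0Q).1 hz10c) ?_
    rw [← vec_mul hJ hcd hy hQ hz1Q hz0Q]
    exact hbig _ hΩ10
  -- two candidates in C_E(y p)
  set te := t * e with hte
  have hteQ : te ∈ cQ z y := mul_mem htQ heQ
  have hvte : vec z p e t te = (1, 0, 1, 0) := by
    rw [hte, vec_mul hJ hcd hy hQ htQ heQ, vec_t hJ hcd, vec_e hJ hcd]; decide
  have hΩte : Omega z y te := hC.omega_trans hT hteQ (Or.inl ⟨hBt, by rw [hvte]; decide⟩)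
  have hsz : s * z = z * s := C_comm_z hC.s_mem
  have hup : ∀ c ∈ cQ z y, s * c * s⁻¹ ∈ cQ z (y * p) := by
    intro c hc
    refine mem_cQ.2 ⟨conj_mem_E hsz (mem_cQ.1 hc).1, ?_⟩
    rw [← hC.s_y]
    calc s * c * s⁻¹ * (s * y * s⁻¹) = s * (c * y) * s⁻¹ := by group
      _ = s * (y * c) * s⁻¹ := by rw [(mem_cQ.1 hc).2]
      _ = _ := by group
  obtain ⟨c0, hc0Q, hΩc0, hc0E⟩ : ∃ c0 ∈ cQ z y, Omega z y c0 ∧ n⁻¹ * (s * c0 * s⁻¹) * n ∉ cE z := by
    by_contra hno
    push Not at hno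
    have h1 := hno pt hptQ hΩpt
    have h2 := hno te hteQ hΩte
    have hc : (pt * te) * (pt * te) = z := by
      rw [sq_vec hJ hcd hy hQ (mul_mem hptQ hteQ), vec_mul hJ hcd hy hQ hptQ hteQ, hpt, vec_pt hJ hcd, hvte,
        show qf ((0, 0, 0, 1) + (1, 0, 1, 0)) = 1 from by decide, zp_one]
    set c := n⁻¹ * (s * pt * s⁻¹) * n * (n⁻¹ * (s * te * s⁻¹) * n) with hcdef
    have h3 : c * c = z0 := by
      calc c * c = n⁻¹ * (s * ((pt * te) * (pt * te)) * s⁻¹) * n := by rw [hcdef]; group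
        _ = z0 := by rw [hc, hsz, mul_inv_cancel_right, hz0]
    obtain ⟨-, -, h01, h0z, -, -⟩ := hC.omega_props hΩ0
    rcases hE.square c (mul_mem h1 h2) with h4 | h4 <;> rw [h4] at h3
    · exact h01 h3.symm
    · exact h0z h3.symm
  set uu := s * c0 * s⁻¹ with huu
  have huQ : uu ∈ cQ z (y * p) := hup c0 hc0Q
  have hcomm : ∀ c ∈ cQ z y, c * uu = uu * c := fun c hc =>
    comm_fixed hJ hC.p_mem hC.p_ne hC.y_cube hy hc (Or.inl rfl) huQ
  set x0 := n⁻¹ * uu * n with hx0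
  have hxc : ∀ c : G, c * uu = uu * c → x0 * (n⁻¹ * c * n) = (n⁻¹ * c * n) * x0 := fun c hc => by
    calc x0 * (n⁻¹ * c * n) = n⁻¹ * (uu * c) * n := by rw [hx0]; group
      _ = n⁻¹ * (c * uu) * n := by rw [hc]
      _ = _ := by rw [hx0]; group
  have hx0z : x0 * z = z * x0 := by
    have e1 : n⁻¹ * t * n = z := by rw [← hnt]; group
    have := hxc t (hcomm t htQ)
    rwa [e1] at this
  have hxz0 : x0 * z0 = z0 * x0 := hxc z ((hE.comm_z uu (mem_cQ.1 huQ).1).eq.symm)
  have hxz1 : x0 * z1 = z1 * x0 := hxc pt (hcomm pt hptQ)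
  obtain ⟨hc0', -, g0, hg0⟩ := id hΩc0
  have hx0g : (n⁻¹ * (s * g0)) * z * (n⁻¹ * (s * g0))⁻¹ = x0 := by
    rw [hx0, huu, ← hg0]; group
  have hx02 : x0 * x0 = 1 := by
    rw [← hx0g]
    calc n⁻¹ * (s * g0) * z * (n⁻¹ * (s * g0))⁻¹ * (n⁻¹ * (s * g0) * z * (n⁻¹ * (s * g0))⁻¹) =
        n⁻¹ * (s * g0) * (z * z) * (n⁻¹ * (s * g0))⁻¹ := by group
      _ = 1 := by rw [hzz]; group
  -- `x0` is inner
  have hx0H : x0 ∈ cH z := mem_cH.2 hx0z
  rw [H_eq hJ] at hx0H
  obtain ⟨a, ha, b, hb, hab⟩ := (CfsgLib.Solvable.mem_sup_of_le_normalizer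
    (inf_le_left.trans H_le_normalizer_E)).1 hx0H
  have haz : a * z = z * a := mem_cH.1 ha.1
  have hazi : a * z * a⁻¹ = z := by rw [haz, mul_inv_cancel_right]
  have hfix : ∀ c ∈ cQ z y, x0 * c = c * x0 → a * c * a⁻¹ = c ∨ a * c * a⁻¹ = z * c := by
    intro c hc hxc'
    have h1 : a * (b * c * b⁻¹) * a⁻¹ = c := by
      calc a * (b * c * b⁻¹) * a⁻¹ = (a * b) * c * (a * b)⁻¹ := by group
        _ = c := by rw [hab, hxc', mul_inv_cancel_right]
    rcases conj_eq hE hb (mem_cQ.1 hc).1 with e1 | e1 <;> rw [e1] at h1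
    · exact Or.inl h1
    · right
      calc a * c * a⁻¹ = z * (z * (a * c * a⁻¹)) := by rw [← mul_assoc, hzz, one_mul]
        _ = z * ((a * z * a⁻¹) * (a * c * a⁻¹)) := by rw [hazi]
        _ = z * (a * (z * c) * a⁻¹) := by group
        _ = z * c := by rw [h1]
  have haC : a ∈ cC z P := by
    have hP : Subgroup.zpowers p = P := CfsgLib.Solvable.eq_of_le_of_card_le
      (Subgroup.zpowers_le.2 hC.p_mem) (by
        rw [card_P hJ, Nat.card_zpowers, orderOf_eq_prime (p := 3) hC.p_cube hC.p_ne])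
    have hap : a * p * a⁻¹ ∈ Subgroup.zpowers p := by
      rw [hP]; exact (Subgroup.mem_normalizer_iff.1 ha.2 p).1 hC.p_mem
    have hcase : a * p * a⁻¹ = p ∨ a * p * a⁻¹ = p⁻¹ := by
      obtain ⟨k, hk⟩ := hap
      have hk' : a * p * a⁻¹ = p ^ (k % 3) := by
        rw [← hk]
        have := zpow_mod_orderOf p k
        rw [orderOf_eq_prime (p := 3) hC.p_cube hC.p_ne] at this
        exact this.symm
      have h3 : k % 3 = 0 ∨ k % 3 = 1 ∨ k % 3 = 2 := by omega
      rcases h3 with h3 | h3 | h3 <;> rw [h3] at hk'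
      · exact absurd (by
          calc p = a⁻¹ * (a * p * a⁻¹) * a := by group
            _ = 1 := by rw [hk', zpow_zero]; group) hC.p_ne
      · exact Or.inl (by rw [hk', zpow_one])
      · right
        rw [hk', eq_inv_iff_mul_eq_one, ← zpow_add_one]
        exact_mod_cast hC.p_cube
    rcases hcase with h | h
    · refine ⟨ha.1, Subgroup.mem_centralizer_iff.2 fun r hr => ?_⟩
      rw [SetLike.mem_coe, ← hP] at hr
      obtain ⟨k, rfl⟩ := hr
      exact ((show Commute p a from (mul_inv_eq_iff_eq_mul.1 h).symm).zpow_left k).eq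
    · exfalso
      have f0 := hfix z0 hz0Q hxz0
      have f1 := hfix z1 hz1Q hxz1
      rcases hline with hl | hl
      · exact hC.not_inverts h hz0Q hz1Q hl (hC.omega_props hΩ0).2.2.2.2.2 f0 f1 hazi
      · exact hC.not_inverts h hz1Q hz0Q hl (hC.omega_props hΩ1).2.2.2.2.2 f1 f0 hazi
  obtain ⟨hh, hhH, q, hq, hq2, hqe⟩ := inner_involution hC (x := x0) (e1 := a * b * a⁻¹) (c := a)
    (conj_mem_E haz hb) haC (by rw [← hab]; group) hx02 hc0E
  exact ⟨q, hh * (n⁻¹ * (s * g0)), hq, hq2, by rw [← hqe, ← hx0g]; group⟩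

/-- Some conjugate of `z` other than `z` lies in C_H(P). -/
theorem exists_goal [IsSimpleGroup G] (hG : ¬ IsMulCommutative G) :
    ∃ g : G, g * z * g⁻¹ ∈ cC z P ∧ g * z * g⁻¹ ≠ z := by
  by_contra hno
  push Not at hno
  have hNG : NoGoal z P := hno
  have hJ := hC.hJ
  have hcd := hC.coord
  have hy := hC.y_mem
  have hQ := hC.card_Q
  obtain ⟨⟨-, htQ⟩, -, hBt⟩ := hC.e_omega_props
  obtain ⟨g, hgE, hgz⟩ := exists_fused hG hJ
  have hu2 : (g * z * g⁻¹) * (g * z * g⁻¹) = 1 := by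
    calc g * z * g⁻¹ * (g * z * g⁻¹) = g * (z * z) * g⁻¹ := by group
      _ = 1 := by rw [z_mul_self hJ]; group
  have hu1 : g * z * g⁻¹ ≠ 1 := fun h => z_ne hJ (by
    calc z = g⁻¹ * (g * z * g⁻¹) * g := by group
      _ = 1 := by rw [h]; group)
  obtain ⟨c, hc, hcy⟩ := exists_fixed_involution hJ hy hC.y_ord hC.y_not hQ
    (fun r hr hr3 hrP => isConj_three hJ hr hy hr3 hC.y_ord hrP hC.y_not) hgE hu2 hu1 hgz
  have hcz := C_comm_z hc
  have hΩ : Omega z y (c * (g * z * g⁻¹) * c⁻¹) := by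
    refine ⟨mem_cQ.2 ⟨conj_mem_E hcz hgE, hcy⟩, fun h => hgz ?_, c * g, by group⟩
    calc g * z * g⁻¹ = c⁻¹ * (c * (g * z * g⁻¹) * c⁻¹) * c := by group
      _ = z := by rw [h, mul_assoc, ← hcz, inv_mul_cancel_left]
  obtain ⟨-, -, -, -, hqf, hv0⟩ := hC.omega_props hΩ
  have hT : Omega z y t := hC.omega_trans hΩ htQ (Or.inl
    ⟨(big_or_small _ hqf hv0).resolve_right fun h => hC.no_small hNG hΩ h, hBt⟩)
  obtain ⟨q, g1, hq, hq2, hg1⟩ := hC.exists_inner hNG hT
  have hqf' : qf (vec z p e t q) = 0 := by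
    have hs := sq_vec hJ hcd hy hQ hq
    rw [hq2] at hs
    rcases zmod_cases (qf (vec z p e t q)) with e0 | e1
    · exact e0
    · rw [e1, zp_one] at hs; exact absurd hs.symm (z_ne hJ)
  by_cases h0 : vec z p e t q = 0
  · exact hC.v_central_z hNG hq h0 hg1
  rcases big_or_small _ hqf' h0 with hb | hs
  · exact hC.v_omega hNG (hC.omega_trans hT hq (Or.inl ⟨hBt, hb⟩)) 0 (g := g1)
      (by rw [hg1, zp_zero, mul_one])
  · obtain ⟨i, hi⟩ := small_trans _ (1, 0, 0, 0) hs (by decide)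
    set h := cRep p y v w u i 0 0 0 0 with hh
    have hhW : h ∈ cW z y := hC.cRep_mem _ _ _ _ _
    refine hC.no_inner hNG hT (hC.conj_Q hhW hq) ?_ (g0 := h * g1) ?_
    · have := hC.vec_act (one_mem (cQ z y)) i 0 0 0 0 hq
      rw [one_mul, hi] at this
      exact this
    · calc h * g1 * z * (h * g1)⁻¹ = h * (g1 * z * g1⁻¹) * h⁻¹ := by group
        _ = (h * v * h⁻¹) * (h * q * h⁻¹) := by rw [hg1]; group
        _ = _ := by rw [← hC.v_central hhW, mul_inv_cancel_right]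

end CfsgLib.J4Local
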