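/-
The prime three in a perfect six-fold cover of the Mathieu group of degree 22, and the Sylow 3-subgroups
of a group of Janko-four type.
-/
import Mathlib
import Cfsg.Prelude.Def_JankoFourType
import Cfsg.Agent.IsolRankTwo.Main
import Cfsg.Agent.Golay.OutTwo22

set_option autoImplicit false
set_option linter.style.haveILetI false

open Subgroup
open scoped commutatorElement

namespace CfsgLib.J4Three

theorem sylow_twenty_seven {X : Type*} [Group X] [Finite X] {m : ℕ} (hX : Nat.card X = 27 * m)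
    (hm : ¬ 3 ∣ m) (R : Sylow 3 X) : Nat.card (R : Subgroup X) = 27 := by
  haveI : Fact (Nat.Prime 3) := ⟨Nat.prime_three⟩
  have hm0 : m ≠ 0 := fun e => hm (e ▸ dvd_zero 3)
  rw [R.card_eq_multiplicity, hX, Nat.factorization_mul (by norm_num) hm0, Finsupp.add_apply,
    Nat.factorization_eq_zero_of_not_dvd hm, add_zero, show (27 : ℕ) = 3 ^ 3 from rfl,
    Nat.prime_three.factorization_pow, Finsupp.single_eq_same]

/-- Central elements killed by a transfer to an abelian subgroup. -/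
theorem eq_one_of_transfer_comm {X : Type*} [Group X] [Finite X] (hperf : _root_.commutator X = ⊤)
    (R : Subgroup X) (hR : IsMulCommutative R) {u : X} (hu : u ∈ center X)
    (hcop : (orderOf u).Coprime R.index) : u = 1 := by
  letI : CommGroup R := { (inferInstance : Group R) with mul_comm := hR.is_comm.comm }
  have h := MonoidHom.transfer_eq_pow (MonoidHom.id R) u (fun k g₀ _ => by
    rw [mem_center_iff.1 (pow_mem hu k) g₀⁻¹, inv_mul_cancel_right])
  have h0 : MonoidHom.transfer (MonoidHom.id R) u = 1 := by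
    have hle : _root_.commutator X ≤ (MonoidHom.transfer (MonoidHom.id R)).ker :=
      Abelianization.commutator_subset_ker _
    exact MonoidHom.mem_ker.1 (hle (hperf ▸ mem_top u))
  rw [h0] at h
  have h2 : u ^ R.index = 1 := (congrArg Subtype.val h).symm
  exact orderOf_eq_one_iff.1 (Nat.eq_one_of_dvd_one
    (hcop ▸ Nat.dvd_gcd dvd_rfl (orderOf_dvd_of_pow_eq_one h2)))

theorem cube_mul {R : Type*} [Group R] (a b c : R) (hc : ∀ g : R, c * g = g * c)
    (hba : b * a = c * (a * b)) : (a * b) ^ 3 = c ^ 3 * (a ^ 3 * b ^ 3) := by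
  have h1 : ∀ g : R, b * (a * g) = c * (a * (b * g)) := fun g => by
    rw [← mul_assoc, hba, mul_assoc, mul_assoc]
  have h2 : ∀ g h : R, g * (c * h) = c * (g * h) := fun g h => by
    rw [← mul_assoc, ← hc, mul_assoc]
  simp only [pow_succ, pow_zero, one_mul, mul_assoc, h1, h2]

/-- A group of order 27 which is not commutative has an element of order three outside its centre. -/
theorem exists_noncentral_cube {R : Type*} [Group R] [Finite R] (hc : Nat.card R = 27)
    (hne : ¬ IsMulCommutative R) : ∃ r : R, r ^ 3 = 1 ∧ r ∉ center R := by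
  haveI : Fact (Nat.Prime 3) := ⟨Nat.prime_three⟩
  have hp : IsPGroup 3 R := IsPGroup.of_card (n := 3) (by rw [hc]; rfl)
  obtain ⟨⟨-, hfr, hder⟩, hZ⟩ :=
    CfsgLib.IsolRankTwo.extraspecial_cube hp (by rw [hc]; rfl) hne
  have hz3 : ∀ z ∈ center R, z ^ 3 = 1 := fun z hz => by
    have h : orderOf z ∣ Nat.card (center R) := by
      rw [← Subgroup.orderOf_mk z hz]; exact orderOf_dvd_natCard _
    rw [hZ] at h
    exact orderOf_dvd_iff_pow_eq_one.1 h
  have hcube : ∀ x : R, x ^ 3 ∈ center R := fun x =>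
    hfr ▸ (CfsgLib.PGroupBasic.commutator_pow_le_frattini hp).2 x
  have hmul : ∀ a b : R, (a * b) ^ 3 = a ^ 3 * b ^ 3 := fun a b => by
    have hm : ⁅b, a⁆ ∈ center R := hder ▸ commutator_mem_commutator (mem_top b) (mem_top a)
    rw [cube_mul a b ⁅b, a⁆ (fun g => (mem_center_iff.1 hm g).symm)
      (by simp [commutatorElement_def, mul_assoc]), hz3 _ hm, one_mul]
  let f : R →* center R :=
    { toFun := fun x => ⟨x ^ 3, hcube x⟩
      map_one' := Subtype.ext (one_pow 3)
      map_mul' := fun a b => Subtype.ext (hmul a b) }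
  by_contra hno
  simp only [not_exists, not_and, not_not] at hno
  have hker : f.ker ≤ center R := fun x hx => hno x (congrArg Subtype.val hx)
  have h1 := Subgroup.card_le_of_le hker
  have h2 := f.ker.card_mul_index
  have h3 : f.ker.index ≤ 3 := by
    rw [Subgroup.index_ker]
    calc Nat.card f.range ≤ Nat.card (center R) := card_le_card_group _
      _ = 3 := hZ
  rw [hZ] at h1
  have h4 : Nat.card f.ker * f.ker.index ≤ 3 * 3 := Nat.mul_le_mul h1 h3
  rw [h2, hc] at h4
  omega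

section Cover

variable {X M : Type*} [Group X] [Group M] [Finite X]

/-- A perfect central extension by a group of order six of a group of order 443520 with one class of
elements of order three. -/
structure Cover (φ : X →* M) : Prop where
  perfect : _root_.commutator X = ⊤
  card_center : Nat.card (center X) = 6
  surj : Function.Surjective φ
  ker_eq : φ.ker = center X
  card_M : Nat.card M = 443520
  one_class : ∀ a b : M, orderOf a = 3 → orderOf b = 3 → ∃ g : M, g * a * g⁻¹ = b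

namespace Cover

variable {φ : X →* M}

theorem card_X (D : Cover φ) : Nat.card X = 27 * 98560 := by
  have h := φ.ker.card_mul_index
  rw [Subgroup.index_ker, MonoidHom.range_eq_top.2 D.surj, Subgroup.card_top, D.card_M, D.ker_eq,
    D.card_center] at h
  omega

theorem card_sylow (D : Cover φ) (R : Sylow 3 X) : Nat.card (R : Subgroup X) = 27 :=
  sylow_twenty_seven D.card_X (by norm_num) R

theorem pow_mem (D : Cover φ) {R : Sylow 3 X} {x : X} (hx : x ∈ (R : Subgroup X)) : x ^ 27 = 1 :=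
  orderOf_dvd_iff_pow_eq_one.1 (by
    rw [← Subgroup.orderOf_mk x hx, ← D.card_sylow R]; exact orderOf_dvd_natCard _)

theorem center_six (D : Cover φ) {k : X} (hk : k ∈ center X) : k ^ 6 = 1 :=
  orderOf_dvd_iff_pow_eq_one.1 (by
    rw [← Subgroup.orderOf_mk k hk, ← D.card_center]; exact orderOf_dvd_natCard _)

theorem mem_of_center (D : Cover φ) (R : Sylow 3 X) {u : X} (hu : u ∈ center X) (h3 : u ^ 3 = 1) :
    u ∈ (R : Subgroup X) := by
  haveI : Fact (Nat.Prime 3) := ⟨Nat.prime_three⟩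
  haveI : (zpowers u).Normal := ⟨fun n hn g => by
    have hc : n ∈ center X := (zpowers_le.2 hu) hn
    rwa [mem_center_iff.1 hc g, mul_inv_cancel_right]⟩
  have hp : IsPGroup 3 (zpowers u) := by
    obtain ⟨k, -, hk⟩ := (Nat.dvd_prime_pow Nat.prime_three).1
      (show orderOf u ∣ 3 ^ 1 by rw [pow_one]; exact orderOf_dvd_of_pow_eq_one h3)
    exact IsPGroup.of_card (by rw [Nat.card_zpowers, hk])
  exact hp.le_sylow_of_normal R (mem_zpowers u)

theorem exists_central_three (D : Cover φ) : ∃ u ∈ center X, orderOf u = 3 := by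
  haveI : Fact (Nat.Prime 3) := ⟨Nat.prime_three⟩
  obtain ⟨u, hu⟩ := exists_prime_orderOf_dvd_card' (G := center X) 3 (by rw [D.card_center]; norm_num)
  exact ⟨u, u.2, by rw [orderOf_coe, hu]⟩

theorem not_comm (D : Cover φ) (R : Sylow 3 X) : ¬ IsMulCommutative (R : Subgroup X) := fun hR => by
  haveI : Fact (Nat.Prime 3) := ⟨Nat.prime_three⟩
  obtain ⟨u, hu, hu3⟩ := D.exists_central_three
  have := eq_one_of_transfer_comm D.perfect (R : Subgroup X) hR hu
    (hu3.symm ▸ (Nat.Prime.coprime_iff_not_dvd Nat.prime_three).2 R.not_dvd_index)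
  rw [this, orderOf_one] at hu3
  omega

theorem center_sylow (D : Cover φ) (R : Sylow 3 X) :
    Nat.card (center (R : Subgroup X)) = 3 := by
  haveI : Fact (Nat.Prime 3) := ⟨Nat.prime_three⟩
  exact (CfsgLib.IsolRankTwo.extraspecial_cube R.2 (by rw [D.card_sylow R]; rfl)
    (D.not_comm R)).2

theorem exponent_three (D : Cover φ) (R : Sylow 3 X) {x : X} (hx : x ∈ (R : Subgroup X)) :
    x ^ 3 = 1 := by
  have h27 := D.pow_mem hx
  by_cases hφ : φ x = 1
  · have hc : x ∈ center X := D.ker_eq ▸ MonoidHom.mem_ker.2 hφ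
    exact orderOf_dvd_iff_pow_eq_one.1 ((Nat.dvd_gcd (orderOf_dvd_of_pow_eq_one h27)
      (orderOf_dvd_of_pow_eq_one (D.center_six hc))).trans (by norm_num))
  obtain ⟨r, hr3, hrc⟩ := exists_noncentral_cube (D.card_sylow R) (D.not_comm R)
  have hr3' : (r : X) ^ 3 = 1 := by rw [← Subgroup.coe_pow, hr3, Subgroup.coe_one]
  have hr1 : φ (r : X) ≠ 1 := fun e => hrc (mem_center_iff.2 fun g => Subtype.ext
    (mem_center_iff.1 (D.ker_eq ▸ MonoidHom.mem_ker.2 e) (g : X)))
  have hor : orderOf (φ (r : X)) = 3 := by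
    haveI : Fact (Nat.Prime 3) := ⟨Nat.prime_three⟩
    exact orderOf_eq_prime (by rw [← map_pow, hr3', map_one]) hr1
  have hx3 : (φ x) ^ 3 = 1 := by
    haveI : Fact (Nat.Prime 3) := ⟨Nat.prime_three⟩
    obtain ⟨⟨-, hfr, -⟩, -⟩ := CfsgLib.IsolRankTwo.extraspecial_cube R.2
      (by rw [D.card_sylow R]; rfl) (D.not_comm R)
    have hm : (⟨x, hx⟩ : (R : Subgroup X)) ^ 3 ∈ center (R : Subgroup X) :=
      hfr ▸ (CfsgLib.PGroupBasic.commutator_pow_le_frattini R.2).2 _
    obtain ⟨u, hu, hu3⟩ := D.exists_central_three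
    have huR : u ∈ (R : Subgroup X) := D.mem_of_center R hu (hu3 ▸ pow_orderOf_eq_one u)
    have huc : (⟨u, huR⟩ : (R : Subgroup X)) ∈ center (R : Subgroup X) :=
      mem_center_iff.2 fun g => Subtype.ext (mem_center_iff.1 hu (g : X))
    have hz : zpowers (⟨u, huR⟩ : (R : Subgroup X)) = center (R : Subgroup X) :=
      Subgroup.eq_of_le_of_card_ge (zpowers_le.2 huc)
        (by rw [Nat.card_zpowers, D.center_sylow R, Subgroup.orderOf_mk, hu3])
    obtain ⟨i, hi⟩ := mem_zpowers_iff.1 (hz.ge hm)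
    have hi' : u ^ i = x ^ 3 := by simpa using congrArg Subtype.val hi
    rw [← map_pow, ← hi', ← MonoidHom.mem_ker, D.ker_eq]
    exact zpow_mem hu i
  have hox : orderOf (φ x) = 3 := by
    haveI : Fact (Nat.Prime 3) := ⟨Nat.prime_three⟩
    exact orderOf_eq_prime hx3 hφ
  obtain ⟨g, hg⟩ := D.one_class _ _ hor hox
  obtain ⟨y, rfl⟩ := D.surj g
  have hk : (y * (r : X) * y⁻¹)⁻¹ * x ∈ center X := by
    rw [← D.ker_eq, MonoidHom.mem_ker, map_mul, map_inv, map_mul, map_mul, map_inv, hg,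
      inv_mul_cancel]
  have hxe : x = (y * (r : X) * y⁻¹) * ((y * (r : X) * y⁻¹)⁻¹ * x) := by group
  have hc : Commute (y * (r : X) * y⁻¹) ((y * (r : X) * y⁻¹)⁻¹ * x) :=
    mem_center_iff.1 hk _
  have hpow : x ^ 3 = ((y * (r : X) * y⁻¹)⁻¹ * x) ^ 3 := by
    conv_lhs => rw [hxe, hc.mul_pow, conj_pow, hr3', mul_one, mul_inv_cancel, one_mul]
  have h2 : (x ^ 3) ^ 2 = 1 := by
    rw [hpow, ← pow_mul]; exact D.center_six hk
  have h9 : (x ^ 3) ^ 9 = 1 := by rw [← pow_mul]; exact h27
  exact orderOf_eq_one_iff.1 (Nat.eq_one_of_dvd_one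
    ((Nat.dvd_gcd (orderOf_dvd_of_pow_eq_one h2) (orderOf_dvd_of_pow_eq_one h9)).trans (by norm_num)))

theorem normalizer_eq (D : Cover φ) (R : Sylow 3 X) :
    normalizer ((R : Subgroup X) : Set X) =
      (normalizer (((R : Subgroup X).map φ : Subgroup M) : Set M)).comap φ := by
  refine le_antisymm (fun g hg => ?_) (fun g hg => ?_)
  · rw [mem_comap, mem_normalizer_iff]
    intro n
    constructor
    · rintro ⟨w, hw, rfl⟩
      exact ⟨g * w * g⁻¹, (mem_normalizer_iff.1 hg w).1 hw, by simp⟩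
    · rintro ⟨w, hw, e⟩
      refine ⟨g⁻¹ * w * g, ?_, ?_⟩
      · have := (mem_normalizer_iff.1 (inv_mem hg) w).1 hw
        rwa [inv_inv] at this
      · simp only [map_mul, map_inv, e]; group
  · have key : ∀ w : X, φ w ∈ (R : Subgroup X).map φ → w ^ 27 = 1 → w ∈ (R : Subgroup X) := by
      rintro w ⟨r, hr, e⟩ hw
      have hk : r⁻¹ * w ∈ center X := by
        rw [← D.ker_eq, MonoidHom.mem_ker, map_mul, map_inv, e, inv_mul_cancel]
      have hc : Commute r (r⁻¹ * w) := mem_center_iff.1 hk r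
      have h27 : (r⁻¹ * w) ^ 27 = 1 := by
        have := hc.mul_pow 27
        rwa [mul_inv_cancel_left, hw, D.pow_mem hr, one_mul, eq_comm] at this
      have hk3 : (r⁻¹ * w) ^ 3 = 1 := orderOf_dvd_iff_pow_eq_one.1
        ((Nat.dvd_gcd (orderOf_dvd_of_pow_eq_one h27) (orderOf_dvd_of_pow_eq_one (D.center_six hk))).trans
          (by norm_num))
      have := mul_mem hr (D.mem_of_center R hk hk3)
      rwa [mul_inv_cancel_left] at this
    rw [mem_comap] at hg
    rw [mem_normalizer_iff]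
    intro n
    constructor
    · intro hn
      refine key _ ?_ (by rw [conj_pow, D.pow_mem hn, mul_one, mul_inv_cancel])
      have := (mem_normalizer_iff.1 hg (φ n)).1 (mem_map_of_mem φ hn)
      simpa using this
    · intro hn
      refine key _ ((mem_normalizer_iff.1 hg (φ n)).2 ?_) ?_
      · have := mem_map_of_mem φ hn
        simpa using this
      · have h := D.pow_mem hn
        rw [conj_pow] at h
        exact conj_eq_one_iff.1 h

theorem card_normalizer (D : Cover φ) (R : Sylow 3 X)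
    (hN : ∀ Q : Sylow 3 M, Nat.card (normalizer ((Q : Subgroup M) : Set M)) = 72) :
    Nat.card (normalizer ((R : Subgroup X) : Set X)) = 432 := by
  haveI : Fact (Nat.Prime 3) := ⟨Nat.prime_three⟩
  haveI : Finite M := Finite.of_surjective φ D.surj
  have h72 := hN (R.mapSurjective D.surj)
  rw [Sylow.coe_mapSurjective] at h72
  have h1 := (normalizer (((R : Subgroup X).map φ : Subgroup M) : Set M)).card_mul_index
  rw [h72, D.card_M] at h1
  have h2 := (normalizer ((R : Subgroup X) : Set X)).card_mul_index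
  have h3 : (normalizer ((R : Subgroup X) : Set X)).index = 6160 := by
    rw [D.normalizer_eq R, Subgroup.index_comap_of_surjective _ D.surj]; omega
  rw [h3, D.card_X] at h2
  omega

end Cover

end Cover

section Ambient

variable {G : Type*} [Group G] [Finite G]

theorem card_conj_mul (H : Subgroup G) (g : G) :
    Nat.card (H.map (MulAut.conj g).toMonoidHom) = Nat.card H :=
  Nat.card_congr (H.equivMapOfInjective _ (MulAut.conj g).injective).toEquiv.symm

theorem mem_P_centralizes {H P C : Subgroup G} (hC : C = H ⊓ centralizer (P : Set G)) {p c : G}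
    (hp : p ∈ P) (hc : c ∈ C) : c * p = p * c := by
  have : c ∈ centralizer (P : Set G) := (hC ▸ hc : c ∈ H ⊓ centralizer (P : Set G)).2
  exact (mem_centralizer_iff.1 this p hp).symm

theorem P_le_image {M : Type*} [Group M] {H P C : Subgroup G} (hP : Nat.card P = 3)
    (hC : C = H ⊓ centralizer (P : Set G)) (hPC : P ≤ C) (φ : ↥C →* M) (D : Cover φ) (S : Sylow 3 C) :
    P ≤ (S : Subgroup C).map C.subtype := fun p hp => by
  have hp3 : p ^ 3 = 1 := orderOf_dvd_iff_pow_eq_one.1 (by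
    rw [← Subgroup.orderOf_mk p hp, ← hP]; exact orderOf_dvd_natCard _)
  refine ⟨⟨p, hPC hp⟩, D.mem_of_center S ?_ (Subtype.ext (by simpa using hp3)), rfl⟩
  exact mem_center_iff.2 fun c => Subtype.ext (mem_P_centralizes hC hp c.2)

/-- The centre of the image of a Sylow subgroup of `C` is `P`. -/
theorem mem_P_of_central {M : Type*} [Group M] {H P C : Subgroup G} (hP : Nat.card P = 3)
    (hC : C = H ⊓ centralizer (P : Set G)) (hPC : P ≤ C) (φ : ↥C →* M) (D : Cover φ) (S : Sylow 3 C)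
    {x : G} (hx : x ∈ (S : Subgroup C).map C.subtype)
    (hy : ∀ y ∈ (S : Subgroup C).map C.subtype, y * x = x * y) : x ∈ P := by
  obtain ⟨s, hs, rfl⟩ := hx
  have hsc : (⟨s, hs⟩ : (S : Subgroup C)) ∈ center (S : Subgroup C) := mem_center_iff.2 fun t =>
    Subtype.ext (Subtype.ext (hy _ ⟨t, t.2, rfl⟩))
  let P' : Subgroup (S : Subgroup C) := (P.subgroupOf C).subgroupOf (S : Subgroup C)
  have hP'le : P' ≤ center (S : Subgroup C) := fun p hp => mem_center_iff.2 fun t =>
    Subtype.ext (Subtype.ext (mem_P_centralizes hC hp (t : C).2))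
  have hP'c : Nat.card P' = 3 := by
    have h1 : P.subgroupOf C ≤ (S : Subgroup C) := fun p hp => by
      obtain ⟨s₁, hs₁, e⟩ := P_le_image hP hC hPC φ D S hp
      exact C.subtype_injective e ▸ hs₁
    rw [Nat.card_congr (subgroupOfEquivOfLe h1).toEquiv, Nat.card_congr (subgroupOfEquivOfLe hPC).toEquiv, hP]
  have := Subgroup.eq_of_le_of_card_ge hP'le (by rw [hP'c, D.center_sylow S])
  exact this.ge hsc

theorem image_normalizer {M : Type*} [Group M] {H P C : Subgroup G} (hP : Nat.card P = 3)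
    (hC : C = H ⊓ centralizer (P : Set G)) (hPC : P ≤ C) (φ : ↥C →* M) (D : Cover φ) (S : Sylow 3 C)
    (g : G) (hg : g ∈ normalizer (((S : Subgroup C).map C.subtype : Subgroup G) : Set G)) :
    g ∈ normalizer (P : Set G) := by
  have hmap : P.map (MulAut.conj g).toMonoidHom ≤ P := by
    rintro _ ⟨p, hp, rfl⟩
    refine mem_P_of_central hP hC hPC φ D S
      ((mem_normalizer_iff.1 hg p).1 (P_le_image hP hC hPC φ D S hp)) fun y hy => ?_
    have h1 : g⁻¹ * y * g ∈ (S : Subgroup C).map C.subtype := by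
      have := (mem_normalizer_iff.1 (inv_mem hg) y).1 hy
      rwa [inv_inv] at this
    have e := mem_P_centralizes hC hp (map_subtype_le _ h1)
    calc y * (g * p * g⁻¹) = g * (g⁻¹ * y * g * p) * g⁻¹ := by group
      _ = g * (p * (g⁻¹ * y * g)) * g⁻¹ := by rw [e]
      _ = g * p * g⁻¹ * y := by group
  have heq := Subgroup.eq_of_le_of_card_ge hmap (by rw [card_conj_mul])
  rw [mem_normalizer_iff]
  intro n
  refine ⟨fun hn => hmap ⟨n, hn, rfl⟩, fun hn => ?_⟩
  obtain ⟨p, hp, e⟩ := heq.ge hn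
  rwa [← (MulAut.conj g).injective e]

/-- The abstract argument: a subgroup `C` of index two in `H ⊓ N(P)` covering a group of order 443520. -/
theorem sylow_three_data {M : Type*} [Group M] (H P C : Subgroup G)
    (hP : Nat.card P = 3) (hC : C = H ⊓ centralizer (P : Set G)) (hPC : P ≤ C)
    (hNC : H ⊓ normalizer (P : Set G) ≠ C) (hNP : normalizer (P : Set G) ≤ H)
    (φ : ↥C →* M) (D : Cover φ)
    (hN : ∀ Q : Sylow 3 M, Nat.card (normalizer ((Q : Subgroup M) : Set M)) = 72)
    (R : Sylow 3 G) (hR : (R : Subgroup G) ≤ H) (hcard : Nat.card (R : Subgroup G) = 27) :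
    Cfsg.IsExtraspecial 3 ↥(R : Subgroup G) ∧ Monoid.exponent ↥(R : Subgroup G) = 3 ∧
    normalizer ((R : Subgroup G) : Set G) ≤ H ∧
    Nat.card ↥(normalizer ((R : Subgroup G) : Set G)) = 864 := by
  haveI : Fact (Nat.Prime 3) := ⟨Nat.prime_three⟩
  obtain ⟨S⟩ := (inferInstance : Nonempty (Sylow 3 C))
  set S' : Subgroup G := (S : Subgroup C).map C.subtype with hS'
  have hS27 : Nat.card S' = 27 := by
    rw [hS', Nat.card_congr ((S : Subgroup C).equivMapOfInjective _ C.subtype_injective).toEquiv.symm]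
    exact D.card_sylow S
  have hCH : C ≤ H := hC ▸ inf_le_left
  have hS'C : S' ≤ C := map_subtype_le _
  have hPcen : ∀ p ∈ P, ∀ c ∈ C, c * p = p * c := fun p hp c hc => by
    have : c ∈ centralizer (P : Set G) := (hC ▸ hc : c ∈ H ⊓ centralizer (P : Set G)).2
    exact (mem_centralizer_iff.1 this p hp).symm
  have hP3 : ∀ p ∈ P, p ^ 3 = 1 := fun p hp => orderOf_dvd_iff_pow_eq_one.1 (by
    rw [← Subgroup.orderOf_mk p hp, ← hP]; exact orderOf_dvd_natCard _)
  have hPS : P ≤ S' := fun p hp => by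
    refine ⟨⟨p, hPC hp⟩, D.mem_of_center S ?_ (Subtype.ext (by simpa using hP3 p hp)), rfl⟩
    exact mem_center_iff.2 fun c => Subtype.ext (hPcen p hp c c.2)
  have hfac : Nat.card (R : Subgroup G) = 3 ^ (Nat.card G).factorization 3 := R.card_eq_multiplicity
  set Sy : Sylow 3 G := Sylow.ofCard S' (by rw [hS27, ← hcard, hfac]) with hSy
  have hSyc : (Sy : Subgroup G) = S' := rfl
  obtain ⟨h, hh⟩ := MulAction.exists_smul_eq H (Sy.subtype (hS'C.trans hCH)) (R.subtype hR)
  have hRS : (R : Subgroup G) = S'.map (MulAut.conj (h : G)).toMonoidHom := by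
    ext x
    constructor
    · intro hx
      have h1 : (⟨x, hR hx⟩ : H) ∈ (R.subtype hR : Subgroup H) := hx
      rw [← hh] at h1
      obtain ⟨s, hs, e⟩ := h1
      exact ⟨(s : G), hs, congrArg Subtype.val e⟩
    · rintro ⟨s, hs, rfl⟩
      have h1 : h * ⟨s, hCH (hS'C hs)⟩ * h⁻¹ ∈ (R.subtype hR : Subgroup H) := by
        rw [← hh]; exact ⟨⟨s, hCH (hS'C hs)⟩, hs, rfl⟩
      exact h1
  have hexp : ∀ x ∈ (R : Subgroup G), x ^ 3 = 1 := by
    intro x hx
    rw [hRS] at hx
    obtain ⟨s, ⟨s₀, hs₀, rfl⟩, rfl⟩ := hx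
    have := congrArg Subtype.val (D.exponent_three S hs₀)
    rw [← map_pow, show (C.subtype s₀) ^ 3 = 1 from by simpa using this, map_one]
  have hncR : ¬ IsMulCommutative (R : Subgroup G) := fun hc => D.not_comm S ⟨⟨fun a b => by
    have ha : (h : G) * ((a : C) : G) * (h : G)⁻¹ ∈ (R : Subgroup G) :=
      hRS.ge ⟨_, ⟨a, a.2, rfl⟩, rfl⟩
    have hb : (h : G) * ((b : C) : G) * (h : G)⁻¹ ∈ (R : Subgroup G) :=
      hRS.ge ⟨_, ⟨b, b.2, rfl⟩, rfl⟩
    have e := congrArg Subtype.val (hc.is_comm.comm ⟨_, ha⟩ ⟨_, hb⟩)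
    simp only [Subgroup.coe_mul, conj_mul] at e
    exact Subtype.ext (Subtype.ext (mul_left_cancel (mul_right_cancel e)))⟩⟩
  refine ⟨CfsgLib.IsolRankTwo.extraspecial_cube R.2 (by rw [hcard]; rfl) hncR, ?_, ?_⟩
  · haveI : Nontrivial (R : Subgroup G) := Finite.one_lt_card_iff_nontrivial.1 (by rw [hcard]; norm_num)
    have hd : Monoid.exponent (R : Subgroup G) ∣ 3 :=
      Monoid.exponent_dvd_of_forall_pow_eq_one fun x => Subtype.ext (hexp x x.2)
    rcases (Nat.dvd_prime Nat.prime_three).1 hd with e | e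
    · exact absurd (Monoid.exp_eq_one_iff.1 e) (not_subsingleton _)
    · exact e
  -- the normalizer of `S'`
  have hNS_P : ∀ g ∈ normalizer (S' : Set G), g ∈ normalizer (P : Set G) := fun g hg =>
    image_normalizer hP hC hPC φ D S g hg
  have hNS_H : ∀ g ∈ normalizer (S' : Set G), g ∈ H := fun g hg => hNP (hNS_P g hg)
  have hnorm : normalizer ((R : Subgroup G) : Set G) =
      (normalizer (S' : Set G)).map (MulAut.conj (h : G)).toMonoidHom := by
    rw [hRS]
    exact (Subgroup.map_normalizer_eq_of_bijective S' (MulAut.conj (h : G)).bijective).symm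
  refine ⟨?_, ?_⟩
  · rw [hnorm]
    rintro _ ⟨g, hg, rfl⟩
    exact mul_mem (mul_mem h.2 (hNS_H g hg)) (inv_mem h.2)
  rw [hnorm, card_conj_mul]
  -- index two over `C`
  obtain ⟨p₀, hp₀⟩ : ∃ p₀ : P, orderOf p₀ = 3 :=
    exists_prime_orderOf_dvd_card' (G := P) 3 (by rw [hP])
  have hgenP : ∀ p ∈ P, ∃ i : ℤ, (p₀ : G) ^ i = p := fun p hp => by
    have : zpowers p₀ = ⊤ := Subgroup.eq_top_of_card_eq _ (by rw [Nat.card_zpowers, hp₀, hP])
    obtain ⟨i, hi⟩ := mem_zpowers_iff.1 (this.ge (mem_top (⟨p, hp⟩ : P)))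
    exact ⟨i, by simpa using congrArg Subtype.val hi⟩
  have hdich : ∀ g ∈ normalizer (P : Set G),
      g * (p₀ : G) * g⁻¹ = (p₀ : G) ∨ g * (p₀ : G) * g⁻¹ = (p₀ : G)⁻¹ := by
    intro g hg
    obtain ⟨i, hi⟩ := hgenP _ ((mem_normalizer_iff.1 hg _).1 p₀.2)
    have h3 : orderOf (p₀ : G) = 3 := by rw [orderOf_coe, hp₀]
    rw [← hi, ← zpow_mod_orderOf, h3]
    have h0 := Int.emod_nonneg i (show ((3 : ℕ) : ℤ) ≠ 0 by norm_num)
    have h1 := Int.emod_lt_of_pos i (show (0 : ℤ) < ((3 : ℕ) : ℤ) by norm_num)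
    rcases (show i % (3 : ℕ) = 0 ∨ i % (3 : ℕ) = 1 ∨ i % (3 : ℕ) = 2 by omega) with e | e | e
    · exfalso
      rw [← zpow_mod_orderOf, h3, e, zpow_zero] at hi
      have : (p₀ : G) = 1 := conj_eq_one_iff.1 hi.symm
      rw [this, orderOf_one] at h3
      omega
    · exact Or.inl (by rw [e, zpow_one])
    · refine Or.inr ?_
      rw [e, eq_inv_iff_mul_eq_one, zpow_two, ← sq, ← pow_succ]
      exact hP3 _ p₀.2
  have hmemC : ∀ g ∈ normalizer (P : Set G), (g ∈ C ↔ g * (p₀ : G) * g⁻¹ = (p₀ : G)) := by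
    intro g hg
    constructor
    · intro hc
      rw [hPcen _ p₀.2 g hc, mul_inv_cancel_right]
    · intro e
      rw [hC]
      refine ⟨hNP hg, mem_centralizer_iff.2 fun p hp => ?_⟩
      obtain ⟨i, rfl⟩ := hgenP p hp
      exact (Commute.zpow_left (mul_inv_eq_iff_eq_mul.1 e).symm i).eq
  -- an element of the normalizer outside `C`
  obtain ⟨g₀, hg₀, hg₀C⟩ : ∃ g₀ ∈ normalizer (P : Set G), g₀ ∉ C := by
    by_contra hne
    simp only [not_exists, not_and, not_not] at hne
    refine hNC (le_antisymm (fun g hg => hne g hg.2) (fun g hg => ⟨hCH hg,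
      mem_normalizer_iff.2 fun n => ?_⟩))
    constructor
    · intro hn
      rwa [hPcen n hn g hg, mul_inv_cancel_right]
    · intro hn
      have e := hPcen _ hn g hg
      rw [show n = g * n * g⁻¹ from ?_]
      · exact hn
      · calc n = g⁻¹ * (g * n * g⁻¹ * g) := by group
          _ = g⁻¹ * (g * (g * n * g⁻¹)) := by rw [e]
          _ = g * n * g⁻¹ := by group
  have hCnorm : ∀ c ∈ C, g₀ * c * g₀⁻¹ ∈ C := by
    intro c hc
    have hcN : c ∈ normalizer (P : Set G) := by
      rw [mem_normalizer_iff]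
      intro n
      refine ⟨fun hn => ?_, fun hn => ?_⟩
      · rwa [hPcen n hn c hc, mul_inv_cancel_right]
      · have e := hPcen _ hn c hc
        have : n = c * n * c⁻¹ := by
          calc n = c⁻¹ * (c * n * c⁻¹ * c) := by group
            _ = c⁻¹ * (c * (c * n * c⁻¹)) := by rw [e]
            _ = c * n * c⁻¹ := by group
        rw [this]; exact hn
    rw [hmemC _ (mul_mem (mul_mem hg₀ hcN) (inv_mem hg₀))]
    have hq : g₀⁻¹ * (p₀ : G) * g₀ ∈ P := by
      have := (mem_normalizer_iff.1 (inv_mem hg₀) _).1 p₀.2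
      rwa [inv_inv] at this
    calc g₀ * c * g₀⁻¹ * (p₀ : G) * (g₀ * c * g₀⁻¹)⁻¹
        = g₀ * (c * (g₀⁻¹ * (p₀ : G) * g₀) * c⁻¹) * g₀⁻¹ := by group
      _ = g₀ * (g₀⁻¹ * (p₀ : G) * g₀) * g₀⁻¹ := by
        rw [hPcen _ hq c hc, mul_inv_cancel_right]
      _ = (p₀ : G) := by group
  let T : Sylow 3 C := Sylow.ofCard
    ((S'.map (MulAut.conj g₀).toMonoidHom).subgroupOf C) (by
      have hle : S'.map (MulAut.conj g₀).toMonoidHom ≤ C := by
        rintro _ ⟨s, hs, rfl⟩; exact hCnorm s (hS'C hs)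
      rw [Nat.card_congr (subgroupOfEquivOfLe hle).toEquiv, card_conj_mul, hS27, ← S.card_eq_multiplicity,
        D.card_sylow S])
  obtain ⟨c, hc⟩ := MulAction.exists_smul_eq C S T
  have hg₁ : (c : G)⁻¹ * g₀ ∈ normalizer (S' : Set G) := by
    have heq : S'.map (MulAut.conj ((c : G)⁻¹ * g₀)).toMonoidHom ≤ S' := by
      rintro _ ⟨s, hs, rfl⟩
      have h1 : (⟨g₀ * s * g₀⁻¹, hCnorm s (hS'C hs)⟩ : C) ∈ (T : Subgroup C) := ⟨s, hs, rfl⟩
      rw [← hc] at h1
      obtain ⟨t, ht, e⟩ := h1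
      refine ⟨t, ht, ?_⟩
      have e' : (c : G) * (t : G) * (c : G)⁻¹ = g₀ * s * g₀⁻¹ := congrArg Subtype.val e
      show (t : G) = (c : G)⁻¹ * g₀ * s * ((c : G)⁻¹ * g₀)⁻¹
      calc (t : G) = (c : G)⁻¹ * ((c : G) * (t : G) * (c : G)⁻¹) * (c : G) := by group
        _ = _ := by rw [e']; group
    have heq' := Subgroup.eq_of_le_of_card_ge heq (by rw [card_conj_mul])
    rw [mem_normalizer_iff]
    intro n
    refine ⟨fun hn => heq ⟨n, hn, rfl⟩, fun hn => ?_⟩
    obtain ⟨s, hs, e⟩ := heq'.ge hn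
    rwa [← (MulAut.conj ((c : G)⁻¹ * g₀)).injective e]
  have hg₁C : (c : G)⁻¹ * g₀ ∉ C := fun hcc => hg₀C (by
    have := mul_mem c.2 hcc; rwa [mul_inv_cancel_left] at this)
  have hidx : C.relIndex (normalizer (S' : Set G)) = 2 := by
    rw [Subgroup.relIndex_eq_two_iff]
    refine ⟨_, hg₁, fun b hb => ?_⟩
    have hgP := hNS_P _ hg₁
    have hbP := hNS_P b hb
    have h1 := (hdich _ hgP).resolve_left fun e => hg₁C ((hmemC _ hgP).2 e)
    have hmul : ∀ x y : G, (x * y) * (p₀ : G) * (x * y)⁻¹ = x * (y * (p₀ : G) * y⁻¹) * x⁻¹ :=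
      fun x y => by group
    rw [xor_iff_iff_not]
    rw [hmemC b hbP, hmemC _ (mul_mem hbP hgP), hmul, h1,
      show b * (p₀ : G)⁻¹ * b⁻¹ = (b * (p₀ : G) * b⁻¹)⁻¹ from by group, inv_eq_iff_eq_inv]
    have hne : (p₀ : G) ≠ (p₀ : G)⁻¹ := fun e => by
      have h3 : orderOf (p₀ : G) = 3 := by rw [orderOf_coe, hp₀]
      have h2 : (p₀ : G) ^ 2 = 1 := by rw [sq, eq_inv_iff_mul_eq_one.1 e]
      have := orderOf_dvd_of_pow_eq_one h2
      rw [h3] at this
      norm_num at this
    rcases hdich b hbP with e | e <;> simp [e, hne, hne.symm]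
  have h432 : Nat.card (C.subgroupOf (normalizer (S' : Set G))) = 432 := by
    rw [← D.card_normalizer S hN]
    refine Nat.card_congr
      { toFun := fun x => ⟨⟨(x.1 : G), x.2⟩, mem_normalizer_iff.2 fun n => ?_⟩
        invFun := fun x => ⟨⟨((x.1 : C) : G), mem_normalizer_iff.2 fun n => ?_⟩, x.1.2⟩
        left_inv := fun x => rfl
        right_inv := fun x => rfl }
    · have := mem_normalizer_iff.1 x.1.2 (n : G)
      constructor
      · intro hn
        obtain ⟨t, ht, e⟩ := this.1 ⟨n, hn, rfl⟩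
        have e' : t = (⟨(x.1 : G), x.2⟩ : C) * n * (⟨(x.1 : G), x.2⟩ : C)⁻¹ := Subtype.ext e
        rwa [← e']
      · intro hn
        obtain ⟨t, ht, e⟩ := this.2 ⟨_, hn, rfl⟩
        obtain rfl : t = n := Subtype.ext e
        exact ht
    · have hx := mem_normalizer_iff.1 x.2
      constructor
      · rintro ⟨t, ht, rfl⟩
        exact ⟨_, (hx t).1 ht, rfl⟩
      · intro hn
        obtain ⟨t, ht, e⟩ := hn
        refine ⟨(x.1 : C)⁻¹ * t * x.1, ?_, ?_⟩
        · refine (hx _).2 ?_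
          rwa [show (x.1 : C) * ((x.1 : C)⁻¹ * t * x.1) * (x.1 : C)⁻¹ = t from by group]
        · simp only [map_mul, map_inv, e]
          show ((x.1 : C) : G)⁻¹ * _ * ((x.1 : C) : G) = n
          group
  have := Subgroup.card_mul_index (C.subgroupOf (normalizer (S' : Set G)))
  rw [h432, show (C.subgroupOf (normalizer (S' : Set G))).index = 2 from hidx] at this
  omega

end Ambient

end CfsgLib.J4Three
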