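/-
The Sylow 3-subgroup statement for groups of Janko-four type, from the structure of the centralizer of `P`.
-/
import Cfsg.Agent.J4Local.SylowThree
import Cfsg.Agent.J4Local.M22Facts

set_option autoImplicit false
set_option linter.style.haveILetI false

open Subgroup Cfsg MulAction

namespace CfsgLib.J4Three

variable {G : Type*} [Group G] [Finite G]

/-- The order of the centralizer of the involution. -/
theorem card_centralizer {z : G} {P : Subgroup G} (hJ : IsOfJankoFourTypeWith z P) :
    Nat.card (centralizer ({z} : Set G)) = 27 * (2 ^ 13 * 98560) := by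
  obtain ⟨-, -, hE, -, ⟨N, -, hNH, -, hcN, ⟨hn, ⟨e⟩⟩, -⟩, -⟩ := hJ
  have h := (N.subgroupOf (centralizer ({z} : Set G))).card_mul_index
  rw [Nat.card_congr (subgroupOfEquivOfLe hNH).toEquiv, hcN, hE, index_eq_card,
    Nat.card_congr e.toEquiv, CfsgLib.J4M22.card_aut] at h
  omega

/-- The Sylow 3-subgroup in `H`, given the structure of `C_H(P)`. -/
theorem sylow_three_main {z : G} {P : Subgroup G} (hJ : IsOfJankoFourTypeWith z P)
    (hgate : ⁅(centralizer ({z} : Set G) ⊓ centralizer (P : Set G)), (centralizer ({z} : Set G) ⊓ centralizer (P : Set G))⁆ = (centralizer ({z} : Set G) ⊓ centralizer (P : Set G)) ∧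
      IsCyclic ↥(center ↥(centralizer ({z} : Set G) ⊓ centralizer (P : Set G))) ∧
      Nat.card ↥(center ↥(centralizer ({z} : Set G) ⊓ centralizer (P : Set G))) = 6 ∧
      Spor.IsoM22 (↥(centralizer ({z} : Set G) ⊓ centralizer (P : Set G)) ⧸ center ↥(centralizer ({z} : Set G) ⊓ centralizer (P : Set G))) ∧
      normalizer (P : Set G) ≤ centralizer ({z} : Set G))
    (R : Sylow 3 G) (hR : (R : Subgroup G) ≤ centralizer ({z} : Set G)) :
    IsExtraspecial 3 ↥(R : Subgroup G) ∧ Nat.card ↥(R : Subgroup G) = 27 ∧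
      Monoid.exponent ↥(R : Subgroup G) = 3 ∧
      normalizer ((R : Subgroup G) : Set G) ≤ centralizer ({z} : Set G) ∧
      Nat.card ↥(normalizer ((R : Subgroup G) : Set G)) = 864 := by
  haveI : Fact (Nat.Prime 3) := ⟨Nat.prime_three⟩
  obtain ⟨hperf, -, hcen, ⟨e⟩, hNP⟩ := hgate
  have hJ' := hJ
  obtain ⟨-, -, -, -, ⟨N, -, hNH, -, -, -, hPN⟩, hP3, -, hne, -⟩ := hJ'
  set C := centralizer ({z} : Set G) ⊓ centralizer (P : Set G) with hC
  have hPC : P ≤ C := by
    haveI : IsCyclic P := isCyclic_of_prime_card (p := 3) hP3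
    refine le_inf (hPN.trans hNH) fun x hx => mem_centralizer_iff.2 fun y hy => ?_
    exact congrArg Subtype.val
      ((IsCyclic.commGroup (α := P)).mul_comm (⟨y, hy⟩ : P) ⟨x, hx⟩)
  have hcardR : Nat.card (R : Subgroup G) = 27 := by
    have h := sylow_twenty_seven (card_centralizer hJ) (by norm_num) (R.subtype hR)
    rwa [Sylow.coe_subtype, Nat.card_congr (subgroupOfEquivOfLe hR).toEquiv] at h
  let φ : ↥C →* ↥Spor.M22 := e.toMonoidHom.comp (QuotientGroup.mk' (center ↥C))
  have hD : Cover φ :=
    { perfect := Subgroup.map_injective C.subtype_injective (by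
        rw [Subgroup.map_subtype_commutator, ← MonoidHom.range_eq_map, Subgroup.range_subtype, hperf])
      card_center := hcen
      surj := e.surjective.comp (QuotientGroup.mk'_surjective _)
      ker_eq := by
        rw [show φ = (e : _ →* ↥Spor.M22).comp (QuotientGroup.mk' (center ↥C)) from rfl,
          MonoidHom.ker_mulEquiv_comp, QuotientGroup.ker_mk']
      card_M := CfsgLib.J4M22.card_M
      one_class := fun a b ha hb => isConj_iff.1 (CfsgLib.J4M22.isConj_three ha hb) }
  obtain ⟨h1, h2, h3, h4⟩ := sylow_three_data (centralizer ({z} : Set G)) P C hP3 hC hPC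
    (by simpa [hC] using hne) hNP φ hD (fun Q => (CfsgLib.J4M22.sylow_three Q).2.2.2) R hR hcardR
  exact ⟨h1, hcardR, h2, h3, h4⟩

end CfsgLib.J4Three
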