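/-
One class of elements of order three in a group of Janko-four type, given a conjugate of the
central involution, other than itself, centralising the distinguished subgroup of order three.
-/
import Cfsg.Agent.J4Local.SylowThreeMain

set_option autoImplicit false
set_option linter.style.haveILetI false

open Subgroup Cfsg

namespace CfsgLib.J4Three

variable {G : Type*} [Group G] [Finite G]

theorem exists_isConj_into {p : ℕ} [Fact p.Prime] (S : Sylow p G) (A : Subgroup G) (hA : IsPGroup p A) :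
    ∃ g : G, A.map (MulAut.conj g).toMonoidHom ≤ (S : Subgroup G) := by
  obtain ⟨Q, hQ⟩ := hA.exists_le_sylow
  obtain ⟨g, hg⟩ := MulAction.exists_smul_eq G Q S
  exact ⟨g, fun _ ⟨a, ha, e⟩ => hg ▸ ⟨a, hQ ha, e⟩⟩

/-- The image of a Sylow 3-subgroup of `C` is a Sylow subgroup of the whole group. -/
theorem exists_sylow_image {M : Type*} [Group M] {H P C : Subgroup G} (hP : Nat.card P = 3)
    (hC : C = H ⊓ centralizer (P : Set G)) (hPC : P ≤ C) (hNP : normalizer (P : Set G) ≤ H)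
    {m : ℕ} (hH : Nat.card H = 27 * m) (hm : ¬ 3 ∣ m)
    (φ : ↥C →* M) (D : Cover φ) (S : Sylow 3 C) :
    ∃ T : Sylow 3 G, (T : Subgroup G) = (S : Subgroup C).map C.subtype := by
  haveI : Fact (Nat.Prime 3) := ⟨Nat.prime_three⟩
  set S' : Subgroup G := (S : Subgroup C).map C.subtype with hS'
  have hp : IsPGroup 3 S' := S.2.map _
  obtain ⟨Q, hQ⟩ := hp.exists_le_sylow
  refine ⟨Q, le_antisymm (fun x hx => ?_) hQ⟩
  by_contra hxS
  have hlt : S'.subgroupOf (Q : Subgroup G) < ⊤ :=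
    lt_top_iff_ne_top.2 fun e => hxS ((e ▸ mem_top (⟨x, hx⟩ : (Q : Subgroup G)) :
      (⟨x, hx⟩ : (Q : Subgroup G)) ∈ S'.subgroupOf (Q : Subgroup G)))
  haveI : Group.IsNilpotent (Q : Subgroup G) := Q.2.isNilpotent
  have hN := normalizerCondition_of_isNilpotent (G := (Q : Subgroup G)) _ hlt
  obtain ⟨g, hgN, hgS⟩ := SetLike.exists_of_lt hN
  have hgN' : (g : G) ∈ normalizer (S' : Set G) := by
    rw [mem_normalizer_iff]
    intro n
    constructor
    · intro hn
      exact (mem_normalizer_iff.1 hgN ⟨n, hQ hn⟩).1 hn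
    · intro hn
      have hnQ : n ∈ (Q : Subgroup G) := by
        have := mul_mem (mul_mem (inv_mem g.2) (hQ hn)) g.2
        rwa [show (g : G)⁻¹ * ((g : G) * n * (g : G)⁻¹) * (g : G) = n from by group] at this
      exact (mem_normalizer_iff.1 hgN ⟨n, hnQ⟩).2 hn
  have hgH : (g : G) ∈ H := hNP (image_normalizer hP hC hPC φ D S _ hgN')
  have hS'H : S' ≤ H := (map_subtype_le _).trans (hC ▸ inf_le_left)
  have hpK : IsPGroup 3 ↥((Q : Subgroup G).subgroupOf H) := Q.2.comap_of_injective _ H.subtype_injective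
  obtain ⟨Q₁, hQ₁⟩ := hpK.exists_le_sylow
  have h1 : S'.subgroupOf H < (Q₁ : Subgroup H) := by
    refine lt_of_le_of_ne (fun y hy => hQ₁ (hQ hy)) fun e => hgS ?_
    have : (⟨g, hgH⟩ : H) ∈ (Q₁ : Subgroup H) := hQ₁ g.2
    rw [← e] at this
    exact this
  have h2 : Nat.card (S'.subgroupOf H) = 27 := by
    rw [Nat.card_congr (subgroupOfEquivOfLe hS'H).toEquiv, hS',
      Nat.card_congr ((S : Subgroup C).equivMapOfInjective _ C.subtype_injective).toEquiv.symm]
    exact D.card_sylow S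
  exact h1.ne (Subgroup.eq_of_le_of_card_ge h1.le (by rw [h2, sylow_twenty_seven hH hm Q₁]))

/-- All elements of order three are conjugate. -/
theorem one_class_three {z : G} {P : Subgroup G} (hJ : IsOfJankoFourTypeWith z P)
    (hgate : ⁅(centralizer ({z} : Set G) ⊓ centralizer (P : Set G)), (centralizer ({z} : Set G) ⊓ centralizer (P : Set G))⁆ = (centralizer ({z} : Set G) ⊓ centralizer (P : Set G)) ∧
      IsCyclic ↥(center ↥(centralizer ({z} : Set G) ⊓ centralizer (P : Set G))) ∧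
      Nat.card ↥(center ↥(centralizer ({z} : Set G) ⊓ centralizer (P : Set G))) = 6 ∧
      Spor.IsoM22 (↥(centralizer ({z} : Set G) ⊓ centralizer (P : Set G)) ⧸ center ↥(centralizer ({z} : Set G) ⊓ centralizer (P : Set G))) ∧
      normalizer (P : Set G) ≤ centralizer ({z} : Set G))
    {g : G} (hgC : g * z * g⁻¹ ∈ centralizer ({z} : Set G) ⊓ centralizer (P : Set G))
    (hgz : g * z * g⁻¹ ≠ z)
    (x y : G) (hx : orderOf x = 3) (hy : orderOf y = 3) : IsConj x y := by
  haveI : Fact (Nat.Prime 3) := ⟨Nat.prime_three⟩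
  obtain ⟨hperf, -, hcen, ⟨e⟩, hNP⟩ := hgate
  have hJ' := hJ
  obtain ⟨-, -, -, -, ⟨N, -, hNH, -, -, -, hPN⟩, hP3, -, hne, -⟩ := hJ'
  set C := centralizer ({z} : Set G) ⊓ centralizer (P : Set G) with hC
  have hPC : P ≤ C := by
    haveI : IsCyclic P := isCyclic_of_prime_card (p := 3) hP3
    refine le_inf (hPN.trans hNH) fun x hx => mem_centralizer_iff.2 fun y hy => ?_
    exact congrArg Subtype.val
      ((IsCyclic.commGroup (α := P)).mul_comm (⟨y, hy⟩ : P) ⟨x, hx⟩)
  let φ : ↥C →* ↥Spor.M22 := e.toMonoidHom.comp (QuotientGroup.mk' (center ↥C))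
  have hD : Cover φ :=
    { perfect := Subgroup.map_injective C.subtype_injective (by
        rw [Subgroup.map_subtype_commutator, ← MonoidHom.range_eq_map, Subgroup.range_subtype, hperf])
      card_center := hcen
      surj := e.surjective.comp (QuotientGroup.mk'_surjective _)
      ker_eq := by
        rw [show φ = (e : _ →* ↥Spor.M22).comp (QuotientGroup.mk' (center ↥C)) from rfl,
          MonoidHom.ker_mulEquiv_comp, QuotientGroup.ker_mk']
      card_M := CfsgLib.J4M22.card_M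
      one_class := fun a b ha hb => isConj_iff.1 (CfsgLib.J4M22.isConj_three ha hb) }
  obtain ⟨S⟩ := (inferInstance : Nonempty (Sylow 3 C))
  obtain ⟨T, hT⟩ := exists_sylow_image hP3 hC hPC hNP (card_centralizer hJ) (by norm_num) φ hD S
  obtain ⟨p₀, hp₀⟩ : ∃ p₀ : P, orderOf p₀ = 3 :=
    exists_prime_orderOf_dvd_card' (G := P) 3 (by rw [hP3])
  have hp0' : orderOf (p₀ : G) = 3 := by rw [orderOf_coe, hp₀]
  have hPsub : ∀ p ∈ P, p = 1 ∨ p = (p₀ : G) ∨ p = (p₀ : G)⁻¹ := by
    intro p hp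
    have htop : zpowers p₀ = ⊤ := Subgroup.eq_top_of_card_eq _ (by rw [Nat.card_zpowers, hp₀, hP3])
    obtain ⟨i, hi⟩ := mem_zpowers_iff.1 (htop.ge (mem_top (⟨p, hp⟩ : P)))
    have hi' : (p₀ : G) ^ i = p := by simpa using congrArg Subtype.val hi
    rw [← hi', ← zpow_mod_orderOf, hp0']
    rcases (show i % (3 : ℕ) = 0 ∨ i % (3 : ℕ) = 1 ∨ i % (3 : ℕ) = 2 by omega) with e | e | e
    · exact Or.inl (by rw [e, zpow_zero])
    · exact Or.inr (Or.inl (by rw [e, zpow_one]))
    · refine Or.inr (Or.inr ?_)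
      rw [e, eq_inv_iff_mul_eq_one, zpow_two, ← sq, ← pow_succ]
      exact orderOf_dvd_iff_pow_eq_one.1 hp0'.dvd
  -- elements outside `P`
  have houter : ∀ r ∈ (T : Subgroup G), ∀ r' ∈ (T : Subgroup G), r ∉ P → r' ∉ P → IsConj r r' := by
    intro r hr r' hr' hrP hr'P
    rw [hT] at hr hr'
    obtain ⟨s, hs, rfl⟩ := hr
    obtain ⟨s', hs', rfl⟩ := hr'
    have hord : ∀ t ∈ (S : Subgroup C), (t : G) ∉ P → orderOf (φ t) = 3 := fun t ht htP => by
      refine orderOf_eq_prime (by rw [← map_pow, hD.exponent_three S ht, map_one]) fun h1 => htP ?_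
      have htc : t ∈ center C := hD.ker_eq ▸ MonoidHom.mem_ker.2 h1
      exact mem_P_of_central hP3 hC hPC φ hD S ⟨t, ht, rfl⟩ (by
        rintro _ ⟨u, -, rfl⟩; exact congrArg Subtype.val (mem_center_iff.1 htc u))
    obtain ⟨g, hg⟩ := hD.one_class _ _ (hord s hs hrP) (hord s' hs' hr'P)
    obtain ⟨c, rfl⟩ := hD.surj g
    have hk : (c * s * c⁻¹) * s'⁻¹ ∈ center C := by
      rw [← hD.ker_eq, MonoidHom.mem_ker, map_mul, map_mul, map_mul, map_inv, map_inv, hg,
        mul_inv_cancel]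
    set k := (c * s * c⁻¹) * s'⁻¹ with hkdef
    have hks : c * s * c⁻¹ = k * s' := by rw [hkdef, inv_mul_cancel_right]
    have hk3 : k ^ 3 = 1 := by
      have hcm : Commute k s' := (mem_center_iff.1 hk s').symm
      have := congrArg (· ^ 3) hks
      simp only [conj_pow, hD.exponent_three S hs, hcm.mul_pow, hD.exponent_three S hs',
        mul_one, mul_inv_cancel] at this
      exact this.symm
    have hkP : (k : G) ∈ P := mem_P_of_central hP3 hC hPC φ hD S
      ⟨k, hD.mem_of_center S hk hk3, rfl⟩ (by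
        rintro _ ⟨u, -, rfl⟩; exact congrArg Subtype.val (mem_center_iff.1 hk u))
    refine IsConj.trans (isConj_iff.2 ⟨(c : G), rfl⟩) ?_
    rw [show (c : G) * C.subtype s * (c : G)⁻¹ = (k : G) * (s' : G) from congrArg Subtype.val hks]
    obtain ⟨u, hu, hne'⟩ : ∃ u ∈ (S : Subgroup C).map C.subtype, u * (s' : G) ≠ (s' : G) * u := by
      by_contra hno
      simp only [not_exists, not_and, not_not] at hno
      exact hr'P (mem_P_of_central hP3 hC hPC φ hD S ⟨s', hs', rfl⟩ hno)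
    obtain ⟨u, huS, rfl⟩ := hu
    have hcomm : (u : G) * (s' : G) * (u : G)⁻¹ * (s' : G)⁻¹ ∈ P := by
      refine mem_P_of_central hP3 hC hPC φ hD S
        ⟨u * s' * u⁻¹ * s'⁻¹, mul_mem (mul_mem (mul_mem huS hs') (inv_mem huS)) (inv_mem hs'), rfl⟩ ?_
      rintro _ ⟨v, hv, rfl⟩
      haveI : Fact (Nat.Prime 3) := ⟨Nat.prime_three⟩
      obtain ⟨⟨-, -, hder⟩, -⟩ := CfsgLib.IsolRankTwo.extraspecial_cube S.2
        (by rw [hD.card_sylow S]; rfl) (hD.not_comm S)
      have hm : (⟨u, huS⟩ : (S : Subgroup C)) * ⟨s', hs'⟩ * ⟨u, huS⟩⁻¹ * ⟨s', hs'⟩⁻¹ ∈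
          center (S : Subgroup C) := hder ▸ commutator_mem_commutator (mem_top _) (mem_top _)
      exact congrArg (fun t : (S : Subgroup C) => ((t : C) : G)) (mem_center_iff.1 hm ⟨v, hv⟩)
    rcases hPsub _ hcomm with h | h | h
    · exact absurd (mul_inv_eq_iff_eq_mul.1 (mul_inv_eq_one.1 h)) hne'
    all_goals
      have hq : (u : G) * (s' : G) * (u : G)⁻¹ = ((u : G) * (s' : G) * (u : G)⁻¹ * (s' : G)⁻¹) * (s' : G) := by
        group
      set q := (u : G) * (s' : G) * (u : G)⁻¹ * (s' : G)⁻¹ with hqdef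
      have hqP : q ∈ P := hcomm
      have hconjP : ∀ p ∈ P, (u : G) * p * (u : G)⁻¹ = p := fun p hp => by
        rw [mem_P_centralizes hC hp u.2, mul_inv_cancel_right]
      have h1 : IsConj (q * (s' : G)) (s' : G) := (isConj_iff.2 ⟨(u : G), hq⟩).symm
      have h2 : IsConj (q * (q * (s' : G))) (s' : G) := by
        refine (isConj_iff.2 ⟨(u : G), ?_⟩ : IsConj (q * (s' : G)) (q * (q * (s' : G)))).symm.trans h1
        calc (u : G) * (q * (s' : G)) * (u : G)⁻¹
            = ((u : G) * q * (u : G)⁻¹) * ((u : G) * (s' : G) * (u : G)⁻¹) := by group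
          _ = q * (q * (s' : G)) := by rw [hconjP q hqP, hq]
      have hqq : ((p₀ : G)⁻¹) * (p₀ : G)⁻¹ = (p₀ : G) := by
        rw [← mul_inv_rev, inv_eq_iff_mul_eq_one, ← sq, ← pow_succ]
        exact orderOf_dvd_iff_pow_eq_one.1 hp0'.dvd
      have hqq' : (p₀ : G) * (p₀ : G) = (p₀ : G)⁻¹ := by
        rw [eq_inv_iff_mul_eq_one, ← sq, ← pow_succ]
        exact orderOf_dvd_iff_pow_eq_one.1 hp0'.dvd
      rw [← mul_assoc q q] at h2
      rcases hPsub _ hkP with h' | h' | h'
      · rw [h', one_mul]; exact IsConj.refl _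
      all_goals
        rw [h']
        first
          | (rw [h] at h1; exact h1)
          | (rw [h, hqq] at h2; exact h2)
          | (rw [h, hqq'] at h2; exact h2)
  -- an element of `P` conjugate to one outside: `p₀` centralises the conjugate `g z g⁻¹ ≠ z`
  obtain ⟨a, haT, haP, hpa⟩ : ∃ a ∈ (T : Subgroup G), a ∉ P ∧ IsConj (p₀ : G) a := by
    have hgp : g * z * g⁻¹ * (p₀ : G) = (p₀ : G) * (g * z * g⁻¹) :=
      (mem_centralizer_iff.1 hgC.2 _ p₀.2).symm
    set H := centralizer ({z} : Set G) with hH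
    have hqH : g⁻¹ * (p₀ : G) * g ∈ H := mem_centralizer_singleton_iff.2 (by
      calc g⁻¹ * (p₀ : G) * g * z = g⁻¹ * ((p₀ : G) * (g * z * g⁻¹)) * g := by group
        _ = g⁻¹ * ((g * z * g⁻¹) * (p₀ : G)) * g := by rw [hgp]
        _ = z * (g⁻¹ * (p₀ : G) * g) := by group)
    have hTH : (T : Subgroup G) ≤ H := hT ▸ (map_subtype_le _).trans inf_le_left
    set q : H := ⟨g⁻¹ * (p₀ : G) * g, hqH⟩ with hq
    have hq3 : orderOf q = 3 := by
      rw [← Subgroup.orderOf_coe, hq]
      refine orderOf_eq_prime ?_ fun h1 => ?_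
      · simp only
        calc (g⁻¹ * (p₀ : G) * g) ^ 3 = g⁻¹ * (p₀ : G) ^ 3 * g := by
              simpa using (conj_pow (a := g⁻¹) (b := (p₀ : G)) (i := 3))
          _ = 1 := by rw [← hp0', pow_orderOf_eq_one]; group
      · simp only at h1
        have : (p₀ : G) = 1 := by
          calc (p₀ : G) = g * (g⁻¹ * (p₀ : G) * g) * g⁻¹ := by group
            _ = 1 := by rw [h1]; group
        rw [this, orderOf_one] at hp0'
        omega
    obtain ⟨h, hh⟩ := exists_isConj_into (T.subtype hTH) (zpowers q)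
      (IsPGroup.of_card (p := 3) (n := 1) (by rw [Nat.card_zpowers, hq3, pow_one]))
    have hm : (h : G) * (g⁻¹ * (p₀ : G) * g) * (h : G)⁻¹ ∈ (T : Subgroup G) := by
      have h2 : h * q * h⁻¹ ∈ (T.subtype hTH : Subgroup H) := hh ⟨q, mem_zpowers q, rfl⟩
      rw [Sylow.coe_subtype, mem_subgroupOf] at h2
      simpa [hq] using h2
    have hk : ((h : G) * g⁻¹) * (p₀ : G) * ((h : G) * g⁻¹)⁻¹ =
        (h : G) * (g⁻¹ * (p₀ : G) * g) * (h : G)⁻¹ := by group
    refine ⟨_, hm, fun hrP => hgz ?_, isConj_iff.2 ⟨(h : G) * g⁻¹, hk⟩⟩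
    rw [← hk] at hrP
    have hkN : (h : G) * g⁻¹ ∈ normalizer (P : Set G) := by
      refine mem_normalizer_fintype fun n hn => ?_
      rcases hPsub n hn with e | e | e <;> rw [e]
      · simp
      · exact hrP
      · rw [show (h : G) * g⁻¹ * (p₀ : G)⁻¹ * ((h : G) * g⁻¹)⁻¹ =
          ((h : G) * g⁻¹ * (p₀ : G) * ((h : G) * g⁻¹)⁻¹)⁻¹ from conj_inv.symm]
        exact inv_mem hrP
    have hgH : g ∈ H := by
      have := mul_mem (inv_mem (hNP hkN)) h.2
      simpa using this
    rw [mem_centralizer_singleton_iff.1 hgH, mul_inv_cancel_right]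
  -- everything is conjugate to `a`
  have key : ∀ w : G, orderOf w = 3 → IsConj w a := by
    intro w hw
    obtain ⟨g, hg⟩ := exists_isConj_into T (zpowers w)
      (IsPGroup.of_card (p := 3) (n := 1) (by rw [Nat.card_zpowers, hw, pow_one]))
    have hm : g * w * g⁻¹ ∈ (T : Subgroup G) := hg ⟨w, mem_zpowers w, rfl⟩
    refine (isConj_iff.2 ⟨g, rfl⟩ : IsConj w (g * w * g⁻¹)).trans ?_
    by_cases hP' : g * w * g⁻¹ ∈ P
    · rcases hPsub _ hP' with h | h | h
      · exfalso
        have : w = 1 := conj_eq_one_iff.1 h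
        rw [this, orderOf_one] at hw
        omega
      · rw [h]; exact hpa
      · rw [h]
        refine IsConj.trans ?_ (houter a⁻¹ (inv_mem haT) a haT (fun h' => haP (inv_mem_iff.1 h')) haP)
        obtain ⟨c, hc⟩ := isConj_iff.1 hpa
        exact isConj_iff.2 ⟨c, by rw [← hc]; group⟩
    · exact houter _ hm a haT hP' haP
  exact (key x hx).trans (key y hy).symm

end CfsgLib.J4Three
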