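/-
Janko-four type: the structure of C_H(P) and of N(P), given a conjugate of `z` other than `z` in C_H(P).

`z` is isolated in X = C(P), so X = O(X) C by the Z* theorem. A conjugating element carries `y` to `P`, which
gives C_{O(X)}(u₀) = P, `z ∈ C'` and finally X = C.
-/
import Cfsg.Agent.J4Local.Fusion1
import Cfsg.Agent.J4Local.RepMul
import Cfsg.Agent.ZStar.Final

set_option autoImplicit false
set_option linter.style.haveILetI false
set_option maxHeartbeats 800000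

namespace CfsgLib.J4Local

open Subgroup
open CfsgLib.Extra2 CfsgLib.LargeExtra
open scoped commutatorElement

theorem mat_trivial : ∀ (i : Fin 3) (l m : ZMod 2), mat i l m (1, 0, 0, 0) = (1, 0, 0, 0) →
    mat i l m (0, 1, 0, 0) = (0, 1, 0, 0) → mat i l m (0, 0, 1, 0) = (0, 0, 1, 0) → i = 0 ∧ l = 0 ∧ m = 0 := by
  decide +kernel

theorem odd_orderOf_pow {G : Type*} [Group G] {g : G} (hg : Odd (orderOf g)) (n : ℕ) : Odd (orderOf (g ^ n)) :=
  Odd.of_dvd_nat hg (orderOf_pow_dvd n)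

theorem eq_one_of_odd_sq {G : Type*} [Group G] {g : G} (hg : Odd (orderOf g)) {n : ℕ} (h : g ^ 2 ^ n = 1) :
    g = 1 := by
  rw [← orderOf_eq_one_iff]
  obtain ⟨k, -, hk⟩ := (Nat.dvd_prime_pow Nat.prime_two).1 (orderOf_dvd_of_pow_eq_one h)
  rcases k with _ | k
  · simpa using hk
  · exfalso
    rw [hk, pow_succ'] at hg
    exact (Nat.not_even_iff_odd.2 hg) (even_two_mul _)

/-- An element of odd order inverted by an involution is `e²` with `e` inverted too. -/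
theorem exists_half {G : Type*} [Group G] {z d : G} (hd : Odd (orderOf d)) (h : z * d * z⁻¹ = d⁻¹) :
    ∃ n : ℕ, d = d ^ n * d ^ n ∧ z * d ^ n * z⁻¹ = (d ^ n)⁻¹ := by
  obtain ⟨m, hm⟩ := hd
  refine ⟨m + 1, ?_, ?_⟩
  · rw [← pow_add, show m + 1 + (m + 1) = orderOf d + 1 by omega, pow_succ, pow_orderOf_eq_one, one_mul]
  · rw [← conj_pow, h, inv_pow]

variable {G : Type*} [Group G] [Finite G] {z : G} {P : Subgroup G} {p y s v w u e t : G}
  (hC : Conf z P p y s v w u e t)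

include hC

theorem Conf.P_eq : Subgroup.zpowers p = P :=
  CfsgLib.Solvable.eq_of_le_of_card_le (Subgroup.zpowers_le.2 hC.p_mem)
    (by rw [card_P hC.hJ, Nat.card_zpowers, orderOf_eq_prime (p := 3) hC.p_cube hC.p_ne])

theorem Conf.orderOf_v : orderOf v = 2 :=
  orderOf_eq_prime (by rw [pow_two, hC.v_sq]) fun h => hC.v_not (h ▸ one_mem _)

theorem Conf.vz_mem_K_absurd {α β : ZMod 2} (h : w * zp z α = v * zp z β) : False := by
  have hJ := hC.hJ
  apply hC.vw_not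
  have hw : w = v * zp z β * (zp z α)⁻¹ := by rw [← h]; group
  rw [hw, ← mul_assoc, ← mul_assoc, hC.v_sq, one_mul]
  exact mul_mem (zp_mem (Subgroup.mem_sup_left (Subgroup.mem_zpowers z)) _)
    (inv_mem (zp_mem (Subgroup.mem_sup_left (Subgroup.mem_zpowers z)) _))

/-- An involution of C_H(P) other than `z` commutes with another conjugate of itself. -/
theorem Conf.exists_mover {u0 : G} (hu : u0 ∈ cC z P) (hu2 : orderOf u0 = 2) (huz : u0 ≠ z) :
    ∃ c ∈ cC z P, (c * u0 * c⁻¹) * u0 = u0 * (c * u0 * c⁻¹) ∧ c * u0 * c⁻¹ ≠ u0 := by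
  have hJ := hC.hJ
  have hvz : v ≠ z := fun h => hC.v_not (by rw [h]; exact Subgroup.mem_sup_left (Subgroup.mem_zpowers z))
  have hwz : w ≠ z := fun h => hC.w_not (by rw [h]; exact Subgroup.mem_sup_left (Subgroup.mem_zpowers z))
  have hw2 : orderOf w = 2 := orderOf_eq_prime (by rw [pow_two, hC.w_sq]) fun h => hC.w_not (h ▸ one_mem _)
  obtain ⟨c0, hc0, h0⟩ := isConj_two hJ hu hC.v_mem hu2 hC.orderOf_v huz hvz
  obtain ⟨c1, hc1, h1⟩ := isConj_two hJ hC.v_mem hC.w_mem hC.orderOf_v hw2 hvz hwz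
  obtain ⟨b, hb⟩ : ∃ b : ZMod 2, c0 * u0 * c0⁻¹ = v * zp z b := by
    rcases h0 with h | h
    · exact ⟨0, by rw [h, zp_zero, mul_one]⟩
    · exact ⟨1, by rw [h, zp_one]⟩
  obtain ⟨a, ha⟩ : ∃ a : ZMod 2, c1 * (v * zp z b) * c1⁻¹ = w * zp z a := by
    have hz : c1 * zp z b * c1⁻¹ = zp z b := by
      rw [zp_conj, C_comm_z hc1, mul_inv_cancel_right]
    rcases h1 with h | h
    · refine ⟨b, ?_⟩
      calc c1 * (v * zp z b) * c1⁻¹ = (c1 * v * c1⁻¹) * (c1 * zp z b * c1⁻¹) := by group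
        _ = _ := by rw [h, hz]
    · refine ⟨1 + b, ?_⟩
      calc c1 * (v * zp z b) * c1⁻¹ = (c1 * v * c1⁻¹) * (c1 * zp z b * c1⁻¹) := by group
        _ = w * (zp z 1 * zp z b) := by rw [h, hz, zp_one, mul_assoc]
        _ = _ := by rw [zp_mul_self (z_mul_self hJ)]
  have hcomm : Commute (w * zp z a) (v * zp z b) := by
    have hzw : Commute (zp z a) v := zp_comm (C_comm_z hC.v_mem).symm a
    have hzb : Commute (w * zp z a) (zp z b) :=
      (zp_comm (show z * (w * zp z a) = w * zp z a * z from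
        ((show Commute z w from (C_comm_z hC.w_mem).symm).mul_right (zp_comm rfl a : Commute (zp z a) z).symm).eq) b
        : Commute (zp z b) (w * zp z a)).symm
    exact ((show Commute w v from hC.v_w.symm).mul_left hzw).mul_right hzb
  refine ⟨c0⁻¹ * c1 * c0, mul_mem (mul_mem (inv_mem hc0) hc1) hc0, ?_, fun h => ?_⟩
  · have e1 : c0⁻¹ * c1 * c0 * u0 * (c0⁻¹ * c1 * c0)⁻¹ = c0⁻¹ * (w * zp z a) * c0 := by
      rw [← ha, ← hb]; group
    rw [e1]
    calc c0⁻¹ * (w * zp z a) * c0 * u0 = c0⁻¹ * ((w * zp z a) * (c0 * u0 * c0⁻¹)) * c0 := by group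
      _ = c0⁻¹ * ((c0 * u0 * c0⁻¹) * (w * zp z a)) * c0 := by rw [hb, hcomm.eq]
      _ = _ := by group
  · refine hC.vz_mem_K_absurd (α := a) (β := b) ?_
    rw [← ha, ← hb]
    conv_rhs => rw [← h]
    group

/-- No element of C(y) carries `z` to `v` or `v z`. -/
theorem Conf.no_iso {n : G} (hn : n * y = y * n) {α : ZMod 2} (h : n * z * n⁻¹ = v * zp z α) : False := by
  have hJ := hC.hJ
  have hcd := hC.coord
  have hy := hC.y_mem
  have hQ := hC.card_Q
  set u1 := v * zp z α with hu1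
  have hback : ∀ x ∈ cW z y, n⁻¹ * x * n ∈ cW z y := fun x hx => by
    refine hC.conj_mem_W hn h (mem_cW.1 hx).2 ?_
    exact ((show Commute v x from hC.v_central hx).mul_left (zp_comm (mem_cW.1 hx).1.symm α)).eq.symm
  have hfwd : ∀ x ∈ cW z y, n * x * n⁻¹ ∈ cW z y := by
    intro x hx
    let f : ↥(cW z y) → ↥(cW z y) := fun a => ⟨n⁻¹ * a * n, hback a a.2⟩
    have hf : Function.Injective f := fun a b hab => by
      have := congrArg Subtype.val hab
      exact Subtype.ext (mul_left_cancel (mul_right_cancel this))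
    obtain ⟨a, ha⟩ := (Finite.injective_iff_surjective.1 hf) ⟨x, hx⟩
    have h2 : n⁻¹ * a * n = x := congrArg Subtype.val ha
    rw [← h2]
    convert a.2 using 1
    group
  have key : ∀ X : Vec4, qf X = 1 → ∃ r ∈ cQ z y, ∃ i j : ℕ, i < 3 ∧ ∃ k l : ZMod 2,
      n * elt p e t X * n⁻¹ = r * cRep p y v w u i j k l 1 := by
    intro X hX
    have hXQ := elt_mem hcd X
    have hsq : elt p e t X * elt p e t X = z := by
      rw [sq_vec hJ hcd hy hQ hXQ, vec_elt hJ hcd, hX, zp_one]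
    obtain ⟨r, hr, i, j, hi, -, k, l, m, hrep⟩ := hC.nf _ (hfwd _ (hC.Q_le_W hXQ))
    have hm : m = 1 := hC.sq_outer hi hr (zp_mem hC.z_Q α) hrep (by
      calc n * elt p e t X * n⁻¹ * (n * elt p e t X * n⁻¹) = n * (elt p e t X * elt p e t X) * n⁻¹ := by group
        _ = u1 := by rw [hsq, h])
    exact ⟨r, hr, i, j, hi, k, l, hm ▸ hrep⟩
  obtain ⟨ra, hra, ia, ja, hia, ka, la, ea⟩ := key (1, 0, 0, 1) (by decide)
  obtain ⟨rb, hrb, ib, jb, hib, kb, lb, eb⟩ := key (1, 1, 1, 0) (by decide)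
  have hab : elt p e t (1, 0, 0, 1) * elt p e t (1, 1, 1, 0) ∈ cQ z y :=
    mul_mem (elt_mem hcd _) (elt_mem hcd _)
  have hsqab : elt p e t (1, 0, 0, 1) * elt p e t (1, 1, 1, 0) *
      (elt p e t (1, 0, 0, 1) * elt p e t (1, 1, 1, 0)) = z := by
    rw [sq_vec hJ hcd hy hQ hab, vec_mul hJ hcd hy hQ (elt_mem hcd _) (elt_mem hcd _), vec_elt hJ hcd,
      vec_elt hJ hcd, show qf ((1, 0, 0, 1) + (1, 1, 1, 0)) = 1 from by decide, zp_one]
  set c := elt p e t (1, 0, 0, 1) * elt p e t (1, 1, 1, 0) with hc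
  obtain ⟨rc, hrc, ic, jc, hic, -, kc, lc, mc, ec⟩ := hC.nf _ (hfwd _ (hC.Q_le_W hab))
  have hmc : mc = 1 := hC.sq_outer hic hrc (zp_mem hC.z_Q α) ec (by
    calc n * c * n⁻¹ * (n * c * n⁻¹) = n * (c * c) * n⁻¹ := by group
      _ = u1 := by rw [hsqab, h])
  subst hmc
  have hm := hC.rep_mul hrc hra hrb ec ea eb (by rw [hc]; group)
  have := prod_m ⟨ic, hic⟩ ⟨ia, hia⟩ ⟨ib, hib⟩ lc la lb 1 1 1 (hm _) (hm _)
  exact absurd this (by decide)

/-- `z` is isolated in the centraliser of `P`. -/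
theorem Conf.isolated {g : G} (hg : g ∈ Subgroup.centralizer (P : Set G))
    (hc : g * z * g⁻¹ * z = z * (g * z * g⁻¹)) : g * z * g⁻¹ = z := by
  have hJ := hC.hJ
  by_contra hne
  have hz : z ∈ Subgroup.centralizer (P : Set G) := z_mem_C_P hJ
  have hu : g * z * g⁻¹ ∈ cC z P := Subgroup.mem_inf.2 ⟨mem_cH.2 hc, mul_mem (mul_mem hg hz) (inv_mem hg)⟩
  have hu2 : orderOf (g * z * g⁻¹) = 2 := by
    rw [← orderOf_z hJ]; exact MulEquiv.orderOf_eq (MulAut.conj g) z
  have hvz : v ≠ z := fun h => hC.v_not (by rw [h]; exact Subgroup.mem_sup_left (Subgroup.mem_zpowers z))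
  obtain ⟨c, hc', hconj⟩ := isConj_two hJ hu hC.v_mem hu2 hC.orderOf_v hne hvz
  obtain ⟨α, hα⟩ : ∃ α : ZMod 2, c * (g * z * g⁻¹) * c⁻¹ = v * zp z α := by
    rcases hconj with h | h
    · exact ⟨0, by rw [h, zp_zero, mul_one]⟩
    · exact ⟨1, by rw [h, zp_one]⟩
  set n := c * g with hn
  have hnz : n * z * n⁻¹ = v * zp z α := by rw [← hα, hn]; group
  have hnP : n ∈ Subgroup.centralizer (P : Set G) := mul_mem hc'.2 hg
  have hyu : y * (n * z * n⁻¹) = n * z * n⁻¹ * y := by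
    rw [hnz]
    exact ((show Commute y v from hC.v_y.symm).mul_right
      (zp_comm (C_comm_z hC.y_mem).symm α : Commute (zp z α) y).symm).eq
  have hr : n⁻¹ * y * n ∈ cC z P := by
    refine Subgroup.mem_inf.2 ⟨mem_cH.2 ?_, mul_mem (mul_mem (inv_mem hnP) (Subgroup.mem_inf.1 hC.y_mem).2) hnP⟩
    calc n⁻¹ * y * n * z = n⁻¹ * (y * (n * z * n⁻¹)) * n := by group
      _ = n⁻¹ * (n * z * n⁻¹ * y) * n := by rw [hyu]
      _ = _ := by group
  have hrP : n⁻¹ * y * n ∉ P := fun h => hC.y_not (by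
    have hcomm : (n⁻¹ * y * n) * n = n * (n⁻¹ * y * n) := Subgroup.mem_centralizer_iff.1 hnP _ h
    have : y = n⁻¹ * y * n := by
      calc y = n * (n⁻¹ * y * n) * n⁻¹ := by group
        _ = n⁻¹ * y * n := by rw [← hcomm, mul_inv_cancel_right]
    rw [this]; exact h)
  have hr3 : orderOf (n⁻¹ * y * n) = 3 := by
    rw [← hC.y_ord]; exact MulEquiv.orderOf_eq (MulAut.conj n).symm y
  obtain ⟨d, hd, hdy⟩ := isConj_three hJ hr hC.y_mem hr3 hC.y_ord hrP hC.y_not
  refine hC.no_iso (n := n * d⁻¹) (α := α) ?_ ?_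
  · have : n * d⁻¹ * y * (n * d⁻¹)⁻¹ = y := by
      conv_lhs => rw [← hdy]
      group
    exact mul_inv_eq_iff_eq_mul.1 this
  · calc n * d⁻¹ * z * (n * d⁻¹)⁻¹ = n * (d⁻¹ * z * d) * n⁻¹ := by group
      _ = _ := by rw [mul_assoc d⁻¹ z d, ← C_comm_z hd, inv_mul_cancel_left, hnz]

/-- A subgroup of odd order normalised by C_H(P) and inside it lies in P. -/
theorem Conf.odd_le_P {S : Subgroup G} (hS : S ≤ cC z P)
    (hodd : ∀ x ∈ S, Odd (orderOf x)) (hnorm : ∀ c ∈ cC z P, ∀ x ∈ S, c * x * c⁻¹ ∈ S) : S ≤ P := by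
  have hJ := hC.hJ
  obtain ⟨f, hf, hk⟩ := exists_hom_C hJ
  let S' : Subgroup ↥(cC z P) := S.subgroupOf (cC z P)
  have hn : S'.Normal := ⟨fun x hx c => hnorm c c.2 x hx⟩
  have hfn : (S'.map f).Normal := hn.map f hf
  have hbot : S'.map f = ⊥ := by
    haveI := isSimple_m22
    refine (IsSimpleGroup.eq_bot_or_eq_top_of_normal _ hfn).resolve_right fun htop => ?_
    have hv : f ⟨v, hC.v_mem⟩ ∈ S'.map f := by rw [htop]; trivial
    obtain ⟨x, hx, hxv⟩ := hv
    have h2 : f x ^ 2 = 1 := by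
      rw [hxv, ← map_pow, show (⟨v, hC.v_mem⟩ : ↥(cC z P)) ^ 2 = 1 from Subtype.ext (by
        simp [pow_two, hC.v_sq]), map_one]
    have hodd' : Odd (orderOf (f x)) := Odd.of_dvd_nat (hodd x hx)
      (by rw [Subgroup.orderOf_coe]; exact orderOf_map_dvd f x)
    have h1 : f x = 1 := eq_one_of_odd_sq hodd' (n := 1) (by rw [pow_one]; exact h2)
    rw [hxv, ← MonoidHom.mem_ker, hk, Subgroup.mem_subgroupOf] at h1
    exact hC.v_not h1
  intro x hx
  have hxK : x ∈ cK z P := by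
    have : f ⟨x, hS hx⟩ ∈ S'.map f := ⟨⟨x, hS hx⟩, hx, rfl⟩
    rw [hbot, Subgroup.mem_bot, ← MonoidHom.mem_ker, hk, Subgroup.mem_subgroupOf] at this
    exact this
  obtain ⟨a, q, ha, hq, rfl, haa, hq3, hc⟩ := mem_K hJ hxK
  have h3 : (a * q) ^ 3 = a := by
    rw [(show Commute a q from hc).mul_pow, hq3, mul_one, pow_three, haa, mul_one]
  have ha1 : a = 1 := eq_one_of_odd_sq (h3 ▸ odd_orderOf_pow (hodd _ hx) 3) (n := 1)
    (by rw [pow_one, pow_two, haa])
  rwa [ha1, one_mul]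

/-- A subgroup of odd order normalised by W lies in `⟨y⟩`. -/
theorem Conf.odd_le_y {S : Subgroup G} (hS : S ≤ cW z y)
    (hodd : ∀ x ∈ S, Odd (orderOf x)) (hnorm : ∀ c ∈ cW z y, ∀ x ∈ S, c * x * c⁻¹ ∈ S) :
    S ≤ Subgroup.zpowers y := by
  have hJ := hC.hJ
  have hcd := hC.coord
  have hy := hC.y_mem
  have hQ := hC.card_Q
  have hE := gen_split hJ
  intro d hd
  have hdW := hS hd
  have hfix : ∀ x ∈ cQ z y, d * x * d⁻¹ = x := by
    intro x hx
    set c := d * x * d⁻¹ * x⁻¹ with hc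
    have hcQ : c ∈ cQ z y := mul_mem (hC.conj_Q hdW hx) (inv_mem hx)
    have hcS : c ∈ S := by
      have : d * (x * d⁻¹ * x⁻¹) ∈ S := mul_mem hd (hnorm x (hC.Q_le_W hx) _ (inv_mem hd))
      rw [hc]
      simpa [mul_assoc] using this
    have h4 : c ^ 2 ^ 2 = 1 := by
      rw [show (2 : ℕ) ^ 2 = 2 * 2 from rfl, pow_mul, pow_two c]
      rcases hE.square c (mem_cQ.1 hcQ).1 with h | h <;> rw [h]
      · rw [one_pow]
      · rw [pow_two, z_mul_self hJ]
    have := eq_one_of_odd_sq (hodd c hcS) h4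
    exact mul_inv_eq_one.1 this
  obtain ⟨q, hq, i, j, hi, -, k, l, m, hrep⟩ := hC.nf d hdW
  have hmat : ∀ X : Vec4, mat i l m X = X := fun X => by
    have h1 := hC.vec_act hq i j k l m (elt_mem hcd X)
    rw [← hrep, hfix _ (elt_mem hcd X), vec_elt hJ hcd] at h1
    exact h1.symm
  obtain ⟨hi0, rfl, rfl⟩ := mat_trivial ⟨i, hi⟩ l m (hmat _) (hmat _) (hmat _)
  have hi0' : i = 0 := by simpa [Fin.ext_iff] using hi0
  subst hi0'
  have hd' : d = q * (y ^ j * zp v k) := by rw [hrep]; simp [cRep, zp_zero]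
  have hqz : q = 1 ∨ q = z := by
    refine center_Q hJ hC.p_mem hC.p_ne hC.y_cube hy hq fun x hx => ?_
    have h1 := hfix x hx
    have h2 : y ^ j * zp v k * x * (y ^ j * zp v k)⁻¹ = x := by
      have : Commute (y ^ j * zp v k) x :=
        ((show Commute y x from (mem_cQ.1 hx).2.symm).pow_left j).mul_left (zp_comm (hC.v_Q x hx) k)
      rw [this.eq, mul_inv_cancel_right]
    have h3 : q * x * q⁻¹ = x := by
      calc q * x * q⁻¹ = q * (y ^ j * zp v k * x * (y ^ j * zp v k)⁻¹) * q⁻¹ := by rw [h2]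
        _ = d * x * d⁻¹ := by rw [hd']; group
        _ = x := h1
    exact mul_inv_eq_iff_eq_mul.1 h3
  set a := q * zp v k with ha
  have hqv : Commute q (zp v k) := (zp_comm (hC.v_Q q hq) k : Commute (zp v k) q).symm
  have hya : Commute (y ^ j) a :=
    ((show Commute y q from (mem_cQ.1 hq).2.symm).mul_right
      (zp_comm hC.v_y k : Commute (zp v k) y).symm).pow_left j
  have hda : d = a * y ^ j := by
    rw [hd', ha, mul_assoc]
    congr 1
    exact ((show Commute (zp v k) y from zp_comm hC.v_y k).symm.pow_left j).eq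
  have haa : a * a = 1 := by
    rw [ha, ← pow_two, hqv.mul_pow, pow_two, pow_two, zp_mul_self hC.v_sq, ← two_mul,
      show (2 : ZMod 2) = 0 from by decide, zero_mul, zp_zero, mul_one]
    rcases hqz with h | h <;> rw [h]
    · rw [one_mul]
    · exact z_mul_self hJ
  have h3 : d ^ 3 = a := by
    rw [hda, hya.symm.mul_pow, ← pow_mul, mul_comm j 3, pow_mul, hC.y_cube, one_pow, mul_one, pow_three, haa,
      mul_one]
  have ha1 : a = 1 := eq_one_of_odd_sq (h3 ▸ odd_orderOf_pow (hodd _ hd) 3) (n := 1)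
    (by rw [pow_one, pow_two, haa])
  rw [hda, ha1, one_mul]
  exact pow_mem (Subgroup.mem_zpowers y) j

/-- An involution centralising W is `z`, `v` or `v z`. -/
theorem Conf.center_W {h : G} (hW : h ∈ cW z y) (h2 : h * h = 1) (hc : ∀ x ∈ cW z y, h * x = x * h) :
    ∃ k n : ZMod 2, h = zp z n * zp v k := by
  have hJ := hC.hJ
  have hcd := hC.coord
  have hy := hC.y_mem
  have hQ := hC.card_Q
  obtain ⟨k, n, b, hb⟩ := hC.central_form (a := e) hcd.e_mem
    (by rw [vec_e hJ hcd]; decide) (by rw [vec_e hJ hcd]; decide) hW h2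
    fun x hx _ => hc x (hC.Q_le_W hx)
  rcases zmod_cases b with rfl | rfl
  · exact ⟨k, n, by rw [hb, zp_zero, mul_one]⟩
  · exfalso
    set pt := p * t * p⁻¹ with hpt
    have hptQ : pt ∈ cQ z y := hcd.pt_mem
    have h1 := hc pt (hC.Q_le_W hptQ)
    rw [hb, zp_one] at h1
    have hv : Commute (zp v k) pt := zp_comm (hC.v_Q pt hptQ) k
    have hz : Commute (zp z n) pt := zp_comm (((gen_split hJ).comm_z pt (mem_cQ.1 hptQ).1).eq.symm) n
    have h2' : zp z n * (e * pt) * zp v k = zp z n * (pt * e) * zp v k := by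
      calc zp z n * (e * pt) * zp v k = zp z n * e * (pt * zp v k) := by group
        _ = zp z n * e * zp v k * pt := by rw [← hv.eq]; group
        _ = pt * (zp z n * e * zp v k) := h1
        _ = (pt * zp z n) * e * zp v k := by group
        _ = _ := by rw [← hz.eq]; group
    have h3 := (commute_iff hJ hcd hy hQ hcd.e_mem hptQ).1 (mul_left_cancel (mul_right_cancel h2'))
    rw [vec_e hJ hcd, hpt, vec_pt hJ hcd] at h3
    exact absurd h3 (by decide)

/-- `z` and `v` are commutators in W. -/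
theorem Conf.z_v_mem_commutator : z ∈ ⁅cW z y, cW z y⁆ ∧ v ∈ ⁅cW z y, cW z y⁆ := by
  have hJ := hC.hJ
  have hcd := hC.coord
  constructor
  · set pt := p * t * p⁻¹ with hpt
    have hptQ : pt ∈ cQ z y := hcd.pt_mem
    have h := Subgroup.commutator_mem_commutator (hC.Q_le_W hcd.e_mem) (hC.Q_le_W hptQ)
    rw [commutatorElement_def] at h
    have hc := comm_vec hJ hcd hC.y_mem hC.card_Q hcd.e_mem hptQ
    rw [vec_e hJ hcd, hpt, vec_pt hJ hcd, show bil (1, 0, 0, 0) (0, 0, 0, 1) = 1 from by decide, zp_one,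
      ← hpt] at hc
    convert h using 1
    rw [hc]
    have hze : z * e = e * z := ((gen_split hJ).comm_z e (mem_cQ.1 hcd.e_mem).1).eq.symm
    calc z = pt * (e * z) * e⁻¹ * pt⁻¹ := by
          rw [← hze, mul_assoc pt, mul_inv_cancel_right,
            ((gen_split hJ).comm_z pt (mem_cQ.1 hptQ).1).eq, mul_inv_cancel_right]
      _ = _ := by group
  · have h := Subgroup.commutator_mem_commutator hC.u_mem hC.w_W
    rw [commutatorElement_def, hC.u_w] at h
    simpa using h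

/-- The conclusion: C_H(P) is perfect and is the centraliser of P. -/
theorem Conf.main (hgoal : ∃ g : G, g * z * g⁻¹ ∈ cC z P ∧ g * z * g⁻¹ ≠ z) :
    z ∈ ⁅cC z P, cC z P⁆ ∧ Subgroup.centralizer (P : Set G) ≤ cC z P := by
  have hJ := hC.hJ
  have hzz := z_mul_self hJ
  have hzX : z ∈ Subgroup.centralizer (P : Set G) := z_mem_C_P hJ
  obtain ⟨g, hgC, hgz⟩ := hgoal
  set u0 := g * z * g⁻¹ with hu0
  have hu02 : orderOf u0 = 2 := by
    rw [← orderOf_z hJ]; exact MulEquiv.orderOf_eq (MulAut.conj g) z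
  -- a conjugating element carrying `y` to `p`
  have hr : g⁻¹ * p * g * z = z * (g⁻¹ * p * g) := by
    calc g⁻¹ * p * g * z = g⁻¹ * (p * u0) * g := by rw [hu0]; group
      _ = g⁻¹ * (u0 * p) * g := by rw [C_comm_P hgC hC.p_mem]
      _ = _ := by rw [hu0]; group
  have hr3 : orderOf (g⁻¹ * p * g) = 3 := by
    rw [← orderOf_eq_prime (p := 3) hC.p_cube hC.p_ne]
    exact MulEquiv.orderOf_eq (MulAut.conj g).symm p
  obtain ⟨h, hhz, hhC⟩ := hC.three_into_C hr hr3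
  set g1 := g * h⁻¹ with hg1
  set r1 := h * (g⁻¹ * p * g) * h⁻¹ with hr1
  have hg1z : g1 * z * g1⁻¹ = u0 := by
    calc g1 * z * g1⁻¹ = g * (h⁻¹ * z * h) * g⁻¹ := by rw [hg1]; group
      _ = _ := by rw [mul_assoc h⁻¹, ← hhz, inv_mul_cancel_left]
  have hg1r : g1 * r1 * g1⁻¹ = p := by rw [hg1, hr1]; group
  have hr13 : orderOf r1 = 3 := by rw [← hr3]; exact MulEquiv.orderOf_eq (MulAut.conj h) _
  by_cases hr1P : r1 ∈ P
  · -- impossible: `u0` would be isolated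
    exfalso
    obtain ⟨c, hc, hcc, hcne⟩ := hC.exists_mover hgC hu02 hgz
    have hPr : Subgroup.zpowers r1 = P := CfsgLib.Solvable.eq_of_le_of_card_le (Subgroup.zpowers_le.2 hr1P)
      (by rw [card_P hJ, Nat.card_zpowers, hr13])
    have hx : g1⁻¹ * c * g1 ∈ Subgroup.centralizer (P : Set G) := by
      refine Subgroup.mem_centralizer_iff.2 fun q hq => ?_
      rw [SetLike.mem_coe, ← hPr] at hq
      obtain ⟨k, rfl⟩ := hq
      have : Commute r1 (g1⁻¹ * c * g1) := by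
        have e1 : r1 = g1⁻¹ * p * g1 := by rw [← hg1r]; group
        show r1 * (g1⁻¹ * c * g1) = g1⁻¹ * c * g1 * r1
        rw [e1]
        calc g1⁻¹ * p * g1 * (g1⁻¹ * c * g1) = g1⁻¹ * (p * c) * g1 := by group
          _ = g1⁻¹ * (c * p) * g1 := by rw [C_comm_P hc hC.p_mem]
          _ = _ := by group
      exact (this.zpow_left k).eq
    have hzu : z = g1⁻¹ * u0 * g1 := by rw [← hg1z]; group
    have e2 : g1⁻¹ * c * g1 * z * (g1⁻¹ * c * g1)⁻¹ = g1⁻¹ * (c * u0 * c⁻¹) * g1 := by rw [← hg1z]; group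
    have hiso := hC.isolated hx (by
      rw [e2]
      calc g1⁻¹ * (c * u0 * c⁻¹) * g1 * z = g1⁻¹ * ((c * u0 * c⁻¹) * u0) * g1 := by rw [← hg1z]; group
        _ = g1⁻¹ * (u0 * (c * u0 * c⁻¹)) * g1 := by rw [hcc]
        _ = _ := by rw [← hg1z]; group)
    rw [e2] at hiso
    exact hcne (by
      calc c * u0 * c⁻¹ = g1 * (g1⁻¹ * (c * u0 * c⁻¹) * g1) * g1⁻¹ := by group
        _ = u0 := by rw [hiso, hg1z])
  obtain ⟨c, hc, hcr⟩ := isConj_three hJ hhC hC.y_mem hr13 hC.y_ord hr1P hC.y_not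
  set g2 := g1 * c⁻¹ with hg2
  have hg2z : g2 * z * g2⁻¹ = u0 := by
    calc g2 * z * g2⁻¹ = g1 * (c⁻¹ * z * c) * g1⁻¹ := by rw [hg2]; group
      _ = _ := by rw [mul_assoc c⁻¹, ← C_comm_z hc, inv_mul_cancel_left, hg1z]
  have hg2y : g2 * y * g2⁻¹ = p := by rw [hg2, ← hcr, ← hg1r]; group
  -- the centraliser of `u0` in X is `g2 W g2⁻¹`
  have hto : ∀ x : G, x * u0 = u0 * x → x ∈ Subgroup.centralizer (P : Set G) → g2⁻¹ * x * g2 ∈ cW z y := by
    intro x hxu hxX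
    have hxp : x * p = p * x := (Subgroup.mem_centralizer_iff.1 hxX p hC.p_mem).symm
    refine mem_cW.2 ⟨?_, ?_⟩
    · calc g2⁻¹ * x * g2 * z = g2⁻¹ * (x * u0) * g2 := by rw [← hg2z]; group
        _ = g2⁻¹ * (u0 * x) * g2 := by rw [hxu]
        _ = _ := by rw [← hg2z]; group
    · calc g2⁻¹ * x * g2 * y = g2⁻¹ * (x * p) * g2 := by rw [← hg2y]; group
        _ = g2⁻¹ * (p * x) * g2 := by rw [hxp]
        _ = _ := by rw [← hg2y]; group
  have hfrom : ∀ x ∈ cW z y, g2 * x * g2⁻¹ * u0 = u0 * (g2 * x * g2⁻¹) ∧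
      g2 * x * g2⁻¹ ∈ Subgroup.centralizer (P : Set G) := by
    intro x hx
    obtain ⟨h1, h2⟩ := mem_cW.1 hx
    refine ⟨?_, Subgroup.mem_centralizer_iff.2 fun q hq => ?_⟩
    · rw [← hg2z]
      calc g2 * x * g2⁻¹ * (g2 * z * g2⁻¹) = g2 * (x * z) * g2⁻¹ := by group
        _ = g2 * (z * x) * g2⁻¹ := by rw [h1]
        _ = _ := by group
    · rw [SetLike.mem_coe, ← hC.P_eq] at hq
      obtain ⟨k, rfl⟩ := hq
      have : Commute p (g2 * x * g2⁻¹) := by
        show p * (g2 * x * g2⁻¹) = g2 * x * g2⁻¹ * p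
        rw [← hg2y]
        calc g2 * y * g2⁻¹ * (g2 * x * g2⁻¹) = g2 * (y * x) * g2⁻¹ := by group
          _ = g2 * (x * y) * g2⁻¹ := by rw [h2]
          _ = _ := by group
      exact (this.zpow_left k).eq
  -- the odd normal subgroup of X given by the Z* theorem, extended by P
  have hiso : Cfsg.IsIsolatedInvolution (⟨z, hzX⟩ : ↥(Subgroup.centralizer (P : Set G))) := by
    refine ⟨by rw [Subgroup.orderOf_mk]; exact orderOf_z hJ, fun x hx => Subtype.ext ?_⟩
    exact hC.isolated x.2 (congrArg Subtype.val hx).symm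
  obtain ⟨N, hN, hNodd, hNcomm⟩ := CfsgLib.ZStar.zstar hiso
  set N' := N.map (Subgroup.centralizer (P : Set G)).subtype with hN'
  have hN'X : N' ≤ Subgroup.centralizer (P : Set G) := Subgroup.map_subtype_le N
  have hPX : P ≤ Subgroup.centralizer (P : Set G) := (P_le_C hJ).trans inf_le_right
  have hN'conj : ∀ x ∈ Subgroup.centralizer (P : Set G), ∀ a ∈ N', x * a * x⁻¹ ∈ N' := by
    rintro x hx _ ⟨a, ha, rfl⟩
    exact ⟨⟨x, hx⟩ * a * ⟨x, hx⟩⁻¹, hN.conj_mem a ha _, rfl⟩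
  set O := N' ⊔ P with hO
  have hOX : O ≤ Subgroup.centralizer (P : Set G) := sup_le hN'X hPX
  have hPcomm : ∀ q ∈ P, ∀ x ∈ Subgroup.centralizer (P : Set G), q * x = x * q := fun q hq x hx =>
    Subgroup.mem_centralizer_iff.1 hx q hq
  have hOdec : ∀ x ∈ O, ∃ a ∈ N', ∃ q ∈ P, x = a * q := by
    intro x hx
    rw [hO, sup_comm] at hx
    obtain ⟨q, hq, a, ha, rfl⟩ := (CfsgLib.Solvable.mem_sup_of_le_normalizer (fun q hq =>
      Subgroup.mem_normalizer_iff.2 fun a => ⟨fun ha => hN'conj q (hPX hq) a ha, fun ha => by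
        have := hN'conj q⁻¹ (hPX (inv_mem hq)) _ ha
        simpa [mul_assoc] using this⟩)).1 hx
    exact ⟨a, ha, q, hq, hPcomm q hq a (hN'X ha)⟩
  have hOodd : ∀ x ∈ O, Odd (orderOf x) := by
    intro x hx
    obtain ⟨a, ⟨a', ha', rfl⟩, q, hq, rfl⟩ := hOdec x hx
    have h1 : Odd (orderOf (a' : G)) := by
      refine Odd.of_dvd_nat hNodd ?_
      rw [Subgroup.orderOf_coe]
      exact Subgroup.orderOf_dvd_natCard N ha'
    have h2 : Odd (orderOf q) := Odd.of_dvd_nat (by decide : Odd 3)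
      (orderOf_dvd_of_pow_eq_one (yp_sq hq hJ))
    exact Odd.of_dvd_nat (h1.mul h2) ((show Commute (a' : G) q from (hPcomm q hq _ a'.2).symm).orderOf_mul_dvd_mul_orderOf)
  have hOconj : ∀ x ∈ Subgroup.centralizer (P : Set G), ∀ o ∈ O, x * o * x⁻¹ ∈ O := by
    intro x hx o ho
    obtain ⟨a, ha, q, hq, rfl⟩ := hOdec o ho
    have : x * (a * q) * x⁻¹ = (x * a * x⁻¹) * q := by
      calc x * (a * q) * x⁻¹ = (x * a * x⁻¹) * (x * q * x⁻¹) := by group
        _ = _ := by rw [← hPcomm q hq x hx, mul_inv_cancel_right]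
    rw [this]
    exact mul_mem (Subgroup.mem_sup_left (hN'conj x hx a ha)) (Subgroup.mem_sup_right hq)
  have hOcomm : ∀ x ∈ Subgroup.centralizer (P : Set G), z * x * z⁻¹ * x⁻¹ ∈ O := fun x hx =>
    Subgroup.mem_sup_left ⟨_, hNcomm ⟨x, hx⟩, rfl⟩
  -- fixed points of `z` and of `u0`
  have hu0X : u0 ∈ Subgroup.centralizer (P : Set G) := hgC.2
  have hfixz : ∀ x ∈ O, x * z = z * x → x ∈ P := by
    refine fun x hx hxz => hC.odd_le_P (S := O ⊓ cC z P) inf_le_right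
      (fun a ha => hOodd a ha.1) (fun c hc a ha => Subgroup.mem_inf.2 ⟨hOconj c hc.2 a ha.1, mul_mem (mul_mem hc (Subgroup.mem_inf.1 ha).2) (inv_mem hc)⟩) ⟨hx, ⟨mem_cH.2 hxz, hOX hx⟩⟩
  have hfixu : ∀ x ∈ O, x * u0 = u0 * x → x ∈ P := by
    intro x hx hxu
    have hle : (O.map (MulAut.conj g2⁻¹).toMonoidHom ⊓ cW z y) ≤ Subgroup.zpowers y := by
      refine hC.odd_le_y inf_le_right ?_ ?_
      · rintro _ ⟨⟨a, ha, rfl⟩, -⟩
        show Odd (orderOf (MulAut.conj g2⁻¹ a))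
        rw [MulEquiv.orderOf_eq]
        exact hOodd a ha
      · rintro c hc _ ⟨⟨a, ha, rfl⟩, haW⟩
        refine Subgroup.mem_inf.2 ⟨⟨g2 * c * g2⁻¹ * a * (g2 * c * g2⁻¹)⁻¹, hOconj _ (hfrom c hc).2 a ha, ?_⟩,
          mul_mem (mul_mem hc (show _ ∈ cW z y from haW)) (inv_mem hc)⟩
        simp only [MulEquiv.coe_toMonoidHom, MulAut.conj_apply]
        group
    have h1 : g2⁻¹ * x * g2 ∈ Subgroup.zpowers y := hle ⟨⟨x, hx, by simp [MulAut.conj_apply]⟩, hto x hxu (hOX hx)⟩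
    obtain ⟨k, hk⟩ := h1
    have h2 : x = (g2 * y * g2⁻¹) ^ k := by
      rw [conj_zpow, show y ^ k = g2⁻¹ * x * g2 from hk]; group
    rw [h2, hg2y]
    exact zpow_mem hC.p_mem k
  have hp3 : ∀ q ∈ P, q * q = 1 → q = 1 := fun q hq h => by
    have h3 := yp_sq hq hJ
    rwa [pow_succ, pow_two, h, one_mul] at h3
  -- `z` centralises C_X(u0)
  have hcent : ∀ x ∈ Subgroup.centralizer (P : Set G), x * u0 = u0 * x → x * z = z * x := by
    intro x hx hxu
    set c0 := z * x * z⁻¹ * x⁻¹ with hc0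
    have hzu : Commute z u0 := (mem_cH.1 hgC.1).symm
    have hcu : c0 * u0 = u0 * c0 :=
      (((hzu.mul_left hxu).mul_left hzu.inv_left).mul_left (Commute.inv_left hxu)).eq
    have hcP := hfixu c0 (hOcomm x hx) hcu
    have hz1 : z⁻¹ = z := inv_eq_of_mul_eq_one_right hzz
    have e1 : z * x * z = c0 * x := by rw [hc0, hz1]; group
    have hcz : c0 * z = z * c0 := hPcomm c0 hcP z hzX
    have hx2 : x = c0 * c0 * x := by
      calc x = (z * z) * x * (z * z) := by rw [hzz]; group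
        _ = z * (z * x * z) * z := by group
        _ = (z * c0) * x * z := by rw [e1]; group
        _ = c0 * (z * x * z) := by rw [← hcz]; group
        _ = _ := by rw [e1]; group
    have hc1 : c0 = 1 := hp3 c0 hcP (right_eq_mul.1 hx2)
    rw [hc1, one_mul] at e1
    calc x * z = (z * z) * (x * z) := by rw [hzz, one_mul]
      _ = z * (z * x * z) := by group
      _ = z * x := by rw [e1]
  -- so it is a commutator in C
  have hz0W : g2⁻¹ * z * g2 ∈ cW z y := hto z (mem_cH.1 hgC.1).symm hzX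
  have hz02 : g2⁻¹ * z * g2 * (g2⁻¹ * z * g2) = 1 := by
    calc g2⁻¹ * z * g2 * (g2⁻¹ * z * g2) = g2⁻¹ * (z * z) * g2 := by group
      _ = 1 := by rw [hzz]; group
  obtain ⟨k, n, hkn⟩ := hC.center_W hz0W hz02 fun x hx => by
    obtain ⟨h1, h2⟩ := hfrom x hx
    have h3 := hcent _ h2 h1
    calc g2⁻¹ * z * g2 * x = g2⁻¹ * (z * (g2 * x * g2⁻¹)) * g2 := by group
      _ = g2⁻¹ * ((g2 * x * g2⁻¹) * z) * g2 := by rw [h3]
      _ = _ := by group
  have hzC : z ∈ ⁅cC z P, cC z P⁆ := by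
    have hW' : g2⁻¹ * z * g2 ∈ ⁅cW z y, cW z y⁆ := by
      rw [hkn]
      exact mul_mem (zp_mem hC.z_v_mem_commutator.1 n) (zp_mem hC.z_v_mem_commutator.2 k)
    have hle : (cW z y).map (MulAut.conj g2).toMonoidHom ≤ cC z P := by
      rintro _ ⟨x, hx, rfl⟩
      obtain ⟨h1, h2⟩ := hfrom x hx
      exact ⟨mem_cH.2 (hcent _ h2 h1), h2⟩
    have h1 : MulAut.conj g2 (g2⁻¹ * z * g2) ∈ ⁅cW z y, cW z y⁆.map (MulAut.conj g2).toMonoidHom :=
      ⟨_, hW', rfl⟩
    rw [Subgroup.map_commutator, MulAut.conj_apply] at h1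
    have h2 : g2 * (g2⁻¹ * z * g2) * g2⁻¹ = z := by group
    rw [h2] at h1
    exact Subgroup.commutator_mono hle hle h1
  -- `z` and `u0` invert O modulo P, so `u0 z` centralises it
  have hinv : ∀ τ : G, τ ∈ Subgroup.centralizer (P : Set G) → τ * τ = 1 →
      (∀ x ∈ O, x * τ = τ * x → x ∈ P) → ∀ x ∈ O, ∃ q ∈ P, τ * x * τ⁻¹ = x⁻¹ * q := by
    intro τ hτ hτ2 hfix x hx
    have hτi : τ⁻¹ = τ := inv_eq_of_mul_eq_one_right hτ2
    set d := x⁻¹ * (τ * x * τ⁻¹) with hd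
    have hdO : d ∈ O := mul_mem (inv_mem hx) (hOconj τ hτ x hx)
    have hdi : τ * d * τ⁻¹ = d⁻¹ := by
      rw [hd, hτi]
      calc τ * (x⁻¹ * (τ * x * τ)) * τ = τ * x⁻¹ * τ * x * (τ * τ) := by group
        _ = (τ⁻¹ * x⁻¹ * τ⁻¹) * x := by rw [hτ2, hτi, mul_one]
        _ = _ := by group
    obtain ⟨m, hm, hmi⟩ := exists_half (hOodd d hdO) hdi
    set f := d ^ m with hf
    have hxf : x * f * τ = τ * (x * f) := by
      have e1 : τ * (x * f) * τ⁻¹ = x * f := by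
        calc τ * (x * f) * τ⁻¹ = x * d * (τ * f * τ⁻¹) := by rw [hd]; group
          _ = x * (f * f) * f⁻¹ := by rw [hmi, ← hm]
          _ = _ := by group
      exact (mul_inv_eq_iff_eq_mul.1 e1).symm
    have hq := hfix (x * f) (mul_mem hx (pow_mem hdO m)) hxf
    refine ⟨(x * f) * (x * f), mul_mem hq hq, ?_⟩
    calc τ * x * τ⁻¹ = x * d := by rw [hd]; group
      _ = x⁻¹ * ((x * f) * x * f) := by
          rw [show x * f * x = x * (x * f) from hPcomm _ hq x (hOX hx)]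
          rw [hm]; group
      _ = _ := by group
  have hu0sq : u0 * u0 = 1 := by rw [← pow_two, ← hu02, pow_orderOf_eq_one]
  have hcentO : ∀ x ∈ O, (u0 * z) * x = x * (u0 * z) := by
    have hτ : ∀ x ∈ O, ∃ q ∈ P, (u0 * z) * x * (u0 * z)⁻¹ = x * q := by
      intro x hx
      obtain ⟨q, hq, e1⟩ := hinv z hzX hzz hfixz x hx
      obtain ⟨q', hq', e2⟩ := hinv u0 hu0X hu0sq hfixu x hx
      refine ⟨q'⁻¹ * q, mul_mem (inv_mem hq') hq, ?_⟩
      calc (u0 * z) * x * (u0 * z)⁻¹ = u0 * (z * x * z⁻¹) * u0⁻¹ := by group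
        _ = (u0 * x * u0⁻¹)⁻¹ * (u0 * q * u0⁻¹) := by rw [e1]; group
        _ = q'⁻¹ * x * q := by rw [e2, ← hPcomm q hq u0 hu0X]; group
        _ = _ := by rw [hPcomm _ (inv_mem hq') x (hOX hx)]; group
    intro x hx
    obtain ⟨q, hq, e1⟩ := hτ x hx
    set τ := u0 * z with hτdef
    have hτX : τ ∈ Subgroup.centralizer (P : Set G) := mul_mem hu0X hzX
    have hτ2 : τ * τ = 1 := by
      rw [hτdef]
      calc u0 * z * (u0 * z) = u0 * (z * u0) * z := by group
        _ = u0 * (u0 * z) * z := by rw [← mem_cH.1 hgC.1]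
        _ = (u0 * u0) * (z * z) := by group
        _ = 1 := by rw [hu0sq, hzz, one_mul]
    have h2 : x = x * (q * q) := by
      calc x = (τ * τ) * x * (τ * τ)⁻¹ := by rw [hτ2]; group
        _ = τ * (τ * x * τ⁻¹) * τ⁻¹ := by group
        _ = τ * (x * q) * τ⁻¹ := by rw [e1]
        _ = (τ * x * τ⁻¹) * (τ * q * τ⁻¹) := by group
        _ = _ := by rw [e1, ← hPcomm q hq τ hτX]; group
    have hq1 := hp3 q hq (left_eq_mul.1 h2)
    rw [hq1, mul_one] at e1
    exact mul_inv_eq_iff_eq_mul.1 e1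
  -- hence so does C, and `z`
  obtain ⟨f, hf, hk⟩ := exists_hom_C hJ
  let L : Subgroup ↥(cC z P) := (Subgroup.centralizer (O : Set G)).subgroupOf (cC z P)
  have hLn : L.Normal := ⟨fun a ha c => by
    refine Subgroup.mem_centralizer_iff.2 fun x hx => ?_
    have h1 := hOconj c⁻¹ (inv_mem c.2.2) x hx
    have h2 : (c : G)⁻¹ * x * (c : G)⁻¹⁻¹ * (a : G) = (a : G) * ((c : G)⁻¹ * x * (c : G)⁻¹⁻¹) :=
      Subgroup.mem_centralizer_iff.1 ha _ h1
    calc x * ((c : G) * a * (c : G)⁻¹) = c * ((c : G)⁻¹ * x * (c : G)⁻¹⁻¹ * a) * (c : G)⁻¹ := by group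
      _ = c * (a * ((c : G)⁻¹ * x * (c : G)⁻¹⁻¹)) * (c : G)⁻¹ := by rw [h2]
      _ = (c : G) * a * (c : G)⁻¹ * x := by group⟩
  have huzL : (⟨u0 * z, mul_mem hgC hC.z_C⟩ : ↥(cC z P)) ∈ L :=
    Subgroup.mem_centralizer_iff.2 fun x hx => (hcentO x hx).symm
  have hLtop : L.map f = ⊤ := by
    haveI := isSimple_m22
    refine (IsSimpleGroup.eq_bot_or_eq_top_of_normal _ (hLn.map f hf)).resolve_left
      fun hbot => ?_
    have h1 : f ⟨u0 * z, mul_mem hgC hC.z_C⟩ ∈ L.map f := ⟨_, huzL, rfl⟩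
    rw [hbot, Subgroup.mem_bot, ← MonoidHom.mem_ker, hk, Subgroup.mem_subgroupOf] at h1
    have hzK : z ∈ cK z P := Subgroup.mem_sup_left (Subgroup.mem_zpowers z)
    have h2 : u0 ∈ cK z P := by simpa using mul_mem h1 (inv_mem hzK)
    rcases K_sq_one hJ h2 hu0sq with h3 | h3
    · rw [h3, orderOf_one] at hu02; omega
    · exact hgz h3
  have hLC : ⁅cC z P, cC z P⁆ ≤ Subgroup.centralizer (O : Set G) := by
    rw [Subgroup.commutator_le]
    intro a ha b hb
    have hdec : ∀ c ∈ cC z P, ∃ l ∈ Subgroup.centralizer (O : Set G), ∃ k ∈ cK z P,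
        c = l * k ∧ l ∈ cC z P := by
      intro c hc
      have : f ⟨c, hc⟩ ∈ L.map f := by rw [hLtop]; trivial
      obtain ⟨l, hl, hlc⟩ := this
      refine ⟨l, hl, (l : G)⁻¹ * c, ?_, by group, l.2⟩
      have h1 : l⁻¹ * ⟨c, hc⟩ ∈ f.ker := by rw [MonoidHom.mem_ker, map_mul, map_inv, hlc, inv_mul_cancel]
      rw [hk, Subgroup.mem_subgroupOf] at h1
      exact h1
    obtain ⟨la, hla, ka, hka, rfl, hlaC⟩ := hdec a ha
    obtain ⟨lb, hlb, kb, hkb, rfl, hlbC⟩ := hdec b hb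
    have c1 : Commute ka lb := K_comm hJ hka hlbC
    have c2 : Commute kb la := K_comm hJ hkb hlaC
    have c3 : Commute ka kb := K_comm hJ hka (K_le_C hJ hkb)
    have : ⁅la * ka, lb * kb⁆ = ⁅la, lb⁆ := by
      rw [commutatorElement_def, commutatorElement_def]
      calc la * ka * (lb * kb) * (la * ka)⁻¹ * (lb * kb)⁻¹ =
          la * (ka * (lb * kb) * ka⁻¹) * la⁻¹ * kb⁻¹ * lb⁻¹ := by group
        _ = la * lb * (kb * la⁻¹) * kb⁻¹ * lb⁻¹ := by
            rw [(c1.mul_right c3).eq, mul_inv_cancel_right]; group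
        _ = la * lb * (la⁻¹ * kb) * kb⁻¹ * lb⁻¹ := by rw [c2.inv_right.eq]
        _ = _ := by group
    rw [this, commutatorElement_def]
    exact mul_mem (mul_mem (mul_mem hla hlb) (inv_mem hla)) (inv_mem hlb)
  have hzO : ∀ x ∈ O, x * z = z * x := fun x hx => Subgroup.mem_centralizer_iff.1 (hLC hzC) x hx
  refine ⟨hzC, fun x hx => ⟨mem_cH.2 ?_, hx⟩⟩
  set c0 := z * x * z⁻¹ * x⁻¹ with hc0
  have hcP : c0 ∈ P := hfixz c0 (hOcomm x hx) (hzO c0 (hOcomm x hx))
  have hz1 : z⁻¹ = z := inv_eq_of_mul_eq_one_right hzz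
  have e1 : z * x * z = c0 * x := by rw [hc0, hz1]; group
  have hcz : c0 * z = z * c0 := hPcomm c0 hcP z hzX
  have hx2 : x = c0 * c0 * x := by
    calc x = (z * z) * x * (z * z) := by rw [hzz]; group
      _ = z * (z * x * z) * z := by group
      _ = (z * c0) * x * z := by rw [e1]; group
      _ = c0 * (z * x * z) := by rw [← hcz]; group
      _ = _ := by rw [e1]; group
  have hc1 : c0 = 1 := hp3 c0 hcP (right_eq_mul.1 hx2)
  rw [hc1, one_mul] at e1
  calc x * z = (z * z) * (x * z) := by rw [hzz, one_mul]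
    _ = z * (z * x * z) := by group
    _ = z * x := by rw [e1]

/-- The statement about C_H(P) and N(P), from the configuration and the fused involution. -/
theorem finish (hgoal : ∃ g : G, g * z * g⁻¹ ∈ cC z P ∧ g * z * g⁻¹ ≠ z) :
    ⁅cC z P, cC z P⁆ = cC z P ∧ IsCyclic ↥(Subgroup.center ↥(cC z P)) ∧
      Nat.card ↥(Subgroup.center ↥(cC z P)) = 6 ∧
      Cfsg.Spor.IsoM22 (↥(cC z P) ⧸ Subgroup.center ↥(cC z P)) ∧
      Subgroup.normalizer (P : Set G) ≤ cH z := by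
  have hJ := hC.hJ
  obtain ⟨hzC, hX⟩ := hC.main hgoal
  obtain ⟨f, hf, hk⟩ := exists_hom_C hJ
  have hzK : z ∈ cK z P := Subgroup.mem_sup_left (Subgroup.mem_zpowers z)
  have hcen : Subgroup.center ↥(cC z P) = f.ker := by
    refine le_antisymm (fun c hc => ?_) (fun c hc => ?_)
    · have h1 : f c ∈ Subgroup.center ↥Cfsg.Spor.M22 := Subgroup.mem_center_iff.2 fun m => by
        obtain ⟨b, rfl⟩ := hf m
        rw [← map_mul, ← map_mul, Subgroup.mem_center_iff.1 hc b]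
      rw [center_m22, Subgroup.mem_bot] at h1
      exact h1
    · rw [hk, Subgroup.mem_subgroupOf] at hc
      exact Subgroup.mem_center_iff.2 fun b => Subtype.ext (K_comm hJ hc b.2).symm
  refine ⟨?_, ?_, ?_, ?_, ?_⟩
  · refine le_antisymm (Subgroup.commutator_le.2 fun a ha b hb => ?_) fun c hc => ?_
    · rw [commutatorElement_def]
      exact mul_mem (mul_mem (mul_mem ha hb) (inv_mem ha)) (inv_mem hb)
    · have hKle : cK z P ≤ ⁅cC z P, cC z P⁆ :=
        sup_le (Subgroup.zpowers_le.2 hzC) (P_le_commutator hJ)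
      have htop : (⁅(⊤ : Subgroup ↥(cC z P)), (⊤ : Subgroup ↥(cC z P))⁆ : Subgroup ↥(cC z P)).map f = ⊤ := by
        rw [Subgroup.map_commutator, Subgroup.map_top_of_surjective f hf]
        exact perfect_m22
      have : f ⟨c, hc⟩ ∈ (⁅(⊤ : Subgroup ↥(cC z P)), (⊤ : Subgroup ↥(cC z P))⁆ : Subgroup ↥(cC z P)).map f := by rw [htop]; trivial
      obtain ⟨d, hd, hdc⟩ := this
      have hker : d⁻¹ * ⟨c, hc⟩ ∈ f.ker := by rw [MonoidHom.mem_ker, map_mul, map_inv, hdc, inv_mul_cancel]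
      rw [hk, Subgroup.mem_subgroupOf] at hker
      have hd' : (d : G) ∈ ⁅cC z P, cC z P⁆ := by
        have h1 : (d : G) ∈ (⁅(⊤ : Subgroup ↥(cC z P)), (⊤ : Subgroup ↥(cC z P))⁆ : Subgroup ↥(cC z P)).map (cC z P).subtype := ⟨d, hd, rfl⟩
        rwa [Subgroup.map_commutator, ← MonoidHom.range_eq_map, Subgroup.range_subtype] at h1
      have := mul_mem hd' (hKle hker)
      rwa [Subgroup.coe_mul, Subgroup.coe_inv, mul_inv_cancel_left] at this
  · have hzp : orderOf (z * p) = 6 := by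
      have hc : Commute z p := (C_comm_z hC.p_memC).symm
      rw [hc.orderOf_mul_eq_mul_orderOf_of_coprime (by
        rw [orderOf_z hJ, orderOf_eq_prime (p := 3) hC.p_cube hC.p_ne]; decide), orderOf_z hJ,
        orderOf_eq_prime (p := 3) hC.p_cube hC.p_ne]
    have hmem : (⟨z * p, mul_mem hC.z_C hC.p_memC⟩ : ↥(cC z P)) ∈ Subgroup.center ↥(cC z P) := by
      rw [hcen, hk, Subgroup.mem_subgroupOf]
      exact mul_mem hzK (Subgroup.mem_sup_right hC.p_mem)
    refine isCyclic_of_orderOf_eq_card ⟨_, hmem⟩ ?_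
    rw [Subgroup.orderOf_mk, Subgroup.orderOf_mk, hzp, hcen, hk,
      Nat.card_congr (Subgroup.subgroupOfEquivOfLe (K_le_C hJ)).toEquiv, card_K hJ]
  · rw [hcen, hk, Nat.card_congr (Subgroup.subgroupOfEquivOfLe (K_le_C hJ)).toEquiv, card_K hJ]
  · exact ⟨(QuotientGroup.quotientMulEquivOfEq hcen).trans (QuotientGroup.quotientKerEquivOfSurjective f hf)⟩
  · intro h hh
    have hzX : z ∈ Subgroup.centralizer (P : Set G) := z_mem_C_P hJ
    have hconjX : ∀ x ∈ Subgroup.centralizer (P : Set G), ∀ a ∈ Subgroup.normalizer (P : Set G),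
        a * x * a⁻¹ ∈ Subgroup.centralizer (P : Set G) := fun x hx a ha => by
      refine Subgroup.mem_centralizer_iff.2 fun q hq => ?_
      have h1 : a⁻¹ * q * a ∈ P := (Subgroup.mem_normalizer_iff.1 ha _).2 (by simpa [mul_assoc] using hq)
      have h2 := Subgroup.mem_centralizer_iff.1 hx _ h1
      calc q * (a * x * a⁻¹) = a * (a⁻¹ * q * a * x) * a⁻¹ := by group
        _ = a * (x * (a⁻¹ * q * a)) * a⁻¹ := by rw [h2]
        _ = _ := by group
    set z' := h * z * h⁻¹ with hz'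
    have hz'C : z' ∈ cC z P := hX (hconjX z hzX h hh)
    have hz'cen : (⟨z', hz'C⟩ : ↥(cC z P)) ∈ Subgroup.center ↥(cC z P) := by
      refine Subgroup.mem_center_iff.2 fun b => Subtype.ext ?_
      have h1 := C_comm_z (hX (hconjX b b.2.2 h⁻¹ (inv_mem hh)))
      show (b : G) * z' = z' * b
      calc (b : G) * z' = h * ((h⁻¹ * b * h⁻¹⁻¹) * z) * h⁻¹ := by rw [hz']; group
        _ = h * (z * (h⁻¹ * b * h⁻¹⁻¹)) * h⁻¹ := by rw [h1]
        _ = _ := by rw [hz']; group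
    rw [hcen, hk, Subgroup.mem_subgroupOf] at hz'cen
    have hsq : z' * z' = 1 := by
      calc z' * z' = h * (z * z) * h⁻¹ := by rw [hz']; group
        _ = 1 := by rw [z_mul_self hJ]; group
    rcases K_sq_one hJ (show z' ∈ cK z P from hz'cen) hsq with h3 | h3
    · exfalso
      exact z_ne hJ (by
        calc z = h⁻¹ * z' * h := by rw [hz']; group
          _ = 1 := by rw [h3]; group)
    · exact mem_cH.2 (mul_inv_eq_iff_eq_mul.1 h3)

end CfsgLib.J4Local
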