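import Mathlib

/-!
Elementary counting for conjugation actions: fixed elements, fixed cosets, orbits of a group of
order 27.
-/

set_option autoImplicit false

namespace CfsgLib.J4Local.FixMod

variable {G : Type*} [Group G]

/-- The elements commuting with `X` modulo `K` in `D`. -/
def FixedMod (K : Subgroup G) (Q : Set G) (e : G) : Prop := ∀ q ∈ Q, q * e * q⁻¹ * e⁻¹ ∈ K

theorem conj_mem {Q D : Subgroup G} (h : Q ≤ Subgroup.normalizer (D : Set G)) {q e : G} (hq : q ∈ Q)
    (he : e ∈ D) : q * e * q⁻¹ ∈ D :=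
  (Subgroup.mem_normalizer_iff.1 (h hq) e).1 he

/-- Conjugation of a normalised subgroup. -/
abbrev conjAct (Q D : Subgroup G) (h : Q ≤ Subgroup.normalizer (D : Set G)) :
    MulAction ↥Q ↥D where
  smul q e := ⟨q * e * (q : G)⁻¹, conj_mem h q.2 e.2⟩
  one_smul e := Subtype.ext (show (1 : G) * e * (1 : G)⁻¹ = e by group)
  mul_smul q r e := Subtype.ext (show (q * r : G) * e * ((q : G) * r)⁻¹ = q * (r * e * (r : G)⁻¹) * (q : G)⁻¹
    by group)

theorem card_modEq_centralizer [Finite G] {p : ℕ} [Fact p.Prime] {Q D : Subgroup G}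
    (hQ : IsPGroup p Q) (h : Q ≤ Subgroup.normalizer (D : Set G)) :
    Nat.card D ≡ Nat.card ↥(D ⊓ Subgroup.centralizer (Q : Set G)) [MOD p] := by
  letI := conjAct Q D h
  refine (hQ.card_modEq_card_fixedPoints ↥D).trans ?_
  have : Nat.card (MulAction.fixedPoints ↥Q ↥D) =
      Nat.card ↥(D ⊓ Subgroup.centralizer (Q : Set G)) := by
    refine Nat.card_congr
      { toFun := fun e => ⟨e.1.1, e.1.2, Subgroup.mem_centralizer_iff.2 fun q hq => ?_⟩
        invFun := fun e => ⟨⟨e.1, e.2.1⟩, fun q => Subtype.ext ?_⟩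
        left_inv := fun _ => rfl
        right_inv := fun _ => rfl }
    · have := congrArg Subtype.val (e.2 ⟨q, hq⟩)
      change q * e.1.1 * q⁻¹ = e.1.1 at this
      conv_rhs => rw [← this]
      group
    · show (q : G) * e.1 * (q : G)⁻¹ = e.1
      rw [Subgroup.mem_centralizer_iff.1 e.2.2 q q.2, mul_inv_cancel_right]
  rw [this]

/-- A coset of a subgroup of order prime to `p`, fixed by a `p`-group, contains a fixed element. -/
theorem exists_fixed_mul [Finite G] {p : ℕ} [Fact p.Prime] {Q K : Subgroup G} (hQ : IsPGroup p Q)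
    (hK : Q ≤ Subgroup.normalizer (K : Set G)) (hp : ¬ p ∣ Nat.card K) {e : G}
    (he : FixedMod K (Q : Set G) e) : ∃ k ∈ K, k * e ∈ Subgroup.centralizer (Q : Set G) := by
  have hmem : ∀ q ∈ Q, ∀ k ∈ K, q * (k * e) * q⁻¹ * e⁻¹ ∈ K := fun q hq k hk => by
    have : q * (k * e) * q⁻¹ * e⁻¹ = (q * k * q⁻¹) * (q * e * q⁻¹ * e⁻¹) := by group
    rw [this]
    exact mul_mem (conj_mem hK hq hk) (he q hq)
  letI : MulAction ↥Q ↥K :=
    { smul := fun q k => ⟨_, hmem q q.2 k k.2⟩
      one_smul := fun k => Subtype.ext (show (1 : G) * (k * e) * (1 : G)⁻¹ * e⁻¹ = k by group)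
      mul_smul := fun q r k => Subtype.ext
        (show (q * r : G) * (k * e) * ((q : G) * r)⁻¹ * e⁻¹ =
          (q : G) * ((r * (k * e) * (r : G)⁻¹ * e⁻¹) * e) * (q : G)⁻¹ * e⁻¹ by group) }
  obtain ⟨k, hk⟩ := hQ.nonempty_fixed_point_of_prime_not_dvd_card ↥K hp
  refine ⟨k, k.2, Subgroup.mem_centralizer_iff.2 fun q hq => ?_⟩
  have := congrArg Subtype.val (hk ⟨q, hq⟩)
  change q * (k.1 * e) * q⁻¹ * e⁻¹ = k.1 at this
  have h2 : q * (k.1 * e) * q⁻¹ = k.1 * e := by
    calc q * (k.1 * e) * q⁻¹ = (q * (k.1 * e) * q⁻¹ * e⁻¹) * e := by group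
      _ = k.1 * e := by rw [this]
  calc q * (k.1 * e) = (q * (k.1 * e) * q⁻¹) * q := by group
    _ = k.1 * e * q := by rw [h2]

/-- If no element outside `K` is fixed modulo `K`, then the index is one modulo `p`. -/
theorem relIndex_modEq_one [Finite G] {p : ℕ} [Fact p.Prime] {Q D K : Subgroup G}
    (hQ : IsPGroup p Q) (hD : Q ≤ Subgroup.normalizer (D : Set G))
    (hK : Q ≤ Subgroup.normalizer (K : Set G))
    (hKD : D ≤ Subgroup.normalizer (K : Set G))
    (hfix : ∀ e ∈ D, FixedMod K (Q : Set G) e → e ∈ K) :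
    K.relIndex D ≡ 1 [MOD p] := by
  letI : MulAction ↥Q (↥D ⧸ K.subgroupOf D) :=
    { smul := fun q => Quotient.map' (fun e => (⟨q * e * (q : G)⁻¹, conj_mem hD q.2 e.2⟩ : ↥D))
        fun a b hab => by
          rw [QuotientGroup.leftRel_apply, Subgroup.mem_subgroupOf] at hab ⊢
          have := conj_mem hK q.2 hab
          simpa [mul_assoc] using this
      one_smul := fun x => Quotient.inductionOn' x fun e => congrArg Quotient.mk''
        (Subtype.ext (show (1 : G) * e * (1 : G)⁻¹ = e by group))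
      mul_smul := fun q r x => Quotient.inductionOn' x fun e => congrArg Quotient.mk''
        (Subtype.ext (show (q * r : G) * e * ((q : G) * r)⁻¹ =
          q * (r * e * (r : G)⁻¹) * (q : G)⁻¹ by group)) }
  have h := hQ.card_modEq_card_fixedPoints (↥D ⧸ K.subgroupOf D)
  have h1 : Nat.card (MulAction.fixedPoints ↥Q (↥D ⧸ K.subgroupOf D)) = 1 := by
    rw [Nat.card_eq_one_iff_unique]
    refine ⟨⟨fun a b => ?_⟩, ⟨⟨Quotient.mk'' 1, fun q => congrArg Quotient.mk''
      (Subtype.ext (show (q : G) * 1 * (q : G)⁻¹ = 1 by group))⟩⟩⟩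
    suffices H : ∀ x : MulAction.fixedPoints ↥Q (↥D ⧸ K.subgroupOf D), x.1 = Quotient.mk'' 1 from
      Subtype.ext ((H a).trans (H b).symm)
    rintro ⟨x, hx⟩
    induction x using Quotient.inductionOn' with
    | h e =>
      refine Quotient.sound' ?_
      rw [QuotientGroup.leftRel_apply, Subgroup.mem_subgroupOf, Subgroup.coe_mul, Subgroup.coe_inv,
        Subgroup.coe_one, mul_one]
      refine inv_mem (hfix e e.2 fun q hq => ?_)
      have := Quotient.exact' (hx ⟨q, hq⟩)
      rw [QuotientGroup.leftRel_apply, Subgroup.mem_subgroupOf] at this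
      change (q * (e : G) * q⁻¹)⁻¹ * e ∈ K at this
      have h2 := (Subgroup.mem_normalizer_iff.1 (hKD e.2) _).1 (inv_mem this)
      simpa [mul_assoc] using h2
  rw [h1] at h
  exact h

/-- A nonabelian group of order 27 acting by conjugation: the elements outside the centraliser of
its centre fall into orbits of length divisible by nine. -/
theorem nine_dvd [Finite G] {R P D K : Subgroup G} (hR : Nat.card R = 27) (hPR : P ≤ R)
    (hP : Nat.card P = 3) (hna : ¬ IsMulCommutative R)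
    (hPc : ∀ r ∈ R, ∀ p ∈ P, r * p = p * r)
    (hD : R ≤ Subgroup.normalizer (D : Set G)) (hK : R ≤ Subgroup.normalizer (K : Set G))
    (hKD : K ≤ D) (hfpf : ∀ e ∈ D, (∀ p ∈ P, p * e = e * p) → e ∈ K) :
    9 ∣ Nat.card D - Nat.card K := by
  classical
  haveI : Fact (Nat.Prime 3) := ⟨Nat.prime_three⟩
  let X := {e : G // e ∈ D ∧ e ∉ K}
  have hmem : ∀ r ∈ R, ∀ e : G, e ∈ D ∧ e ∉ K → r * e * r⁻¹ ∈ D ∧ r * e * r⁻¹ ∉ K := fun r hr e he =>
    ⟨conj_mem hD hr he.1, fun hc => he.2 ((Subgroup.mem_normalizer_iff.1 (hK hr) e).2 hc)⟩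
  letI : MulAction ↥R X :=
    { smul := fun r e => ⟨_, hmem r r.2 e e.2⟩
      one_smul := fun e => Subtype.ext (show (1 : G) * e * (1 : G)⁻¹ = e by group)
      mul_smul := fun r t e => Subtype.ext (show (r * t : G) * e * ((r : G) * t)⁻¹ =
        r * (t * e * (t : G)⁻¹) * (r : G)⁻¹ by group) }
  have hc : Nat.card (Subgroup.center ↥R) ∣ 3 := by
    have h1 := Subgroup.card_subgroup_dvd_card (Subgroup.center ↥R)
    rw [hR, show 27 = 3 ^ 3 from rfl, Nat.dvd_prime_pow Nat.prime_three] at h1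
    obtain ⟨i, hi, e⟩ := h1
    have hi2 : i ≤ 1 := by
      by_contra hlt
      refine hna ?_
      have hidx := (Subgroup.center ↥R).card_mul_index
      rw [e, hR] at hidx
      have : IsCyclic (↥R ⧸ Subgroup.center ↥R) := by
        interval_cases i
        · exact isCyclic_of_prime_card (p := 3) (by rw [← Subgroup.index_eq_card]; omega)
        · have : Subsingleton (↥R ⧸ Subgroup.center ↥R) := by
            have : (Subgroup.center ↥R).index = 1 := by omega
            rw [Subgroup.index_eq_card, Nat.card_eq_one_iff_unique] at this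
            exact this.1
          exact isCyclic_of_subsingleton
      exact ⟨⟨commutative_of_cyclic_center_quotient (QuotientGroup.mk' (Subgroup.center ↥R))
        (QuotientGroup.ker_mk' _).le⟩⟩
    rw [e]
    interval_cases i <;> norm_num
  have hPz : P.subgroupOf R = Subgroup.center ↥R := by
    have hle : P.subgroupOf R ≤ Subgroup.center ↥R := fun p hp =>
      Subgroup.mem_center_iff.2 fun r => Subtype.ext (hPc r r.2 p hp)
    refine Subgroup.eq_of_le_of_card_ge hle ?_
    rw [Nat.card_congr (Subgroup.subgroupOfEquivOfLe hPR).toEquiv, hP]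
    exact Nat.le_of_dvd (by norm_num) hc
  have horb : ∀ e : X, 9 ∣ Nat.card (MulAction.orbit ↥R e) := by
    intro e
    have h1 := MulAction.index_stabilizer ↥R e
    have h2 := (MulAction.stabilizer ↥R e).card_mul_index
    rw [h1, ← Nat.card_coe_set_eq, hR] at h2
    set S := MulAction.stabilizer ↥R e with hS
    have hd : Nat.card S ∣ 27 := Dvd.intro _ h2
    have hS3 : Nat.card S ≤ 3 := by
      by_contra hlt
      rw [show 27 = 3 ^ 3 from rfl, Nat.dvd_prime_pow Nat.prime_three] at hd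
      obtain ⟨i, hi, ei⟩ := hd
      have hnorm : S.Normal := by
        interval_cases i <;> try omega
        · refine Subgroup.normal_of_index_eq_minFac_card ?_
          have := S.card_mul_index
          rw [ei, hR] at this
          rw [hR, show S.index = 3 by omega]
          norm_num
        · rw [Subgroup.eq_top_of_card_eq S (by rw [ei, hR]; norm_num)]
          exact Subgroup.normal_top
      have hR3 : IsPGroup 3 ↥R := IsPGroup.of_card (n := 3) (by rw [hR]; norm_num)
      have hne2 : S ⊓ Subgroup.center ↥R ≠ ⊥ := fun hb => by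
        have h3 := card_modEq_centralizer (D := S) (hR3.to_subgroup ⊤)
          (by rw [Subgroup.normalizer_eq_top_iff.2 hnorm])
        rw [Subgroup.coe_top, Subgroup.centralizer_univ, hb, Subgroup.card_bot, ei] at h3
        interval_cases i <;> first | omega | norm_num [Nat.ModEq] at h3
      obtain ⟨w, hw, hw1⟩ := (Subgroup.bot_or_exists_ne_one _).resolve_left hne2
      refine e.2.2 (hfpf e e.2.1 fun p hp => ?_)
      have hcP : Nat.card ↥(P.subgroupOf R) = 3 := by
        rw [Nat.card_congr (Subgroup.subgroupOfEquivOfLe hPR).toEquiv, hP]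
      have hwp : w ∈ P.subgroupOf R := hPz.symm ▸ hw.2
      have hall : Subgroup.zpowers w = P.subgroupOf R := by
        refine Subgroup.eq_of_le_of_card_ge (Subgroup.zpowers_le.2 hwp) ?_
        rw [hcP, Nat.card_zpowers]
        have hdvd := Subgroup.orderOf_dvd_natCard _ hwp
        rw [hcP, Nat.dvd_prime Nat.prime_three] at hdvd
        rcases hdvd with h | h
        · exact absurd (orderOf_eq_one_iff.1 h) hw1
        · exact h.ge
      have hpS : (⟨p, hPR hp⟩ : ↥R) ∈ S := by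
        have : (⟨p, hPR hp⟩ : ↥R) ∈ P.subgroupOf R := hp
        rw [← hall] at this
        exact Subgroup.zpowers_le.2 hw.1 this
      have := congrArg Subtype.val hpS
      change p * e.1 * p⁻¹ = e.1 at this
      calc p * e.1 = (p * e.1 * p⁻¹) * p := by group
        _ = e.1 * p := by rw [this]
    rw [show 27 = 3 ^ 3 from rfl, Nat.dvd_prime_pow Nat.prime_three] at hd
    obtain ⟨i, hi, ei⟩ := hd
    rw [ei] at hS3 h2
    interval_cases i
    · exact ⟨3, by omega⟩
    · exact ⟨1, by omega⟩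
    · omega
    · omega
  have hX : Nat.card X + Nat.card K = Nat.card D := by
    rw [← Nat.card_sum]
    exact Nat.card_congr
      { toFun := Sum.elim (fun e => ⟨e.1, e.2.1⟩) (fun k => ⟨k.1, hKD k.2⟩)
        invFun := fun d => if h : (d : G) ∈ K then Sum.inr ⟨d, h⟩ else Sum.inl ⟨d, d.2, h⟩
        left_inv := fun x => by
          rcases x with ⟨e, he⟩ | ⟨k, hk⟩
          · simp [he.2]
          · simp [hk]
        right_inv := fun d => by by_cases h : (d : G) ∈ K <;> simp [h] }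
  haveI : Fintype (MulAction.orbitRel.Quotient ↥R X) := Fintype.ofFinite _
  rw [show Nat.card D - Nat.card K = Nat.card X by omega,
    Nat.card_congr (MulAction.selfEquivSigmaOrbits ↥R X), Nat.card_sigma]
  exact Finset.dvd_sum fun ω _ => horb _

theorem le_normalizer_of_conj {K L : Subgroup G} (h : ∀ k ∈ K, ∀ x ∈ L, k * x * k⁻¹ ∈ L) :
    K ≤ Subgroup.normalizer (L : Set G) := fun k hk => by
  refine Subgroup.mem_normalizer_iff.2 fun x => ⟨h k hk x, fun hx => ?_⟩
  have := h k⁻¹ (inv_mem hk) _ hx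
  simpa [mul_assoc] using this

/-- The elements of `D` fixed modulo `K` by all elements of `S`. -/
def fixedSub (D K : Subgroup G) (h : D ≤ Subgroup.normalizer (K : Set G)) (S : Set G) :
    Subgroup G where
  carrier := {e | e ∈ D ∧ FixedMod K S e}
  one_mem' := ⟨one_mem _, fun q _ => by simp [one_mem]⟩
  mul_mem' := by
    rintro e f ⟨he, he'⟩ ⟨hf, hf'⟩
    refine ⟨mul_mem he hf, fun q hq => ?_⟩
    rw [show q * (e * f) * q⁻¹ * (e * f)⁻¹ =
      (q * e * q⁻¹ * e⁻¹) * (e * (q * f * q⁻¹ * f⁻¹) * e⁻¹) by group]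
    exact mul_mem (he' q hq) (conj_mem h he (hf' q hq))
  inv_mem' := by
    rintro e ⟨he, he'⟩
    refine ⟨inv_mem he, fun q hq => ?_⟩
    rw [show q * e⁻¹ * q⁻¹ * e⁻¹⁻¹ = (e⁻¹ * (q * e * q⁻¹ * e⁻¹) * e⁻¹⁻¹)⁻¹ by group]
    exact inv_mem (conj_mem h (inv_mem he) (he' q hq))

theorem mem_fixedSub {D K : Subgroup G} {h : D ≤ Subgroup.normalizer (K : Set G)} {S : Set G}
    {e : G} : e ∈ fixedSub D K h S ↔ e ∈ D ∧ FixedMod K S e := Iff.rfl

theorem fixedSub_le {D K : Subgroup G} {h : D ≤ Subgroup.normalizer (K : Set G)} {S : Set G} :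
    fixedSub D K h S ≤ D := fun _ he => he.1

theorem conj_fixedSub {D K : Subgroup G} {h : D ≤ Subgroup.normalizer (K : Set G)} {S S' : Set G}
    {n e : G} (hnD : n ∈ Subgroup.normalizer (D : Set G))
    (hnK : n ∈ Subgroup.normalizer (K : Set G)) (hS : ∀ q ∈ S', n⁻¹ * q * n ∈ S)
    (he : e ∈ fixedSub D K h S) : n * e * n⁻¹ ∈ fixedSub D K h S' := by
  refine ⟨(Subgroup.mem_normalizer_iff.1 hnD e).1 he.1, fun q hq => ?_⟩
  rw [show q * (n * e * n⁻¹) * q⁻¹ * (n * e * n⁻¹)⁻¹ =
    n * ((n⁻¹ * q * n) * e * (n⁻¹ * q * n)⁻¹ * e⁻¹) * n⁻¹ by group]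
  exact (Subgroup.mem_normalizer_iff.1 hnK _).1 (he.2 _ (hS q hq))

/-- The elements normalising `D` and `K` and acting trivially on the cosets of `K` in `D`. -/
def fixer (D K : Subgroup G) : Subgroup G where
  carrier := {q | q ∈ Subgroup.normalizer (D : Set G) ∧ q ∈ Subgroup.normalizer (K : Set G) ∧
    ∀ e ∈ D, q * e * q⁻¹ * e⁻¹ ∈ K}
  one_mem' := ⟨one_mem _, one_mem _, fun e _ => by simp [one_mem]⟩
  mul_mem' := by
    rintro q r ⟨hqD, hqK, hq⟩ ⟨hrD, hrK, hr⟩
    refine ⟨mul_mem hqD hrD, mul_mem hqK hrK, fun e he => ?_⟩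
    rw [show q * r * e * (q * r)⁻¹ * e⁻¹ =
      (q * (r * e * r⁻¹) * q⁻¹ * (r * e * r⁻¹)⁻¹) * (r * e * r⁻¹ * e⁻¹) by group]
    exact mul_mem (hq _ ((Subgroup.mem_normalizer_iff.1 hrD e).1 he)) (hr e he)
  inv_mem' := by
    rintro q ⟨hqD, hqK, hq⟩
    refine ⟨inv_mem hqD, inv_mem hqK, fun e he => ?_⟩
    have := hq _ ((Subgroup.mem_normalizer_iff.1 (inv_mem hqD) e).1 he)
    rw [show q * (q⁻¹ * e * q⁻¹⁻¹) * q⁻¹ * (q⁻¹ * e * q⁻¹⁻¹)⁻¹ = (q⁻¹ * e * q⁻¹⁻¹ * e⁻¹)⁻¹ by group]
      at this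
    exact inv_mem_iff.1 this

theorem mem_fixer {D K : Subgroup G} {q : G} : q ∈ fixer D K ↔
    q ∈ Subgroup.normalizer (D : Set G) ∧ q ∈ Subgroup.normalizer (K : Set G) ∧
      ∀ e ∈ D, q * e * q⁻¹ * e⁻¹ ∈ K := Iff.rfl

theorem conj_fixer {D K : Subgroup G} {n q : G} (hnD : n ∈ Subgroup.normalizer (D : Set G))
    (hnK : n ∈ Subgroup.normalizer (K : Set G)) (hq : q ∈ fixer D K) :
    n * q * n⁻¹ ∈ fixer D K := by
  refine ⟨mul_mem (mul_mem hnD hq.1) (inv_mem hnD), mul_mem (mul_mem hnK hq.2.1) (inv_mem hnK),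
    fun e he => ?_⟩
  rw [show n * q * n⁻¹ * e * (n * q * n⁻¹)⁻¹ * e⁻¹ =
    n * (q * (n⁻¹ * e * n⁻¹⁻¹) * q⁻¹ * (n⁻¹ * e * n⁻¹⁻¹)⁻¹) * n⁻¹ by group]
  exact (Subgroup.mem_normalizer_iff.1 hnK _).1
    (hq.2.2 _ ((Subgroup.mem_normalizer_iff.1 (inv_mem hnD) e).1 he))

/-- Image of a subgroup and the kernel. -/
theorem card_map_mul_card_inf_ker {M : Type*} [Group M] (f : G →* M) (H : Subgroup G) :
    Nat.card (H.map f) * Nat.card ↥(H ⊓ f.ker) = Nat.card H := by
  have hrange : (f.comp H.subtype).range = H.map f := by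
    rw [MonoidHom.range_eq_map, ← Subgroup.map_map, ← MonoidHom.range_eq_map, Subgroup.range_subtype]
  have hker : Nat.card (f.comp H.subtype).ker = Nat.card ↥(H ⊓ f.ker) := by
    rw [← Subgroup.card_map_of_injective H.subtype_injective]
    refine congrArg (fun L : Subgroup G => Nat.card L) ?_
    ext x
    simp only [Subgroup.mem_map, MonoidHom.mem_ker, Subgroup.mem_inf, MonoidHom.comp_apply]
    exact ⟨fun ⟨y, hy, e⟩ => e ▸ ⟨y.2, hy⟩, fun ⟨hx, hy⟩ => ⟨⟨x, hx⟩, hy, rfl⟩⟩
  rw [← hker, ← hrange, ← Subgroup.index_ker, mul_comm, Subgroup.card_mul_index]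

/-- A central element of an abelian Sylow subgroup which is a product of commutators is trivial. -/
theorem eq_one_of_transfer [Finite G] (R : Subgroup G) (hR : IsMulCommutative R) {u : G}
    (hu : ∀ g, g * u = u * g) (hcomm : u ∈ commutator G)
    (hcop : (orderOf u).Coprime R.index) : u = 1 := by
  letI : CommGroup R := { (inferInstance : Group R) with mul_comm := hR.is_comm.comm }
  have hc : u ∈ Subgroup.center G := Subgroup.mem_center_iff.2 hu
  have h := MonoidHom.transfer_eq_pow (MonoidHom.id R) u (fun k g₀ _ => by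
    rw [Subgroup.mem_center_iff.1 (pow_mem hc k) g₀⁻¹, inv_mul_cancel_right])
  have h0 : MonoidHom.transfer (MonoidHom.id R) u = 1 :=
    MonoidHom.mem_ker.1 (Abelianization.commutator_subset_ker _ hcomm)
  rw [h0] at h
  have h2 : u ^ R.index = 1 := (congrArg Subtype.val h).symm
  exact orderOf_eq_one_iff.1 (Nat.eq_one_of_dvd_one
    (hcop ▸ Nat.dvd_gcd dvd_rfl (orderOf_dvd_of_pow_eq_one h2)))

end CfsgLib.J4Local.FixMod
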