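import Cfsg.Agent.Golay.MathieuFusion
import Cfsg.Agent.J4Local.M22ElemData

/-!
The elementary abelian subgroups of order sixteen in a Sylow 2-subgroup of M₂₂: there are two, and
none larger. Some elements of their normalisers.
-/

set_option autoImplicit false
set_option maxRecDepth 100000

namespace CfsgLib.J4Local.M22Elem

open Cfsg CfsgLib.Golay CfsgLib.Golay.SylowCert

/-- The group. -/
abbrev M : Type := ↥Cfsg.Spor.M22

/-- Two commuting elements of order three generating a group of order nine. -/
def NinePair (x y : M) : Prop :=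
  x ^ 3 = 1 ∧ y ^ 3 = 1 ∧ x * y = y * x ∧ x ≠ 1 ∧ y ≠ 1 ∧ x ≠ y ∧ x ≠ y * y

/-- The subgroup contains a group of order nine. -/
def HasNine (K : Subgroup M) : Prop := ∃ x ∈ K, ∃ y ∈ K, NinePair x y

/-- The properties of the subgroup of the hexad kind, with an element of order five. -/
structure FirstKind (A : Subgroup M) (s : M) : Prop where
  card : Nat.card A = 16
  exp : ∀ a ∈ A, a * a = 1
  trans : ∀ a ∈ A, ∀ b ∈ A, a ≠ 1 → b ≠ 1 →
    ∃ g ∈ Subgroup.normalizer (A : Set M), g * a * g⁻¹ = b
  nine : HasNine (Subgroup.normalizer (A : Set M))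
  five_mem : s ∈ Subgroup.normalizer (A : Set M)
  five : orderOf s = 5
  five_nine : HasNine (Subgroup.closure {z | ∃ g ∈ Subgroup.normalizer (A : Set M), z = g * s * g⁻¹})

/-- The properties of the subgroup of the other kind, with elements of orders five and four. -/
structure SecondKind (B : Subgroup M) (t y : M) : Prop where
  card : Nat.card B = 16
  exp : ∀ b ∈ B, b * b = 1
  gen : ∃ g : M, HasNine (B ⊔ B.map (MulAut.conj g).toMonoidHom)
  five_mem : t ∈ Subgroup.normalizer (B : Set M)
  five : orderOf t = 5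
  four_mem : y ∈ Subgroup.normalizer (B : Set M)
  four : y ^ 4 = 1
  square : y * t * y⁻¹ = t * t

/-- The position list of an element. -/
def toL (g : M) : List Nat := toList g.1

theorem toL_mul (g h : M) : toL (g * h) = compL (toL g) (toL h) := toList_mul _ _

theorem toL_inv (g : M) : toL g⁻¹ = invL (toL g) := toList_inv _

theorem toL_one : toL (1 : M) = List.range 24 := toList_one

theorem toL_injective : Function.Injective toL := fun _ _ h => Subtype.ext (toList_injective h)

/-- The element of a position list. -/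
noncomputable def el (L : List Nat) : M := if h : In22 L then ⟨permL L, permL_mem_M22 h⟩ else 1

theorem toL_el {L : List Nat} (h : In22 L) : toL (el L) = L := by
  rw [el, dif_pos h]
  exact toList_permL h.1 h.2.1

/-- The product of the elements named by a word. -/
def wordP (gs : List M) (w : List Nat) : M := (w.map fun i => gs.getD i 1).prod

/-- The same on position lists. -/
def wordL (ls : List (List Nat)) : List Nat → List Nat
  | [] => List.range 24
  | i :: w => compL (ls.getD i (List.range 24)) (wordL ls w)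

theorem toL_wordP (gs : List M) : ∀ w, toL (wordP gs w) = wordL (gs.map toL) w
  | [] => toL_one
  | i :: w => by
    have h := toL_wordP gs w
    simp only [wordP, List.map_cons, List.prod_cons] at h ⊢
    rw [toL_mul, h, wordL, ← toL_one, List.getD_map]

theorem wordP_mem {K : Subgroup M} {gs : List M} (h : ∀ g ∈ gs, g ∈ K) (w : List Nat) :
    wordP gs w ∈ K := by
  refine list_prod_mem fun g hg => ?_
  obtain ⟨i, -, rfl⟩ := List.mem_map.1 hg
  rcases lt_or_ge i gs.length with hi | hi
  · rw [List.getD_eq_getElem _ _ hi]; exact h _ (List.getElem_mem _)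
  · rw [List.getD_eq_default _ _ hi]; exact one_mem _

theorem eq_of_toL {g h : M} {L L' : List Nat} (hg : toL g = L) (hh : toL h = L') (e : L = L') :
    g = h :=
  toL_injective (hg.trans (e.trans hh.symm))

theorem ne_of_toL {g h : M} {L L' : List Nat} (hg : toL g = L) (hh : toL h = L') (e : L ≠ L') :
    g ≠ h := fun he => e (hg.symm.trans ((congrArg toL he).trans hh))

/-- The conditions of a nine pair on position lists. -/
def NineL (X Y : List Nat) : Prop :=
  compL X (compL X X) = List.range 24 ∧ compL Y (compL Y Y) = List.range 24 ∧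
    compL X Y = compL Y X ∧ X ≠ List.range 24 ∧ Y ≠ List.range 24 ∧ X ≠ Y ∧ X ≠ compL Y Y

instance (X Y : List Nat) : Decidable (NineL X Y) := by unfold NineL; infer_instance

theorem ninePair_of {x y : M} {X Y : List Nat} (hx : toL x = X) (hy : toL y = Y)
    (h : NineL X Y) : NinePair x y := by
  obtain ⟨h1, h2, h3, h4, h5, h6, h7⟩ := h
  refine ⟨?_, ?_, ?_, ne_of_toL hx toL_one h4, ne_of_toL hy toL_one h5, ne_of_toL hx hy h6,
    ne_of_toL hx (by rw [toL_mul, hy]) h7⟩
  · exact eq_of_toL (by rw [pow_succ', pow_two, toL_mul, toL_mul, hx]) toL_one h1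
  · exact eq_of_toL (by rw [pow_succ', pow_two, toL_mul, toL_mul, hy]) toL_one h2
  · exact eq_of_toL (by rw [toL_mul, hx, hy]) (by rw [toL_mul, hx, hy]) h3

/-! ### The subgroups -/

/-- The subgroup of a series inside the group. -/
noncomputable def sub (gs : List (List Nat)) : Subgroup M :=
  (pcGroup gs gs.length).subgroupOf Cfsg.Spor.M22

theorem mem_sub {gs : List (List Nat)} (h : PcOK gs) (g : M) :
    g ∈ sub gs ↔ toL g ∈ els gs gs.length := by
  rw [sub, Subgroup.mem_subgroupOf]
  exact mem_pcGroup h _ le_rfl _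

theorem card_sub {gs : List (List Nat)} (h : PcOK gs) (hin : ∀ L ∈ gs, In22 L) :
    Nat.card (sub gs) = 2 ^ gs.length := by
  rw [sub, Nat.card_congr (Subgroup.subgroupOfEquivOfLe
    (pcGroup_le h fun L hL => permL_mem_M22 (hin L hL))).toEquiv, card_pcGroup h _ le_rfl]

theorem exp_sub {gs : List (List Nat)} (h : PcOK gs)
    (hc : ∀ L ∈ els gs gs.length, compL L L = List.range 24) (a : M) (ha : a ∈ sub gs) :
    a * a = 1 :=
  eq_of_toL (toL_mul a a) toL_one (hc _ ((mem_sub h a).1 ha))

/-- Conjugation of position lists. -/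
def conjL (G L : List Nat) : List Nat := compL (compL G L) (invL G)

theorem toL_conj (g a : M) : toL (g * a * g⁻¹) = conjL (toL g) (toL a) := by
  rw [toL_mul, toL_mul, toL_inv]; rfl

theorem mem_normalizer {gs : List (List Nat)} (h : PcOK gs) {g : M} {G : List Nat} (hg : toL g = G)
    (hc : ∀ L ∈ els gs gs.length, conjL G L ∈ els gs gs.length) :
    g ∈ Subgroup.normalizer (sub gs : Set M) := by
  have h1 : ∀ a ∈ sub gs, g * a * g⁻¹ ∈ sub gs := fun a ha =>
    (mem_sub h _).2 (by rw [toL_conj, hg]; exact hc _ ((mem_sub h a).1 ha))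
  have h2 : (sub gs).map (MulAut.conj g).toMonoidHom = sub gs := by
    refine Subgroup.eq_of_le_of_card_ge ?_ (le_of_eq ?_)
    · rintro _ ⟨a, ha, rfl⟩; exact h1 a ha
    · exact (Subgroup.card_map_of_injective (MulEquiv.injective (MulAut.conj g))).symm
  rw [Subgroup.mem_normalizer_iff]
  refine fun a => ⟨h1 a, fun ha => ?_⟩
  rw [← h2] at ha
  obtain ⟨b, hb, e⟩ := ha
  have : b = a := by
    have := e
    simp only [MulEquiv.coe_toMonoidHom, MulAut.conj_apply, mul_left_inj, mul_right_inj] at this
    exact this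
  exact this ▸ hb

theorem pcA : PcOK sixteenA := by decide +kernel
theorem pcB : PcOK sixteenB := by decide +kernel
theorem inA : ∀ L ∈ sixteenA, In22 L := by decide +kernel
theorem inB : ∀ L ∈ sixteenB, In22 L := by decide +kernel

/-- The list of the first subgroup. -/
abbrev elsA : List (List Nat) := els sixteenA sixteenA.length
/-- The list of the second subgroup. -/
abbrev elsB : List (List Nat) := els sixteenB sixteenB.length
/-- The list of the Sylow subgroup. -/
abbrev elsT : List (List Nat) := els m22Pc m22Pc.length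

theorem invT_ok : elsT.all (fun L => !(compL L L == List.range 24) || L == List.range 24 || invT.contains L)
    = true := by decide +kernel

theorem invOut_ok : invT.all (fun L => elsA.contains L || elsB.contains L || invOut.contains L) = true := by
  decide +kernel

theorem move_in : ∀ G ∈ moveA, In22 G := by decide +kernel

theorem move_norm : ∀ G ∈ moveA, ∀ K ∈ elsA, conjL G K ∈ elsA := by decide +kernel

theorem move_cover : ∀ L ∈ elsA, L = List.range 24 ∨ L ∈ moveA.map fun G => conjL G (elsA.getD 1 []) := by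
  decide +kernel

theorem move_ok (L : List Nat) (hL : L ∈ elsA) (h1 : L ≠ List.range 24) : ∃ G ∈ moveA, In22 G ∧
    (∀ K ∈ elsA, conjL G K ∈ elsA) ∧ conjL G (elsA.getD 1 []) = L := by
  obtain ⟨G, hG, e⟩ := List.mem_map.1 ((move_cover L hL).resolve_left h1)
  exact ⟨G, hG, move_in G hG, move_norm G hG, e⟩

theorem elsA_one : elsA.getD 1 [] ∈ elsA ∧ elsA.getD 1 [] ≠ List.range 24 := by decide +kernel

/-- The first subgroup. -/
noncomputable abbrev subA : Subgroup M := sub sixteenA
/-- The second subgroup. -/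
noncomputable abbrev subB : Subgroup M := sub sixteenB
/-- The element of order five of the first normaliser. -/
noncomputable abbrev elFA : M := el fiveA
/-- The element of order five of the second normaliser. -/
noncomputable abbrev elFB : M := el fiveB

theorem inElts : In22 nineX ∧ In22 nineY ∧ In22 fiveA ∧ In22 twistA ∧ In22 fiveB ∧ In22 fourB ∧
    In22 fusB ∧ In22 twistB := by decide +kernel

theorem normA : (∀ L ∈ elsA, conjL nineX L ∈ elsA) ∧ (∀ L ∈ elsA, conjL nineY L ∈ elsA) ∧
    (∀ L ∈ elsA, conjL fiveA L ∈ elsA) ∧ ∀ L ∈ elsA, conjL twistA L ∈ elsA := by decide +kernel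

theorem normB : (∀ L ∈ elsB, conjL fiveB L ∈ elsB) ∧ ∀ L ∈ elsB, conjL fourB L ∈ elsB := by
  decide +kernel

theorem orderOf_el {L : List Nat} (h : In22 L) (h5 : wordL [L] [0, 0, 0, 0, 0] = List.range 24)
    (h1 : L ≠ List.range 24) : orderOf (el L) = 5 := by
  haveI : Fact (Nat.Prime 5) := ⟨Nat.prime_five⟩
  refine orderOf_eq_prime ?_ (ne_of_toL (toL_el h) toL_one h1)
  have e : el L ^ 5 = wordP [el L] [0, 0, 0, 0, 0] := by simp [wordP, pow_succ, mul_assoc]
  refine eq_of_toL ?_ toL_one h5
  rw [e, toL_wordP]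
  simp [toL_el h]

theorem firstKind : FirstKind subA elFA := by
  obtain ⟨hx, hy, hs, hg, -, -, -, -⟩ := inElts
  obtain ⟨nx, ny, ns, ng⟩ := normA
  refine ⟨card_sub pcA inA, exp_sub pcA (by decide +kernel), ?_,
    ⟨el nineX, mem_normalizer pcA (toL_el hx) nx, el nineY, mem_normalizer pcA (toL_el hy) ny,
      ninePair_of (toL_el hx) (toL_el hy) (by decide +kernel)⟩,
    mem_normalizer pcA (toL_el hs) ns, orderOf_el hs (by decide +kernel) (by decide +kernel), ?_⟩
  · intro a ha b hb ha1 hb1
    obtain ⟨G, -, hG, nG, eG⟩ := move_ok _ ((mem_sub pcA a).1 ha) (fun e => ha1 (eq_of_toL e toL_one rfl))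
    obtain ⟨K, -, hK, nK, eK⟩ := move_ok _ ((mem_sub pcA b).1 hb) (fun e => hb1 (eq_of_toL e toL_one rfl))
    have hga : el G ∈ Subgroup.normalizer (subA : Set M) := mem_normalizer pcA (toL_el hG) nG
    have hgb : el K ∈ Subgroup.normalizer (subA : Set M) := mem_normalizer pcA (toL_el hK) nK
    obtain ⟨σ, hσ, hσL⟩ := exists_of_mem_els pcA _ le_rfl _ elsA_one.1
    let c : M := ⟨σ, pcGroup_le pcA (fun L hL => permL_mem_M22 (inA L hL)) hσ⟩
    have e1 : el G * c * (el G)⁻¹ = a :=
      eq_of_toL (toL_conj _ _) rfl (by rw [toL_el hG, show toL c = _ from hσL]; exact eG)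
    have e2 : el K * c * (el K)⁻¹ = b :=
      eq_of_toL (toL_conj _ _) rfl (by rw [toL_el hK, show toL c = _ from hσL]; exact eK)
    refine ⟨el K * (el G)⁻¹, mul_mem hgb (inv_mem hga), ?_⟩
    rw [← e1, ← e2]
    group
  · set N := Subgroup.normalizer (subA : Set M)
    have hgs : ∀ g ∈ [elFA, el twistA * elFA * (el twistA)⁻¹],
        g ∈ Subgroup.closure {z | ∃ g ∈ N, z = g * elFA * g⁻¹} := by
      intro g hg'
      refine Subgroup.subset_closure ?_
      simp only [List.mem_cons, List.not_mem_nil, or_false] at hg'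
      rcases hg' with rfl | rfl
      · exact ⟨1, one_mem _, by simp⟩
      · exact ⟨el twistA, mem_normalizer pcA (toL_el hg) ng, rfl⟩
    refine ⟨_, wordP_mem hgs wordAX, _, wordP_mem hgs wordAY,
      ninePair_of (toL_wordP _ _) (toL_wordP _ _) ?_⟩
    simp only [List.map_cons, List.map_nil, toL_conj, toL_el hs, toL_el hg]
    decide +kernel

theorem secondKind : SecondKind subB elFB (el fourB) := by
  obtain ⟨-, -, -, -, hs, hy, -, hg⟩ := inElts
  refine ⟨card_sub pcB inB, exp_sub pcB (by decide +kernel), ⟨el twistB, ?_⟩,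
    mem_normalizer pcB (toL_el hs) normB.1, orderOf_el hs (by decide +kernel) (by decide +kernel),
    mem_normalizer pcB (toL_el hy) normB.2, ?_, ?_⟩
  · set K := subB ⊔ subB.map (MulAut.conj (el twistB)).toMonoidHom
    have hgs : ∀ g ∈ sixteenB.map el ++ sixteenB.map (fun L => el twistB * el L * (el twistB)⁻¹),
        g ∈ K := by
      have hB : ∀ L ∈ sixteenB, el L ∈ subB := fun L hL => (mem_sub pcB _).2 (by
        rw [toL_el (inB L hL)]
        exact (by decide +kernel : ∀ L ∈ sixteenB, L ∈ elsB) L hL)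
      intro g hg'
      rcases List.mem_append.1 hg' with h' | h' <;> obtain ⟨L, hL, rfl⟩ := List.mem_map.1 h'
      · exact Subgroup.mem_sup_left (hB L hL)
      · exact Subgroup.mem_sup_right ⟨el L, hB L hL, rfl⟩
    refine ⟨_, wordP_mem hgs wordBX, _, wordP_mem hgs wordBY,
      ninePair_of (toL_wordP _ _) (toL_wordP _ _) ?_⟩
    have e : (sixteenB.map el ++ sixteenB.map fun L => el twistB * el L * (el twistB)⁻¹).map toL =
        sixteenB ++ sixteenB.map (conjL twistB) := by
      rw [List.map_append, List.map_map, List.map_map]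
      refine congrArg₂ (· ++ ·) ?_ ?_
      · exact (List.map_congr_left fun L hL => toL_el (inB L hL)).trans (List.map_id _)
      · exact List.map_congr_left fun L hL => by
          simp [toL_conj, toL_el hg, toL_el (inB L hL)]
    rw [e]
    decide +kernel
  · refine eq_of_toL (L := wordL [fourB] [0, 0, 0, 0]) ?_ toL_one (by decide +kernel)
    have e : el fourB ^ 4 = wordP [el fourB] [0, 0, 0, 0] := by simp [wordP, pow_succ, mul_assoc]
    rw [e, toL_wordP]
    simp [toL_el hy]
  · exact eq_of_toL (by rw [toL_conj, toL_el hy, toL_el hs]) (by rw [toL_mul, toL_el hs])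
      (by decide +kernel)

theorem fused : ∃ h : M, h * elFB * h⁻¹ = elFA ^ fusK := by
  obtain ⟨-, -, ha, -, hb, -, hh, -⟩ := inElts
  refine ⟨el fusB, eq_of_toL (by rw [toL_conj, toL_el hh, toL_el hb]) ?_
    (by decide +kernel : conjL fusB fiveB = wordL [fiveA] (List.replicate fusK 0))⟩
  have e : elFA ^ fusK = wordP [elFA] (List.replicate fusK 0) := by
    simp [wordP, List.map_replicate, List.prod_replicate]
  rw [e, toL_wordP]
  simp [toL_el ha]

/-! ### Classification -/

/-- A product list. -/
def span (l : List (List Nat)) : List (List Nat) := els l l.length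

theorem out_ok : ∀ a ∈ invOut, ∀ b ∈ invT.filter (fun b => compL a b == compL b a && !(b == a)),
    ∀ c ∈ invT.filter (fun c => compL a c == compL c a && compL b c == compL c b &&
      !(span [a, b]).contains c),
    ∀ d ∈ invT.filter (fun d => compL a d == compL d a && compL b d == compL d b &&
      compL c d == compL d c), d ∈ span [a, b, c] := by
  decide +kernel

theorem classify (D : Subgroup M) (hD : D ≤ sub m22Pc) (hexp : ∀ a ∈ D, a * a = 1)
    (hcard : 16 ≤ Nat.card D) : D = subA ∨ D = subB := by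
  classical
  have hinv : ∀ a ∈ D, a ≠ 1 → toL a ∈ invT := by
    intro a ha ha1
    have h := List.all_eq_true.1 invT_ok _ ((mem_sub pc22 a).1 (hD ha))
    have h1 : compL (toL a) (toL a) = List.range 24 := by rw [← toL_mul, hexp a ha, toL_one]
    have h2 : toL a ≠ List.range 24 := fun e => ha1 (eq_of_toL e toL_one rfl)
    simpa [h1, h2] using h
  have hcomm : ∀ a ∈ D, ∀ b ∈ D, compL (toL a) (toL b) = compL (toL b) (toL a) := by
    intro a ha b hb
    have hi : ∀ x ∈ D, x⁻¹ = x := fun x hx => inv_eq_of_mul_eq_one_right (hexp x hx)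
    rw [← toL_mul, ← toL_mul]
    congr 1
    rw [← hi (a * b) (mul_mem ha hb), mul_inv_rev, hi a ha, hi b hb]
  by_cases hA : D ≤ subA
  · exact Or.inl (Subgroup.eq_of_le_of_card_ge hA (by rw [card_sub pcA inA]; exact hcard))
  by_cases hB : D ≤ subB
  · exact Or.inr (Subgroup.eq_of_le_of_card_ge hB (by rw [card_sub pcB inB]; exact hcard))
  exfalso
  obtain ⟨a, ha, haA, haB⟩ : ∃ a ∈ D, a ∉ subA ∧ a ∉ subB := by
    obtain ⟨u, hu, huA⟩ := Set.not_subset.1 hA
    obtain ⟨v, hv, hvB⟩ := Set.not_subset.1 hB
    by_contra hne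
    push Not at hne
    have huB := hne u hu huA
    have hvA : v ∈ subA := by by_contra hvA; exact hvB (hne v hv hvA)
    have h1 : u * v ∉ subA := fun h => huA ((Subgroup.mul_mem_cancel_right _ hvA).1 h)
    exact hvB ((Subgroup.mul_mem_cancel_left _ huB).1 (hne _ (mul_mem hu hv) h1))
  have ha1 : a ≠ 1 := fun e => haA (e ▸ one_mem _)
  have haO : toL a ∈ invOut := by
    have h := List.all_eq_true.1 invOut_ok _ (hinv a ha ha1)
    simp only [Bool.or_eq_true, List.contains_iff_mem] at h
    exact h.resolve_left (not_or_intro (fun h => haA ((mem_sub pcA a).2 h))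
      fun h => haB ((mem_sub pcB a).2 h))
  have hout : ∀ l : List (List Nat), l.length < 16 → ∃ x ∈ D, toL x ∉ l := by
    intro l hl
    by_contra hne
    push Not at hne
    have h := Nat.card_le_card_of_injective
      (fun x : D => (⟨toL x.1, List.mem_toFinset.2 (hne x.1 x.2)⟩ : l.toFinset))
      (fun x y h => Subtype.ext (toL_injective (congrArg Subtype.val h)))
    rw [Nat.card_eq_fintype_card (α := l.toFinset), Fintype.card_coe] at h
    have := l.toFinset_card_le
    omega
  have one_mem_span : ∀ (l : List (List Nat)) (i : Nat), List.range 24 ∈ els l i := by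
    intro l i
    induction i with
    | zero => simp [els]
    | succ i ih => rw [els, List.mem_append]; exact Or.inl ih
  have ne1 : ∀ {x : M} {l : List (List Nat)}, toL x ∉ span l → x ≠ 1 := fun h e =>
    h (e ▸ toL_one ▸ one_mem_span _ _)
  obtain ⟨b, hb, hb'⟩ := hout [List.range 24, toL a] (by simp)
  obtain ⟨c, hc, hc'⟩ := hout (span [toL a, toL b]) (by simp [span, length_els])
  obtain ⟨d, hd, hd'⟩ := hout (span [toL a, toL b, toL c]) (by simp [span, length_els])
  simp only [List.mem_cons, List.not_mem_nil, or_false, not_or] at hb'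
  have hb1 : b ≠ 1 := fun e => hb'.1 (e ▸ toL_one)
  refine hd' (out_ok _ haO (toL b) ?_ (toL c) ?_ (toL d) ?_)
  · simp [List.mem_filter, hinv b hb hb1, hcomm a ha b hb, hb'.2]
  · simp [List.mem_filter, hinv c hc (ne1 hc'), hcomm a ha c hc, hcomm b hb c hc, hc']
  · simp [List.mem_filter, hinv d hd (ne1 hd'), hcomm a ha d hd, hcomm b hb d hd, hcomm c hc d hd]

/-- The two kinds of elementary abelian subgroups of order sixteen. -/
theorem exists_sixteen : ∃ (T : Sylow 2 M) (A B : Subgroup M) (s t y : M),
    FirstKind A s ∧ SecondKind B t y ∧ A ≤ (T : Subgroup M) ∧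
    (∃ (h : M) (k : ℕ), h * t * h⁻¹ = s ^ k) ∧
    ∀ D : Subgroup M, D ≤ (T : Subgroup M) → (∀ a ∈ D, a * a = 1) → 16 ≤ Nat.card D →
      D = A ∨ D = B := by
  haveI : Fact (Nat.Prime 2) := ⟨Nat.prime_two⟩
  have hc : Nat.card (sub m22Pc) = 2 ^ (Nat.card M).factorization 2 := by
    rw [card_sub pc22 in22, factorization_two (a := 7) (m := 3465)
      (show Nat.card M = 2 ^ 7 * 3465 by rw [show Nat.card M = _ from card_M22]; norm_num)
      (by norm_num)]
    rfl
  refine ⟨Sylow.ofCard _ hc, subA, subB, elFA, elFB, el fourB, firstKind, secondKind, ?_,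
    fused.imp fun h e => ⟨fusK, e⟩, ?_⟩
  · rw [Sylow.coe_ofCard]
    intro g hg
    exact (mem_sub pc22 g).2
      ((by decide +kernel : ∀ L ∈ elsA, L ∈ elsT) _ ((mem_sub pcA g).1 hg))
  · intro D hD
    rw [Sylow.coe_ofCard] at hD
    exact classify D hD

end CfsgLib.J4Local.M22Elem
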