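/-
Janko-four type: lifts from M22 to the centraliser of `P`, and the fixed subgroups in E.
-/
import Cfsg.Agent.J4Local.Basics
import Cfsg.Agent.J4Local.FixMod
import Cfsg.Agent.J4Local.M22Elem
import Cfsg.Agent.Spor3T.Extraspecial

set_option autoImplicit false
set_option linter.style.haveILetI false

namespace CfsgLib.J4Local

open CfsgLib.J4Local.M22Elem CfsgLib.J4Local.FixMod

variable {G : Type*} [Group G] {z : G} {P : Subgroup G}

/-! ### Elementary facts on `E` and `⟨z⟩` -/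

theorem zpowers_le_centralizer {S : Set G} (h : ∀ s ∈ S, s * z = z * s) :
    Subgroup.zpowers z ≤ Subgroup.centralizer S :=
  Subgroup.zpowers_le.2 (Subgroup.mem_centralizer_iff.2 h)

theorem H_le_normalizer_z : cH z ≤ Subgroup.normalizer (Subgroup.zpowers z : Set G) := by
  refine le_normalizer_of_conj fun k hk x hx => ?_
  obtain ⟨i, rfl⟩ := hx
  refine ⟨i, ?_⟩
  simp only
  rw [((show Commute k z from mem_cH.1 hk).zpow_right i).eq, mul_inv_cancel_right]

theorem E_le_normalizer_z : cE z ≤ Subgroup.normalizer (Subgroup.zpowers z : Set G) :=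
  E_le_H.trans H_le_normalizer_z

/-- The elements of `E` centralised modulo `⟨z⟩` by all elements of `S`. -/
def fixE (z : G) (S : Set G) : Subgroup G :=
  fixedSub (cE z) (Subgroup.zpowers z) E_le_normalizer_z S

theorem mem_fixE {S : Set G} {e : G} :
    e ∈ fixE z S ↔ e ∈ cE z ∧ FixedMod (Subgroup.zpowers z) S e := Iff.rfl

theorem fixE_le {S : Set G} : fixE z S ≤ cE z := fixedSub_le

theorem fixE_anti {S S' : Set G} (h : S ⊆ S') : fixE z S' ≤ fixE z S :=
  fun _ he => ⟨he.1, fun q hq => he.2 q (h hq)⟩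

theorem normalizer_fixE [Finite G] {K : Subgroup G} {S : Set G} (hK : K ≤ cH z)
    (hS : ∀ k ∈ K, ∀ q ∈ S, k * q * k⁻¹ ∈ S) : K ≤ Subgroup.normalizer (fixE z S : Set G) :=
  le_normalizer_of_conj fun k hk _ he =>
    conj_fixedSub (H_le_normalizer_E (hK hk)) (H_le_normalizer_z (hK hk))
      (fun q hq => by simpa using hS k⁻¹ (inv_mem hk) q hq) he

variable [Finite G] (hJ : Cfsg.IsOfJankoFourTypeWith z P)

include hJ

theorem gen_E : CfsgLib.Extra2.Gen (cE z) z := by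
  obtain ⟨w, hw⟩ := CfsgLib.Extra2.exists_gen (extraspecial_E hJ)
  rcases hw.center_iff z (z_mem_E hJ) (fun y hy => (mem_cH.1 (E_le_H hy)).symm) with h | h
  · exact absurd (orderOf_eq_one_iff.2 h) (by rw [orderOf_z hJ]; norm_num)
  · exact h ▸ hw

theorem z_sq : z * z = 1 := (gen_E hJ).sq

theorem z_ne_one : z ≠ 1 := (gen_E hJ).ne_one

theorem card_zpowers_z : Nat.card ↥(Subgroup.zpowers z) = 2 := by
  rw [Nat.card_zpowers, orderOf_z hJ]

theorem z_mem_fixE {S : Set G} (hS : S ⊆ cH z) : z ∈ fixE z S :=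
  ⟨z_mem_E hJ, fun q hq => by rw [mem_cH.1 (hS hq), mul_inv_cancel_right, mul_inv_cancel]; exact one_mem _⟩

theorem le_normalizer_of_z_mem {D : Subgroup G} (hD : D ≤ cE z) (hz : z ∈ D) :
    cE z ≤ Subgroup.normalizer (D : Set G) := by
  refine le_normalizer_of_conj fun e he d hd => ?_
  rcases CfsgLib.Extra2.conj_eq (gen_E hJ) he (hD hd) with h | h
  · rw [h]; exact hd
  · rw [h]; exact mul_mem hz hd

theorem card_pow {D : Subgroup G} (hD : D ≤ cE z) : ∃ k ≤ 13, Nat.card D = 2 ^ k := by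
  have h := Subgroup.card_dvd_of_le hD
  rw [card_E hJ] at h
  exact (Nat.dvd_prime_pow Nat.prime_two).1 h

theorem two_dvd_of_z_mem {D : Subgroup G} (hz : z ∈ D) : 2 ∣ Nat.card D := by
  rw [← card_zpowers_z hJ]
  exact Subgroup.card_dvd_of_le (Subgroup.zpowers_le.2 hz)

theorem isPGroup_P : IsPGroup 3 ↥P := IsPGroup.of_card (n := 1) (by rw [card_P hJ, pow_one])

theorem card_mod_three {D : Subgroup G} (hD : D ≤ cE z) (hz : z ∈ D)
    (hP : P ≤ Subgroup.normalizer (D : Set G)) : Nat.card D % 3 = 2 := by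
  haveI : Fact (Nat.Prime 3) := ⟨Nat.prime_three⟩
  have h := card_modEq_centralizer (isPGroup_P hJ) hP
  have e : D ⊓ Subgroup.centralizer (P : Set G) = Subgroup.zpowers z :=
    le_antisymm (fun x hx => (E_inf_centralizer hJ) ▸ ⟨hD hx.1, hx.2⟩)
      (Subgroup.zpowers_le.2 ⟨hz, z_mem_C_P hJ⟩)
  rw [e, card_zpowers_z hJ] at h
  exact h

/-- An element of `E` fixed by `P` modulo `⟨z⟩` lies in `⟨z⟩`. -/
theorem mem_zpowers_of_P_fixed {e : G} (he : e ∈ cE z)
    (h : FixedMod (Subgroup.zpowers z) (P : Set G) e) : e ∈ Subgroup.zpowers z := by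
  haveI : Fact (Nat.Prime 3) := ⟨Nat.prime_three⟩
  obtain ⟨k, hk, hc⟩ := exists_fixed_mul (isPGroup_P hJ) ((P_le_H hJ).trans H_le_normalizer_z)
    (by rw [card_zpowers_z hJ]; norm_num) h
  have hkE : k ∈ cE z := Subgroup.zpowers_le.2 (z_mem_E hJ) hk
  have hm : k * e ∈ Subgroup.zpowers z := E_inf_centralizer hJ ▸ ⟨mul_mem hkE he, hc⟩
  exact (Subgroup.mul_mem_cancel_left _ hk).1 hm

/-- A group acting trivially on `E/⟨z⟩` lies in `E`. -/
theorem mem_E_of_trivial {h : G} (hh : h ∈ cH z)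
    (htriv : ∀ e ∈ cE z, h * e * h⁻¹ * e⁻¹ ∈ Subgroup.zpowers z) : h ∈ cE z := by
  haveI : Fact (Nat.Prime 2) := ⟨Nat.prime_two⟩
  let W : Subgroup G := cH z ⊓ fixer (cE z) (Subgroup.zpowers z)
  have hW : h ∈ W := ⟨hh, mem_fixer.2 ⟨H_le_normalizer_E hh, H_le_normalizer_z hh, htriv⟩⟩
  have hnor : (W.subgroupOf (cH z)).Normal := ⟨fun w hw n => Subgroup.mem_subgroupOf.2
    ⟨(n * w * n⁻¹).2, conj_fixer (H_le_normalizer_E n.2) (H_le_normalizer_z n.2)
      (Subgroup.mem_subgroupOf.1 hw).2⟩⟩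
  have hsq : ∀ w ∈ W, w * w ∈ cE z := fun w hw => by
    refine centralizer_E_le hJ ⟨mul_mem hw.1 hw.1, Subgroup.mem_centralizer_iff.2 fun e he => ?_⟩
    have hwz : w * z = z * w := mem_cH.1 hw.1
    rcases (CfsgLib.Extra2.mem_zpowers_iff (z_sq hJ)).1 ((mem_fixer.1 hw.2).2.2 e he) with h1 | h1
    · have h1' := mul_inv_eq_iff_eq_mul.1 (mul_inv_eq_one.1 h1)
      show e * (w * w) = w * w * e
      rw [mul_assoc w w e, h1', ← mul_assoc w e w, h1', mul_assoc e w w]
    · have h1' : w * e = z * e * w :=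
        mul_inv_eq_iff_eq_mul.1 (mul_inv_eq_iff_eq_mul.1 h1)
      show e * (w * w) = w * w * e
      calc e * (w * w) = (z * z) * (e * w * w) := by rw [z_sq hJ, one_mul, mul_assoc]
        _ = z * ((z * e * w) * w) := by group
        _ = (z * w) * (e * w) := by rw [← h1']; group
        _ = w * (z * e * w) := by rw [← hwz]; group
        _ = w * w * e := by rw [← h1', mul_assoc]
  have hp : IsPGroup 2 ↥(W.subgroupOf (cH z)) := fun w => by
    have hw : ((w : ↥(cH z)) : G) ∈ W := Subgroup.mem_subgroupOf.1 w.2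
    refine ⟨14, Subtype.ext (Subtype.ext ?_)⟩
    have h1 : (⟨_, hsq _ hw⟩ : ↥(cE z)) ^ 2 ^ 13 = 1 := by
      rw [← card_E hJ]; exact pow_card_eq_one'
    have h2 := congrArg Subtype.val h1
    simp only [SubmonoidClass.coe_pow, OneMemClass.coe_one] at h2 ⊢
    rw [show (2 : ℕ) ^ 14 = 2 * 2 ^ 13 by norm_num, pow_mul, pow_two]
    exact h2
  exact Subgroup.mem_map.2 ⟨⟨h, hh⟩, CfsgLib.Solvable.le_pCore 2 hnor hp (Subgroup.mem_subgroupOf.2 hW), rfl⟩

/-! ### The map onto M22 -/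

/-- The map of the centraliser of `P` onto M22. -/
noncomputable def quo : ↥(cC z P) →* M := (exists_hom_C hJ).choose

theorem quo_surjective : Function.Surjective (quo hJ) := (exists_hom_C hJ).choose_spec.1

theorem ker_quo : (quo hJ).ker = (cK z P).subgroupOf (cC z P) := (exists_hom_C hJ).choose_spec.2

theorem quo_eq_one_iff {c : ↥(cC z P)} : quo hJ c = 1 ↔ (c : G) ∈ cK z P := by
  rw [← MonoidHom.mem_ker, ker_quo, Subgroup.mem_subgroupOf]

theorem quo_eq_iff {c d : ↥(cC z P)} : quo hJ c = quo hJ d ↔ (c : G)⁻¹ * d ∈ cK z P := by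
  rw [← inv_mul_eq_one, ← map_inv, ← map_mul, quo_eq_one_iff]
  rfl

theorem K_central {k : G} (hk : k ∈ cK z P) {c : G} (hc : c ∈ cC z P) : k * c = c * k := by
  have h : cK z P ≤ Subgroup.centralizer ({c} : Set G) := by
    refine sup_le (Subgroup.zpowers_le.2 ?_) fun p hp => ?_ <;>
      rw [Subgroup.mem_centralizer_singleton_iff]
    · exact (mem_cH.1 hc.1).symm
    · exact Subgroup.mem_centralizer_iff.1 hc.2 p hp
  exact Subgroup.mem_centralizer_singleton_iff.1 (h hk)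

theorem K_pow_six {k : G} (hk : k ∈ cK z P) : k ^ 6 = 1 := by
  have h := pow_card_eq_one' (G := ↥(cK z P)) (x := ⟨k, hk⟩)
  rw [card_K hJ] at h
  exact congrArg Subtype.val h

theorem zpowers_le_K : Subgroup.zpowers z ≤ cK z P := le_sup_left

theorem P_le_K : P ≤ cK z P := le_sup_right

theorem mem_zpowers_of_K {k : G} (hk : k ∈ cK z P) (h4 : k ^ 4 = 1) : k ∈ Subgroup.zpowers z := by
  have hn : Subgroup.zpowers z ≤ Subgroup.normalizer (P : Set G) :=
    Subgroup.zpowers_le.2 (Subgroup.centralizer_le_normalizer _ (z_mem_C_P hJ))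
  obtain ⟨u, hu, p, hp, rfl⟩ := (CfsgLib.Solvable.mem_sup_of_le_normalizer hn).1 hk
  have hc : Commute u p := by
    have hz : Subgroup.zpowers z ≤ Subgroup.centralizer (P : Set G) :=
      Subgroup.zpowers_le.2 (z_mem_C_P hJ)
    exact (Subgroup.mem_centralizer_iff.1 (hz hu) p hp).symm
  have hu4 : u ^ 4 = 1 := by
    rcases (CfsgLib.Extra2.mem_zpowers_iff (z_sq hJ)).1 hu with rfl | rfl
    · exact one_pow 4
    · rw [show 4 = 2 + 2 from rfl, pow_add, pow_two, z_sq hJ, one_mul]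
  rw [hc.mul_pow, hu4, one_mul] at h4
  have h3 := pow_card_eq_one' (G := ↥P) (x := ⟨p, hp⟩)
  rw [card_P hJ] at h3
  have h3' : p ^ 3 = 1 := congrArg Subtype.val h3
  have hp1 : p = 1 := by rwa [show 4 = 3 + 1 from rfl, pow_add, h3', one_mul, pow_one] at h4
  rwa [hp1, mul_one]

theorem eq_one_of_K {k : G} (hk : k ∈ cK z P) (h5 : k ^ 5 = 1) : k = 1 := by
  have h6 := K_pow_six hJ hk
  rwa [show 6 = 5 + 1 from rfl, pow_add, h5, one_mul, pow_one] at h6

theorem E_inf_C : cE z ⊓ cC z P = Subgroup.zpowers z := by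
  refine le_antisymm (fun x hx => E_inf_centralizer hJ ▸ ⟨hx.1, hx.2.2⟩) ?_
  exact Subgroup.zpowers_le.2 ⟨z_mem_E hJ, z_mem_H, z_mem_C_P hJ⟩

/-- The preimage of a subgroup of M22. -/
noncomputable def pre (A : Subgroup M) : Subgroup G := (A.comap (quo hJ)).map (cC z P).subtype

theorem mem_pre {A : Subgroup M} {c : G} :
    c ∈ pre hJ A ↔ ∃ h : c ∈ cC z P, quo hJ ⟨c, h⟩ ∈ A := by
  constructor
  · rintro ⟨⟨d, hd⟩, hd', rfl⟩; exact ⟨hd, hd'⟩
  · rintro ⟨h, h'⟩; exact ⟨⟨c, h⟩, h', rfl⟩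

theorem pre_le (A : Subgroup M) : pre hJ A ≤ cC z P := Subgroup.map_subtype_le _

theorem pre_le_H (A : Subgroup M) : pre hJ A ≤ cH z := (pre_le hJ A).trans inf_le_left

theorem pre_mono {A B : Subgroup M} (h : A ≤ B) : pre hJ A ≤ pre hJ B :=
  Subgroup.map_mono (Subgroup.comap_mono h)

theorem K_le_pre (A : Subgroup M) : cK z P ≤ pre hJ A := fun k hk =>
  (mem_pre hJ).2 ⟨K_le_C hJ hk, by rw [(quo_eq_one_iff hJ).2 hk]; exact one_mem _⟩

theorem pre_le_normalizer {A B : Subgroup M} (h : A ≤ Subgroup.normalizer (B : Set M)) :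
    pre hJ A ≤ Subgroup.normalizer (pre hJ B : Set G) := by
  refine le_normalizer_of_conj fun k hk x hx => ?_
  obtain ⟨hkC, hkA⟩ := (mem_pre hJ).1 hk
  obtain ⟨hxC, hxB⟩ := (mem_pre hJ).1 hx
  refine (mem_pre hJ).2 ⟨mul_mem (mul_mem hkC hxC) (inv_mem hkC), ?_⟩
  rw [show (⟨k * x * k⁻¹, _⟩ : ↥(cC z P)) = ⟨k, hkC⟩ * ⟨x, hxC⟩ * ⟨k, hkC⟩⁻¹ from rfl,
    map_mul, map_mul, map_inv]
  exact (Subgroup.mem_normalizer_iff.1 (h hkA) _).1 hxB

theorem card_pre (A : Subgroup M) : Nat.card ↥(pre hJ A) = 6 * Nat.card A := by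
  rw [pre, Subgroup.card_map_of_injective (cC z P).subtype_injective]
  have h1 := (A.comap (quo hJ)).card_mul_index
  rw [Subgroup.index_comap_of_surjective A (quo_surjective hJ), card_C hJ] at h1
  have h2 := A.card_mul_index
  rw [CfsgLib.Golay.Cert.card_m22] at h2
  apply Nat.eq_of_mul_eq_mul_right (Nat.pos_of_ne_zero A.index_ne_zero_of_finite)
  rw [h1, mul_assoc, h2]

/-- The image of a subgroup in M22. -/
noncomputable def img (K : Subgroup G) : Subgroup M := (K.subgroupOf (cC z P)).map (quo hJ)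

theorem mem_img {K : Subgroup G} {d : M} :
    d ∈ img hJ K ↔ ∃ (c : G) (h : c ∈ cC z P), c ∈ K ∧ quo hJ ⟨c, h⟩ = d := by
  constructor
  · rintro ⟨⟨c, hc⟩, hc', rfl⟩; exact ⟨c, hc, hc', rfl⟩
  · rintro ⟨c, hc, hc', rfl⟩; exact ⟨⟨c, hc⟩, hc', rfl⟩

theorem card_img {K : Subgroup G} (hK : K ≤ cC z P) :
    Nat.card (img hJ K) * Nat.card ↥(K ⊓ cK z P) = Nat.card K := by
  have h := card_map_mul_card_inf_ker (quo hJ) (K.subgroupOf (cC z P))
  rw [ker_quo, show K.subgroupOf (cC z P) ⊓ (cK z P).subgroupOf (cC z P) =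
      (K ⊓ cK z P).subgroupOf (cC z P) from rfl,
    Nat.card_congr (Subgroup.subgroupOfEquivOfLe (inf_le_left.trans hK)).toEquiv,
    Nat.card_congr (Subgroup.subgroupOfEquivOfLe hK).toEquiv] at h
  exact h

/-- A subgroup of order nine in M22 is covered by a nonabelian subgroup of order 27. -/
theorem exists_twentyseven {K : Subgroup M} (h9 : HasNine K) :
    ∃ R ≤ pre hJ K, Nat.card R = 27 ∧ ¬ IsMulCommutative R ∧ P ≤ R := by
  haveI : Fact (Nat.Prime 3) := ⟨Nat.prime_three⟩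
  obtain ⟨x, hx, y, hy, hx3, hy3, hxy, hx1, hy1, hne, hne2⟩ := h9
  have h9' : 9 ∣ Nat.card K := by
    have hclo : Subgroup.closure ({x, y} : Set M) ≤ K := by
      rw [Subgroup.closure_le]; rintro a (rfl | rfl) <;> assumption
    refine Dvd.dvd.trans ?_ (Subgroup.card_dvd_of_le hclo)
    have hn : Subgroup.zpowers x ≤ Subgroup.normalizer (Subgroup.zpowers y : Set M) := by
      refine Subgroup.zpowers_le.2 (Subgroup.centralizer_le_normalizer _ ?_)
      rintro _ ⟨i, rfl⟩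
      exact ((show Commute y x from hxy.symm).zpow_left i).eq
    have heq : Subgroup.closure ({x, y} : Set M) = Subgroup.zpowers x ⊔ Subgroup.zpowers y := by
      rw [← Set.singleton_union, Subgroup.closure_union, ← Subgroup.zpowers_eq_closure,
        ← Subgroup.zpowers_eq_closure]
    have hd : Nat.card ↥(Subgroup.closure ({x, y} : Set M)) ∣ 3 ^ 2 := by
      rw [heq, pow_two]
      refine (CfsgLib.Solvable.card_sup_dvd hn).trans (Nat.mul_dvd_mul ?_ ?_) <;>
        rw [Nat.card_zpowers] <;> apply orderOf_dvd_of_pow_eq_one <;> assumption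
    obtain ⟨i, -, hi⟩ := (Nat.dvd_prime_pow Nat.prime_three).1 hd
    rw [hi]
    have hfour : 3 < Nat.card ↥(Subgroup.closure ({x, y} : Set M)) := by
      classical
      have hmx : x ∈ Subgroup.closure ({x, y} : Set M) := Subgroup.subset_closure (by simp)
      have hmy : y ∈ Subgroup.closure ({x, y} : Set M) := Subgroup.subset_closure (by simp)
      have hsub : ({1, x, y, x * y} : Finset M) ⊆
          (Set.toFinite (Subgroup.closure ({x, y} : Set M) : Set M)).toFinset := by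
        intro a ha
        simp only [Finset.mem_insert, Finset.mem_singleton] at ha
        rw [Set.Finite.mem_toFinset]
        rcases ha with rfl | rfl | rfl | rfl
        exacts [one_mem _, hmx, hmy, mul_mem hmx hmy]
      have hxy1 : x * y ≠ 1 := fun h => hne2 (by
        rw [eq_inv_of_mul_eq_one_left h]
        exact inv_eq_of_mul_eq_one_left (by rw [← pow_two, ← pow_succ, hy3]))
      have := Finset.card_le_card hsub
      rw [← Nat.card_eq_card_finite_toFinset] at this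
      rw [Finset.card_insert_of_notMem (by simp [hx1.symm, hy1.symm, hxy1.symm]),
        Finset.card_insert_of_notMem (by simp [hne, hy1]),
        Finset.card_insert_of_notMem (by simp [hx1]), Finset.card_singleton] at this
      exact this
    rw [hi] at hfour
    have h2 : 2 ≤ i := by
      by_contra hlt
      interval_cases i <;> norm_num at hfour
    exact (pow_dvd_pow 3 h2)
  have h27 : 3 ^ 3 ∣ Nat.card ↥(pre hJ K) := by
    rw [card_pre]
    obtain ⟨m, hm⟩ := h9'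
    exact ⟨2 * m, by rw [hm]; ring⟩
  obtain ⟨R, hR⟩ := Sylow.exists_subgroup_card_pow_prime 3 h27
  let R' : Subgroup G := R.map (pre hJ K).subtype
  have hR'le : R' ≤ pre hJ K := Subgroup.map_subtype_le _
  have hR'c : Nat.card R' = 27 := by
    rw [Subgroup.card_map_of_injective (pre hJ K).subtype_injective, hR]; norm_num
  have hR'C : R' ≤ cC z P := hR'le.trans (pre_le hJ K)
  have hPR : P ≤ R' := by
    have hn : P ≤ Subgroup.normalizer (R' : Set G) := fun p hp =>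
      Subgroup.centralizer_le_normalizer _ (Subgroup.mem_centralizer_iff.2 fun r hr =>
        (Subgroup.mem_centralizer_iff.1 (hR'C hr).2 p hp).symm)
    have h := CfsgLib.Solvable.card_sup_mul_card_inf hn
    have hd : Nat.card ↥(P ⊔ R') ∣ 6 * 443520 :=
      card_C hJ ▸ Subgroup.card_dvd_of_le (sup_le (P_le_C hJ) hR'C)
    have hi : Nat.card ↥(P ⊓ R') ∣ 3 := card_P hJ ▸ Subgroup.card_dvd_of_le inf_le_left
    rw [card_P hJ, hR'c] at h
    rcases (Nat.dvd_prime Nat.prime_three).1 hi with h1 | h1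
    · rw [h1, mul_one] at h
      rw [h] at hd
      norm_num at hd
    · exact inf_eq_left.1 (Subgroup.eq_of_le_of_card_ge inf_le_left (by rw [card_P hJ, h1]))
  refine ⟨R', hR'le, hR'c, fun hab => ?_, hPR⟩
  have hab' : IsMulCommutative ↥(R'.subgroupOf (cC z P)) := by
    refine ⟨⟨fun a b => Subtype.ext (Subtype.ext ?_)⟩⟩
    simpa using congrArg Subtype.val
      (hab.is_comm.comm (⟨_, a.2⟩ : ↥R') ⟨_, b.2⟩)
  haveI : Nontrivial ↥P := Finite.one_lt_card_iff_nontrivial.1 (by rw [card_P hJ]; norm_num)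
  obtain ⟨⟨p, hp⟩, hp1⟩ := exists_ne (1 : ↥P)
  apply hp1
  have hpC : (⟨p, P_le_C hJ hp⟩ : ↥(cC z P)) ∈ commutator ↥(cC z P) := by
    have h := P_le_commutator hJ hp
    rw [← Subgroup.map_subtype_commutator] at h
    obtain ⟨q, hq, e⟩ := Subgroup.mem_map.1 h
    exact (Subtype.ext e : q = ⟨p, P_le_C hJ hp⟩) ▸ hq
  have := FixMod.eq_one_of_transfer (R'.subgroupOf (cC z P)) hab' (u := ⟨p, P_le_C hJ hp⟩)
    (fun g => Subtype.ext (K_central hJ (P_le_K hJ hp) g.2).symm) hpC (by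
      have hidx := (R'.subgroupOf (cC z P)).card_mul_index
      rw [Nat.card_congr (Subgroup.subgroupOfEquivOfLe hR'C).toEquiv, hR'c, card_C hJ] at hidx
      have hi : (R'.subgroupOf (cC z P)).index = 98560 := by omega
      rw [hi, Subgroup.orderOf_mk]
      have h3 : orderOf p ∣ 3 := card_P hJ ▸ Subgroup.orderOf_dvd_natCard _ hp
      exact Nat.Coprime.coprime_dvd_left h3 (by norm_num))
  exact Subtype.ext (congrArg (fun q : ↥(cC z P) => (q : G)) this)

/-- A subgroup whose image contains a group of order nine contains `P`. -/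
theorem P_le_of_nine {K : Subgroup G} (h9 : HasNine (img hJ K)) : P ≤ K := by
  haveI : Fact (Nat.Prime 3) := ⟨Nat.prime_three⟩
  obtain ⟨R, hR, hRc, hna, hPR⟩ := exists_twentyseven hJ h9
  have hRC : R ≤ cC z P := hR.trans (pre_le hJ _)
  have hRK : R ⊓ cK z P = P := by
    refine le_antisymm (fun x hx => ?_) (le_inf hPR (P_le_K hJ))
    have hn : Subgroup.zpowers z ≤ Subgroup.normalizer (P : Set G) :=
      Subgroup.zpowers_le.2 (Subgroup.centralizer_le_normalizer _ (z_mem_C_P hJ))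
    obtain ⟨u, hu, p, hp, e⟩ := (CfsgLib.Solvable.mem_sup_of_le_normalizer hn).1 hx.2
    have huR : u ∈ R := (Subgroup.mul_mem_cancel_right _ (hPR hp)).1 (e ▸ hx.1)
    have hd : R ⊓ Subgroup.zpowers z = ⊥ :=
      Subgroup.inf_eq_bot_of_coprime (by rw [hRc, card_zpowers_z hJ]; decide)
    have hu1 : u = 1 := Subgroup.mem_bot.1 (hd ▸ ⟨huR, hu⟩)
    rw [← e, hu1, one_mul]
    exact hp
  have hcard := card_img hJ hRC
  rw [hRK, card_P hJ, hRc] at hcard
  haveI : IsMulCommutative ↥(img hJ R) := by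
    haveI := IsPGroup.isMulCommutative_of_card_eq_prime_sq (p := 3)
      (G := ↥(img hJ R)) (by omega)
    infer_instance
  have hne : ¬ ∀ a b : ↥R, a * b = b * a := fun h => hna ⟨⟨h⟩⟩
  push Not at hne
  obtain ⟨⟨a, ha⟩, ⟨b, hb⟩, hab⟩ := hne
  let d : G := a * b * a⁻¹ * b⁻¹
  have hd1 : d ≠ 1 := fun h => hab (Subtype.ext
    (mul_inv_eq_iff_eq_mul.1 (mul_inv_eq_one.1 h)))
  have hdC : d ∈ cC z P := mul_mem (mul_mem (mul_mem (hRC ha) (hRC hb)) (inv_mem (hRC ha))) (inv_mem (hRC hb))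
  have hdP : d ∈ P := by
    rw [← hRK]
    refine Subgroup.mem_inf.2 ⟨mul_mem (mul_mem (mul_mem ha hb) (inv_mem ha)) (inv_mem hb), ?_⟩
    have h : quo hJ ⟨d, hdC⟩ = 1 := by
      rw [show (⟨d, hdC⟩ : ↥(cC z P)) =
        ⟨a, hRC ha⟩ * ⟨b, hRC hb⟩ * ⟨a, hRC ha⟩⁻¹ * ⟨b, hRC hb⟩⁻¹ from rfl]
      simp only [map_mul, map_inv]
      have hc := congrArg Subtype.val (mul_comm'
        (⟨_, (mem_img hJ).2 ⟨a, hRC ha, ha, rfl⟩⟩ : ↥(img hJ R))
        ⟨_, (mem_img hJ).2 ⟨b, hRC hb, hb, rfl⟩⟩)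
      simp only [Subgroup.coe_mul] at hc
      rw [hc]; group
    exact (quo_eq_one_iff hJ).1 h
  have hdK : d ∈ K := by
    obtain ⟨_, ha'⟩ := (mem_pre hJ).1 (hR ha)
    obtain ⟨_, hb'⟩ := (mem_pre hJ).1 (hR hb)
    obtain ⟨u, huC, huK, hu⟩ := (mem_img hJ).1 ha'
    obtain ⟨v, hvC, hvK, hv⟩ := (mem_img hJ).1 hb'
    have ku := (quo_eq_iff hJ).1 hu
    have kv := (quo_eq_iff hJ).1 hv
    simp only at ku kv
    have : d = u * v * u⁻¹ * v⁻¹ := by
      obtain ⟨k, hk, rfl⟩ : ∃ k ∈ cK z P, a = u * k := ⟨u⁻¹ * a, ku, by group⟩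
      obtain ⟨l, hl, rfl⟩ : ∃ l ∈ cK z P, b = v * l := ⟨v⁻¹ * b, kv, by group⟩
      show u * k * (v * l) * (u * k)⁻¹ * (v * l)⁻¹ = _
      calc u * k * (v * l) * (u * k)⁻¹ * (v * l)⁻¹
          = u * ((k * (v * l)) * k⁻¹) * u⁻¹ * (v * l)⁻¹ := by group
        _ = u * (v * l) * u⁻¹ * (v * l)⁻¹ := by
            rw [K_central hJ hk (mul_mem hvC (K_le_C hJ hl)), mul_inv_cancel_right]
        _ = u * v * ((l * u⁻¹) * l⁻¹) * v⁻¹ := by group
        _ = u * v * u⁻¹ * v⁻¹ := by rw [K_central hJ hl (inv_mem huC), mul_inv_cancel_right]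
    rw [this]
    exact mul_mem (mul_mem (mul_mem huK hvK) (inv_mem huK)) (inv_mem hvK)
  have hz : Subgroup.zpowers d = P := by
    refine Subgroup.eq_of_le_of_card_ge (Subgroup.zpowers_le.2 hdP) ?_
    rw [card_P hJ, Nat.card_zpowers]
    have h := Subgroup.orderOf_dvd_natCard _ hdP
    rw [card_P hJ, Nat.dvd_prime Nat.prime_three] at h
    rcases h with h | h
    · exact absurd (orderOf_eq_one_iff.1 h) hd1
    · exact h.ge
  rw [← hz]
  exact Subgroup.zpowers_le.2 hdK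

/-- Sizes of the subgroups of `E` invariant under a group of order nine. -/
theorem card_of_nine {K : Subgroup M} (h9 : HasNine K) {D : Subgroup G} (hD : D ≤ cE z) (hz : z ∈ D)
    (hn : pre hJ K ≤ Subgroup.normalizer (D : Set G)) :
    Nat.card D = 2 ∨ Nat.card D = 128 ∨ Nat.card D = 8192 := by
  obtain ⟨R, hR, hRc, hna, hPR⟩ := exists_twentyseven hJ h9
  have hRC : R ≤ cC z P := hR.trans (pre_le hJ _)
  have h := FixMod.nine_dvd hRc hPR (card_P hJ) hna
    (fun r hr p hp => (Subgroup.mem_centralizer_iff.1 (hRC hr).2 p hp).symm)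
    (hR.trans hn) ((hRC.trans inf_le_left).trans H_le_normalizer_z) (Subgroup.zpowers_le.2 hz)
    (fun e he hc => E_inf_centralizer hJ ▸ ⟨hD he, Subgroup.mem_centralizer_iff.2 hc⟩)
  obtain ⟨k, hk, e⟩ := card_pow hJ hD
  have h2 := two_dvd_of_z_mem hJ hz
  rw [card_zpowers_z hJ] at h
  rw [e] at h h2 ⊢
  interval_cases k <;> simp_all

/-- An element of order five above a given one. -/
theorem exists_five {s : M} (hs : orderOf s = 5) :
    ∃ l, ∃ h : l ∈ cC z P, l ^ 5 = 1 ∧ quo hJ ⟨l, h⟩ = s := by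
  obtain ⟨c, hc⟩ := quo_surjective hJ s
  refine ⟨(c : G) ^ 6, pow_mem c.2 6, ?_, ?_⟩
  · have h5 : (c : G) ^ 5 ∈ cK z P := by
      have : quo hJ (c ^ 5) = 1 := by rw [map_pow, hc, ← hs, pow_orderOf_eq_one]
      simpa using (quo_eq_one_iff hJ).1 this
    rw [← pow_mul, show 6 * 5 = 5 * 6 from rfl, pow_mul, K_pow_six hJ h5]
  · rw [show (⟨(c : G) ^ 6, pow_mem c.2 6⟩ : ↥(cC z P)) = c ^ 6 from rfl, map_pow, hc,
      show 6 = 5 + 1 from rfl, pow_add, ← hs, pow_orderOf_eq_one, one_mul, pow_one]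

/-- Elements of order five are determined by their images. -/
theorem five_unique {a b : G} (ha : a ∈ cC z P) (hb : b ∈ cC z P) (ha5 : a ^ 5 = 1) (hb5 : b ^ 5 = 1)
    (h : quo hJ ⟨a, ha⟩ = quo hJ ⟨b, hb⟩) : a = b := by
  have hk := (quo_eq_iff hJ).1 h
  simp only at hk
  have hc : Commute a (a⁻¹ * b) := (K_central hJ hk ha).symm
  have hb' : b = a * (a⁻¹ * b) := by group
  rw [hb', hc.mul_pow, ha5, one_mul] at hb5
  exact inv_mul_eq_one.1 (eq_one_of_K hJ hk hb5)

/-- The 2-part of the preimage of a subgroup of M22. -/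
noncomputable def liftTwo (A : Subgroup M) : Subgroup G :=
  Subgroup.closure {c | c ∈ pre hJ A ∧ c ^ 4 = 1}

theorem liftTwo_le (A : Subgroup M) : liftTwo hJ A ≤ pre hJ A :=
  (Subgroup.closure_le _).2 fun _ h => h.1

theorem z_mem_liftTwo (A : Subgroup M) : z ∈ liftTwo hJ A :=
  Subgroup.subset_closure ⟨K_le_pre hJ A (zpowers_le_K hJ (Subgroup.mem_zpowers z)), by
    rw [show 4 = 2 + 2 from rfl, pow_add, pow_two, z_sq hJ, one_mul]⟩

/-- Elements of the preimage of an elementary subgroup. -/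
theorem liftTwo_spec {A : Subgroup M} (hA : Nat.card A = 16) (hexp : ∀ a ∈ A, a * a = 1) :
    Nat.card ↥(liftTwo hJ A) = 32 ∧ ∀ c ∈ liftTwo hJ A, c ^ 4 = 1 := by
  haveI : Fact (Nat.Prime 2) := ⟨Nat.prime_two⟩
  obtain ⟨Q0, hQ0⟩ := Sylow.exists_subgroup_card_pow_prime 2 (G := ↥(pre hJ A)) (n := 5)
    (by rw [card_pre, hA]; norm_num)
  let Q : Subgroup G := Q0.map (pre hJ A).subtype
  have hQle : Q ≤ pre hJ A := Subgroup.map_subtype_le _
  have hQc : Nat.card Q = 32 := by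
    rw [Subgroup.card_map_of_injective (pre hJ A).subtype_injective, hQ0]; norm_num
  have hQC : Q ≤ cC z P := hQle.trans (pre_le hJ A)
  have hn : P ≤ Subgroup.normalizer (Q : Set G) := fun p hp =>
    Subgroup.centralizer_le_normalizer _ (Subgroup.mem_centralizer_iff.2 fun r hr =>
      (Subgroup.mem_centralizer_iff.1 (hQC hr).2 p hp).symm)
  have hd : P ⊓ Q = ⊥ := Subgroup.inf_eq_bot_of_coprime (by rw [card_P hJ, hQc]; decide)
  have htop : P ⊔ Q = pre hJ A := CfsgLib.Solvable.eq_of_le_of_card_le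
    (sup_le ((P_le_K hJ).trans (K_le_pre hJ A)) hQle)
    (by rw [CfsgLib.Solvable.card_sup_of_disjoint hn hd, card_P hJ, hQc, card_pre, hA])
  have hexp4 : ∀ c ∈ Q, c ^ 4 = 1 := fun c hc => by
    obtain ⟨hcC, hcA⟩ := (mem_pre hJ).1 (hQle hc)
    have hk : c * c ∈ cK z P := by
      have h := hexp _ hcA
      rw [← map_mul, quo_eq_one_iff] at h
      exact h
    have h16 : (c * c) ^ 32 = 1 := by
      have h := pow_card_eq_one' (G := ↥Q) (x := ⟨c * c, mul_mem hc hc⟩)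
      rw [hQc] at h
      exact congrArg Subtype.val h
    have h2 : (c * c) ^ 2 = 1 := by
      rw [show 32 = 6 * 5 + 2 from rfl, pow_add, pow_mul, K_pow_six hJ hk, one_pow, one_mul] at h16
      exact h16
    rwa [show 4 = 2 * 2 from rfl, pow_mul, pow_two c]
  have heq : liftTwo hJ A = Q := by
    refine le_antisymm ((Subgroup.closure_le _).2 ?_) fun c hc =>
      Subgroup.subset_closure ⟨hQle hc, hexp4 c hc⟩
    rintro c ⟨hc, hc4⟩
    rw [← htop] at hc
    obtain ⟨p, hp, q, hq, rfl⟩ := (CfsgLib.Solvable.mem_sup_of_le_normalizer hn).1 hc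
    have hcom : Commute p q := K_central hJ (P_le_K hJ hp) (hQC hq)
    rw [hcom.mul_pow, hexp4 q hq, mul_one] at hc4
    have hm : p ∈ Subgroup.zpowers z := mem_zpowers_of_K hJ (P_le_K hJ hp) hc4
    have hd' : P ⊓ Subgroup.zpowers z = ⊥ :=
      Subgroup.inf_eq_bot_of_coprime (by rw [card_P hJ, card_zpowers_z hJ]; decide)
    have hp1 : p = 1 := Subgroup.mem_bot.1 (hd' ▸ ⟨hp, hm⟩)
    rw [hp1, one_mul]
    exact hq
  rw [heq]
  exact ⟨hQc, hexp4⟩

theorem conj_liftTwo {A : Subgroup M} {k : G} (hk : k ∈ pre hJ (Subgroup.normalizer (A : Set M)))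
    {c : G} (hc : c ∈ liftTwo hJ A) : k * c * k⁻¹ ∈ liftTwo hJ A := by
  have h : liftTwo hJ A ≤ (liftTwo hJ A).comap (MulAut.conj k).toMonoidHom := by
    refine (Subgroup.closure_le _).2 ?_
    rintro d ⟨hd, hd4⟩
    refine Subgroup.subset_closure ⟨(Subgroup.mem_normalizer_iff.1 (pre_le_normalizer hJ le_rfl hk) d).1 hd, ?_⟩
    show (k * d * k⁻¹) ^ 4 = 1
    rw [conj_pow, hd4, mul_one, mul_inv_cancel]
  exact h hc

end CfsgLib.J4Local
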