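/-
Janko-four type: the fixed subgroups in E of the elementary subgroups of order sixteen of M22.
-/
import Cfsg.Agent.J4Local.Lift

set_option autoImplicit false
set_option linter.style.haveILetI false

namespace CfsgLib.J4Local

open CfsgLib.J4Local.M22Elem CfsgLib.J4Local.FixMod

variable {G : Type*} [Group G] [Finite G] {z : G} {P : Subgroup G}
variable (hJ : Cfsg.IsOfJankoFourTypeWith z P)

include hJ

theorem isPGroup_E : IsPGroup 2 ↥(cE z) := IsPGroup.of_card (card_E hJ)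

theorem liftTwo_le_C (A : Subgroup M) : liftTwo hJ A ≤ cC z P := (liftTwo_le hJ A).trans (pre_le hJ A)

theorem liftTwo_le_H (A : Subgroup M) : liftTwo hJ A ≤ cH z := (liftTwo_le_C hJ A).trans inf_le_left

theorem isPGroup_liftTwo {A : Subgroup M} (hA : Nat.card A = 16) (hexp : ∀ a ∈ A, a * a = 1) :
    IsPGroup 2 ↥(liftTwo hJ A) :=
  IsPGroup.of_card (n := 5) (by rw [(liftTwo_spec hJ hA hexp).1]; norm_num)

theorem E_inf_liftTwo (A : Subgroup M) : cE z ⊓ liftTwo hJ A = Subgroup.zpowers z :=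
  le_antisymm (fun _ hx => E_inf_C hJ ▸ ⟨hx.1, liftTwo_le_C hJ A hx.2⟩)
    (Subgroup.zpowers_le.2 ⟨z_mem_E hJ, z_mem_liftTwo hJ A⟩)

/-- The fixed subgroup in `E` of the lift of `A`. -/
noncomputable def fixA (A : Subgroup M) : Subgroup G := fixE z (liftTwo hJ A : Set G)

theorem z_mem_fixA (A : Subgroup M) : z ∈ fixA hJ A := z_mem_fixE hJ (liftTwo_le_H hJ A)

theorem fixA_le (A : Subgroup M) : fixA hJ A ≤ cE z := fixE_le

theorem normalizer_fixA (A : Subgroup M) :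
    pre hJ (Subgroup.normalizer (A : Set M)) ≤ Subgroup.normalizer (fixA hJ A : Set G) :=
  normalizer_fixE (pre_le_H hJ _) fun _ hk _ hq => conj_liftTwo hJ hk hq

theorem P_le_pre (A : Subgroup M) : P ≤ pre hJ A := (P_le_K hJ).trans (K_le_pre hJ A)

theorem card_mul_relIndex {K L : Subgroup G} (h : K ≤ L) :
    Nat.card K * K.relIndex L = Nat.card L := by
  rw [← Subgroup.relIndex_bot_left, ← Subgroup.relIndex_bot_left]
  exact Subgroup.relIndex_mul_relIndex ⊥ K L bot_le h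

theorem orderOf_five {l : G} (hl : l ∈ cC z P) (hl5 : l ^ 5 = 1) {s : M} (hs : orderOf s = 5)
    (hls : quo hJ ⟨l, hl⟩ = s) : orderOf l = 5 := by
  haveI : Fact (Nat.Prime 5) := ⟨Nat.prime_five⟩
  refine orderOf_eq_prime hl5 fun h => ?_
  have h1 : (⟨l, hl⟩ : ↥(cC z P)) = 1 := Subtype.ext h
  rw [h1, map_one] at hls
  rw [← hls, orderOf_one] at hs
  omega

theorem conj_centralizer_mem {S : Subgroup G} {k x : G} (hk : k ∈ Subgroup.normalizer (S : Set G))
    (hx : x ∈ Subgroup.centralizer (S : Set G)) : k * x * k⁻¹ ∈ Subgroup.centralizer (S : Set G) := by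
  refine Subgroup.mem_centralizer_iff.2 fun q hq => ?_
  have h1 := Subgroup.mem_centralizer_iff.1 hx (k⁻¹ * q * k⁻¹⁻¹)
    ((Subgroup.mem_normalizer_iff.1 (inv_mem hk) q).1 hq)
  calc q * (k * x * k⁻¹) = k * ((k⁻¹ * q * k⁻¹⁻¹) * x) * k⁻¹ := by group
    _ = k * (x * (k⁻¹ * q * k⁻¹⁻¹)) * k⁻¹ := by rw [h1]
    _ = k * x * k⁻¹ * q := by group

theorem inf_centralizer_normalizer {K D S : Subgroup G} (hD : K ≤ Subgroup.normalizer (D : Set G))
    (hS : K ≤ Subgroup.normalizer (S : Set G)) :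
    K ≤ Subgroup.normalizer ((D ⊓ Subgroup.centralizer (S : Set G) : Subgroup G) : Set G) :=
  le_normalizer_of_conj fun k hk _ hx =>
    ⟨(Subgroup.mem_normalizer_iff.1 (hD hk) _).1 hx.1, conj_centralizer_mem hJ (hS hk) hx.2⟩

section First

variable {A : Subgroup M} {s : M} (hA : FirstKind A s)

include hA

theorem card_fixA : Nat.card ↥(fixA hJ A) = 128 := by
  haveI : Fact (Nat.Prime 2) := ⟨Nat.prime_two⟩
  rcases card_of_nine hJ hA.nine (fixA_le hJ A) (z_mem_fixA hJ A) (normalizer_fixA hJ A)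
    with h | h | h
  · exfalso
    have hzX : Subgroup.zpowers z = fixA hJ A := Subgroup.eq_of_le_of_card_ge
      (Subgroup.zpowers_le.2 (z_mem_fixA hJ A)) (by rw [h, card_zpowers_z hJ])
    have hmod := relIndex_modEq_one (isPGroup_liftTwo hJ hA.card hA.exp)
      ((liftTwo_le_H hJ A).trans H_le_normalizer_E) ((liftTwo_le_H hJ A).trans H_le_normalizer_z)
      E_le_normalizer_z (fun e he hf => hzX ▸ ⟨he, hf⟩)
    have hc := card_mul_relIndex hJ (Subgroup.zpowers_le.2 (z_mem_E hJ))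
    rw [card_zpowers_z hJ, card_E hJ] at hc
    simp only [Nat.reducePow] at hc
    have : (Subgroup.zpowers z).relIndex (cE z) = 4096 := by omega
    rw [this] at hmod
    norm_num [Nat.ModEq] at hmod
  · exact h
  · exfalso
    have hXE : fixA hJ A = cE z :=
      Subgroup.eq_of_le_of_card_ge (fixA_le hJ A) (by rw [h, card_E hJ]; norm_num)
    have hle : liftTwo hJ A ≤ cE z ⊓ liftTwo hJ A := fun c hc => ⟨mem_E_of_trivial hJ
      (liftTwo_le_H hJ A hc) fun e he => (mem_fixE.1 (hXE.ge he)).2 c hc, hc⟩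
    have := Subgroup.card_le_of_le hle
    rw [E_inf_liftTwo, card_zpowers_z hJ, (liftTwo_spec hJ hA.card hA.exp).1] at this
    omega

theorem E_inf_centralizer_fixA :
    cE z ⊓ Subgroup.centralizer (fixA hJ A : Set G) = fixA hJ A := by
  haveI : Fact (Nat.Prime 2) := ⟨Nat.prime_two⟩
  set X := fixA hJ A with hX
  set Q := cE z ⊓ Subgroup.centralizer (X : Set G) with hQ
  have hXE : X ≤ cE z := fixA_le hJ A
  have hzQ : z ∈ Q := ⟨z_mem_E hJ, Subgroup.mem_centralizer_iff.2 fun x hx => mem_cH.1 (E_le_H (hXE hx))⟩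
  have hQc : Nat.card Q = 128 := by
    have h := CfsgLib.Extra2.card_mul_card_centralizer (gen_E hJ) (z_mem_fixA hJ A) hXE
    rw [card_fixA hJ hA, card_E hJ, ← hQ] at h
    simp only [Nat.reducePow, Nat.reduceMul] at h
    omega
  have hnX := normalizer_fixA hJ A
  let Z := X ⊓ Subgroup.centralizer (X : Set G)
  have hzZ : z ∈ Z := ⟨z_mem_fixA hJ A, hzQ.2⟩
  rcases card_of_nine hJ hA.nine (inf_le_left.trans hXE) hzZ
    (inf_centralizer_normalizer hJ hnX hnX) with h | h | h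
  · exfalso
    have hzX : Subgroup.zpowers z = Z :=
      Subgroup.eq_of_le_of_card_ge (Subgroup.zpowers_le.2 hzZ) (by rw [h, card_zpowers_z hJ])
    have hAH : liftTwo hJ A ≤ cH z := liftTwo_le_H hJ A
    have hAX : liftTwo hJ A ≤ Subgroup.normalizer (X : Set G) :=
      normalizer_fixE hAH fun k hk q hq => mul_mem (mul_mem hk hq) (inv_mem hk)
    have hmod := relIndex_modEq_one (isPGroup_liftTwo hJ hA.card hA.exp)
      (inf_centralizer_normalizer hJ (hAH.trans H_le_normalizer_E) hAX)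
      (hAH.trans H_le_normalizer_z) (inf_le_left.trans E_le_normalizer_z)
      (fun e he hf => hzX ▸ ⟨mem_fixE.2 ⟨he.1, hf⟩, he.2⟩)
    have hc := card_mul_relIndex hJ (Subgroup.zpowers_le.2 hzQ)
    rw [card_zpowers_z hJ, hQc] at hc
    rw [show (Subgroup.zpowers z).relIndex Q = 64 by omega] at hmod
    norm_num [Nat.ModEq] at hmod
  · have hZX : Z = X := Subgroup.eq_of_le_of_card_ge inf_le_left (by rw [h, card_fixA hJ hA])
    symm
    exact Subgroup.eq_of_le_of_card_ge (le_inf hXE (hZX.symm.le.trans inf_le_right))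
      (by rw [hQc, card_fixA hJ hA])
  · exfalso
    have := Subgroup.card_le_of_le (inf_le_left : Z ≤ X)
    rw [h, card_fixA hJ hA] at this
    omega

theorem fixA_comm {a b : G} (ha : a ∈ fixA hJ A) (hb : b ∈ fixA hJ A) : a * b = b * a :=
  Subgroup.mem_centralizer_iff.1 ((E_inf_centralizer_fixA hJ hA).ge hb).2 a ha

theorem fixA_sq {a : G} (ha : a ∈ fixA hJ A) : a * a = 1 := by
  set X := fixA hJ A with hX
  let f : ↥X →* ↥X :=
    { toFun := fun x => x * x
      map_one' := one_mul 1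
      map_mul' := fun x y => Subtype.ext (by
        show (x : G) * y * (x * y) = x * x * (y * y)
        calc (x : G) * y * (x * y) = x * (y * x) * y := by group
          _ = x * (x * y) * y := by rw [fixA_comm hJ hA y.2 x.2]
          _ = x * x * (y * y) := by group) }
  let Z0 : Subgroup G := f.ker.map X.subtype
  have hrange : f.range.map X.subtype ≤ Subgroup.zpowers z := by
    rintro _ ⟨_, ⟨x, rfl⟩, rfl⟩
    exact (CfsgLib.Extra2.mem_zpowers_iff (z_sq hJ)).2 ((gen_E hJ).square _ (fixA_le hJ A x.2))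
  have hr := Subgroup.card_le_of_le hrange
  rw [Subgroup.card_map_of_injective X.subtype_injective, card_zpowers_z hJ, ← Subgroup.index_ker] at hr
  have hZ : Nat.card Z0 * f.ker.index = 128 := by
    rw [Subgroup.card_map_of_injective X.subtype_injective, Subgroup.card_mul_index]
    exact card_fixA hJ hA
  have hmem : ∀ {x : G}, x ∈ Z0 ↔ x ∈ X ∧ x * x = 1 := by
    intro x
    constructor
    · rintro ⟨⟨y, hy⟩, hy', rfl⟩; exact ⟨hy, congrArg Subtype.val hy'⟩
    · rintro ⟨hx, hx'⟩; exact ⟨⟨x, hx⟩, Subtype.ext hx', rfl⟩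
  have hn : pre hJ (Subgroup.normalizer (A : Set M)) ≤ Subgroup.normalizer (Z0 : Set G) := by
    refine le_normalizer_of_conj fun k hk x hx => hmem.2
      ⟨(Subgroup.mem_normalizer_iff.1 (normalizer_fixA hJ A hk) x).1 (hmem.1 hx).1, ?_⟩
    calc k * x * k⁻¹ * (k * x * k⁻¹) = k * (x * x) * k⁻¹ := by group
      _ = 1 := by rw [(hmem.1 hx).2, mul_one, mul_inv_cancel]
  have hzZ : z ∈ Z0 := hmem.2 ⟨z_mem_fixA hJ A, z_sq hJ⟩
  have hle : Z0 ≤ X := fun x hx => (hmem.1 hx).1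
  rcases card_of_nine hJ hA.nine (hle.trans (fixA_le hJ A)) hzZ hn with h | h | h
  · rw [h] at hZ; omega
  · exact (hmem.1 ((Subgroup.eq_of_le_of_card_ge hle (by rw [h, card_fixA hJ hA])).ge ha)).2
  · have := Subgroup.card_le_of_le hle
    rw [h, card_fixA hJ hA] at this
    omega

theorem fixA_commute_liftTwo {x c : G} (hx : x ∈ fixA hJ A) (hc : c ∈ liftTwo hJ A) :
    c * x = x * c := by
  classical
  set X := fixA hJ A with hX
  set Q := liftTwo hJ A with hQ
  have hXE : X ≤ cE z := fixA_le hJ A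
  have hzc : ∀ y ∈ X, y * z = z * y := fun y hy => mem_cH.1 (E_le_H (hXE hy))
  let S : Set (Subgroup G) := {R | Subgroup.zpowers z ≤ R ∧ R ≤ Q ∧
    2 * Nat.card X ≤ Nat.card R * Nat.card ↥(X ⊓ Subgroup.centralizer (R : Set G))}
  have hS : Subgroup.zpowers z ∈ S := by
    refine ⟨le_rfl, Subgroup.zpowers_le.2 (z_mem_liftTwo hJ A), le_of_eq ?_⟩
    rw [card_zpowers_z hJ, inf_eq_left.2 ?_]
    intro y hy
    refine Subgroup.mem_centralizer_iff.2 fun w hw => ?_
    rcases (CfsgLib.Extra2.mem_zpowers_iff (z_sq hJ)).1 hw with rfl | rfl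
    · simp
    · exact (hzc y hy).symm
  obtain ⟨R, hR, hmax⟩ := Set.Finite.exists_maximalFor (fun R : Subgroup G => Nat.card R) S
    (Set.toFinite _) ⟨_, hS⟩
  obtain ⟨hzR, hRQ, hbound⟩ := hR
  by_cases hRQ' : R = Q
  · rw [hRQ', (liftTwo_spec hJ hA.card hA.exp).1, card_fixA hJ hA] at hbound
    have hn : pre hJ (Subgroup.normalizer (A : Set M)) ≤
        Subgroup.normalizer ((X ⊓ Subgroup.centralizer (Q : Set G) : Subgroup G) : Set G) :=
      inf_centralizer_normalizer hJ (normalizer_fixA hJ A)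
        (le_normalizer_of_conj fun k hk _ hq => conj_liftTwo hJ hk hq)
    have hzX : z ∈ X ⊓ Subgroup.centralizer (Q : Set G) := ⟨z_mem_fixA hJ A,
      Subgroup.mem_centralizer_iff.2 fun q hq => mem_cH.1 (liftTwo_le_H hJ A hq)⟩
    rcases card_of_nine hJ hA.nine (inf_le_left.trans hXE) hzX hn with h | h | h
    · rw [h] at hbound; omega
    · have he := Subgroup.eq_of_le_of_card_ge
        (inf_le_left : X ⊓ Subgroup.centralizer (Q : Set G) ≤ X) (by rw [h, card_fixA hJ hA])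
      exact Subgroup.mem_centralizer_iff.1 (he.ge hx).2 c hc
    · have := Subgroup.card_le_of_le (inf_le_left : X ⊓ Subgroup.centralizer (Q : Set G) ≤ X)
      rw [h, card_fixA hJ hA] at this
      omega
  · exfalso
    obtain ⟨r, hrQ, hrR⟩ := SetLike.exists_of_lt (lt_of_le_of_ne hRQ hRQ')
    let R' : Subgroup G := R ⊔ Subgroup.zpowers r
    have hR'Q : R' ≤ Q := sup_le hRQ (Subgroup.zpowers_le.2 hrQ)
    have hlt : R < R' := lt_of_le_of_ne le_sup_left
      (fun e => hrR (e ▸ (le_sup_right : Subgroup.zpowers r ≤ R') (Subgroup.mem_zpowers r)))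
    have hlt' : Nat.card R < Nat.card R' := CfsgLib.Solvable.card_lt_of_lt hlt
    have h2 : 2 * Nat.card R ≤ Nat.card R' := by
      obtain ⟨k, hk⟩ := Subgroup.card_dvd_of_le hlt.le
      rw [hk] at hlt' ⊢
      rw [mul_comm 2]
      refine Nat.mul_le_mul_left _ ?_
      by_contra hh
      interval_cases k <;> simp at hlt'
    set Y := X ⊓ Subgroup.centralizer (R : Set G) with hY
    let f : ↥Y →* ↥(Subgroup.zpowers z) := MonoidHom.mk'
      (fun y => ⟨r * (y : G) * r⁻¹ * (y : G)⁻¹, (mem_fixE.1 y.2.1).2 r hrQ⟩)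
      (fun a b => Subtype.ext (by
        show r * ((a : G) * b) * r⁻¹ * ((a : G) * b)⁻¹ =
          r * (a : G) * r⁻¹ * (a : G)⁻¹ * (r * (b : G) * r⁻¹ * (b : G)⁻¹)
        rw [show r * ((a : G) * b) * r⁻¹ * ((a : G) * b)⁻¹ = (r * (a : G) * r⁻¹ * (a : G)⁻¹) *
          ((a : G) * (r * (b : G) * r⁻¹ * (b : G)⁻¹) * (a : G)⁻¹) by group]
        congr 1
        have hw := (mem_fixE.1 b.2.1).2 r hrQ
        rcases (CfsgLib.Extra2.mem_zpowers_iff (z_sq hJ)).1 hw with e | e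
        · rw [e]; group
        · rw [e, hzc _ a.2.1, mul_inv_cancel_right]))
    have hker : f.ker.map Y.subtype ≤ X ⊓ Subgroup.centralizer (R' : Set G) := by
      rintro _ ⟨y, hy, rfl⟩
      refine ⟨y.2.1, Subgroup.mem_centralizer_iff.2 fun w hw => ?_⟩
      have hle : R' ≤ Subgroup.centralizer ({(y : G)} : Set G) := by
        refine sup_le (fun w hw => ?_) (Subgroup.zpowers_le.2 ?_) <;>
          rw [Subgroup.mem_centralizer_singleton_iff]
        · exact Subgroup.mem_centralizer_iff.1 y.2.2 w hw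
        · exact mul_inv_eq_iff_eq_mul.1 (mul_inv_eq_one.1 (congrArg Subtype.val (MonoidHom.mem_ker.1 hy)))
      exact Subgroup.mem_centralizer_singleton_iff.1 (hle hw)
    have h3 : Nat.card Y ≤ 2 * Nat.card ↥(X ⊓ Subgroup.centralizer (R' : Set G)) := by
      have h4 := Subgroup.card_le_of_le hker
      rw [Subgroup.card_map_of_injective Y.subtype_injective] at h4
      have h5 : f.ker.index ≤ 2 := by
        rw [Subgroup.index_ker, ← card_zpowers_z hJ]; exact Subgroup.card_le_card_group _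
      rw [← f.ker.card_mul_index, mul_comm]
      exact Nat.mul_le_mul h5 h4
    have hR'S : R' ∈ S := ⟨hzR.trans hlt.le, hR'Q, hbound.trans (by
      calc Nat.card R * Nat.card Y
          ≤ Nat.card R * (2 * Nat.card ↥(X ⊓ Subgroup.centralizer (R' : Set G))) :=
            Nat.mul_le_mul_left _ h3
        _ = 2 * Nat.card R * Nat.card ↥(X ⊓ Subgroup.centralizer (R' : Set G)) := by ring
        _ ≤ _ := Nat.mul_le_mul_right _ h2)⟩
    exact absurd (hmax hR'S hlt'.le) (not_le.2 hlt')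

theorem liftTwo_sq {c : G} (hc : c ∈ liftTwo hJ A) : c * c = 1 := by
  classical
  set Q := liftTwo hJ A with hQ
  have hQC : Q ≤ cC z P := liftTwo_le_C hJ A
  obtain ⟨hQc, h4⟩ := liftTwo_spec hJ hA.card hA.exp
  have hexp : ∀ c (hc : c ∈ Q), quo hJ ⟨c, hQC hc⟩ ∈ A := fun c hc => by
    obtain ⟨_, h⟩ := (mem_pre hJ).1 (liftTwo_le hJ A hc); exact h
  have hcK : ∀ c ∈ Q, c ∈ cK z P → c ∈ Subgroup.zpowers z :=
    fun c hc hk => mem_zpowers_of_K hJ hk (h4 c hc)
  have hsq : ∀ c ∈ Q, c * c ∈ Subgroup.zpowers z := fun c hc => hcK _ (mul_mem hc hc) (by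
    have h := hA.exp _ (hexp c hc)
    rw [← map_mul, quo_eq_one_iff] at h
    exact h)
  have hzc : ∀ w ∈ Subgroup.zpowers z, ∀ g ∈ cC z P, g * w = w * g := fun w hw g hg =>
    (K_central hJ (zpowers_le_K hJ hw) hg).symm
  have hz1 : z * z = 1 := z_sq hJ
  have hsame : ∀ a ∈ Q, ∀ b ∈ Q, a ∉ Subgroup.zpowers z → b ∉ Subgroup.zpowers z → a * a = b * b := by
    intro a ha b hb haz hbz
    have ha1 : quo hJ ⟨a, hQC ha⟩ ≠ 1 := fun h => haz (hcK a ha ((quo_eq_one_iff hJ).1 h))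
    have hb1 : quo hJ ⟨b, hQC hb⟩ ≠ 1 := fun h => hbz (hcK b hb ((quo_eq_one_iff hJ).1 h))
    obtain ⟨n, hn, e⟩ := hA.trans _ (hexp a ha) _ (hexp b hb) ha1 hb1
    obtain ⟨⟨k, hkC⟩, rfl⟩ := quo_surjective hJ n
    have hk : k ∈ pre hJ (Subgroup.normalizer (A : Set M)) := (mem_pre hJ).2 ⟨hkC, hn⟩
    have ha' : k * a * k⁻¹ ∈ Q := conj_liftTwo hJ hk ha
    rw [← map_inv, ← map_mul, ← map_mul] at e
    have hd := (quo_eq_iff hJ).1 e
    simp only [Subgroup.coe_mul, Subgroup.coe_inv] at hd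
    set a' := k * a * k⁻¹ with ha'_def
    have hdz : a'⁻¹ * b ∈ Subgroup.zpowers z := hcK _ (mul_mem (inv_mem ha') hb) hd
    have h1 : a' * a' = a * a := by
      rw [ha'_def, show k * a * k⁻¹ * (k * a * k⁻¹) = k * (a * a) * k⁻¹ by group,
        hzc _ (hsq a ha) k hkC, mul_inv_cancel_right]
    rw [← h1]
    set w := a'⁻¹ * b with hw
    rw [show b = a' * w by rw [hw]; group,
      show a' * w * (a' * w) = a' * ((w * a') * w) by group, ← hzc w hdz a' (hQC ha')]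
    have : w * w = 1 := by
      rcases (CfsgLib.Extra2.mem_zpowers_iff hz1).1 hdz with e | e <;> rw [e]
      · exact one_mul 1
      · exact hz1
    rw [show a' * ((a' * w) * w) = a' * a' * (w * w) by group, this, mul_one]
  by_contra hne
  have hcz : c ∉ Subgroup.zpowers z := fun h => hne (by
    rcases (CfsgLib.Extra2.mem_zpowers_iff hz1).1 h with e | e <;> rw [e]
    · exact one_mul 1
    · exact hz1)
  have hcc : c * c = z := ((CfsgLib.Extra2.mem_zpowers_iff hz1).1 (hsq c hc)).resolve_left hne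
  have hall : ∀ a ∈ Q, a ∉ Subgroup.zpowers z → a * a = z := fun a ha haz =>
    (hsame a ha c hc haz hcz).trans hcc
  have hanti : ∀ a ∈ Q, ∀ b ∈ Q, a ∉ Subgroup.zpowers z → b ∉ Subgroup.zpowers z →
      a * b ∉ Subgroup.zpowers z → b * a = a * b * z := by
    intro a ha b hb haz hbz habz
    have haa := hall a ha haz
    have hbb := hall b hb hbz
    have hab := hall _ (mul_mem ha hb) habz
    have hzb : b * z = z * b := hzc z (Subgroup.mem_zpowers z) b (hQC hb)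
    have hza : a * z = z * a := hzc z (Subgroup.mem_zpowers z) a (hQC ha)
    calc b * a = a⁻¹ * (a * b * (a * b)) * b⁻¹ := by group
      _ = a⁻¹ * z * b⁻¹ := by rw [hab]
      _ = a⁻¹ * ((a * a) * (z * (b * b))) * b⁻¹ := by rw [haa, hbb, hz1, mul_one]
      _ = a * z * b := by group
      _ = a * b * z := by rw [mul_assoc, ← hzb, mul_assoc]
  obtain ⟨b, hb, hbz⟩ : ∃ b ∈ Q, b ∉ Subgroup.zpowers z ⊔ Subgroup.zpowers c := by
    by_contra hh
    push Not at hh
    have hn : Subgroup.zpowers z ≤ Subgroup.normalizer (Subgroup.zpowers c : Set G) :=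
      Subgroup.zpowers_le.2 (Subgroup.centralizer_le_normalizer _ (by
        rintro _ ⟨i, rfl⟩
        exact ((show Commute c z from hzc z (Subgroup.mem_zpowers z) c (hQC hc)).zpow_left i).eq))
    have h1 := Nat.le_of_dvd (Nat.mul_pos Nat.card_pos Nat.card_pos) (CfsgLib.Solvable.card_sup_dvd hn)
    have h2 := Subgroup.card_le_of_le hh
    rw [card_zpowers_z hJ, Nat.card_zpowers] at h1
    have h3 : orderOf c ≤ 4 := Nat.le_of_dvd (by norm_num) (orderOf_dvd_of_pow_eq_one (h4 c hc))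
    rw [hQc] at h2
    omega
  set L := Subgroup.zpowers z ⊔ Subgroup.zpowers c ⊔ Subgroup.zpowers b with hL
  obtain ⟨d, hd, hdL⟩ : ∃ d ∈ Q, d ∉ L := by
    by_contra hh
    push Not at hh
    have hcz' : Subgroup.zpowers z ⊔ Subgroup.zpowers c ≤ Q :=
      sup_le (Subgroup.zpowers_le.2 (z_mem_liftTwo hJ A)) (Subgroup.zpowers_le.2 hc)
    have hn : Subgroup.zpowers b ≤ Subgroup.normalizer
        ((Subgroup.zpowers z ⊔ Subgroup.zpowers c : Subgroup G) : Set G) := by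
      refine le_normalizer_of_conj fun k hk x hx => ?_
      have hkQ : k ∈ Q := Subgroup.zpowers_le.2 hb hk
      obtain ⟨hxC, -⟩ := (mem_pre hJ).1 (liftTwo_le hJ A (hcz' hx))
      have hq : k * x * k⁻¹ * x⁻¹ ∈ Subgroup.zpowers z := hcK _
        (mul_mem (mul_mem (mul_mem hkQ (hcz' hx)) (inv_mem hkQ)) (inv_mem (hcz' hx))) (by
          have hcomm : quo hJ ⟨k, hQC hkQ⟩ * quo hJ ⟨x, hxC⟩ = quo hJ ⟨x, hxC⟩ * quo hJ ⟨k, hQC hkQ⟩ := by
            have hk' := hexp k hkQ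
            have hx' := hexp x (hcz' hx)
            have i1 := inv_eq_of_mul_eq_one_right (hA.exp _ hk')
            have i2 := inv_eq_of_mul_eq_one_right (hA.exp _ hx')
            have i3 := inv_eq_of_mul_eq_one_right (hA.exp _ (mul_mem hk' hx'))
            rw [mul_inv_rev, i1, i2] at i3
            exact i3.symm
          have : quo hJ (⟨k, hQC hkQ⟩ * ⟨x, hxC⟩ * ⟨k, hQC hkQ⟩⁻¹ * ⟨x, hxC⟩⁻¹) = 1 := by
            simp only [map_mul, map_inv]
            rw [hcomm]; group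
          exact (quo_eq_one_iff hJ).1 this)
      rw [show k * x * k⁻¹ = (k * x * k⁻¹ * x⁻¹) * x by group]
      exact mul_mem (Subgroup.mem_sup_left hq) hx
    have h1 := Nat.le_of_dvd (Nat.mul_pos Nat.card_pos Nat.card_pos) (CfsgLib.Solvable.card_sup_dvd hn)
    have hn' : Subgroup.zpowers z ≤ Subgroup.normalizer (Subgroup.zpowers c : Set G) :=
      Subgroup.zpowers_le.2 (Subgroup.centralizer_le_normalizer _ (by
        rintro _ ⟨i, rfl⟩
        exact ((show Commute c z from hzc z (Subgroup.mem_zpowers z) c (hQC hc)).zpow_left i).eq))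
    have hcyc : ∀ a ∈ Q, a ∉ Subgroup.zpowers z →
        Nat.card ↥(Subgroup.zpowers z ⊔ Subgroup.zpowers a) = Nat.card ↥(Subgroup.zpowers a) ∧
        Nat.card ↥(Subgroup.zpowers a) ≤ 4 := by
      intro a ha haz
      refine ⟨?_, ?_⟩
      · rw [sup_eq_right.2 (Subgroup.zpowers_le.2 ?_)]
        rw [← hall a ha haz]
        exact mul_mem (Subgroup.mem_zpowers a) (Subgroup.mem_zpowers a)
      · rw [Nat.card_zpowers]
        exact Nat.le_of_dvd (by norm_num) (orderOf_dvd_of_pow_eq_one (h4 a ha))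
    have hbz' : b ∉ Subgroup.zpowers z := fun h => hbz (Subgroup.mem_sup_left h)
    have h2 := Subgroup.card_le_of_le (show Q ≤ Subgroup.zpowers b ⊔
        (Subgroup.zpowers z ⊔ Subgroup.zpowers c) from fun q hq => by
      rw [sup_comm]; exact hh q hq)
    obtain ⟨e1, e2⟩ := hcyc c hc hcz
    obtain ⟨-, e3⟩ := hcyc b hb hbz'
    have := h2.trans h1
    rw [hQc, e1] at this
    have := this.trans (Nat.mul_le_mul e3 e2)
    omega
  have hbz' : b ∉ Subgroup.zpowers z := fun h => hbz (Subgroup.mem_sup_left h)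
  have hzL : Subgroup.zpowers z ≤ L := le_sup_left.trans le_sup_left
  have hcL : c ∈ L := le_sup_left (a := Subgroup.zpowers z ⊔ Subgroup.zpowers c)
    (le_sup_right (a := Subgroup.zpowers z) (Subgroup.mem_zpowers c))
  have hbL : b ∈ L := le_sup_right (a := Subgroup.zpowers z ⊔ Subgroup.zpowers c) (Subgroup.mem_zpowers b)
  have hcb : c * b ∉ Subgroup.zpowers z := fun h => hbz (by
    have : b = c⁻¹ * (c * b) := by group
    rw [this]
    exact mul_mem (Subgroup.mem_sup_right (inv_mem (Subgroup.mem_zpowers c))) (Subgroup.mem_sup_left h))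
  have hdz : d ∉ Subgroup.zpowers z := fun h => hdL (hzL h)
  have hcd : c * d ∉ Subgroup.zpowers z := fun h => hdL
    ((Subgroup.mul_mem_cancel_left _ hcL).1 (hzL h))
  have hbd : b * d ∉ Subgroup.zpowers z := fun h => hdL
    ((Subgroup.mul_mem_cancel_left _ hbL).1 (hzL h))
  have hcbd : c * (b * d) ∉ Subgroup.zpowers z := fun h => hdL
    ((Subgroup.mul_mem_cancel_left _ hbL).1 ((Subgroup.mul_mem_cancel_left _ hcL).1 (hzL h)))
  have e1 := hanti c hc b hb hcz hbz' hcb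
  have e2 := hanti c hc d hd hcz hdz hcd
  have e3 := hanti c hc _ (mul_mem hb hd) hcz hbd hcbd
  have hzd : d * z = z * d := hzc z (Subgroup.mem_zpowers z) d (hQC hd)
  have e4 : b * d * c = c * (b * d) * (z * z) := by
    rw [mul_assoc b d c, e2, show b * (c * d * z) = b * c * (d * z) by group, e1, hzd,
      show c * b * z * (z * d) = c * b * (z * z * d) by group, hz1, one_mul, mul_one]
    group
  rw [e3, hz1, mul_one] at e4
  exact z_ne_one hJ (mul_eq_left.1 e4)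

theorem liftTwo_comm {a b : G} (ha : a ∈ liftTwo hJ A) (hb : b ∈ liftTwo hJ A) : a * b = b * a := by
  have ia := inv_eq_of_mul_eq_one_right (liftTwo_sq hJ hA ha)
  have ib := inv_eq_of_mul_eq_one_right (liftTwo_sq hJ hA hb)
  have iab := inv_eq_of_mul_eq_one_right (liftTwo_sq hJ hA (mul_mem ha hb))
  rw [mul_inv_rev, ia, ib] at iab
  exact iab.symm

/-- The elementary abelian subgroup of order `2 ^ 11`. -/
noncomputable def vZero (hJ : Cfsg.IsOfJankoFourTypeWith z P) (A : Subgroup M) : Subgroup G :=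
  liftTwo hJ A ⊔ fixA hJ A

theorem liftTwo_le_normalizer_fixA : liftTwo hJ A ≤ Subgroup.normalizer (fixA hJ A : Set G) :=
  le_normalizer_of_conj fun k hk x hx => by
    rw [fixA_commute_liftTwo hJ hA hx hk, mul_inv_cancel_right]; exact hx

theorem mem_vZero {v : G} :
    v ∈ vZero hJ A ↔ ∃ a ∈ liftTwo hJ A, ∃ x ∈ fixA hJ A, a * x = v :=
  CfsgLib.Solvable.mem_sup_of_le_normalizer (liftTwo_le_normalizer_fixA hJ hA)

theorem elementary_vZero : Cfsg.IsElementaryAbelian 2 (vZero hJ A) := by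
  have key : ∀ v ∈ vZero hJ A, ∀ w ∈ vZero hJ A, v * w = w * v := by
    intro v hv w hw
    obtain ⟨a, ha, x, hx, rfl⟩ := (mem_vZero hJ hA).1 hv
    obtain ⟨b, hb, y, hy, rfl⟩ := (mem_vZero hJ hA).1 hw
    calc a * x * (b * y) = a * (x * b) * y := by group
      _ = a * b * (x * y) := by rw [← fixA_commute_liftTwo hJ hA hx hb]; group
      _ = b * a * (y * x) := by rw [liftTwo_comm hJ hA ha hb, fixA_comm hJ hA hx hy]
      _ = b * (a * y) * x := by group
      _ = b * y * (a * x) := by rw [fixA_commute_liftTwo hJ hA hy ha]; group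
  refine ⟨⟨⟨fun v w => Subtype.ext (key v v.2 w w.2)⟩⟩, fun v hv => ?_⟩
  obtain ⟨a, ha, x, hx, rfl⟩ := (mem_vZero hJ hA).1 hv
  rw [(show Commute a x from fixA_commute_liftTwo hJ hA hx ha).mul_pow, pow_two, pow_two,
    liftTwo_sq hJ hA ha, fixA_sq hJ hA hx, one_mul]

theorem liftTwo_inf_fixA : liftTwo hJ A ⊓ fixA hJ A = Subgroup.zpowers z :=
  le_antisymm (fun _ hx => E_inf_liftTwo hJ A ▸ ⟨fixA_le hJ A hx.2, hx.1⟩)
    (Subgroup.zpowers_le.2 ⟨z_mem_liftTwo hJ A, z_mem_fixA hJ A⟩)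

theorem card_vZero : Nat.card ↥(vZero hJ A) = 2 ^ 11 := by
  have h := CfsgLib.Solvable.card_sup_mul_card_inf (liftTwo_le_normalizer_fixA hJ hA)
  rw [liftTwo_inf_fixA hJ hA, card_zpowers_z hJ, card_fixA hJ hA,
    (liftTwo_spec hJ hA.card hA.exp).1] at h
  show Nat.card ↥(liftTwo hJ A ⊔ fixA hJ A) = _
  omega

theorem vZero_le_H : vZero hJ A ≤ cH z := sup_le (liftTwo_le_H hJ A) ((fixA_le hJ A).trans E_le_H)

theorem z_mem_vZero : z ∈ vZero hJ A := Subgroup.mem_sup_right (z_mem_fixA hJ A)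

theorem vZero_inf_E : vZero hJ A ⊓ cE z = fixA hJ A := by
  refine le_antisymm (fun v hv => ?_) (le_inf le_sup_right (fixA_le hJ A))
  obtain ⟨a, ha, x, hx, rfl⟩ := (mem_vZero hJ hA).1 hv.1
  have haE : a ∈ cE z := (Subgroup.mul_mem_cancel_right _ (fixA_le hJ A hx)).1 hv.2
  have haz : a ∈ Subgroup.zpowers z := E_inf_liftTwo hJ A ▸ ⟨haE, ha⟩
  exact mul_mem (Subgroup.zpowers_le.2 (z_mem_fixA hJ A) haz) hx

/-- An element of order five normalising `A` centralises a subgroup of order eight of the fixed subgroup. -/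
theorem card_fixA_inf_five {l : G} (hl : l ∈ cC z P) (hl5 : l ^ 5 = 1) (hls : quo hJ ⟨l, hl⟩ = s) :
    Nat.card ↥(fixA hJ A ⊓ Subgroup.centralizer ({l} : Set G)) = 8 := by
  haveI : Fact (Nat.Prime 5) := ⟨Nat.prime_five⟩
  set X := fixA hJ A with hX
  set N := pre hJ (Subgroup.normalizer (A : Set M)) with hN
  have hlN : l ∈ N := (mem_pre hJ).2 ⟨hl, by rw [hls]; exact hA.five_mem⟩
  have hp : IsPGroup 5 ↥(Subgroup.zpowers l) :=
    IsPGroup.of_card (n := 1) (by rw [Nat.card_zpowers, pow_one, orderOf_five hJ hl hl5 hA.five hls])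
  have hmod := card_modEq_centralizer hp
    ((Subgroup.zpowers_le.2 hlN).trans (normalizer_fixA hJ A))
  have hcz : Subgroup.centralizer (Subgroup.zpowers l : Set G) = Subgroup.centralizer ({l} : Set G) := by
    rw [Subgroup.zpowers_eq_closure, Subgroup.centralizer_closure]
  rw [hcz, card_fixA hJ hA] at hmod
  obtain ⟨k, hk, e⟩ := card_pow hJ
    (inf_le_left.trans (fixA_le hJ A) : X ⊓ Subgroup.centralizer ({l} : Set G) ≤ cE z)
  have hle := Subgroup.card_le_of_le (inf_le_left : X ⊓ Subgroup.centralizer ({l} : Set G) ≤ X)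
  rw [e, card_fixA hJ hA] at hle
  rw [e] at hmod ⊢
  have hk7 : k = 3 ∨ k = 7 :=
    (by decide : ∀ k < 14, 128 % 5 = 2 ^ k % 5 → 2 ^ k ≤ 128 → k = 3 ∨ k = 7) k (by omega) hmod hle
  rcases hk7 with rfl | rfl
  · rfl
  exfalso
  have hXc : X ⊓ Subgroup.centralizer ({l} : Set G) = X :=
    Subgroup.eq_of_le_of_card_ge inf_le_left (by rw [e, card_fixA hJ hA]; norm_num)
  let K1 : Subgroup G := N ⊓ Subgroup.centralizer (X : Set G)
  have hK1 : l ∈ K1 := ⟨hlN, Subgroup.mem_centralizer_iff.2 fun x hx =>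
    (Subgroup.mem_centralizer_singleton_iff.1 (hXc.ge hx).2)⟩
  have hsub : Subgroup.closure {w | ∃ g ∈ Subgroup.normalizer (A : Set M), w = g * s * g⁻¹} ≤ img hJ K1 := by
    refine (Subgroup.closure_le _).2 ?_
    rintro w ⟨g, hg, rfl⟩
    obtain ⟨⟨c, hc⟩, rfl⟩ := quo_surjective hJ g
    have hcN : c ∈ N := (mem_pre hJ).2 ⟨hc, hg⟩
    refine (mem_img hJ).2 ⟨c * l * c⁻¹, mul_mem (mul_mem hc hl) (inv_mem hc),
      Subgroup.mem_inf.2 ⟨mul_mem (mul_mem hcN hlN) (inv_mem hcN),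
        conj_centralizer_mem hJ (normalizer_fixA hJ A hcN) hK1.2⟩, ?_⟩
    rw [show (⟨c * l * c⁻¹, _⟩ : ↥(cC z P)) = ⟨c, hc⟩ * ⟨l, hl⟩ * ⟨c, hc⟩⁻¹ from rfl,
      map_mul, map_mul, map_inv, hls]
  obtain ⟨x, hx, y, hy, hxy⟩ := hA.five_nine
  have hP := P_le_of_nine hJ (K := K1) ⟨x, hsub hx, y, hsub hy, hxy⟩
  have : X ≤ Subgroup.zpowers z := fun x hx => E_inf_centralizer hJ ▸ ⟨fixA_le hJ A hx,
    Subgroup.mem_centralizer_iff.2 fun p hp => (Subgroup.mem_centralizer_iff.1 (hP hp).2 x hx).symm⟩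
  have := Subgroup.card_le_of_le this
  rw [card_fixA hJ hA, card_zpowers_z hJ] at this
  omega

/-- An element of order five normalising `A` centralises at most 32 elements of `E`. -/
theorem card_E_inf_five {l : G} (hl : l ∈ cC z P) (hl5 : l ^ 5 = 1) (hls : quo hJ ⟨l, hl⟩ = s) :
    Nat.card ↥(cE z ⊓ Subgroup.centralizer ({l} : Set G)) ≤ 32 := by
  haveI : Fact (Nat.Prime 5) := ⟨Nat.prime_five⟩
  haveI : Fact (Nat.Prime 3) := ⟨Nat.prime_three⟩
  set X := fixA hJ A with hX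
  set N := pre hJ (Subgroup.normalizer (A : Set M)) with hN
  have hlN : l ∈ N := (mem_pre hJ).2 ⟨hl, by rw [hls]; exact hA.five_mem⟩
  have hp : IsPGroup 5 ↥(Subgroup.zpowers l) :=
    IsPGroup.of_card (n := 1) (by rw [Nat.card_zpowers, pow_one, orderOf_five hJ hl hl5 hA.five hls])
  have hlH : Subgroup.zpowers l ≤ cH z := Subgroup.zpowers_le.2 hl.1
  have hmod := card_modEq_centralizer hp (hlH.trans H_le_normalizer_E)
  have hcz : Subgroup.centralizer (Subgroup.zpowers l : Set G) = Subgroup.centralizer ({l} : Set G) := by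
    rw [Subgroup.zpowers_eq_closure, Subgroup.centralizer_closure]
  rw [hcz, card_E hJ] at hmod
  set W := cE z ⊓ Subgroup.centralizer ({l} : Set G) with hW
  obtain ⟨k, hk, e⟩ := card_pow hJ (inf_le_left : W ≤ cE z)
  rw [e] at hmod ⊢
  have hk5 : k ≤ 5 ∨ 9 ≤ k :=
    (by decide : ∀ k < 14, 2 ^ 13 % 5 = 2 ^ k % 5 → k ≤ 5 ∨ 9 ≤ k) k (by omega) hmod
  rcases hk5 with hk5 | hk9
  · exact le_trans (Nat.pow_le_pow_right (by norm_num) hk5) (by norm_num)
  exfalso
  have hXE : X ≤ cE z := fixA_le hJ A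
  have hEX : cE z ≤ Subgroup.normalizer (X : Set G) := le_normalizer_of_z_mem hJ hXE (z_mem_fixA hJ A)
  have hWn : W ≤ Subgroup.normalizer (X : Set G) := inf_le_left.trans hEX
  have hcard := CfsgLib.Solvable.card_sup_mul_card_inf hWn
  have hWX : Nat.card ↥(W ⊓ X) ≤ 8 := by
    rw [← card_fixA_inf_five hJ hA hl hl5 hls]
    exact Subgroup.card_le_of_le fun x hx => ⟨hx.2, hx.1.2⟩
  have h9 : 2 ^ 9 ≤ Nat.card W := by rw [e]; exact Nat.pow_le_pow_right (by norm_num) hk9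
  rw [card_fixA hJ hA] at hcard
  have htop : W ⊔ X = cE z := by
    refine Subgroup.eq_of_le_of_card_ge (sup_le inf_le_left hXE) ?_
    rw [card_E hJ]
    by_contra hlt
    have h1 := Nat.mul_le_mul (Nat.le_pred_of_lt (not_le.1 hlt)) hWX
    rw [hcard] at h1
    simp only [Nat.reducePow, Nat.reduceSub, Nat.pred_eq_sub_one, Nat.reduceMul] at h1
    omega
  let K2 : Subgroup G := N ⊓ fixer (cE z) X
  have hK2 : l ∈ K2 := by
    refine ⟨hlN, mem_fixer.2 ⟨H_le_normalizer_E hl.1, normalizer_fixA hJ A hlN, fun a ha => ?_⟩⟩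
    rw [← htop] at ha
    obtain ⟨w, hw, x, hx, rfl⟩ := (CfsgLib.Solvable.mem_sup_of_le_normalizer hWn).1 ha
    have hlw : l * w = w * l := (Subgroup.mem_centralizer_singleton_iff.1 hw.2).symm
    rw [show l * (w * x) * l⁻¹ * (w * x)⁻¹ = (l * w * l⁻¹) * (l * x * l⁻¹ * x⁻¹) * w⁻¹ by group,
      hlw, mul_inv_cancel_right]
    exact (Subgroup.mem_normalizer_iff.1 (hWn hw) _).1
      (mul_mem ((Subgroup.mem_normalizer_iff.1 (normalizer_fixA hJ A hlN) x).1 hx) (inv_mem hx))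
  have hsub : Subgroup.closure {w | ∃ g ∈ Subgroup.normalizer (A : Set M), w = g * s * g⁻¹} ≤ img hJ K2 := by
    refine (Subgroup.closure_le _).2 ?_
    rintro w ⟨g, hg, rfl⟩
    obtain ⟨⟨c, hc⟩, rfl⟩ := quo_surjective hJ g
    have hcN : c ∈ N := (mem_pre hJ).2 ⟨hc, hg⟩
    refine (mem_img hJ).2 ⟨c * l * c⁻¹, mul_mem (mul_mem hc hl) (inv_mem hc),
      Subgroup.mem_inf.2 ⟨mul_mem (mul_mem hcN hlN) (inv_mem hcN),
        conj_fixer (H_le_normalizer_E hc.1) (normalizer_fixA hJ A hcN) hK2.2⟩, ?_⟩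
    rw [show (⟨c * l * c⁻¹, _⟩ : ↥(cC z P)) = ⟨c, hc⟩ * ⟨l, hl⟩ * ⟨c, hc⟩⁻¹ from rfl,
      map_mul, map_mul, map_inv, hls]
  obtain ⟨x, hx, y, hy, hxy⟩ := hA.five_nine
  have hP := P_le_of_nine hJ (K := K2) ⟨x, hsub hx, y, hsub hy, hxy⟩
  have hle : cE z ≤ X := fun a ha => by
    obtain ⟨x, hx, hc⟩ := exists_fixed_mul (isPGroup_P hJ)
      ((P_le_pre hJ _).trans (normalizer_fixA hJ A))
      (by rw [card_fixA hJ hA]; norm_num) (fun p hp => (mem_fixer.1 (hP hp).2).2.2 a ha)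
    have hm : x * a ∈ Subgroup.zpowers z := E_inf_centralizer hJ ▸ ⟨mul_mem (hXE hx) ha, hc⟩
    exact (Subgroup.mul_mem_cancel_left _ hx).1 (Subgroup.zpowers_le.2 (z_mem_fixA hJ A) hm)
  have := Subgroup.card_le_of_le hle
  rw [card_fixA hJ hA, card_E hJ] at this
  norm_num at this

/-- Elements of order five fused into the normaliser of `A`. -/
theorem card_E_inf_fused {t : M} {h : M} {k : ℕ} (ht : orderOf t = 5) (hconj : h * t * h⁻¹ = s ^ k)
    {m : G} (hm : m ∈ cC z P) (hm5 : m ^ 5 = 1) (hmt : quo hJ ⟨m, hm⟩ = t) :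
    Nat.card ↥(cE z ⊓ Subgroup.centralizer ({m} : Set G)) ≤ 32 := by
  obtain ⟨l, hl, hl5, hls⟩ := exists_five hJ hA.five
  obtain ⟨⟨c, hc⟩, rfl⟩ := quo_surjective hJ h
  have hk : ¬ 5 ∣ k := fun hk => by
    obtain ⟨j, rfl⟩ := hk
    have h5 : s ^ 5 = 1 := hA.five ▸ pow_orderOf_eq_one s
    rw [pow_mul, h5, one_pow] at hconj
    have ht1 : t = 1 := by
      have := mul_inv_eq_one.1 hconj
      exact mul_eq_left.1 this
    rw [ht1, orderOf_one] at ht
    omega
  have he : c * m * c⁻¹ = l ^ k := by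
    refine five_unique hJ (mul_mem (mul_mem hc hm) (inv_mem hc)) (pow_mem hl k)
      (by rw [conj_pow, hm5, mul_one, mul_inv_cancel])
      (by rw [← pow_mul, mul_comm, pow_mul, hl5, one_pow]) ?_
    rw [show (⟨c * m * c⁻¹, _⟩ : ↥(cC z P)) = ⟨c, hc⟩ * ⟨m, hm⟩ * ⟨c, hc⟩⁻¹ from rfl,
      show (⟨l ^ k, _⟩ : ↥(cC z P)) = ⟨l, hl⟩ ^ k from rfl,
      map_mul, map_mul, map_inv, map_pow, hmt, hls]
    exact hconj
  refine le_trans ?_ (card_E_inf_five hJ hA hl hl5 hls)
  refine le_trans (Subgroup.card_map_of_injective (f := (MulAut.conj c).toMonoidHom)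
    (MulAut.conj c).injective).ge ?_
  refine Subgroup.card_le_of_le ?_
  rintro _ ⟨x, hx, rfl⟩
  refine ⟨(Subgroup.mem_normalizer_iff.1 (H_le_normalizer_E hc.1) x).1 hx.1, ?_⟩
  have hcomm : Commute (c * x * c⁻¹) (l ^ k) := by
    rw [← he]
    show c * x * c⁻¹ * (c * m * c⁻¹) = c * m * c⁻¹ * (c * x * c⁻¹)
    have hxm := Subgroup.mem_centralizer_singleton_iff.1 hx.2
    calc c * x * c⁻¹ * (c * m * c⁻¹) = c * (x * m) * c⁻¹ := by group
      _ = c * (m * x) * c⁻¹ := by rw [hxm]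
      _ = _ := by group
  have h5 : Nat.Coprime k 5 := ((Nat.prime_five.coprime_iff_not_dvd).2 hk).symm
  obtain ⟨j, hj⟩ := exists_pow_eq_self_of_coprime (x := l) (n := k)
    (h5.coprime_dvd_right (orderOf_dvd_of_pow_eq_one hl5))
  refine Subgroup.mem_centralizer_singleton_iff.2 ?_
  have := hcomm.pow_right j
  rwa [hj] at this

end First

section Second

/-- A step of the ascending fixed series of a 2-element on a subgroup of order 128. -/
theorem exists_fixed_step {U L : Subgroup G} {u : G} (hu : IsPGroup 2 ↥(Subgroup.zpowers u))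
    (hUE : U ≤ cE z) (hU : Nat.card U = 128) (hLU : L ≤ U)
    (hUL : U ≤ Subgroup.normalizer (L : Set G)) (huU : u ∈ Subgroup.normalizer (U : Set G))
    (huL : u ∈ Subgroup.normalizer (L : Set G)) (hlt : Nat.card L < 128) :
    ∃ x ∈ U, x ∉ L ∧ u * x * u⁻¹ * x⁻¹ ∈ L := by
  haveI : Fact (Nat.Prime 2) := ⟨Nat.prime_two⟩
  by_contra hno
  push Not at hno
  have hmod := relIndex_modEq_one hu (Subgroup.zpowers_le.2 huU) (Subgroup.zpowers_le.2 huL)
    hUL (fun x hx hfx => by_contra fun hxL => hno x hx hxL (hfx u (Subgroup.mem_zpowers u)))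
  obtain ⟨i, hi, ei⟩ := card_pow hJ (hLU.trans hUE)
  have hc := card_mul_relIndex hJ hLU
  rw [hU, ei] at hc
  rw [ei] at hlt
  have hr : L.relIndex U % 2 = 1 := hmod
  have hi7 : i < 7 := (by decide : ∀ i < 14, 2 ^ i < 128 → i < 7) i (by omega) hlt
  interval_cases i <;> omega

/-- The square of `u` fixes all cosets of `D` in `U`. -/
theorem sq_mem_fixer {U D : Subgroup G} {u : G} (hu : IsPGroup 2 ↥(Subgroup.zpowers u))
    (hUE : U ≤ cE z) (hU : Nat.card U = 128) (hDU : D ≤ U) (hD : Nat.card D = 8) (hzD : z ∈ D)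
    (huU : u ∈ Subgroup.normalizer (U : Set G)) (huD : u ∈ Subgroup.normalizer (D : Set G))
    (huP : ∀ p ∈ P, p⁻¹ * u * p = u) (hPU : P ≤ Subgroup.normalizer (U : Set G))
    (hPD : P ≤ Subgroup.normalizer (D : Set G)) : u * u ∈ fixer U D := by
  have hUD : U ≤ Subgroup.normalizer (D : Set G) :=
    hUE.trans (le_normalizer_of_z_mem hJ (hDU.trans hUE) hzD)
  set F := fixedSub U D hUD ({u} : Set G) with hF
  have hFU : F ≤ U := fixedSub_le
  have hDF : D ≤ F := fun d hd => mem_fixedSub.2 ⟨hDU hd, fun q hq => by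
    rw [Set.mem_singleton_iff.1 hq]
    exact mul_mem ((Subgroup.mem_normalizer_iff.1 huD d).1 hd) (inv_mem hd)⟩
  have hzF : z ∈ F := hDF hzD
  have hUF : U ≤ Subgroup.normalizer (F : Set G) :=
    hUE.trans (le_normalizer_of_z_mem hJ (hFU.trans hUE) hzF)
  have hPF : P ≤ Subgroup.normalizer (F : Set G) := le_normalizer_of_conj fun p hp x hx =>
    conj_fixedSub (hPU hp) (hPD hp) (fun q hq => by
      rw [Set.mem_singleton_iff.1 hq, huP p hp]; rfl) hx
  have huF : u ∈ Subgroup.normalizer (F : Set G) :=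
    le_normalizer_of_conj (K := Subgroup.zpowers u) (fun w hw x hx => conj_fixedSub
      (Subgroup.zpowers_le.2 huU hw) (Subgroup.zpowers_le.2 huD hw) (fun q hq => by
        rw [Set.mem_singleton_iff.1 hq]
        obtain ⟨i, rfl⟩ := hw
        rw [Set.mem_singleton_iff]; group) hx) (Subgroup.mem_zpowers u)
  set F2 := fixedSub U F hUF ({u} : Set G) with hF2
  have hFF2 : F ≤ F2 := fun x hx => mem_fixedSub.2 ⟨hFU hx, fun q hq => by
    rw [Set.mem_singleton_iff.1 hq]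
    exact mul_mem ((Subgroup.mem_normalizer_iff.1 huF x).1 hx) (inv_mem hx)⟩
  have hPF2 : P ≤ Subgroup.normalizer (F2 : Set G) := le_normalizer_of_conj fun p hp x hx =>
    conj_fixedSub (hPU hp) (hPF hp) (fun q hq => by
      rw [Set.mem_singleton_iff.1 hq, huP p hp]; rfl) hx
  obtain ⟨x, hxU, hxD, hx⟩ := exists_fixed_step hJ hu hUE hU hDU hUD huU huD (by rw [hD]; norm_num)
  have hlt1 : Nat.card D < Nat.card F := CfsgLib.Solvable.card_lt_of_lt
    (SetLike.lt_iff_le_and_exists.2 ⟨hDF, x, mem_fixedSub.2 ⟨hxU, fun q hq => by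
      rw [Set.mem_singleton_iff.1 hq]; exact hx⟩, hxD⟩)
  have hF2top : U ≤ F2 := by
    refine (Subgroup.eq_of_le_of_card_ge fixedSub_le ?_ : F2 = U).ge
    rw [hU]
    obtain ⟨i, hi, ei⟩ := card_pow hJ (hFU.trans hUE)
    obtain ⟨j, hj, ej⟩ := card_pow hJ (fixedSub_le.trans hUE : F2 ≤ cE z)
    have h1 := card_mod_three hJ (hFU.trans hUE) hzF hPF
    have h2 := card_mod_three hJ (fixedSub_le.trans hUE : F2 ≤ cE z) (hFF2 hzF) hPF2
    have hle : Nat.card F ≤ Nat.card F2 := Subgroup.card_le_of_le hFF2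
    have hor : Nat.card F < Nat.card F2 ∨ 128 ≤ Nat.card F := by
      refine (lt_or_ge (Nat.card F) 128).elim (fun hlt => Or.inl ?_) Or.inr
      obtain ⟨x, hxU, hxF, hx⟩ := exists_fixed_step hJ hu hUE hU hFU hUF huU huF hlt
      exact CfsgLib.Solvable.card_lt_of_lt
        (SetLike.lt_iff_le_and_exists.2 ⟨hFF2, x, mem_fixedSub.2 ⟨hxU, fun q hq => by
          rw [Set.mem_singleton_iff.1 hq]; exact hx⟩, hxF⟩)
    rw [hD, ei] at hlt1
    rw [ei] at h1 hle hor
    rw [ej] at h2 hle hor ⊢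
    exact (by decide : ∀ i < 14, ∀ j < 14, (2 ^ i % 3 = 2 ∧ 2 ^ j % 3 = 2 ∧ 8 < 2 ^ i ∧
      2 ^ i ≤ 2 ^ j ∧ (2 ^ i < 2 ^ j ∨ 128 ≤ 2 ^ i)) → 128 ≤ 2 ^ j) i (by omega) j (by omega)
      ⟨h1, h2, hlt1, hle, hor⟩
  refine mem_fixer.2 ⟨mul_mem huU huU, mul_mem huD huD, fun a ha => ?_⟩
  set f := u * a * u⁻¹ * a⁻¹ with hf
  have hfF : f ∈ F := (mem_fixedSub.1 (hF2top ha)).2 u rfl
  have hfD : u * f * u⁻¹ * f⁻¹ ∈ D := (mem_fixedSub.1 hfF).2 u rfl
  have hff : f * f ∈ D := by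
    rcases (gen_E hJ).square f (hUE (hFU hfF)) with e1 | e1 <;> rw [e1]
    · exact one_mem _
    · exact hzD
  rw [show u * u * a * (u * u)⁻¹ * a⁻¹ = (u * f * u⁻¹ * f⁻¹) * (f * f) by rw [hf]; group]
  exact mul_mem hfD hff

variable {A B : Subgroup M} {s t y : M} (hA : FirstKind A s) (hB : SecondKind B t y)

include hA hB

theorem card_fixA_second_ne (hfused : ∃ (h : M) (k : ℕ), h * t * h⁻¹ = s ^ k) :
    Nat.card ↥(fixA hJ B) ≠ 128 := by
  haveI : Fact (Nat.Prime 5) := ⟨Nat.prime_five⟩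
  haveI : Fact (Nat.Prime 2) := ⟨Nat.prime_two⟩
  intro e
  set U := fixA hJ B with hU
  have hUE : U ≤ cE z := fixA_le hJ B
  obtain ⟨m, hm, hm5, hmt⟩ := exists_five hJ hB.five
  obtain ⟨h0, k0, hf⟩ := hfused
  have hCle := card_E_inf_fused hJ hA hB.five hf hm hm5 hmt
  have hmU : m ∈ Subgroup.normalizer (U : Set G) :=
    normalizer_fixA hJ B ((mem_pre hJ).2 ⟨hm, by rw [hmt]; exact hB.five_mem⟩)
  set D := U ⊓ Subgroup.centralizer (Subgroup.zpowers m : Set G) with hD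
  have hp : IsPGroup 5 ↥(Subgroup.zpowers m) :=
    IsPGroup.of_card (n := 1) (by rw [Nat.card_zpowers, pow_one, orderOf_five hJ hm hm5 hB.five hmt])
  have hmod := card_modEq_centralizer hp (Subgroup.zpowers_le.2 hmU)
  rw [← hD, e] at hmod
  have hD32 : Nat.card D ≤ 32 := le_trans (Subgroup.card_le_of_le fun x hx => Subgroup.mem_inf.2
    ⟨hUE hx.1, Subgroup.mem_centralizer_singleton_iff.2
      (Subgroup.mem_centralizer_iff.1 hx.2 m (Subgroup.mem_zpowers m)).symm⟩) hCle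
  have hDE : D ≤ cE z := inf_le_left.trans hUE
  obtain ⟨j, hj, ej⟩ := card_pow hJ hDE
  have hD8 : Nat.card D = 8 := by
    rw [ej] at hmod hD32 ⊢
    exact (by decide : ∀ j < 14, 128 % 5 = 2 ^ j % 5 → 2 ^ j ≤ 32 → 2 ^ j = 8) j (by omega) hmod hD32
  have hzD : z ∈ D := Subgroup.mem_inf.2 ⟨z_mem_fixA hJ B, Subgroup.mem_centralizer_iff.2 fun q hq => by
    obtain ⟨i, rfl⟩ := hq
    exact ((show Commute m z from mem_cH.1 hm.1).zpow_left i).eq⟩
  obtain ⟨⟨u0, hu0⟩, hu0y⟩ := quo_surjective hJ y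
  have hy9 : y ^ 9 = y := by
    rw [show 9 = 4 + 4 + 1 from rfl, pow_add, pow_add, hB.four, one_mul, one_mul, pow_one]
  obtain ⟨u, huC, huy, hu8⟩ : ∃ u, ∃ h : u ∈ cC z P, quo hJ ⟨u, h⟩ = y ∧ u ^ 8 = 1 := by
    refine ⟨u0 ^ 9, pow_mem hu0 9, ?_, ?_⟩
    · rw [show (⟨u0 ^ 9, pow_mem hu0 9⟩ : ↥(cC z P)) = ⟨u0, hu0⟩ ^ 9 from rfl, map_pow, hu0y, hy9]
    · have hu04 : u0 ^ 4 ∈ cK z P := by
        have : quo hJ (⟨u0, hu0⟩ ^ 4) = 1 := by rw [map_pow, hu0y, hB.four]
        exact (quo_eq_one_iff hJ).1 this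
      rw [← pow_mul, show 9 * 8 = 4 * (6 * 3) from rfl, pow_mul, pow_mul, K_pow_six hJ hu04, one_pow]
  have hpu : IsPGroup 2 ↥(Subgroup.zpowers u) := by
    have hd : orderOf u ∣ 2 ^ 3 := orderOf_dvd_of_pow_eq_one (by simpa using hu8)
    obtain ⟨i, -, hi⟩ := (Nat.dvd_prime_pow Nat.prime_two).1 hd
    exact IsPGroup.of_card (n := i) (by rw [Nat.card_zpowers, hi])
  have humu : u * m * u⁻¹ = m * m := by
    refine five_unique hJ (mul_mem (mul_mem huC hm) (inv_mem huC)) (mul_mem hm hm)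
      (by rw [conj_pow, hm5, mul_one, mul_inv_cancel])
      (by rw [(Commute.refl m).mul_pow, hm5, one_mul]) ?_
    rw [show (⟨u * m * u⁻¹, _⟩ : ↥(cC z P)) = ⟨u, huC⟩ * ⟨m, hm⟩ * ⟨u, huC⟩⁻¹ from rfl,
      show (⟨m * m, _⟩ : ↥(cC z P)) = ⟨m, hm⟩ * ⟨m, hm⟩ from rfl,
      map_mul, map_mul, map_inv, map_mul, huy, hmt]
    exact hB.square
  have huU : u ∈ Subgroup.normalizer (U : Set G) :=
    normalizer_fixA hJ B ((mem_pre hJ).2 ⟨huC, by rw [huy]; exact hB.four_mem⟩)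
  have hum : u ∈ Subgroup.normalizer (Subgroup.zpowers m : Set G) := by
    rw [Subgroup.mem_normalizer_iff_map_conj_eq, MonoidHom.map_zpowers,
      show ((MulAut.conj u : G ≃* G) : G →* G) m = m * m from humu]
    refine le_antisymm (Subgroup.zpowers_le.2 (mul_mem (Subgroup.mem_zpowers m) (Subgroup.mem_zpowers m)))
      (Subgroup.zpowers_le.2 ⟨(3 : ℕ), ?_⟩)
    show (m * m) ^ ((3 : ℕ) : ℤ) = m
    rw [zpow_natCast, show (m * m) ^ 3 = m ^ 5 * m by simp only [pow_succ, pow_zero, one_mul, mul_assoc], hm5, one_mul]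
  have huD : u ∈ Subgroup.normalizer (D : Set G) :=
    inf_centralizer_normalizer hJ (K := Subgroup.zpowers u) (Subgroup.zpowers_le.2 huU)
      (Subgroup.zpowers_le.2 hum) (Subgroup.mem_zpowers u)
  have hPm : ∀ p ∈ P, ∀ q ∈ cC z P, q * p = p * q := fun p hp q hq =>
    (Subgroup.mem_centralizer_iff.1 hq.2 p hp).symm
  have hPU : P ≤ Subgroup.normalizer (U : Set G) := (P_le_pre hJ _).trans (normalizer_fixA hJ B)
  have hPD : P ≤ Subgroup.normalizer (D : Set G) :=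
    inf_centralizer_normalizer hJ hPU fun p hp => Subgroup.centralizer_le_normalizer _
      (Subgroup.mem_centralizer_iff.2 fun q hq => hPm p hp q (Subgroup.zpowers_le.2 hm hq))
  have hwfix : u * u ∈ fixer U D := sq_mem_fixer hJ hpu hUE e inf_le_left hD8 hzD huU huD
    (fun p hp => by rw [mul_assoc, hPm p hp u huC, inv_mul_cancel_left]) hPU hPD
  have hmD : m ∈ Subgroup.normalizer (D : Set G) :=
    inf_centralizer_normalizer hJ (K := Subgroup.zpowers m) (Subgroup.zpowers_le.2 hmU)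
      Subgroup.le_normalizer (Subgroup.mem_zpowers m)
  have hinv : u * u * m * (u * u)⁻¹ = m⁻¹ := by
    calc u * u * m * (u * u)⁻¹ = u * (u * m * u⁻¹) * u⁻¹ := by group
      _ = u * (m * m) * u⁻¹ := by rw [humu]
      _ = (u * m * u⁻¹) * (u * m * u⁻¹) := by group
      _ = m * m * (m * m) := by rw [humu]
      _ = m⁻¹ := eq_inv_of_mul_eq_one_left (by
        rw [← hm5]; simp only [pow_succ, pow_zero, one_mul, mul_assoc])
  have hm2 : m * m ∈ fixer U D := by
    have h1 := mul_mem (conj_fixer hmU hmD hwfix) (inv_mem hwfix)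
    have h2 : m * (u * u) * m⁻¹ * (u * u)⁻¹ = m * m := by
      calc m * (u * u) * m⁻¹ * (u * u)⁻¹ = m * (u * u * m * (u * u)⁻¹)⁻¹ := by
            simp only [mul_inv_rev, inv_inv, mul_assoc]
        _ = m * m := by rw [hinv, inv_inv]
    rwa [h2] at h1
  have hmfix : m ∈ fixer U D := by
    have := pow_mem hm2 3
    rwa [show (m * m) ^ 3 = m ^ 5 * m by simp only [pow_succ, pow_zero, one_mul, mul_assoc], hm5, one_mul] at this
  have hUle : U ≤ D := fun a ha => by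
    obtain ⟨d, hd, hc⟩ := exists_fixed_mul hp (K := D) (e := a) (Subgroup.zpowers_le.2 hmD)
      (by rw [hD8]; norm_num)
      (fun q hq => (mem_fixer.1 (Subgroup.zpowers_le.2 hmfix hq)).2.2 a ha)
    exact (Subgroup.mul_mem_cancel_left _ hd).1
      (Subgroup.mem_inf.2 ⟨mul_mem (Subgroup.mem_inf.1 hd).1 ha, hc⟩)
  have := Subgroup.card_le_of_le hUle
  rw [hD8, e] at this
  omega

omit hA in
theorem card_fixA_second_lt : Nat.card ↥(fixA hJ B) < 512 := by
  by_contra h9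
  rw [not_lt] at h9
  set U := fixA hJ B with hU
  have hUE : U ≤ cE z := fixA_le hJ B
  obtain ⟨g, hg⟩ := hB.gen
  obtain ⟨⟨c, hc⟩, rfl⟩ := quo_surjective hJ g
  have hcz : c * z * c⁻¹ = z := by rw [mem_cH.1 hc.1, mul_inv_cancel_right]
  set U' := U.map (MulAut.conj c).toMonoidHom with hU'
  have hzU' : z ∈ U' := ⟨z, z_mem_fixA hJ B, hcz⟩
  have hU'E : U' ≤ cE z := by
    rintro _ ⟨x, hx, rfl⟩
    exact (Subgroup.mem_normalizer_iff.1 (H_le_normalizer_E hc.1) x).1 (hUE hx)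
  have hcU' : Nat.card U' = Nat.card U := Subgroup.card_map_of_injective (MulAut.conj c).injective
  set W := U ⊓ U' with hW
  have hzW : z ∈ W := Subgroup.mem_inf.2 ⟨z_mem_fixA hJ B, hzU'⟩
  have hn : U ≤ Subgroup.normalizer (U' : Set G) := hUE.trans (le_normalizer_of_z_mem hJ hU'E hzU')
  have hcard := CfsgLib.Solvable.card_sup_mul_card_inf hn
  have hsup := Subgroup.card_le_of_le (sup_le hUE hU'E)
  rw [card_E hJ] at hsup
  rw [hcU', ← hW] at hcard
  have hW32 : 32 ≤ Nat.card W := by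
    by_contra hlt
    have h1 := Nat.mul_le_mul h9 h9
    have h2 := Nat.mul_le_mul hsup (Nat.le_pred_of_lt (not_le.1 hlt))
    rw [hcard] at h2
    simp only [Nat.reducePow, Nat.reduceMul, Nat.pred_eq_sub_one, Nat.reduceSub] at h1 h2
    omega
  let K3 : Subgroup G := cC z P ⊓ fixer W (Subgroup.zpowers z)
  have key : ∀ b ∈ cC z P, (∀ x ∈ W, b * x * b⁻¹ * x⁻¹ ∈ Subgroup.zpowers z) → b ∈ K3 := by
    intro b hb hfix
    have hmap : W.map (MulAut.conj b).toMonoidHom = W := by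
      refine Subgroup.eq_of_le_of_card_ge ?_
        (Subgroup.card_map_of_injective (MulAut.conj b).injective).ge
      rintro _ ⟨x, hx, rfl⟩
      show b * x * b⁻¹ ∈ W
      rw [show b * x * b⁻¹ = (b * x * b⁻¹ * x⁻¹) * x by group]
      exact mul_mem (Subgroup.zpowers_le.2 hzW (hfix x hx)) hx
    exact Subgroup.mem_inf.2 ⟨hb, mem_fixer.2 ⟨Subgroup.mem_normalizer_iff_map_conj_eq.2 hmap,
      H_le_normalizer_z hb.1, hfix⟩⟩
  have hlift : ∀ b ∈ B, ∃ b', ∃ hb' : b' ∈ cC z P, b' ∈ liftTwo hJ B ∧ quo hJ ⟨b', hb'⟩ = b := by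
    intro b hb
    obtain ⟨⟨b0, hb0⟩, e0⟩ := quo_surjective hJ b
    have hb2 : b * b = 1 := hB.exp b hb
    have h2 : b0 ^ 2 ∈ cK z P := by
      have : quo hJ (⟨b0, hb0⟩ ^ 2) = 1 := by rw [map_pow, e0, pow_two, hb2]
      exact (quo_eq_one_iff hJ).1 this
    have hq : quo hJ ⟨b0 ^ 3, pow_mem hb0 3⟩ = b := by
      rw [show (⟨b0 ^ 3, pow_mem hb0 3⟩ : ↥(cC z P)) = ⟨b0, hb0⟩ ^ 3 from rfl, map_pow, e0, pow_succ,
        pow_two, hb2, one_mul]
    refine ⟨b0 ^ 3, pow_mem hb0 3, Subgroup.subset_closure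
      ⟨(mem_pre hJ).2 ⟨pow_mem hb0 3, by rw [hq]; exact hb⟩, ?_⟩, hq⟩
    rw [← pow_mul, show 3 * 4 = 2 * 6 from rfl, pow_mul, K_pow_six hJ h2]
  have hsub : B ⊔ B.map (MulAut.conj (quo hJ ⟨c, hc⟩)).toMonoidHom ≤ img hJ K3 := by
    refine sup_le (fun b hb => ?_) ?_
    · obtain ⟨b', hb', hbl, rfl⟩ := hlift b hb
      exact (mem_img hJ).2 ⟨b', hb',
        key b' hb' (fun x hx => (mem_fixE.1 (Subgroup.mem_inf.1 hx).1).2 b' hbl), rfl⟩
    · rintro _ ⟨b, hb, rfl⟩
      obtain ⟨b', hb', hbl, rfl⟩ := hlift b hb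
      refine (mem_img hJ).2 ⟨c * b' * c⁻¹, mul_mem (mul_mem hc hb') (inv_mem hc),
        key _ (mul_mem (mul_mem hc hb') (inv_mem hc)) (fun x hx => ?_), ?_⟩
      · obtain ⟨x0, hx0, rfl⟩ := (Subgroup.mem_inf.1 hx).2
        show c * b' * c⁻¹ * (c * x0 * c⁻¹) * (c * b' * c⁻¹)⁻¹ * (c * x0 * c⁻¹)⁻¹ ∈ _
        rw [show c * b' * c⁻¹ * (c * x0 * c⁻¹) * (c * b' * c⁻¹)⁻¹ * (c * x0 * c⁻¹)⁻¹ =
          c * (b' * x0 * b'⁻¹ * x0⁻¹) * c⁻¹ by group]
        exact (Subgroup.mem_normalizer_iff.1 (H_le_normalizer_z hc.1) _).1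
          ((mem_fixE.1 hx0).2 b' hbl)
      · show quo hJ (⟨c, hc⟩ * ⟨b', hb'⟩ * ⟨c, hc⟩⁻¹) = _
        rw [map_mul, map_mul, map_inv]; rfl
  obtain ⟨x, hx, y', hy, hxy⟩ := hg
  have hP := P_le_of_nine hJ (K := K3) ⟨x, hsub hx, y', hsub hy, hxy⟩
  have hle : W ≤ Subgroup.zpowers z := fun a ha => mem_zpowers_of_P_fixed hJ
    (hUE (Subgroup.mem_inf.1 ha).1)
    fun p hp => (mem_fixer.1 (Subgroup.mem_inf.1 (hP hp)).2).2.2 a ha
  have := Subgroup.card_le_of_le hle
  rw [card_zpowers_z hJ] at this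
  omega

/-- The fixed subgroup of the other kind is small. -/
theorem card_fixA_second (hfused : ∃ (h : M) (k : ℕ), h * t * h⁻¹ = s ^ k) :
    Nat.card ↥(fixA hJ B) ≤ 32 := by
  obtain ⟨k, hk, e⟩ := card_pow hJ (fixA_le hJ B)
  have h3 := card_mod_three hJ (fixA_le hJ B) (z_mem_fixA hJ B)
    ((P_le_pre hJ _).trans (normalizer_fixA hJ B))
  have h128 := card_fixA_second_ne hJ hA hB hfused
  have h512 := card_fixA_second_lt hJ hB
  rw [e] at h3 h128 h512 ⊢
  exact (by decide : ∀ k < 14, 2 ^ k % 3 = 2 → 2 ^ k ≠ 128 → 2 ^ k < 512 → 2 ^ k ≤ 32)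
    k (by omega) h3 h128 h512

end Second

end CfsgLib.J4Local
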