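/-
Janko-four type: the elementary abelian subgroups of order `2 ^ 11`.
-/
import Cfsg.Agent.J4Local.Module

set_option autoImplicit false
set_option linter.style.haveILetI false

namespace CfsgLib.J4Local

open CfsgLib.J4Local.M22Elem CfsgLib.J4Local.FixMod

variable {G : Type*} [Group G]

/-- The subgroup generated by `E` and the centraliser of `P`. -/
abbrev cJ (z : G) (P : Subgroup G) : Subgroup G := cC z P ⊔ cE z

theorem cJ_le_H {z : G} {P : Subgroup G} : cJ z P ≤ cH z := sup_le inf_le_left E_le_H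

theorem eq_one_or_of_card_three {P : Subgroup G} (hP : Nat.card P = 3) {p q : G} (hp : p ∈ P)
    (hp1 : p ≠ 1) (hq : q ∈ P) : q = 1 ∨ q = p ∨ q = p⁻¹ := by
  haveI : Fact (Nat.Prime 3) := ⟨Nat.prime_three⟩
  haveI : Finite P := Nat.finite_of_card_ne_zero (by omega)
  have h1 : (⟨p, hp⟩ : P) ≠ 1 := fun h => hp1 (congrArg Subtype.val h)
  have hm : (⟨q, hq⟩ : P) ∈ Submonoid.powers (⟨p, hp⟩ : P) :=
    mem_powers_of_prime_card hP h1
  have h3 : p ^ 3 = 1 := by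
    have h := pow_card_eq_one' (G := ↥P) (x := ⟨p, hp⟩)
    rw [hP] at h
    exact congrArg Subtype.val h
  obtain ⟨n, hn⟩ := hm
  have hn' : p ^ n = q := congrArg Subtype.val hn
  rw [← hn', ← Nat.mod_add_div n 3, pow_add, pow_mul, h3, one_pow, mul_one]
  have hlt : n % 3 < 3 := Nat.mod_lt _ (by norm_num)
  interval_cases (n % 3)
  · exact Or.inl (pow_zero p)
  · exact Or.inr (Or.inl (pow_one p))
  · exact Or.inr (Or.inr (eq_inv_of_mul_eq_one_left (by rw [← pow_succ, h3])))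

theorem isPGroup_of_sq {H : Type*} [Group H] (K : Subgroup H) (h : ∀ x ∈ K, x * x = 1) :
    IsPGroup 2 ↥K :=
  fun x => ⟨1, Subtype.ext (by simpa [pow_two] using h x x.2)⟩

theorem comm_of_sq {H : Type*} [Group H] {K : Subgroup H} (h : ∀ x ∈ K, x * x = 1) {a b : H}
    (ha : a ∈ K) (hb : b ∈ K) : a * b = b * a := by
  have i := inv_eq_of_mul_eq_one_right (h _ (mul_mem ha hb))
  rw [mul_inv_rev, inv_eq_of_mul_eq_one_right (h a ha), inv_eq_of_mul_eq_one_right (h b hb)] at i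
  exact i.symm

theorem exists_card_two_pow [Finite G] {K : Subgroup G} (h : IsPGroup 2 ↥K) :
    ∃ k, Nat.card K = 2 ^ k := by
  haveI : Fact (Nat.Prime 2) := ⟨Nat.prime_two⟩
  exact IsPGroup.iff_card.1 h

variable [Finite G] {z : G} {P : Subgroup G} (hJ : Cfsg.IsOfJankoFourTypeWith z P)

include hJ

theorem H_le_normalizer_J : cH z ≤ Subgroup.normalizer (cJ z P : Set G) := by
  rw [H_eq hJ]
  refine sup_le (le_normalizer_of_conj fun a ha x hx => ?_) (le_sup_right.trans Subgroup.le_normalizer)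
  obtain ⟨c, hc, e, he, rfl⟩ := (CfsgLib.Solvable.mem_sup_of_le_normalizer
    (inf_le_left.trans H_le_normalizer_E)).1 hx
  rw [show a * (c * e) * a⁻¹ = (a * c * a⁻¹) * (a * e * a⁻¹) by group]
  exact mul_mem (Subgroup.mem_sup_left (Subgroup.mem_inf.2 ⟨mul_mem (mul_mem ha.1 hc.1) (inv_mem ha.1),
      conj_centralizer_mem hJ ha.2 hc.2⟩))
    (Subgroup.mem_sup_right ((Subgroup.mem_normalizer_iff.1 (H_le_normalizer_E ha.1) e).1 he))

theorem card_H_le : Nat.card ↥(cH z) ≤ 2 * Nat.card ↥(cJ z P) := by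
  have h1 := CfsgLib.Solvable.card_sup_mul_card_inf
    (inf_le_left.trans H_le_normalizer_E : cA z P ≤ Subgroup.normalizer (cE z : Set G))
  have h2 := CfsgLib.Solvable.card_sup_mul_card_inf
    (inf_le_left.trans H_le_normalizer_E : cC z P ≤ Subgroup.normalizer (cE z : Set G))
  have hi : 2 ≤ Nat.card ↥(cA z P ⊓ cE z) := by
    rw [← card_zpowers_z hJ]
    exact Subgroup.card_le_of_le (Subgroup.zpowers_le.2 (Subgroup.mem_inf.2
      ⟨C_le_A ⟨z_mem_H, z_mem_C_P hJ⟩, z_mem_E hJ⟩))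
  rw [← H_eq hJ, card_A hJ, card_E hJ] at h1
  rw [show cC z P ⊓ cE z = Subgroup.zpowers z by rw [inf_comm]; exact E_inf_C hJ,
    card_zpowers_z hJ, card_C hJ, card_E hJ] at h2
  have h3 := Nat.mul_le_mul_left (Nat.card ↥(cH z)) hi
  rw [h1] at h3
  simp only [Nat.reducePow, Nat.reduceMul] at h2 h3
  change Nat.card ↥(cC z P ⊔ cE z) * 2 = _ at h2
  show _ ≤ 2 * Nat.card ↥(cC z P ⊔ cE z)
  omega

theorem card_le_two_mul_inf_J {V : Subgroup G} (hV : V ≤ cH z) :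
    Nat.card V ≤ 2 * Nat.card ↥(V ⊓ cJ z P) := by
  have h := CfsgLib.Solvable.card_sup_mul_card_inf (hV.trans (H_le_normalizer_J hJ))
  have h2 := (Subgroup.card_le_of_le (sup_le hV (cJ_le_H (P := P)))).trans (card_H_le hJ)
  refine Nat.le_of_mul_le_mul_right ?_ (Nat.card_pos (α := ↥(cJ z P)))
  rw [← h]
  calc Nat.card ↥(V ⊔ cJ z P) * Nat.card ↥(V ⊓ cJ z P)
      ≤ 2 * Nat.card ↥(cJ z P) * Nat.card ↥(V ⊓ cJ z P) := Nat.mul_le_mul_right _ h2
    _ = 2 * Nat.card ↥(V ⊓ cJ z P) * Nat.card ↥(cJ z P) := by ring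

/-- The elements of the centraliser of `P` in `W E`. -/
def comp (_hJ : Cfsg.IsOfJankoFourTypeWith z P) (W : Subgroup G) : Subgroup G := (W ⊔ cE z) ⊓ cC z P

/-- The image of `W E` in M22. -/
noncomputable def imgE (W : Subgroup G) : Subgroup M := img hJ (comp hJ W)

theorem imgE_mono {W W' : Subgroup G} (h : W ≤ W') : imgE hJ W ≤ imgE hJ W' := fun d hd => by
  obtain ⟨c, hc, hcW, e⟩ := (mem_img hJ).1 hd
  exact (mem_img hJ).2 ⟨c, hc, Subgroup.mem_inf.2
    ⟨sup_le_sup_right h _ (Subgroup.mem_inf.1 hcW).1, hc⟩, e⟩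

theorem imgE_conj {W : Subgroup G} {c : G} (hc : c ∈ cC z P) :
    imgE hJ (W.map (MulAut.conj c).toMonoidHom) ≤
      (imgE hJ W).map (MulAut.conj (quo hJ ⟨c, hc⟩)).toMonoidHom := by
  intro d hd
  obtain ⟨x, hx, hxW, e⟩ := (mem_img hJ).1 hd
  have hle : W.map (MulAut.conj c).toMonoidHom ⊔ cE z ≤ (W ⊔ cE z).map (MulAut.conj c).toMonoidHom := by
    refine sup_le (Subgroup.map_mono le_sup_left) fun y hy =>
      ⟨c⁻¹ * y * c, Subgroup.mem_sup_right ?_, ?_⟩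
    · simpa using (Subgroup.mem_normalizer_iff.1 (H_le_normalizer_E (inv_mem hc.1)) y).1 hy
    · show c * (c⁻¹ * y * c) * c⁻¹ = y
      group
  obtain ⟨y, hy, rfl⟩ := hle (Subgroup.mem_inf.1 hxW).1
  have hyC : y ∈ cC z P := by
    have h : c⁻¹ * (c * y * c⁻¹) * c ∈ cC z P := mul_mem (mul_mem (inv_mem hc) hx) hc
    rwa [show c⁻¹ * (c * y * c⁻¹) * c = y by group] at h
  refine ⟨quo hJ ⟨y, hyC⟩, (mem_img hJ).2 ⟨y, hyC, Subgroup.mem_inf.2 ⟨hy, hyC⟩, rfl⟩, ?_⟩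
  rw [← e]
  show quo hJ ⟨c, hc⟩ * quo hJ ⟨y, hyC⟩ * (quo hJ ⟨c, hc⟩)⁻¹ = _
  rw [← map_mul, ← map_inv, ← map_mul]
  rfl

theorem z_mem_comp (W : Subgroup G) : z ∈ comp hJ W :=
  Subgroup.mem_inf.2 ⟨Subgroup.mem_sup_right (z_mem_E hJ), z_mem_H, z_mem_C_P hJ⟩

theorem isPGroup_sup_E {W : Subgroup G} (hW : W ≤ cH z) (hp : IsPGroup 2 ↥W) :
    IsPGroup 2 ↥(W ⊔ cE z) := by
  haveI : Fact (Nat.Prime 2) := ⟨Nat.prime_two⟩
  obtain ⟨a, ha⟩ := exists_card_two_pow hp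
  have hd := CfsgLib.Solvable.card_sup_dvd (hW.trans H_le_normalizer_E)
  rw [ha, card_E hJ, ← pow_add] at hd
  obtain ⟨k, -, hk⟩ := (Nat.dvd_prime_pow Nat.prime_two).1 hd
  exact IsPGroup.of_card hk

theorem isPGroup_imgE {W : Subgroup G} (hW : W ≤ cH z) (hp : IsPGroup 2 ↥W) :
    IsPGroup 2 ↥(imgE hJ W) := by
  have h : IsPGroup 2 ↥(comp hJ W) := (isPGroup_sup_E hJ hW hp).to_le inf_le_left
  exact ((h.comap_subtype (K := cC z P)).map (quo hJ))

/-- Inside `J`, a 2-subgroup is bounded by its image and its intersection with `E`. -/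
theorem card_le_mul_imgE {L : Subgroup G} (hLJ : L ≤ cJ z P) (hp : IsPGroup 2 ↥L) :
    Nat.card L ≤ Nat.card (imgE hJ L) * Nat.card ↥(L ⊓ cE z) := by
  haveI : Fact (Nat.Prime 2) := ⟨Nat.prime_two⟩
  have hLH : L ≤ cH z := hLJ.trans cJ_le_H
  have hC : comp hJ L ≤ cC z P := inf_le_right
  have hCn : comp hJ L ≤ Subgroup.normalizer (cE z : Set G) :=
    hC.trans (inf_le_left.trans H_le_normalizer_E)
  have hsup : L ⊔ cE z ≤ comp hJ L ⊔ cE z := by
    intro x hx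
    obtain ⟨c, hc, e, he, rfl⟩ := (CfsgLib.Solvable.mem_sup_of_le_normalizer
      (inf_le_left.trans H_le_normalizer_E)).1 ((sup_le hLJ le_sup_right : L ⊔ cE z ≤ cJ z P) hx)
    exact mul_mem (Subgroup.mem_sup_left (Subgroup.mem_inf.2
      ⟨(Subgroup.mul_mem_cancel_right _ (Subgroup.mem_sup_right he)).1 hx, hc⟩)) (Subgroup.mem_sup_right he)
  have hinf : comp hJ L ⊓ cE z = Subgroup.zpowers z :=
    le_antisymm (fun x hx => E_inf_C hJ ▸ ⟨hx.2, hC hx.1⟩)
      (Subgroup.zpowers_le.2 (Subgroup.mem_inf.2 ⟨z_mem_comp hJ L, z_mem_E hJ⟩))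
  have hker : Nat.card ↥(comp hJ L ⊓ cK z P) = 2 := by
    rw [← card_zpowers_z hJ]
    refine congrArg (fun K : Subgroup G => Nat.card K) (le_antisymm (fun x hx => ?_)
      (Subgroup.zpowers_le.2 (Subgroup.mem_inf.2
        ⟨z_mem_comp hJ L, zpowers_le_K hJ (Subgroup.mem_zpowers z)⟩)))
    obtain ⟨hxC, hxK⟩ := Subgroup.mem_inf.1 hx
    refine mem_zpowers_of_K hJ hxK ?_
    obtain ⟨n, hn⟩ := (isPGroup_sup_E hJ hLH hp) ⟨x, (Subgroup.mem_inf.1 hxC).1⟩
    have hn' : x ^ 2 ^ n = 1 := congrArg Subtype.val hn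
    have h1 : orderOf x ∣ Nat.gcd (2 ^ n) 6 :=
      Nat.dvd_gcd (orderOf_dvd_of_pow_eq_one hn') (orderOf_dvd_of_pow_eq_one (K_pow_six hJ hxK))
    have hco : Nat.Coprime (2 ^ n) 3 := (by norm_num : Nat.Coprime 2 3).pow_left n
    rw [show 6 = 3 * 2 from rfl, hco.symm.gcd_mul_left_cancel_right] at h1
    exact orderOf_dvd_iff_pow_eq_one.1 ((h1.trans (Nat.gcd_dvd_right _ _)).trans (by norm_num))
  have e1 := CfsgLib.Solvable.card_sup_mul_card_inf (hLH.trans H_le_normalizer_E)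
  have e2 := CfsgLib.Solvable.card_sup_mul_card_inf hCn
  have e3 := card_img hJ hC
  rw [hinf, card_zpowers_z hJ] at e2
  rw [hker] at e3
  have h4 := Subgroup.card_le_of_le hsup
  rw [← e3] at e2
  show Nat.card L ≤ Nat.card (img hJ (comp hJ L)) * _
  refine Nat.le_of_mul_le_mul_right ?_ (Nat.card_pos (α := ↥(cE z)))
  rw [← e1]
  calc Nat.card ↥(L ⊔ cE z) * Nat.card ↥(L ⊓ cE z)
      ≤ Nat.card ↥(comp hJ L ⊔ cE z) * Nat.card ↥(L ⊓ cE z) := Nat.mul_le_mul_right _ h4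
    _ = Nat.card (img hJ (comp hJ L)) * Nat.card ↥(L ⊓ cE z) * Nat.card ↥(cE z) := by
        have : Nat.card ↥(comp hJ L ⊔ cE z) = Nat.card (img hJ (comp hJ L)) * Nat.card ↥(cE z) := by
          apply Nat.eq_of_mul_eq_mul_right (show 0 < 2 by norm_num)
          rw [e2]; ring
        rw [this]; ring

theorem fixE_le_fix_comp {L : Subgroup G} (hL : L ≤ cH z) :
    fixE z (L : Set G) ≤ fixE z (comp hJ L : Set G) := by
  intro f hf
  refine mem_fixE.2 ⟨hf.1, fun c hc => ?_⟩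
  obtain ⟨w, hw, e, he, rfl⟩ := (CfsgLib.Solvable.mem_sup_of_le_normalizer
    (hL.trans H_le_normalizer_E)).1 (Subgroup.mem_inf.1 hc).1
  rw [show w * e * f * (w * e)⁻¹ * f⁻¹ = (w * (e * f * e⁻¹ * f⁻¹) * w⁻¹) * (w * f * w⁻¹ * f⁻¹) by group]
  refine mul_mem ((Subgroup.mem_normalizer_iff.1 (H_le_normalizer_z (hL hw)) _).1 ?_) (hf.2 w hw)
  exact (CfsgLib.Extra2.mem_zpowers_iff (z_sq hJ)).2 ((gen_E hJ).comm e he f hf.1)

theorem imgE_sq {L : Subgroup G} (hL : L ≤ cH z) (hexp : ∀ v ∈ L, v * v = 1) :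
    ∀ d ∈ imgE hJ L, d * d = 1 := by
  intro d hd
  obtain ⟨c, hc, hcL, rfl⟩ := (mem_img hJ).1 hd
  obtain ⟨w, hw, e, he, rfl⟩ := (CfsgLib.Solvable.mem_sup_of_le_normalizer
    (hL.trans H_le_normalizer_E)).1 (Subgroup.mem_inf.1 hcL).1
  rw [← map_mul, quo_eq_one_iff]
  refine zpowers_le_K hJ (E_inf_C hJ ▸ ⟨?_, mul_mem hc hc⟩)
  have : w * e * (w * e) = w * e * w⁻¹ * e := by
    rw [inv_eq_of_mul_eq_one_right (hexp w hw)]; group
  show w * e * (w * e) ∈ cE z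
  rw [this]
  exact mul_mem ((Subgroup.mem_normalizer_iff.1 (H_le_normalizer_E (hL hw)) e).1 he) he

/-- When the image is a given subgroup of order sixteen, `comp` contains its lift. -/
theorem liftTwo_le_comp {L : Subgroup G} (hL : L ≤ cH z) (hexp : ∀ v ∈ L, v * v = 1) {D : Subgroup M}
    (hD : D ≤ imgE hJ L) (hc : Nat.card D = 16) (hDexp : ∀ d ∈ D, d * d = 1) :
    liftTwo hJ D ≤ comp hJ L := by
  intro c hcD
  obtain ⟨hcC, hcd⟩ := (mem_pre hJ).1 (liftTwo_le hJ D hcD)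
  obtain ⟨c', hc', hc'L, e⟩ := (mem_img hJ).1 (hD hcd)
  have hk := (quo_eq_iff hJ).1 e
  simp only at hk
  have h4c : c ^ 4 = 1 := (liftTwo_spec hJ hc hDexp).2 c hcD
  obtain ⟨n, hn⟩ := (isPGroup_sup_E hJ hL (isPGroup_of_sq L hexp))
    ⟨c' * c', mul_mem (Subgroup.mem_inf.1 hc'L).1 (Subgroup.mem_inf.1 hc'L).1⟩
  have h2 : c' * c' ∈ cK z P := by
    have h := hDexp _ hcd
    rw [← e, ← map_mul, quo_eq_one_iff] at h
    exact h
  have hn' : (c' * c') ^ 2 ^ n = 1 := congrArg Subtype.val hn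
  have h4c' : c' ^ 4 = 1 := by
    rw [show 4 = 2 * 2 from rfl, pow_mul, pow_two c']
    have h1 : orderOf (c' * c') ∣ Nat.gcd (2 ^ n) 6 :=
      Nat.dvd_gcd (orderOf_dvd_of_pow_eq_one hn') (orderOf_dvd_of_pow_eq_one (K_pow_six hJ h2))
    have hco : Nat.Coprime (2 ^ n) 3 := (by norm_num : Nat.Coprime 2 3).pow_left n
    rw [show 6 = 3 * 2 from rfl, hco.symm.gcd_mul_left_cancel_right] at h1
    exact orderOf_dvd_iff_pow_eq_one.1 (h1.trans (Nat.gcd_dvd_right _ _))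
  have hcom : Commute c' (c'⁻¹ * c) := (K_central hJ hk hc').symm
  have hk4 : (c'⁻¹ * c) ^ 4 = 1 := by
    have : c = c' * (c'⁻¹ * c) := by group
    rw [this, hcom.mul_pow, h4c', one_mul] at h4c
    exact h4c
  have hzk := mem_zpowers_of_K hJ hk hk4
  rw [show c = c' * (c'⁻¹ * c) by group]
  exact mul_mem hc'L (Subgroup.zpowers_le.2 (z_mem_comp hJ L) hzk)

section Classify

variable {T : Sylow 2 M} {A B : Subgroup M} {s t y : M} (hA : FirstKind A s) (hB : SecondKind B t y)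
  (hfused : ∃ (h : M) (k : ℕ), h * t * h⁻¹ = s ^ k)
  (hcl : ∀ D : Subgroup M, D ≤ (T : Subgroup M) → (∀ a ∈ D, a * a = 1) → 16 ≤ Nat.card D →
      D = A ∨ D = B)

include hA hB hfused hcl

theorem fix_small {L : Subgroup G} (hL : L ≤ cH z) (hexp : ∀ v ∈ L, v * v = 1)
    (hT : imgE hJ L ≤ (T : Subgroup M)) (h16 : 16 ≤ Nat.card (imgE hJ L)) :
    Nat.card (imgE hJ L) = 16 ∧
      (imgE hJ L = A ∧ fixE z (comp hJ L : Set G) ≤ fixA hJ A ∨
        Nat.card ↥(fixE z (comp hJ L : Set G)) ≤ 32) := by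
  rcases hcl _ hT (imgE_sq hJ hL hexp) h16 with h | h
  · refine ⟨h ▸ hA.card, Or.inl ⟨h, ?_⟩⟩
    exact fixE_anti (liftTwo_le_comp hJ hL hexp h.ge hA.card hA.exp)
  · refine ⟨h ▸ hB.card, Or.inr ?_⟩
    exact (Subgroup.card_le_of_le (fixE_anti (liftTwo_le_comp hJ hL hexp h.ge hB.card hB.exp))).trans
      (card_fixA_second hJ hA hB hfused)

/-- Outside `J` there is no room. -/
theorem le_J {V : Subgroup G} (hV : V ≤ cH z) (hz : z ∈ V) (hexp : ∀ v ∈ V, v * v = 1)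
    (hbig : 2 ^ 11 ≤ Nat.card V)
    (hT : 16 ≤ Nat.card (imgE hJ (V ⊓ cJ z P)) → imgE hJ (V ⊓ cJ z P) ≤ (T : Subgroup M)) :
    V ≤ cJ z P := by
  by_contra hne
  obtain ⟨o, hoV, hoJ⟩ := SetLike.not_le_iff_exists.1 hne
  set L := V ⊓ cJ z P with hLdef
  set F := fixE z (V : Set G) with hF
  set S := fixE z (comp hJ L : Set G) with hS
  have hLV : L ≤ V := inf_le_left
  have hLexp : ∀ v ∈ L, v * v = 1 := fun v hv => hexp v (hLV hv)
  have hLH : L ≤ cH z := hLV.trans hV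
  obtain ⟨a, ha, e, he, rfl⟩ := (CfsgLib.Solvable.mem_sup_of_le_normalizer
    (inf_le_left.trans H_le_normalizer_E : cA z P ≤ Subgroup.normalizer (cE z : Set G))).1
      (H_eq hJ ▸ hV hoV)
  have haC : a ∉ cC z P := fun h => hoJ (mul_mem (Subgroup.mem_sup_left h) (Subgroup.mem_sup_right he))
  haveI : Nontrivial ↥P := Finite.one_lt_card_iff_nontrivial.1 (by rw [card_P hJ]; norm_num)
  obtain ⟨⟨p, hp⟩, hp1'⟩ := exists_ne (1 : ↥P)
  have hp1 : p ≠ 1 := fun h => hp1' (Subtype.ext h)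
  have hinv : a * p * a⁻¹ = p⁻¹ := by
    have hq := (Subgroup.mem_normalizer_iff.1 ha.2 p).1 hp
    rcases eq_one_or_of_card_three (card_P hJ) hp hp1 hq with h | h | h
    · exact absurd (by simpa using h) hp1
    · refine absurd (Subgroup.mem_inf.2 ⟨ha.1, Subgroup.mem_centralizer_iff.2 fun q hq' => ?_⟩) haC
      have hap : Commute a p := mul_inv_eq_iff_eq_mul.1 h
      rcases eq_one_or_of_card_three (card_P hJ) hp hp1 hq' with rfl | rfl | rfl
      · simp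
      · exact hap.symm.eq
      · exact hap.inv_right.symm.eq
    · exact h
  have hafix : ∀ f ∈ F, a * f * a⁻¹ * f⁻¹ ∈ Subgroup.zpowers z := fun f hf => by
    rw [show a * f * a⁻¹ * f⁻¹ = ((a * e) * (e⁻¹ * f * e⁻¹⁻¹ * f⁻¹) * (a * e)⁻¹) *
      ((a * e) * f * (a * e)⁻¹ * f⁻¹) by group]
    exact mul_mem ((Subgroup.mem_normalizer_iff.1 (H_le_normalizer_z (hV hoV)) _).1
      ((CfsgLib.Extra2.mem_zpowers_iff (z_sq hJ)).2 ((gen_E hJ).comm _ (inv_mem he) f hf.1)))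
      (hf.2 _ hoV)
  have hpH : p ∈ cH z := P_le_H hJ hp
  have hpn := H_le_normalizer_z hpH
  set F' := F.map (MulAut.conj p).toMonoidHom with hF'
  have hFF' : F ⊓ F' ≤ Subgroup.zpowers z := by
    rintro f hf
    obtain ⟨hfF, g, hg, rfl⟩ := Subgroup.mem_inf.1 hf
    change p * g * p⁻¹ ∈ F at hfF
    show p * g * p⁻¹ ∈ Subgroup.zpowers z
    have hgE : g ∈ cE z := hg.1
    -- `p⁻¹ g p` and `p g p⁻¹` agree modulo z, and so does `g`
    have h1 := hafix g hg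
    have h2 := hafix _ hfF
    have h3 : p⁻¹ * (a * g * a⁻¹) * p = a * (p * g * p⁻¹) * a⁻¹ := by
      calc p⁻¹ * (a * g * a⁻¹) * p = (p⁻¹) * (a * g * a⁻¹) * (p⁻¹)⁻¹ := by rw [inv_inv]
        _ = (a * p * a⁻¹) * (a * g * a⁻¹) * (a * p * a⁻¹)⁻¹ := by rw [hinv]
        _ = _ := by group
    have h4 : p⁻¹ * g * p * (p * g * p⁻¹)⁻¹ ∈ Subgroup.zpowers z := by
      have h5 : p⁻¹ * (a * g * a⁻¹ * g⁻¹)⁻¹ * p ∈ Subgroup.zpowers z := by
        simpa using (Subgroup.mem_normalizer_iff.1 (inv_mem hpn) _).1 (inv_mem h1)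
      have := mul_mem h5 h2
      rwa [← h3, show p⁻¹ * (a * g * a⁻¹ * g⁻¹)⁻¹ * p * (p⁻¹ * (a * g * a⁻¹) * p * (p * g * p⁻¹)⁻¹) =
        p⁻¹ * g * p * (p * g * p⁻¹)⁻¹ by group] at this
    have hp3 : p * p * p = 1 := by
      have h := pow_card_eq_one' (G := ↥P) (x := ⟨p, hp⟩)
      rw [card_P hJ, pow_succ, pow_two] at h
      exact congrArg Subtype.val h
    have hpp : p * p = p⁻¹ := eq_inv_of_mul_eq_one_left hp3
    have h6 : g * (p⁻¹ * g * p)⁻¹ ∈ Subgroup.zpowers z := by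
      have := (Subgroup.mem_normalizer_iff.1 hpn _).1 h4
      rwa [show p * (p⁻¹ * g * p * (p * g * p⁻¹)⁻¹) * p⁻¹ = g * ((p * p) * g * (p * p)⁻¹)⁻¹ by
          simp only [mul_inv_rev, inv_inv, mul_assoc, mul_inv_cancel_left],
        hpp, inv_inv] at this
    have h7 : p * g * p⁻¹ * g⁻¹ ∈ Subgroup.zpowers z := by
      have := (Subgroup.mem_normalizer_iff.1 hpn _).1 h6
      rwa [show p * (g * (p⁻¹ * g * p)⁻¹) * p⁻¹ = p * g * p⁻¹ * g⁻¹ by group] at this
    have hgz : g ∈ Subgroup.zpowers z := mem_zpowers_of_P_fixed hJ hgE fun q hq => by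
      rcases eq_one_or_of_card_three (card_P hJ) hp hp1 hq with rfl | rfl | rfl
      · simp
      · exact h7
      · rw [inv_inv, show p⁻¹ * g * p * g⁻¹ = (g * (p⁻¹ * g * p)⁻¹)⁻¹ by group]
        exact inv_mem h6
    exact (Subgroup.mem_normalizer_iff.1 hpn g).1 hgz
  have hFS : F ≤ S := (fixE_anti (fun x hx => hLV hx)).trans (fixE_le_fix_comp hJ hLH)
  have hPS : P ≤ Subgroup.normalizer (S : Set G) := normalizer_fixE (P_le_H hJ) fun q hq c hc => by
    rw [show q * c * q⁻¹ = c by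
      rw [K_central hJ (P_le_K hJ hq) (Subgroup.mem_inf.1 hc).2, mul_inv_cancel_right]]
    exact hc
  have hF'S : F' ≤ S := by
    rintro _ ⟨f, hf, rfl⟩
    exact (Subgroup.mem_normalizer_iff.1 (hPS hp) f).1 (hFS hf)
  have hzF : z ∈ F := z_mem_fixE hJ hV
  have hzF' : z ∈ F' := ⟨z, hzF, by
    show p * z * p⁻¹ = z
    rw [mem_cH.1 hpH, mul_inv_cancel_right]⟩
  have hFn : F ≤ Subgroup.normalizer (F' : Set G) := fixE_le.trans
    (le_normalizer_of_z_mem hJ (hF'S.trans fixE_le) hzF')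
  have hsq : Nat.card F * Nat.card F ≤ 2 * Nat.card S := by
    have h := CfsgLib.Solvable.card_sup_mul_card_inf hFn
    have hc : Nat.card F' = Nat.card F := Subgroup.card_map_of_injective (MulAut.conj p).injective
    rw [hc] at h
    rw [← h, mul_comm 2]
    exact Nat.mul_le_mul (Subgroup.card_le_of_le (sup_le hFS hF'S))
      ((Subgroup.card_le_of_le hFF').trans (card_zpowers_z hJ).le)
  have hBF : L ⊓ cE z ≤ F := fun b hb => mem_fixE.2 ⟨hb.2, fun v hv => by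
    rw [comm_of_sq hexp hv (hLV hb.1), mul_inv_cancel_right, mul_inv_cancel]; exact one_mem _⟩
  have hLb : Nat.card L ≤ Nat.card (imgE hJ L) * Nat.card F :=
    (card_le_mul_imgE hJ (inf_le_right : L ≤ cJ z P) (isPGroup_of_sq L hLexp)).trans
    (Nat.mul_le_mul_left _ (Subgroup.card_le_of_le hBF))
  have hV2 : Nat.card V ≤ 2 * Nat.card L := card_le_two_mul_inf_J hJ hV
  rcases lt_or_ge (Nat.card (imgE hJ L)) 16 with hlt | hge
  · -- small image
    obtain ⟨i, hi⟩ := exists_card_two_pow (isPGroup_imgE hJ hLH (isPGroup_of_sq L hLexp))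
    have hD8 : Nat.card (imgE hJ L) ≤ 8 := by
      rw [hi] at hlt ⊢
      have hi4 : i < 4 := (Nat.pow_lt_pow_iff_right (show 1 < 2 by norm_num)).1 (by simpa using hlt)
      calc 2 ^ i ≤ 2 ^ 3 := Nat.pow_le_pow_right (by norm_num) (by omega)
        _ = 8 := by norm_num
    obtain ⟨k, hk, ek⟩ := card_pow hJ (fixE_le : S ≤ cE z)
    obtain ⟨j, hj, ej⟩ := card_pow hJ (fixE_le : F ≤ cE z)
    have hk3 := card_mod_three hJ (fixE_le : S ≤ cE z) (z_mem_fixE hJ fun c hc => (Subgroup.mem_inf.1 hc).2.1)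
      hPS
    have hk13 : k ≠ 13 := by
      intro h
      have hSE : S = cE z := Subgroup.eq_of_le_of_card_ge fixE_le (by rw [ek, h, card_E hJ])
      have hle : imgE hJ L ≤ ⊥ := by
        intro d hd
        obtain ⟨c, hc, hcL, rfl⟩ := (mem_img hJ).1 hd
        refine Subgroup.mem_bot.2 ((quo_eq_one_iff hJ).2 (zpowers_le_K hJ (E_inf_C hJ ▸ ⟨?_, hc⟩)))
        exact mem_E_of_trivial hJ hc.1 fun b hb => (mem_fixE.1 (hSE.ge hb)).2 c hcL
      have h1 := Subgroup.card_le_of_le hle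
      rw [Subgroup.card_bot] at h1
      have hF8 := Subgroup.card_le_of_le (fixE_le : F ≤ cE z)
      rw [card_E hJ] at hF8
      rw [ek, h] at hsq
      have hj7 : Nat.card F ≤ 128 := by
        rw [ej] at hsq ⊢
        exact (by decide : ∀ j < 14, 2 ^ j * 2 ^ j ≤ 2 * 2 ^ 13 → 2 ^ j ≤ 128) j (by omega) hsq
      have := hLb.trans (Nat.mul_le_mul h1 hj7)
      simp only [Nat.reducePow] at hbig
      omega
    have hF64 : Nat.card F ≤ 64 := by
      rw [ek] at hsq hk3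
      rw [ej] at hsq ⊢
      exact (by decide : ∀ k < 14, ∀ j < 14, (2 ^ j * 2 ^ j ≤ 2 * 2 ^ k ∧ k ≠ 13 ∧ 2 ^ k % 3 = 2) →
        2 ^ j ≤ 64) k (by omega) j (by omega) ⟨hsq, hk13, hk3⟩
    have := hLb.trans (Nat.mul_le_mul hD8 hF64)
    simp only [Nat.reducePow] at hbig
    omega
  · obtain ⟨hD, hS'⟩ := fix_small hJ hA hB hfused hcl hLH hLexp (hT hge) hge
    have hS128 : Nat.card S ≤ 128 := by
      rcases hS' with ⟨-, h⟩ | h
      · exact (Subgroup.card_le_of_le h).trans (card_fixA hJ hA).le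
      · exact h.trans (by norm_num)
    have hF16 : Nat.card F ≤ 16 := by
      obtain ⟨j, hj, ej⟩ := card_pow hJ (fixE_le : F ≤ cE z)
      have := hsq.trans (Nat.mul_le_mul_left 2 hS128)
      rw [ej] at this ⊢
      exact (by decide : ∀ j < 14, 2 ^ j * 2 ^ j ≤ 2 * 128 → 2 ^ j ≤ 16) j (by omega) this
    rw [hD] at hLb
    have := hLb.trans (Nat.mul_le_mul_left 16 hF16)
    simp only [Nat.reducePow] at hbig
    omega

/-- The subgroups of order `2 ^ 11` in standard position. -/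
theorem eq_vZero {V : Subgroup G} (hV : V ≤ cH z) (hz : z ∈ V) (hexp : ∀ v ∈ V, v * v = 1)
    (hbig : 2 ^ 11 ≤ Nat.card V)
    (hT : 16 ≤ Nat.card (imgE hJ (V ⊓ cJ z P)) → imgE hJ (V ⊓ cJ z P) ≤ (T : Subgroup M)) :
    V = vZero hJ A := by
  have hVJ := le_J hJ hA hB hfused hcl hV hz hexp hbig hT
  have hVV : V ⊓ cJ z P = V := inf_eq_left.2 hVJ
  rw [hVV] at hT
  have hp := isPGroup_of_sq V hexp
  have hcard := card_le_mul_imgE hJ hVJ hp
  set B0 := V ⊓ cE z with hB0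
  have hzB : z ∈ B0 := Subgroup.mem_inf.2 ⟨hz, z_mem_E hJ⟩
  have hB0V : fixE z (V : Set G) ≥ B0 := fun b hb => mem_fixE.2 ⟨hb.2, fun v hv => by
    rw [comm_of_sq hexp hv hb.1, mul_inv_cancel_right, mul_inv_cancel]; exact one_mem _⟩
  have hB128 : Nat.card B0 ≤ 128 := by
    have hc : B0 ≤ cE z ⊓ Subgroup.centralizer (B0 : Set G) := fun b hb => Subgroup.mem_inf.2
      ⟨hb.2, Subgroup.mem_centralizer_iff.2 fun w hw => comm_of_sq hexp hw.1 hb.1⟩
    have h := CfsgLib.Extra2.card_mul_card_centralizer (gen_E hJ) hzB inf_le_right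
    have h2 := Nat.mul_le_mul_left (Nat.card B0) (Subgroup.card_le_of_le hc)
    rw [h, card_E hJ] at h2
    obtain ⟨j, hj, ej⟩ := card_pow hJ (inf_le_right : B0 ≤ cE z)
    rw [ej] at h2 ⊢
    exact (by decide : ∀ j < 14, 2 ^ j * 2 ^ j ≤ 2 * 2 ^ 13 → 2 ^ j ≤ 128) j (by omega) h2
  have hge : 16 ≤ Nat.card (imgE hJ V) := by
    by_contra hlt
    have := hcard.trans (Nat.mul_le_mul (Nat.le_pred_of_lt (not_le.1 hlt)) hB128)
    simp only [Nat.reducePow] at hbig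
    simp only [Nat.pred_eq_sub_one, Nat.reduceSub, Nat.reduceMul] at this
    omega
  obtain ⟨hD, hS⟩ := fix_small hJ hA hB hfused hcl hV hexp (hT hge) hge
  have hBS : B0 ≤ fixE z (comp hJ V : Set G) := le_trans hB0V (fixE_le_fix_comp hJ hV)
  rw [hD] at hcard
  simp only [Nat.reducePow] at hbig
  rcases hS with ⟨hDA, hSX⟩ | hS32
  · have hBX : B0 = fixA hJ A := Subgroup.eq_of_le_of_card_ge (hBS.trans hSX) (by
      rw [card_fixA hJ hA]
      by_contra hlt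
      have := hcard.trans (Nat.mul_le_mul_left 16 (Nat.le_pred_of_lt (not_le.1 hlt)))
      simp only [Nat.pred_eq_sub_one, Nat.reduceSub, Nat.reduceMul] at this
      omega)
    refine Subgroup.eq_of_le_of_card_ge ?_ (by
      rw [card_vZero hJ hA]; simpa using hbig)
    intro v hv
    obtain ⟨c, hc, e, he, rfl⟩ := (CfsgLib.Solvable.mem_sup_of_le_normalizer
      (inf_le_left.trans H_le_normalizer_E)).1 (hVJ hv)
    have hcV : c ∈ comp hJ V := Subgroup.mem_inf.2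
      ⟨(Subgroup.mul_mem_cancel_right _ (Subgroup.mem_sup_right he)).1 (Subgroup.mem_sup_left hv), hc⟩
    have hcA : quo hJ ⟨c, hc⟩ ∈ A := hDA.le ((mem_img hJ).2 ⟨c, hc, hcV, rfl⟩)
    obtain ⟨n, hn⟩ := (isPGroup_sup_E hJ hV hp) ⟨c, (Subgroup.mem_inf.1 hcV).1⟩
    have hn' : c ^ 2 ^ n = 1 := congrArg Subtype.val hn
    have h2 : c * c ∈ cK z P := by
      have h := hA.exp _ hcA
      rw [← map_mul, quo_eq_one_iff] at h
      exact h
    have hc4 : c ^ 4 = 1 := by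
      rw [show 4 = 2 * 2 from rfl, pow_mul, pow_two c]
      have h1 : orderOf (c * c) ∣ Nat.gcd (2 ^ n) 6 :=
        Nat.dvd_gcd (orderOf_dvd_of_pow_eq_one (by rw [← pow_two, ← pow_mul, mul_comm, pow_mul, hn', one_pow]))
          (orderOf_dvd_of_pow_eq_one (K_pow_six hJ h2))
      have hco : Nat.Coprime (2 ^ n) 3 := (by norm_num : Nat.Coprime 2 3).pow_left n
      rw [show 6 = 3 * 2 from rfl, hco.symm.gcd_mul_left_cancel_right] at h1
      exact orderOf_dvd_iff_pow_eq_one.1 (h1.trans (Nat.gcd_dvd_right _ _))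
    have hcl' : c ∈ liftTwo hJ A := Subgroup.subset_closure ⟨(mem_pre hJ).2 ⟨hc, hcA⟩, hc4⟩
    refine mul_mem (Subgroup.mem_sup_left hcl') (Subgroup.mem_sup_right ?_)
    rw [← E_inf_centralizer_fixA hJ hA]
    refine Subgroup.mem_inf.2 ⟨he, Subgroup.mem_centralizer_iff.2 fun x hx => ?_⟩
    have hxV : x ∈ V := (Subgroup.mem_inf.1 (hBX.ge hx)).1
    have h1 : Commute x (c * e) := comm_of_sq hexp hxV hv
    have h2 : Commute x c := (fixA_commute_liftTwo hJ hA hx hcl').symm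
    have : Commute x (c⁻¹ * (c * e)) := h2.inv_right.mul_right h1
    rwa [inv_mul_cancel_left] at this
  · exfalso
    have := hcard.trans (Nat.mul_le_mul_left 16 ((Subgroup.card_le_of_le hBS).trans hS32))
    omega

end Classify

theorem map_conj_inf_J {V : Subgroup G} {c : G} (hc : c ∈ cH z) :
    V.map (MulAut.conj c).toMonoidHom ⊓ cJ z P = (V ⊓ cJ z P).map (MulAut.conj c).toMonoidHom := by
  conv_lhs => rw [← Subgroup.mem_normalizer_iff_map_conj_eq.1 (H_le_normalizer_J hJ hc)]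
  exact (Subgroup.map_inf _ _ _ (MulAut.conj c).injective).symm

/-- Subgroups of order at least `2 ^ 11` with images in a common 2-subgroup of M22 are moved to one place. -/
theorem exists_conj_common : ∃ (A : Subgroup M) (s : M), FirstKind A s ∧
    ∀ D : Subgroup M, IsPGroup 2 ↥D → ∃ c ∈ cC z P, ∀ V : Subgroup G, V ≤ cH z → z ∈ V →
      (∀ v ∈ V, v * v = 1) → 2 ^ 11 ≤ Nat.card V → imgE hJ (V ⊓ cJ z P) ≤ D →
      V.map (MulAut.conj c).toMonoidHom = vZero hJ A := by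
  haveI : Fact (Nat.Prime 2) := ⟨Nat.prime_two⟩
  obtain ⟨T, A, B, s, t, y, hA, hB, -, hfused, hcl⟩ := exists_sixteen
  refine ⟨A, s, hA, fun D hD => ?_⟩
  obtain ⟨S, hDS⟩ := hD.exists_le_sylow
  obtain ⟨m, hm⟩ := MulAction.exists_smul_eq M S T
  obtain ⟨⟨c, hc⟩, rfl⟩ := quo_surjective hJ m
  refine ⟨c, hc, fun V hV hz hexp hbig himg => ?_⟩
  refine eq_vZero hJ hA hB hfused hcl ?_ ?_ ?_
    (hbig.trans (Subgroup.card_map_of_injective (MulAut.conj c).injective).ge) fun _ => ?_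
  · rintro _ ⟨v, hv, rfl⟩
    exact mul_mem (mul_mem hc.1 (hV hv)) (inv_mem hc.1)
  · exact ⟨z, hz, by
      show c * z * c⁻¹ = z
      rw [mem_cH.1 hc.1, mul_inv_cancel_right]⟩
  · rintro _ ⟨v, hv, rfl⟩
    show c * v * c⁻¹ * (c * v * c⁻¹) = 1
    rw [show c * v * c⁻¹ * (c * v * c⁻¹) = c * (v * v) * c⁻¹ by group, hexp v hv]
    group
  · rw [map_conj_inf_J hJ hc.1]
    refine (imgE_conj hJ hc).trans ?_
    rintro _ ⟨d, hd, rfl⟩
    rw [← hm, Sylow.coe_subgroup_smul, Subgroup.mem_pointwise_smul_iff_inv_smul_mem]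
    have hd' := hDS (himg hd)
    simpa [MulAut.smul_def, MulAut.conj_symm_apply, mul_assoc] using hd'

/-- A Sylow 2-subgroup inside the centraliser of `z`, with `z` in its centre. -/
theorem exists_sylow_le_H : ∃ T : Sylow 2 G, (T : Subgroup G) ≤ cH z ∧ cE z ≤ (T : Subgroup G) := by
  haveI : Fact (Nat.Prime 2) := ⟨Nat.prime_two⟩
  obtain ⟨T, hT⟩ := (isPGroup_E hJ).exists_le_sylow
  refine ⟨T, ?_, hT⟩
  haveI : Nontrivial ↥(T : Subgroup G) :=
    ⟨⟨⟨z, hT (z_mem_E hJ)⟩, 1, fun h => z_ne_one hJ (congrArg Subtype.val h)⟩⟩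
  obtain ⟨w, hw, hw1⟩ := (Subgroup.bot_or_exists_ne_one (Subgroup.center ↥(T : Subgroup G))).resolve_left
    ((Subgroup.nontrivial_iff_ne_bot _).1 (IsPGroup.center_nontrivial T.isPGroup'))
  have hwc : ∀ x ∈ (T : Subgroup G), x * (w : G) = (w : G) * x := fun x hx =>
    congrArg Subtype.val (Subgroup.mem_center_iff.1 hw ⟨x, hx⟩)
  have hwE : (w : G) ∈ cE z := centralizer_E_le hJ
    ⟨mem_cH.2 (hwc z (hT (z_mem_E hJ))).symm,
      Subgroup.mem_centralizer_iff.2 fun e he => hwc e (hT he)⟩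
  have hwz : (w : G) = z := ((gen_E hJ).center_iff _ hwE fun e he => (hwc e (hT he)).symm).resolve_left
    fun h => hw1 (Subtype.ext h)
  exact fun x hx => mem_cH.2 (hwz ▸ hwc x hx)

/-- In a Sylow 2-subgroup inside `H` there is at most one elementary subgroup of order `2 ^ 11`,
and all such subgroups are conjugate to the standard one. -/
theorem eleven_sylow : ∃ (A : Subgroup M) (s : M), FirstKind A s ∧
    ∀ T : Sylow 2 G, (T : Subgroup G) ≤ cH z → cE z ≤ (T : Subgroup G) →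
      ∃ c ∈ cC z P, ∀ V : Subgroup G, V ≤ (T : Subgroup G) → (∀ v ∈ V, v * v = 1) →
        Nat.card V = 2 ^ 11 → V.map (MulAut.conj c).toMonoidHom = vZero hJ A := by
  obtain ⟨A, s, hA, hcommon⟩ := exists_conj_common hJ
  refine ⟨A, s, hA, fun T hTH hET => ?_⟩
  obtain ⟨c, hc, hV⟩ := hcommon (imgE hJ (T : Subgroup G)) (isPGroup_imgE hJ hTH T.isPGroup')
  refine ⟨c, hc, fun V hVT hexp hcard => ?_⟩
  have hn : V ≤ Subgroup.normalizer (Subgroup.zpowers z : Set G) :=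
    (hVT.trans hTH).trans H_le_normalizer_z
  have hW : V ⊔ Subgroup.zpowers z ≤ (T : Subgroup G) :=
    sup_le hVT (Subgroup.zpowers_le.2 (hET (z_mem_E hJ)))
  have hWexp : ∀ w ∈ V ⊔ Subgroup.zpowers z, w * w = 1 := by
    intro w hw
    obtain ⟨v, hv, u, hu, rfl⟩ := (CfsgLib.Solvable.mem_sup_of_le_normalizer hn).1 hw
    have hvz : Commute v z := mem_cH.1 (hTH (hVT hv))
    rcases (CfsgLib.Extra2.mem_zpowers_iff (z_sq hJ)).1 hu with rfl | rfl
    · rw [mul_one]; exact hexp v hv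
    · rw [← pow_two, hvz.mul_pow, pow_two, pow_two, hexp v hv, z_sq hJ, one_mul]
  have he := hV (V ⊔ Subgroup.zpowers z) (hW.trans hTH)
    (Subgroup.mem_sup_right (Subgroup.mem_zpowers z)) hWexp
    (hcard.ge.trans (Subgroup.card_le_of_le le_sup_left)) (imgE_mono hJ (inf_le_left.trans hW))
  have hWc : Nat.card ↥(V ⊔ Subgroup.zpowers z) = 2 ^ 11 := by
    rw [← card_vZero hJ hA, ← he, Subgroup.card_map_of_injective (MulAut.conj c).injective]
  rwa [← Subgroup.eq_of_le_of_card_ge (le_sup_left : V ≤ V ⊔ Subgroup.zpowers z)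
    (by rw [hcard, hWc])] at he

theorem isElementaryAbelian_map {V : Subgroup G} (f : G ≃* G) (h : Cfsg.IsElementaryAbelian 2 V) :
    Cfsg.IsElementaryAbelian 2 (V.map f.toMonoidHom) := by
  have hsq : ∀ v ∈ V.map f.toMonoidHom, v * v = 1 := by
    rintro _ ⟨v, hv, rfl⟩
    rw [← map_mul, ← pow_two, h.2 v hv, map_one]
  exact ⟨⟨⟨fun a b => Subtype.ext (comm_of_sq hsq a.2 b.2)⟩⟩,
    fun v hv => by rw [pow_two]; exact hsq v hv⟩

/-- A Sylow 2-subgroup has exactly one elementary abelian subgroup of order `2 ^ 11`. -/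
theorem existsUnique_eleven (T : Sylow 2 G) :
    ∃! V : Subgroup G, V ≤ (T : Subgroup G) ∧ Cfsg.IsElementaryAbelian 2 V ∧ Nat.card V = 2 ^ 11 := by
  haveI : Fact (Nat.Prime 2) := ⟨Nat.prime_two⟩
  obtain ⟨A, s, hA, hfix⟩ := eleven_sylow hJ
  obtain ⟨T1, hTH, hET⟩ := exists_sylow_le_H hJ
  obtain ⟨c, -, hc⟩ := hfix T1 hTH hET
  obtain ⟨n, hn⟩ := MulAction.exists_smul_eq G T T1
  have hmap : ∀ V : Subgroup G, V ≤ (T : Subgroup G) →
      V.map (MulAut.conj n).toMonoidHom ≤ (T1 : Subgroup G) := by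
    rintro V hV _ ⟨v, hv, rfl⟩
    rw [← hn, Sylow.coe_subgroup_smul, Subgroup.mem_pointwise_smul_iff_inv_smul_mem]
    simpa [MulAut.smul_def, MulAut.conj_symm_apply, mul_assoc] using hV hv
  refine existsUnique_of_exists_of_unique ?_ ?_
  · obtain ⟨T2, hT2⟩ := (isPGroup_of_sq (vZero hJ A)
      fun v hv => by rw [← pow_two]; exact (elementary_vZero hJ hA).2 v hv).exists_le_sylow
    obtain ⟨k, hk⟩ := MulAction.exists_smul_eq G T2 T
    refine ⟨(vZero hJ A).map (MulAut.conj k).toMonoidHom, ?_,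
      isElementaryAbelian_map hJ _ (elementary_vZero hJ hA),
      (Subgroup.card_map_of_injective (MulAut.conj k).injective).trans (card_vZero hJ hA)⟩
    rintro _ ⟨v, hv, rfl⟩
    rw [← hk, Sylow.coe_subgroup_smul, Subgroup.mem_pointwise_smul_iff_inv_smul_mem]
    simpa [MulAut.smul_def, MulAut.conj_symm_apply, mul_assoc] using hT2 hv
  · rintro V W ⟨hV, hVe, hVc⟩ ⟨hW, hWe, hWc⟩
    have key : ∀ V : Subgroup G, V ≤ (T : Subgroup G) → Cfsg.IsElementaryAbelian 2 V →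
        Nat.card V = 2 ^ 11 →
        (V.map (MulAut.conj n).toMonoidHom).map (MulAut.conj c).toMonoidHom = vZero hJ A :=
      fun V hV hVe hVc => hc _ (hmap V hV)
        (fun v hv => by rw [← pow_two]; exact (isElementaryAbelian_map hJ _ hVe).2 v hv)
        ((Subgroup.card_map_of_injective (MulAut.conj n).injective).trans hVc)
    exact Subgroup.map_injective (MulAut.conj n).injective (Subgroup.map_injective (MulAut.conj c).injective
      ((key V hV hVe hVc).trans (key W hW hWe hWc).symm))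

/-- Every elementary abelian subgroup of order `2 ^ 11` is conjugate to the standard one. -/
theorem exists_conj_eleven : ∃ (A : Subgroup M) (s : M), FirstKind A s ∧
    ∀ V : Subgroup G, Cfsg.IsElementaryAbelian 2 V → Nat.card V = 2 ^ 11 →
      ∃ g : G, V.map (MulAut.conj g).toMonoidHom = vZero hJ A := by
  haveI : Fact (Nat.Prime 2) := ⟨Nat.prime_two⟩
  obtain ⟨A, s, hA, hfix⟩ := eleven_sylow hJ
  obtain ⟨T1, hTH, hET⟩ := exists_sylow_le_H hJ
  obtain ⟨c, -, hc⟩ := hfix T1 hTH hET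
  refine ⟨A, s, hA, fun V hVe hVc => ?_⟩
  obtain ⟨T2, hT2⟩ := (isPGroup_of_sq V fun v hv => by rw [← pow_two]; exact hVe.2 v hv).exists_le_sylow
  obtain ⟨k, hk⟩ := MulAction.exists_smul_eq G T2 T1
  refine ⟨c * k, ?_⟩
  have hle : V.map (MulAut.conj k).toMonoidHom ≤ (T1 : Subgroup G) := by
    rintro _ ⟨v, hv, rfl⟩
    rw [← hk, Sylow.coe_subgroup_smul, Subgroup.mem_pointwise_smul_iff_inv_smul_mem]
    simpa [MulAut.smul_def, MulAut.conj_symm_apply, mul_assoc] using hT2 hv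
  have h := hc _ hle (fun v hv => by rw [← pow_two]; exact (isElementaryAbelian_map hJ _ hVe).2 v hv)
    ((Subgroup.card_map_of_injective (MulAut.conj k).injective).trans hVc)
  rw [← h, Subgroup.map_map]
  congr 1
  ext x
  simp [mul_assoc]

end CfsgLib.J4Local
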