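/-
Small facts used for the local structure at an element of order five: groups of order six, the group of order 168,
and exponents of 2-elements in split extensions of an elementary group of order 8.
-/
import Cfsg.Agent.FiLarge.EightQuot
import Mathlib.GroupTheory.GroupAction.Quotient
import Mathlib.GroupTheory.Complement

set_option autoImplicit false
set_option linter.style.haveILetI false
set_option maxRecDepth 100000

namespace CfsgLib.J4FiveGen

open Subgroup

/-- A non-commutative group of order six is the symmetric group of degree three. -/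
theorem perm_three_of_six {Q : Type*} [Group Q] [Finite Q] (h6 : Nat.card Q = 6) {a b : Q} (ha : a ^ 3 = 1)
    (hab : a * b ≠ b * a) : Nonempty (Q ≃* Equiv.Perm (Fin 3)) := by
  classical
  have ha1 : a ≠ 1 := fun e => hab (by rw [e, one_mul, mul_one])
  have hb1 : b ≠ 1 := fun e => hab (by rw [e, one_mul, mul_one])
  haveI : Fact (Nat.Prime 3) := ⟨Nat.prime_three⟩
  have hao : orderOf a = 3 := orderOf_eq_prime ha ha1
  have hA : Nat.card (zpowers a) = 3 := by rw [Nat.card_zpowers, hao]
  have hidx : (zpowers a).index = 2 := by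
    have := (zpowers a).card_mul_index
    rw [hA, h6] at this
    omega
  have hbA : b ∉ zpowers a := fun h => by
    obtain ⟨i, rfl⟩ := mem_zpowers_iff.1 h
    exact hab ((Commute.refl a).zpow_right i).eq
  have hcomm : ∀ x : Q, zpowers x = ⊤ → a * b = b * a := fun x hx => by
    obtain ⟨i, rfl⟩ := mem_zpowers_iff.1 (hx.ge (mem_top a))
    obtain ⟨j, rfl⟩ := mem_zpowers_iff.1 (hx.ge (mem_top b))
    exact ((Commute.refl x).zpow_zpow i j).eq
  have hd : orderOf b ∣ 6 := h6 ▸ orderOf_dvd_natCard b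
  have hb : orderOf b = 2 := by
    have h2 : b * b ∈ zpowers a := Subgroup.mul_self_mem_of_index_two hidx b
    have hle := Nat.le_of_dvd (by norm_num) hd
    have hpos := orderOf_pos b
    interval_cases hh : orderOf b
    · exact absurd (orderOf_eq_one_iff.1 hh) hb1
    · rfl
    · exfalso
      apply hbA
      have e : b = (b * b) * (b * b) := by
        calc b = b ^ 3 * b := by rw [← hh, pow_orderOf_eq_one, one_mul]
          _ = _ := by simp only [pow_succ, pow_zero, one_mul, mul_assoc]
      rw [e]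
      exact mul_mem h2 h2
    · norm_num at hd
    · norm_num at hd
    · exact absurd (hcomm b (Subgroup.eq_top_of_card_eq _ (by rw [Nat.card_zpowers, hh, h6]))) hab
  have hB : Nat.card (zpowers b) = 2 := by rw [Nat.card_zpowers, hb]
  have h3 : Nat.card (Q ⧸ zpowers b) = 3 := by
    have := (zpowers b).card_eq_card_quotient_mul_card_subgroup
    rw [hB, h6] at this
    omega
  haveI := Fintype.ofFinite (Q ⧸ zpowers b)
  let e : (Q ⧸ zpowers b) ≃ Fin 3 := Fintype.equivFinOfCardEq (by rw [← Nat.card_eq_fintype_card, h3])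
  let f : Q →* Equiv.Perm (Fin 3) := e.permCongrHom.toMonoidHom.comp (MulAction.toPermHom Q (Q ⧸ zpowers b))
  have hinj : Function.Injective f := by
    have hk : (MulAction.toPermHom Q (Q ⧸ zpowers b)).ker = ⊥ := by
      rw [← Subgroup.normalCore_eq_ker, eq_bot_iff]
      intro x hx
      have hxb := Subgroup.normalCore_le _ hx
      obtain ⟨i, rfl⟩ := mem_zpowers_iff.1 hxb
      rw [mem_bot, ← zpow_mod_orderOf, hb]
      rcases (show i % (2 : ℕ) = 0 ∨ i % (2 : ℕ) = 1 by omega) with h | h
      · rw [h, zpow_zero]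
      · exfalso
        rw [← zpow_mod_orderOf, hb, h, zpow_one] at hx
        have hconj := Subgroup.normalCore_le _ ((inferInstance : (zpowers b).normalCore.Normal).conj_mem b hx a)
        obtain ⟨j, hj⟩ := mem_zpowers_iff.1 hconj
        rw [← zpow_mod_orderOf, hb] at hj
        rcases (show j % (2 : ℕ) = 0 ∨ j % (2 : ℕ) = 1 by omega) with h' | h' <;> rw [h'] at hj
        · rw [zpow_zero, eq_comm, conj_eq_one_iff] at hj; exact hb1 hj
        · rw [zpow_one, eq_comm, mul_inv_eq_iff_eq_mul] at hj; exact hab hj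
    exact e.permCongrHom.injective.comp ((MonoidHom.ker_eq_bot_iff _).1 hk)
  exact ⟨MulEquiv.ofBijective f ((Nat.bijective_iff_injective_and_card f).2
    ⟨hinj, by rw [h6, Nat.card_perm, Nat.card_fin]; rfl⟩)⟩

theorem card_SL32 : Nat.card CfsgLib.FiLarge.Eight.SL32 = 168 := by
  rw [Nat.card_eq_fintype_card]; decide +kernel

theorem pow_four_SL32 : ∀ A : CfsgLib.FiLarge.Eight.SL32, A ^ 8 = 1 → A ^ 4 = 1 := by decide +kernel

/-- The projective group is the special linear group here. -/
theorem psl_iso : Nonempty (Matrix.ProjectiveSpecialLinearGroup (Fin 3) (ZMod 2) ≃* CfsgLib.FiLarge.Eight.SL32) :=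
  ⟨(QuotientGroup.quotientMulEquivOfEq CfsgLib.FiLarge.Eight.center_SL32).trans QuotientGroup.quotientBot⟩

/-- In a split extension of an elementary group of order 8 by `L₃(2)`, 2-elements of order at most 8 have
order at most 4. -/
theorem pow_four_of_split {X : Type*} [Group X] [Finite X] (N K : Subgroup X) [N.Normal]
    (hcomm : IsMulCommutative N) (hexp : ∀ n ∈ N, n ^ 2 = 1) (hN : Nat.card N = 8)
    (hiso : Nonempty (X ⧸ N ≃* CfsgLib.FiLarge.Eight.SL32)) (hc : N.IsComplement' K) {g : X} (hg : g ^ 8 = 1) :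
    g ^ 4 = 1 := by
  obtain ⟨ι⟩ := hiso
  have hinj : Function.Injective ((QuotientGroup.mk' N).comp K.subtype) := by
    intro a b h
    have : (a : X)⁻¹ * b ∈ N := QuotientGroup.eq.1 h
    have hK : (a : X)⁻¹ * b ∈ K := mul_mem (inv_mem a.2) b.2
    have h1 : (a : X)⁻¹ * b ∈ (⊥ : Subgroup X) := hc.disjoint.eq_bot ▸ ⟨this, hK⟩
    exact Subtype.ext (inv_mul_eq_one.1 (mem_bot.1 h1))
  obtain ⟨⟨n, k⟩, rfl⟩ := hc.2 g
  set y : X := (n : X) * k with hy
  have hn : (n : X) ∈ N := n.2
  have hk4 : (k : X) ^ 4 = 1 := by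
    have e : QuotientGroup.mk' N y = QuotientGroup.mk' N (k : X) := by
      rw [hy, map_mul, (show QuotientGroup.mk' N (n : X) = 1 from (QuotientGroup.eq_one_iff _).2 hn), one_mul]
    have h8 : ι (QuotientGroup.mk' N (k : X)) ^ 8 = 1 := by rw [← e, ← map_pow, ← map_pow, hg, map_one, map_one]
    have h4 := pow_four_SL32 _ h8
    rw [← map_pow, map_eq_one_iff ι ι.injective, ← map_pow] at h4
    have h4' : ((QuotientGroup.mk' N).comp K.subtype) (k ^ 4) = ((QuotientGroup.mk' N).comp K.subtype) 1 := by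
      rw [map_one, MonoidHom.comp_apply, K.subtype_apply, Subgroup.coe_pow]
      exact h4
    exact congrArg Subtype.val (hinj h4')
  -- conjugation by `k` on `N`
  letI : CommGroup N := { (inferInstance : Group N) with mul_comm := fun a b => hcomm.is_comm.comm a b }
  let c : N →* N := (MulAut.conjNormal (H := N) (k : X)).toMonoidHom
  have hcv : ∀ m : N, ((c m : N) : X) = (k : X) * m * (k : X)⁻¹ := fun m => MulAut.conjNormal_apply _ _
  have hsq : ∀ m : N, m * m = 1 := fun m => Subtype.ext (by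
    rw [Subgroup.coe_mul, ← pow_two]; exact hexp m m.2)
  have hc4 : ∀ m : N, c (c (c (c m))) = m := fun m => Subtype.ext (by
    rw [hcv, hcv, hcv, hcv,
      show (k : X) * ((k : X) * ((k : X) * ((k : X) * (m : X) * (k : X)⁻¹) * (k : X)⁻¹) * (k : X)⁻¹) * (k : X)⁻¹ =
        (k : X) ^ 4 * m * ((k : X) ^ 4)⁻¹ by simp only [pow_succ, pow_zero, one_mul, mul_inv_rev, mul_assoc],
      hk4, inv_one, one_mul, mul_one])
  let d : N →* N := MonoidHom.id N * c
  have hd : ∀ m, d m = m * c m := fun m => rfl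
  have cancel : ∀ a b : N, a * (a * b) = b := fun a b => by rw [← mul_assoc, hsq, one_mul]
  have hd2 : ∀ m, d (d m) = m * c (c m) := fun m => by
    rw [hd, hd, map_mul, mul_assoc, cancel (c m)]
  have hd3 : ∀ m, d (d (d m)) = m * c m * c (c m) * c (c (c m)) := fun m => by
    rw [hd2 (d m), hd, map_mul, map_mul, mul_assoc (m * c m)]
  have hd4 : ∀ m, d (d (d (d m))) = 1 := fun m => by
    rw [hd2, hd2, map_mul, map_mul, hc4, mul_comm m (c (c m)), hsq]
  -- the images strictly decrease
  have hstep : ∀ U : Subgroup N, U.map d ≤ U → (∀ u ∈ U, u = 1) ∨ 2 * Nat.card (U.map d) ≤ Nat.card U := by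
    intro U hU
    rcases hU.eq_or_lt with h | h
    · left
      intro u hu
      rw [← h] at hu
      obtain ⟨u1, hu1, rfl⟩ := hu
      rw [SetLike.mem_coe, ← h] at hu1
      obtain ⟨u2, hu2, rfl⟩ := hu1
      rw [SetLike.mem_coe, ← h] at hu2
      obtain ⟨u3, hu3, rfl⟩ := hu2
      rw [SetLike.mem_coe, ← h] at hu3
      obtain ⟨u4, -, rfl⟩ := hu3
      exact hd4 u4
    · right
      obtain ⟨j, hj⟩ := Subgroup.card_dvd_of_le hU
      have hne : j ≠ 1 := fun e => h.ne (Subgroup.eq_of_le_of_card_ge hU (by rw [hj, e, mul_one]))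
      rcases j with _ | _ | j
      · have := Nat.card_pos (α := U); omega
      · omega
      · rw [hj]; nlinarith
  have hmono : ∀ U : Subgroup N, U.map d ≤ U → (U.map d).map d ≤ U.map d := fun U h => Subgroup.map_mono h
  have h1 : (⊤ : Subgroup N).map d ≤ ⊤ := le_top
  have h3' : ∀ m, d (d (d m)) = 1 := by
    intro m
    have m1 : d m ∈ (⊤ : Subgroup N).map d := ⟨m, mem_top _, rfl⟩
    have m2 : d (d m) ∈ ((⊤ : Subgroup N).map d).map d := ⟨_, m1, rfl⟩
    have m3 : d (d (d m)) ∈ (((⊤ : Subgroup N).map d).map d).map d := ⟨_, m2, rfl⟩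
    rcases hstep _ h1 with e | c1
    · exact e _ (mem_top _)
    rcases hstep _ (hmono _ h1) with e | c2
    · rw [e _ m1, map_one, map_one]
    rcases hstep _ (hmono _ (hmono _ h1)) with e | c3
    · rw [e _ m2, map_one]
    rw [Subgroup.card_top, hN] at c1
    have : Nat.card ((((⊤ : Subgroup N).map d).map d).map d : Subgroup N) ≤ 1 := by omega
    exact (Subgroup.card_le_one_iff_eq_bot _).1 this ▸ m3 |> mem_bot.1
  have hprod : (n : X) * ((k : X) * n * (k : X)⁻¹) * ((k : X) * ((k : X) * n * (k : X)⁻¹) * (k : X)⁻¹) *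
      ((k : X) * ((k : X) * ((k : X) * n * (k : X)⁻¹) * (k : X)⁻¹) * (k : X)⁻¹) = 1 := by
    have h := congrArg Subtype.val ((hd3 ⟨n, hn⟩).symm.trans (h3' _))
    simp only [Subgroup.coe_mul, Subgroup.coe_one, hcv] at h
    exact h
  show y ^ 4 = 1
  calc y ^ 4 = (n : X) * ((k : X) * n * (k : X)⁻¹) * ((k : X) * ((k : X) * n * (k : X)⁻¹) * (k : X)⁻¹) *
        ((k : X) * ((k : X) * ((k : X) * n * (k : X)⁻¹) * (k : X)⁻¹) * (k : X)⁻¹) * (k : X) ^ 4 := by
        rw [hy]; simp only [pow_succ, pow_zero, one_mul, mul_assoc, inv_mul_cancel_left]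
    _ = 1 := by rw [hprod, hk4, one_mul]

end CfsgLib.J4FiveGen
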