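/-
An outer automorphism of the Mathieu group of degree 22 and elements of orders 2, 5 and 7 in the centralisers of
its products with inner involutions.
-/
import Cfsg.Agent.J4Local.M22Elt
import Cfsg.Agent.J4Local.M22Facts

set_option autoImplicit false
set_option maxRecDepth 10000

namespace CfsgLib.J4FiveCert

open Cfsg CfsgLib.Golay CfsgLib.Golay.Cert CfsgLib.J4M22

/-- A permutation of the code interchanging the two base positions. -/
def piL : List ℕ := [23,22,13,15,16,5,6,11,8,9,17,7,21,2,14,3,4,10,18,19,20,12,1,0]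

/-- An element of order 7 commuting with it. -/
def dL : List ℕ := [0,2,3,4,7,8,19,10,14,6,12,17,1,15,9,16,11,21,5,18,20,22,13,23]

/-- The first generator of the elementary group. -/
def u0L : List ℕ := [0,1,2,15,4,20,18,11,19,14,17,7,21,13,9,3,16,10,6,8,5,12,22,23]

/-- The second generator. -/
def u1L : List ℕ := [0,22,2,3,16,19,9,7,20,6,17,11,21,13,18,15,4,10,14,5,8,12,1,23]

/-- The third generator. -/
def u2L : List ℕ := [0,22,13,3,4,9,19,11,18,5,10,7,21,2,20,15,16,17,8,6,14,12,1,23]

/-- An involution normalising the elementary group. -/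
def wL : List ℕ := [0,3,13,1,11,8,14,16,5,9,17,4,12,2,6,22,7,10,18,19,20,21,15,23]

/-- An element of order 7 for the first product. -/
def duL : List ℕ := [0,2,5,10,19,6,9,7,1,16,15,3,17,20,4,21,8,11,14,22,18,12,13,23]

/-- An element of order 7 for the second product. -/
def dwL : List ℕ := [0,3,2,6,5,16,21,8,11,10,18,15,7,17,12,22,1,20,13,9,19,4,14,23]

/-- An element of order 5 for the third product. -/
def fL : List ℕ := [0,2,4,13,20,1,3,9,15,6,11,19,12,7,22,10,18,16,14,8,5,21,17,23]

/-- Conjugation of a list by the outer permutation. -/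
def conjP (L : List ℕ) : List ℕ := compL (compL piL L) (invL piL)

/-- The identity list. -/
def idL : List ℕ := List.range 24

theorem lists_ok : genOK piL = true ∧ compL piL piL = idL ∧ piL.getD 23 0 = 0 ∧ piL.getD 0 0 = 23 ∧
    okL dL = true ∧ okL u0L = true ∧ okL u1L = true ∧ okL u2L = true ∧ okL wL = true ∧ okL duL = true ∧
    okL dwL = true ∧ okL fL = true := by decide +kernel

theorem rel_ok : conjP dL = dL ∧ conjP u0L = u0L ∧ conjP u1L = u1L ∧ conjP u2L = u2L ∧ conjP wL = wL ∧
    conjP (compL (compL u0L duL) (invL u0L)) = duL ∧ conjP (compL (compL wL dwL) (invL wL)) = dwL ∧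
    conjP (compL (compL (compL (compL u0L u2L) wL) fL) (invL (compL (compL u0L u2L) wL))) = fL ∧
    compL u0L u0L = idL ∧ compL u1L u1L = idL ∧ compL u2L u2L = idL ∧ compL wL wL = idL ∧
    compL u0L u1L = compL u1L u0L ∧ compL u0L u2L = compL u2L u0L ∧ compL u1L u2L = compL u2L u1L ∧
    compL dL u0L = compL u1L dL ∧ compL dL u1L = compL u2L dL ∧ compL dL u2L = compL (compL u0L u2L) dL ∧
    compL wL u0L = compL u1L wL ∧ compL wL u2L = compL (compL (compL u0L u1L) u2L) wL ∧
    u0L ≠ idL ∧ powL dL 7 = idL ∧ dL ≠ idL ∧ powL duL 7 = idL ∧ duL ≠ idL ∧ powL dwL 7 = idL ∧ dwL ≠ idL ∧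
    powL fL 5 = idL ∧ fL ≠ idL := by decide +kernel

/-- An outer automorphism with the configuration used for real forms. -/
structure Config (α : MulAut M) (d u₀ u₁ u₂ w du dw f : M) : Prop where
  sq : α * α = 1
  outer : ∀ m : M, α ≠ MulAut.conj m
  ad : α d = d
  a₀ : α u₀ = u₀
  a₁ : α u₁ = u₁
  a₂ : α u₂ = u₂
  aw : α w = w
  adu : α (u₀ * du * u₀⁻¹) = du
  adw : α (w * dw * w⁻¹) = dw
  af : α (u₀ * u₂ * w * f * (u₀ * u₂ * w)⁻¹) = f
  sq₀ : u₀ * u₀ = 1
  sq₁ : u₁ * u₁ = 1
  sq₂ : u₂ * u₂ = 1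
  sqw : w * w = 1
  c01 : u₀ * u₁ = u₁ * u₀
  c02 : u₀ * u₂ = u₂ * u₀
  c12 : u₁ * u₂ = u₂ * u₁
  du0 : d * u₀ = u₁ * d
  du1 : d * u₁ = u₂ * d
  du2 : d * u₂ = u₀ * u₂ * d
  wu0 : w * u₀ = u₁ * w
  wu2 : w * u₂ = u₀ * u₁ * u₂ * w
  ne : u₀ ≠ 1
  od : orderOf d = 7
  odu : orderOf du = 7
  odw : orderOf dw = 7
  of : orderOf f = 5

theorem exists_config : ∃ (α : MulAut M) (d u₀ u₁ u₂ w du dw f : M), Config α d u₀ u₁ u₂ w du dw f := by
  obtain ⟨gp, hp2, hp23, hp0, hd, h0, h1, h2, hw, hdu, hdw, hf⟩ := lists_ok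
  obtain ⟨g, hg⟩ := genOK_spec gp
  set π : Equiv.Perm GolayPt := (g : Equiv.Perm GolayPt) with hπ
  have hππ : π * π = 1 := by
    apply Cert.toList_injective
    rw [toList_mul, hg, hp2, toList_one]; rfl
  have himg : π none = some 0 ∧ π (some 0) = none := by
    obtain ⟨p23, p0, i23, i0⟩ := pt_ends
    constructor
    · apply idx_injective
      rw [← p23, ← toList_getD π (by norm_num : 23 < 24), hg, hp23, i0]
    · apply idx_injective
      rw [← p0, ← toList_getD π (by norm_num : 0 < 24), hg, hp0, i23]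
  have hinv : π⁻¹ = π := inv_eq_of_mul_eq_one_right hππ
  have hmem : ∀ m : M, π * m.1 * π⁻¹ ∈ Spor.M22 := fun m => by
    obtain ⟨hm, e1, e2⟩ := mem_m22.mp m.2
    refine mem_m22.mpr ⟨mul_mem (mul_mem g.2 hm) (inv_mem g.2), ?_, ?_⟩
    · rw [hinv, Equiv.Perm.mul_apply, Equiv.Perm.mul_apply, himg.1, e2, himg.2]
    · rw [hinv, Equiv.Perm.mul_apply, Equiv.Perm.mul_apply, himg.2, e1, himg.1]
  let α : MulAut M :=
    { toFun := fun m => ⟨π * m.1 * π⁻¹, hmem m⟩
      invFun := fun m => ⟨π * m.1 * π⁻¹, hmem m⟩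
      left_inv := fun m => Subtype.ext (by
        show π * (π * m.1 * π⁻¹) * π⁻¹ = m.1
        rw [hinv, show π * (π * m.1 * π) * π = π * π * m.1 * (π * π) by simp only [mul_assoc], hππ,
          one_mul, mul_one])
      right_inv := fun m => Subtype.ext (by
        show π * (π * m.1 * π⁻¹) * π⁻¹ = m.1
        rw [hinv, show π * (π * m.1 * π) * π = π * π * m.1 * (π * π) by simp only [mul_assoc], hππ,
          one_mul, mul_one])
      map_mul' := fun m n => Subtype.ext (by
        show π * (m.1 * n.1) * π⁻¹ = π * m.1 * π⁻¹ * (π * n.1 * π⁻¹)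
        group) }
  have hα : ∀ m : M, lst (α m) = conjP (lst m) := fun m => by
    show toList (π * m.1 * π⁻¹) = _
    rw [toList_mul, toList_mul, toList_inv, hg]; rfl
  have key : ∀ {a b : M}, lst a = lst b → a = b := fun h => lst_injective h
  obtain ⟨rd, r0, r1, r2, rw', rdu, rdw, rf, q0, q1, q2, qw, c01, c02, c12, e0, e1, e2, f0, f2, n0,
    pd, nd, pdu, ndu, pdw, ndw, pf, nf⟩ := rel_ok
  have one : lst (1 : M) = idL := lst_one
  have ord : ∀ {L : List ℕ} {p : ℕ}, okL L = true → p.Prime → powL L p = idL → L ≠ idL →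
      orderOf (el L) = p := by
    intro L p hL hp hpw hne
    haveI := Fact.mk hp
    refine orderOf_eq_prime (key (by rw [lst_pow, lst_el hL, hpw, one])) fun e => hne ?_
    rw [← lst_el hL, e, one]
  refine ⟨α, el dL, el u0L, el u1L, el u2L, el wL, el duL, el dwL, el fL, ?_⟩
  have ad : α (el dL) = el dL := key (by rw [hα, lst_el hd, rd])
  exact
    { sq := MulEquiv.ext fun m => α.left_inv m
      outer := fun m hm => by
        have hod := ord hd (by norm_num) pd nd
        have hc : m ∈ Subgroup.centralizer ({el dL} : Set M) := Subgroup.mem_centralizer_singleton_iff.mpr (by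
          have e := ad
          rw [hm, MulAut.conj_apply] at e
          exact mul_inv_eq_iff_eq_mul.mp e)
        rw [centralizer_eq_zpowers (Or.inr (Or.inl hod))] at hc
        have hmm : m * m = 1 := by
          refine CfsgLib.J4M22.conj_injective ?_
          rw [map_mul, map_one, ← hm]
          exact MulEquiv.ext fun x => α.left_inv x
        have h7 : orderOf m ∣ 7 := hod ▸ orderOf_dvd_of_mem_zpowers hc
        have h2 : orderOf m ∣ 2 := orderOf_dvd_of_pow_eq_one (by rw [pow_two, hmm])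
        have hm1 : m = 1 := orderOf_eq_one_iff.mp (Nat.eq_one_of_dvd_one (Nat.dvd_gcd h7 h2))
        have hfix := congrArg (fun β : MulAut M => lst (β (el fL))) hm
        simp only [hm1, map_one, MulAut.one_apply, hα, lst_el hf] at hfix
        exact absurd hfix (by decide +kernel)
      ad := ad
      a₀ := key (by rw [hα, lst_el h0, r0])
      a₁ := key (by rw [hα, lst_el h1, r1])
      a₂ := key (by rw [hα, lst_el h2, r2])
      aw := key (by rw [hα, lst_el hw, rw'])
      adu := key (by rw [hα, lst_mul, lst_mul, lst_inv, lst_el h0, lst_el hdu, rdu])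
      adw := key (by rw [hα, lst_mul, lst_mul, lst_inv, lst_el hw, lst_el hdw, rdw])
      af := key (by rw [hα, lst_mul, lst_mul, lst_inv, lst_mul, lst_mul, lst_el h0, lst_el h2, lst_el hw,
        lst_el hf, rf])
      sq₀ := key (by rw [lst_mul, lst_el h0, q0, one])
      sq₁ := key (by rw [lst_mul, lst_el h1, q1, one])
      sq₂ := key (by rw [lst_mul, lst_el h2, q2, one])
      sqw := key (by rw [lst_mul, lst_el hw, qw, one])
      c01 := key (by rw [lst_mul, lst_mul, lst_el h0, lst_el h1, c01])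
      c02 := key (by rw [lst_mul, lst_mul, lst_el h0, lst_el h2, c02])
      c12 := key (by rw [lst_mul, lst_mul, lst_el h1, lst_el h2, c12])
      du0 := key (by rw [lst_mul, lst_mul, lst_el hd, lst_el h0, lst_el h1, e0])
      du1 := key (by rw [lst_mul, lst_mul, lst_el hd, lst_el h1, lst_el h2, e1])
      du2 := key (by rw [lst_mul, lst_mul, lst_mul, lst_el hd, lst_el h0, lst_el h2, e2])
      wu0 := key (by rw [lst_mul, lst_mul, lst_el hw, lst_el h0, lst_el h1, f0])
      wu2 := key (by rw [lst_mul, lst_mul, lst_mul, lst_mul, lst_el hw, lst_el h0, lst_el h1, lst_el h2, f2])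
      ne := fun e => n0 (by rw [← lst_el h0, e, one])
      od := ord hd (by norm_num) pd nd
      odu := ord hdu (by norm_num) pdu ndu
      odw := ord hdw (by norm_num) pdw ndw
      of := ord hf (by norm_num) pf nf }

end CfsgLib.J4FiveCert
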