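/-
Janko-four type: the fixed points in `E` of elements of order 5 and 11 of `C_H(P)`, and the fixed involutions
in the orbit of an involution of `E`.
-/
import Cfsg.Agent.J4Local.CentStruct
import Cfsg.Agent.J4Local.OrbitFix
import Cfsg.Agent.Coprime.FrobeniusFixedFormula
import Cfsg.Agent.FGSA.ExtraTwoType

set_option autoImplicit false
set_option linter.style.haveILetI false
set_option linter.unusedSectionVars false

namespace CfsgLib.J4Five

open Subgroup CfsgLib.J4Local
open scoped commutatorElement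

variable {G : Type*} [Group G] [Finite G] {z : G} {P : Subgroup G}

/-- Conjugation of `E` by a subgroup of `H`. -/
noncomputable def conjE (L : Subgroup G) (hL : L ≤ cH z) : ↥L →* MulAut ↥(cE z) :=
  (Subgroup.normalizerMonoidHom (cE z)).comp (Subgroup.inclusion (hL.trans H_le_normalizer_E))

theorem conjE_apply {L : Subgroup G} (hL : L ≤ cH z) (l : ↥L) (x : ↥(cE z)) :
    ((conjE L hL l x : ↥(cE z)) : G) = (l : G) * (x : G) * (l : G)⁻¹ := rfl

theorem card_fixed {L : Subgroup G} (hL : L ≤ cH z) (S : Subgroup L) :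
    Nat.card (CfsgLib.Coprime.fixedSub (conjE L hL) S) =
      Nat.card ↥(cE z ⊓ centralizer ((S.map L.subtype : Subgroup G) : Set G)) := by
  refine Nat.card_congr
    { toFun := fun x => ⟨(x.1 : G), x.1.2, mem_centralizer_iff.2 ?_⟩
      invFun := fun x => ⟨⟨(x : G), x.2.1⟩, fun s hs => Subtype.ext ?_⟩
      left_inv := fun _ => rfl
      right_inv := fun _ => rfl }
  · rintro _ ⟨s, hs, rfl⟩
    exact mul_inv_eq_iff_eq_mul.1 (congrArg Subtype.val (x.2 s hs))
  · rw [conjE_apply]
    exact mul_inv_eq_iff_eq_mul.2 (mem_centralizer_iff.1 x.2.2 (s : G) ⟨s, hs, rfl⟩)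

theorem centralizer_zpowers (g : G) :
    centralizer ((zpowers g : Subgroup G) : Set G) = centralizer ({g} : Set G) := by
  rw [zpowers_eq_closure, centralizer_closure]

/-- The fixed points of an element of prime order normalising `E` are congruent to the whole. -/
theorem card_modEq {p : ℕ} [Fact p.Prime] {g : G} (hg : g ∈ cH z) (hp : orderOf g = p) (S : Set G)
    (hS : ∀ x ∈ S, g * x * g⁻¹ ∈ S) (hSi : ∀ x ∈ S, g⁻¹ * x * g ∈ S) :
    Nat.card S ≡ Nat.card {x : S // g * (x : G) = x * g} [MOD p] := by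
  classical
  let σ : Equiv.Perm S :=
    { toFun := fun x => ⟨g * (x : G) * g⁻¹, hS x x.2⟩
      invFun := fun x => ⟨g⁻¹ * (x : G) * g, hSi x x.2⟩
      left_inv := fun x => Subtype.ext (by simp only; group)
      right_inv := fun x => Subtype.ext (by simp only; group) }
  have hpow : ∀ n : ℕ, ∀ x : S, (((σ ^ n) x : S) : G) = g ^ n * (x : G) * (g ^ n)⁻¹ := by
    intro n
    induction n with
    | zero => intro x; simp
    | succ n ih =>
      intro x
      rw [pow_succ', Equiv.Perm.mul_apply]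
      show g * (((σ ^ n) x : S) : G) * g⁻¹ = _
      rw [ih x, pow_succ']; group
  have hσ : σ ^ p = 1 := Equiv.ext fun x => Subtype.ext (by
    rw [hpow, ← hp, pow_orderOf_eq_one]; simp)
  haveI := Fintype.ofFinite S
  have h := (Equiv.Perm.card_compl_support_modEq (σ := σ) (p := p) (n := 1) (by rw [pow_one]; exact hσ)).symm
  rw [show σ.supportᶜ = Finset.univ.filter fun x => σ x = x by ext x; simp, ← Fintype.card_subtype,
    ← Nat.card_eq_fintype_card, ← Nat.card_eq_fintype_card] at h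
  refine h.trans (CfsgLib.J4Local.modEq_of_eq ?_)
  exact Nat.card_congr (Equiv.subtypeEquivRight fun x =>
    ⟨fun e => mul_inv_eq_iff_eq_mul.1 (congrArg Subtype.val e),
      fun e => Subtype.ext (mul_inv_eq_iff_eq_mul.2 e)⟩)

theorem card_fix_pow {g : G} (hg : g ∈ cH z) (hJ : Cfsg.IsOfJankoFourTypeWith z P) :
    ∃ k ≤ 13, Nat.card ↥(cE z ⊓ centralizer ({g} : Set G)) = 2 ^ k := by
  have hd : Nat.card ↥(cE z ⊓ centralizer ({g} : Set G)) ∣ 2 ^ 13 :=
    card_E hJ ▸ Subgroup.card_dvd_of_le inf_le_left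
  exact (Nat.dvd_prime_pow Nat.prime_two).1 hd

theorem fix_modEq {p : ℕ} [Fact p.Prime] {g : G} (hJ : Cfsg.IsOfJankoFourTypeWith z P) (hg : g ∈ cH z)
    (hp : orderOf g = p) : 2 ^ 13 ≡ Nat.card ↥(cE z ⊓ centralizer ({g} : Set G)) [MOD p] := by
  have hconj : ∀ h ∈ cH z, ∀ x ∈ cE z, h * x * h⁻¹ ∈ cE z := fun h hh x hx =>
    (mem_normalizer_iff.1 (H_le_normalizer_E hh) x).1 hx
  have h := card_modEq hg hp (cE z : Set G) (hconj g hg) (fun x hx => by
    simpa using hconj g⁻¹ (inv_mem hg) x hx)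
  rw [show Nat.card ↥(cE z : Set G) = 2 ^ 13 from card_E hJ] at h
  refine h.trans ((fun e => by rw [e] : ∀ {a b : ℕ}, a = b → a ≡ b [MOD p]) (Nat.card_congr
    { toFun := fun x => ⟨(x.1 : G), x.1.2, mem_centralizer_singleton_iff.2 x.2.symm⟩
      invFun := fun x => ⟨⟨(x : G), x.2.1⟩, (mem_centralizer_singleton_iff.1 x.2.2).symm⟩
      left_inv := fun _ => rfl
      right_inv := fun _ => rfl }))

theorem z_mem_fix (hJ : Cfsg.IsOfJankoFourTypeWith z P) {g : G} (hg : g ∈ cH z) :
    z ∈ cE z ⊓ centralizer ({g} : Set G) :=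
  ⟨z_mem_E hJ, mem_centralizer_singleton_iff.2 (mem_cH.1 hg).symm⟩

theorem E_center (hJ : Cfsg.IsOfJankoFourTypeWith z P) {x : G} (hx : x ∈ cE z)
    (hc : ∀ e ∈ cE z, e * x = x * e) : x = 1 ∨ x = z := by
  have hzc : (⟨z, z_mem_E hJ⟩ : cE z) ∈ center (cE z) := mem_center_iff.2 fun e =>
    Subtype.ext (mem_cH.1 (E_le_H e.2))
  have hxc : (⟨x, hx⟩ : cE z) ∈ center (cE z) := mem_center_iff.2 fun e => Subtype.ext (hc e e.2)
  have heq : zpowers (⟨z, z_mem_E hJ⟩ : cE z) = center (cE z) :=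
    Subgroup.eq_of_le_of_card_ge (zpowers_le.2 hzc)
      (by rw [Nat.card_zpowers, Subgroup.orderOf_mk, orderOf_z hJ, (extraspecial_E hJ).2])
  obtain ⟨i, hi⟩ := mem_zpowers_iff.1 (heq.ge hxc)
  have hi' : z ^ i = x := by simpa using congrArg Subtype.val hi
  rw [← hi', ← zpow_mod_orderOf, orderOf_z hJ]
  rcases (show i % (2 : ℕ) = 0 ∨ i % (2 : ℕ) = 1 by omega) with e | e
  · exact Or.inl (by rw [e, zpow_zero])
  · exact Or.inr (by rw [e, zpow_one])

theorem comm_mem_zpowers (hJ : Cfsg.IsOfJankoFourTypeWith z P) {a b : G} (ha : a ∈ cE z) (hb : b ∈ cE z) :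
    ⁅a, b⁆ = 1 ∨ ⁅a, b⁆ = z := by
  have hm : ⁅(⟨a, ha⟩ : cE z), ⟨b, hb⟩⁆ ∈ center (cE z) :=
    (extraspecial_E hJ).1.2.2 ▸ commutator_mem_commutator (mem_top _) (mem_top _)
  exact E_center hJ (x := ⁅a, b⁆) (mul_mem (mul_mem (mul_mem ha hb) (inv_mem ha)) (inv_mem hb))
    fun e he => congrArg Subtype.val (mem_center_iff.1 hm ⟨e, he⟩)

theorem sq_mem_zpowers (hJ : Cfsg.IsOfJankoFourTypeWith z P) {a : G} (ha : a ∈ cE z) :
    a * a = 1 ∨ a * a = z := by
  have hm : (⟨a, ha⟩ : cE z) ^ 2 ∈ center (cE z) :=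
    (extraspecial_E hJ).1.2.1 ▸ (CfsgLib.PGroupBasic.commutator_pow_le_frattini (extraspecial_E hJ).1.1).2 _
  refine E_center hJ (mul_mem ha ha) fun e he => ?_
  have := congrArg Subtype.val (mem_center_iff.1 hm ⟨e, he⟩)
  simpa [pow_two, mul_assoc] using this

/-- The centre of the fixed points of an element of odd prime order in `E` is `⟨z⟩`. -/
theorem fix_center (hJ : Cfsg.IsOfJankoFourTypeWith z P) {p : ℕ} [Fact p.Prime] (hp2 : p ≠ 2) {g : G}
    (hg : g ∈ cH z) (hp : orderOf g = p) {x : G} (hx : x ∈ cE z ⊓ centralizer ({g} : Set G))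
    (hc : ∀ e ∈ cE z ⊓ centralizer ({g} : Set G), e * x = x * e) : x = 1 ∨ x = z := by
  refine E_center hJ hx.1 fun e he => ?_
  by_contra hne
  have hxg : x * g = g * x := mem_centralizer_singleton_iff.1 hx.2
  have hconj : ∀ h ∈ cH z, ∀ x ∈ cE z, h * x * h⁻¹ ∈ cE z := fun h hh x hx =>
    (mem_normalizer_iff.1 (H_le_normalizer_E hh) x).1 hx
  set S : Set G := {y | y ∈ cE z ∧ y * x ≠ x * y} with hS
  have hgS : ∀ h ∈ cH z, h * x = x * h → ∀ y ∈ S, h * y * h⁻¹ ∈ S := by
    rintro h hh hhx y ⟨hy, hyx⟩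
    refine ⟨hconj h hh y hy, fun e' => hyx ?_⟩
    have e1 : h⁻¹ * x = x * h⁻¹ := (Commute.inv_left hhx).eq
    calc y * x = h⁻¹ * (h * y * h⁻¹ * x) * h := by
          rw [show h⁻¹ * (h * y * h⁻¹ * x) * h = y * (h⁻¹ * x) * h from by group, e1]; group
      _ = h⁻¹ * (x * (h * y * h⁻¹)) * h := by rw [e']
      _ = x * y := by rw [show h⁻¹ * (x * (h * y * h⁻¹)) * h = (h⁻¹ * x) * h * y from by group, e1]; group
  have hmod := card_modEq hg hp S (hgS g hg hxg.symm) (fun y hy => by
    have := hgS g⁻¹ (inv_mem hg) (Commute.inv_left hxg.symm).eq y hy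
    simpa using this)
  have h0 : Nat.card {y : S // g * (y : G) = y * g} = 0 := Nat.card_eq_zero.2 (Or.inl ⟨fun y =>
    y.1.2.2 (hc y.1 ⟨y.1.2.1, mem_centralizer_singleton_iff.2 y.2.symm⟩)⟩)
  rw [h0] at hmod
  -- `S` is the complement of a proper subgroup
  set K := cE z ⊓ centralizer ({x} : Set G) with hK
  have hKlt : K < cE z := lt_of_le_of_ne inf_le_left fun e' =>
    hne (mem_centralizer_singleton_iff.1 (e'.ge he).2)
  obtain ⟨k, hk13, hk⟩ : ∃ k ≤ 13, Nat.card K = 2 ^ k :=
    (Nat.dvd_prime_pow Nat.prime_two).1 (card_E hJ ▸ Subgroup.card_dvd_of_le inf_le_left)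
  have hk12 : k < 13 := by
    by_contra hk'
    obtain rfl : k = 13 := by omega
    exact hKlt.ne (Subgroup.eq_of_le_of_card_ge hKlt.le (by rw [hk, card_E hJ]))
  have hcard : Nat.card S + Nat.card K = 2 ^ 13 := by
    classical
    rw [← card_E hJ, ← Nat.card_sum]
    refine Nat.card_congr ((Equiv.sumComm _ _).trans (Equiv.trans ?_
      (Equiv.sumCompl fun y : cE z => (y : G) * x = x * y)))
    refine Equiv.sumCongr ?_ ?_
    · exact { toFun := fun y => ⟨⟨y, y.2.1⟩, mem_centralizer_singleton_iff.1 y.2.2⟩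
              invFun := fun y => ⟨y.1, y.1.2, mem_centralizer_singleton_iff.2 y.2⟩
              left_inv := fun _ => rfl
              right_inv := fun _ => rfl }
    · exact { toFun := fun y => ⟨⟨y, y.2.1⟩, y.2.2⟩
              invFun := fun y => ⟨y.1, y.1.2, y.2⟩
              left_inv := fun _ => rfl
              right_inv := fun _ => rfl }
  have hex : ∀ u ∈ cE z, ∀ v ∈ cE z, u * x ≠ x * u → v * x ≠ x * v → (u * v) * x = x * (u * v) := by
    intro u hu v hv hu' hv'
    have key : ∀ w ∈ cE z, w * x ≠ x * w → w * x = z * (x * w) := by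
      intro w hw hw'
      rcases comm_mem_zpowers hJ hw hx.1 with e' | e'
      · exact absurd (commutatorElement_eq_one_iff_mul_comm.1 e') hw'
      · rw [← e', commutatorElement_def]; group
    have hzc : ∀ w ∈ cE z, z * w = w * z := fun w hw => (mem_cH.1 (E_le_H hw)).symm
    have hzz : z * z = 1 := by rw [← pow_two, ← orderOf_z hJ, pow_orderOf_eq_one]
    rw [mul_assoc, key v hv hv', ← mul_assoc u, ← hzc u hu, mul_assoc, ← mul_assoc u x, key u hu hu',
      ← mul_assoc z, ← mul_assoc z z, hzz, one_mul, mul_assoc]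
  -- so `S` has at most as many elements as `K`
  have hle : Nat.card S ≤ Nat.card K := by
    refine Nat.card_le_card_of_injective
      (fun y : S => (⟨e * (y : G), mul_mem he y.2.1,
        mem_centralizer_singleton_iff.2 (hex e he y y.2.1 hne y.2.2)⟩ : K)) ?_
    intro y y' h
    exact Subtype.ext (mul_left_cancel (congrArg Subtype.val h))
  have h12 : k = 12 := by
    have : 2 ^ 13 ≤ 2 * 2 ^ k := by omega
    rw [← pow_succ'] at this
    have := (Nat.pow_le_pow_iff_right (le_refl 2)).1 this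
    omega
  subst h12
  rw [hk] at hcard
  have hS12 : Nat.card S = 2 ^ 12 := by norm_num at hcard ⊢; omega
  rw [hS12] at hmod
  have hdvd := Nat.modEq_zero_iff_dvd.1 hmod
  exact hp2 ((Nat.prime_dvd_prime_iff_eq Fact.out Nat.prime_two).1 ((Fact.out : p.Prime).dvd_of_dvd_pow hdvd))

theorem exists_prime_lift (hJ : Cfsg.IsOfJankoFourTypeWith z P) {φ : G → ↥Cfsg.Spor.M22}
    (hker : ∀ a ∈ cC z P, φ a = 1 ↔ a ∈ cK z P)
    (hpow : ∀ a ∈ cC z P, ∀ n : ℕ, φ (a ^ n) = φ a ^ n)
    (hsurj : ∀ m, ∃ a ∈ cC z P, φ a = m) {p : ℕ} [Fact p.Prime] (hp : p = 5 ∨ p = 7 ∨ p = 11)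
    {u : ↥Cfsg.Spor.M22} (hu : orderOf u = p) : ∃ a ∈ cC z P, orderOf a = p ∧ φ a ∈ zpowers u ∧ φ a ≠ 1 := by
  obtain ⟨a, ha, hau⟩ := hsurj u
  have hK6 : ∀ k ∈ cK z P, k ^ 6 = 1 := fun k hk => orderOf_dvd_iff_pow_eq_one.1 (by
    rw [← Subgroup.orderOf_mk k hk, ← card_K hJ]; exact orderOf_dvd_natCard _)
  have h6 : φ (a ^ 6) = u ^ 6 := by rw [hpow a ha, hau]
  have hne : u ^ 6 ≠ 1 := fun e => by
    have := orderOf_dvd_of_pow_eq_one e
    rw [hu] at this
    rcases hp with rfl | rfl | rfl <;> norm_num at this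
  refine ⟨a ^ 6, pow_mem ha 6, orderOf_eq_prime ?_ ?_, h6 ▸ pow_mem (mem_zpowers u) 6, h6 ▸ hne⟩
  · rw [← pow_mul, mul_comm, pow_mul]
    exact hK6 _ ((hker _ (pow_mem ha p)).1 (by rw [hpow a ha, hau, ← hu, pow_orderOf_eq_one]))
  · intro e
    exact hne (by rw [← h6, e]; exact (hker _ (one_mem _)).2 (one_mem _))

/-- An element of order 11 of `C_H(P)` fixes a subgroup of order 8 of `E`. -/
theorem card_fix_eleven (hJ : Cfsg.IsOfJankoFourTypeWith z P) {u : G} (hu : u ∈ cH z) (ho : orderOf u = 11) :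
    Nat.card ↥(cE z ⊓ centralizer ({u} : Set G)) = 8 := by
  haveI : Fact (Nat.Prime 11) := ⟨by norm_num⟩
  obtain ⟨k, hk, hc⟩ := card_fix_pow hu hJ
  have hm := fix_modEq hJ hu ho
  rw [hc] at hm ⊢
  have h13 : k ≠ 13 := by
    rintro rfl
    have heq := Subgroup.eq_of_le_of_card_ge (inf_le_left : cE z ⊓ centralizer ({u} : Set G) ≤ _)
      (by rw [hc, card_E hJ])
    have huE : u ∈ cE z := centralizer_E_le hJ ⟨hu, mem_centralizer_iff.2 fun x hx =>
      mem_centralizer_singleton_iff.1 (heq.ge hx).2⟩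
    have := orderOf_dvd_natCard (⟨u, huE⟩ : cE z)
    rw [Subgroup.orderOf_mk, ho, card_E hJ] at this
    norm_num at this
  have h1 : 1 ≤ k := by
    have hz := orderOf_dvd_natCard (⟨z, z_mem_fix hJ hu⟩ : ↥(cE z ⊓ centralizer ({u} : Set G)))
    rw [Subgroup.orderOf_mk, orderOf_z hJ, hc] at hz
    by_contra hk'
    obtain rfl : k = 0 := by omega
    norm_num at hz
  unfold Nat.ModEq at hm
  interval_cases k <;> first | exact absurd rfl h13 | (norm_num at hm; done) | norm_num | (norm_num at hm ⊢; omega) | omega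

/-- An element of order 5 of `C_H(P)` fixes an extraspecial subgroup of order 32 of `E`. -/
theorem card_fix_five (hJ : Cfsg.IsOfJankoFourTypeWith z P) {f : G} (hf : f ∈ cC z P) (ho : orderOf f = 5) :
    Nat.card ↥(cE z ⊓ centralizer ({f} : Set G)) = 32 := by
  haveI : Fact (Nat.Prime 5) := ⟨by norm_num⟩
  haveI : Fact (Nat.Prime 11) := ⟨by norm_num⟩
  obtain ⟨φ, hmul, hker, hpow, hinv, hsurj⟩ := exists_map hJ
  haveI : Finite ↥Cfsg.Spor.M22 := Nat.finite_of_card_ne_zero (by rw [CfsgLib.J4M22.card_M]; norm_num)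
  have hφf : orderOf (φ f) = 5 := by
    refine orderOf_eq_prime (by rw [← hpow f hf, ← ho, pow_orderOf_eq_one]; exact (hker _ (one_mem _)).2 (one_mem _))
      fun e => ?_
    have h6 := orderOf_dvd_natCard (⟨f, (hker f hf).1 e⟩ : cK z P)
    rw [Subgroup.orderOf_mk, ho, card_K hJ] at h6
    norm_num at h6
  -- an element of order 11 normalised by the image
  obtain ⟨u₀, hu₀⟩ : ∃ u₀ : ↥Cfsg.Spor.M22, orderOf u₀ = 11 :=
    exists_prime_orderOf_dvd_card' 11 (by rw [CfsgLib.J4M22.card_M]; norm_num)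
  obtain ⟨g₀, hg₀⟩ := exists_prime_orderOf_dvd_card' (G := normalizer ((zpowers u₀ : Subgroup ↥Cfsg.Spor.M22) : Set ↥Cfsg.Spor.M22)) 5
    (by rw [CfsgLib.J4M22.card_normalizer_eleven hu₀]; norm_num)
  obtain ⟨c, u, hu, hnorm⟩ : ∃ c u : ↥Cfsg.Spor.M22, orderOf u = 11 ∧ c = 1 ∧
      φ f * u * (φ f)⁻¹ ∈ zpowers u := by
    have hS : ∀ g : ↥Cfsg.Spor.M22, orderOf g = 5 →
        Nat.card (zpowers g) = 5 ^ (Nat.card ↥Cfsg.Spor.M22).factorization 5 := fun g hg => by
      rw [Nat.card_zpowers, hg, CfsgLib.J4M22.card_M,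
        show (443520 : ℕ) = 5 ^ 1 * 88704 from rfl, Nat.factorization_mul (by norm_num) (by norm_num),
        Finsupp.add_apply, (Fact.out : Nat.Prime 5).factorization_pow, Finsupp.single_eq_same,
        Nat.factorization_eq_zero_of_not_dvd (by norm_num), add_zero, pow_one]
    obtain ⟨d, hd⟩ := MulAction.exists_smul_eq ↥Cfsg.Spor.M22
      (Sylow.ofCard (zpowers (g₀ : ↥Cfsg.Spor.M22)) (hS _ (by rw [orderOf_coe, hg₀])))
      (Sylow.ofCard (zpowers (φ f)) (hS _ hφf))
    have hmem : φ f ∈ ((Sylow.ofCard (zpowers (φ f)) (hS _ hφf) : Sylow 5 _) : Subgroup _) := mem_zpowers _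
    rw [← hd] at hmem
    obtain ⟨w, hw, e⟩ := hmem
    refine ⟨1, d * u₀ * d⁻¹, ?_, rfl, ?_⟩
    · rw [← hu₀]; exact (MulEquiv.orderOf_eq (MulAut.conj d) u₀)
    · have hwN : w ∈ normalizer ((zpowers u₀ : Subgroup ↥Cfsg.Spor.M22) : Set ↥Cfsg.Spor.M22) :=
        (zpowers_le.2 g₀.2) hw
      have e' : φ f = d * w * d⁻¹ := e.symm
      obtain ⟨i, hi⟩ := mem_zpowers_iff.1 ((mem_normalizer_iff.1 hwN u₀).1 (mem_zpowers u₀))
      refine mem_zpowers_iff.2 ⟨i, ?_⟩
      rw [e', conj_zpow, hi]; group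
  obtain ⟨-, hnorm⟩ := hnorm
  obtain ⟨U, hU, hUo, hUu, hU1⟩ := exists_prime_lift hJ hker hpow hsurj (Or.inr (Or.inr rfl)) hu
  have hgen : zpowers (φ U) = zpowers u := Subgroup.eq_of_le_of_card_ge (zpowers_le.2 hUu) (by
    rw [Nat.card_zpowers, Nat.card_zpowers, hu, orderOf_eq_prime
      (show φ U ^ 11 = 1 by rw [← hpow U hU, ← hUo, pow_orderOf_eq_one]; exact (hker _ (one_mem _)).2 (one_mem _)) hU1])
  have hnormU : φ f * φ U * (φ f)⁻¹ ∈ zpowers u := by
    obtain ⟨i, hi⟩ := mem_zpowers_iff.1 hUu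
    obtain ⟨j, hj⟩ := mem_zpowers_iff.1 hnorm
    exact mem_zpowers_iff.2 ⟨j * i, by rw [zpow_mul, hj, conj_zpow, hi]⟩
  have hfU : f * U * f⁻¹ ∈ zpowers U := by
    rw [← hgen] at hnormU
    obtain ⟨i, hi⟩ := (mem_powers_iff_mem_zpowers.2 hnormU : _ ∈ Submonoid.powers (φ U))
    have hi : φ U ^ i = φ f * φ U * (φ f)⁻¹ := hi
    set w := f * U * f⁻¹ with hw
    have hwC : w ∈ cC z P := mul_mem (mul_mem hf hU) (inv_mem hf)
    have hk : w * (U ^ i)⁻¹ ∈ cK z P := by
      refine (hker _ (mul_mem hwC (inv_mem (pow_mem hU i)))).1 ?_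
      rw [hmul _ hwC _ (inv_mem (pow_mem hU i)), hinv _ (pow_mem hU i), hpow U hU, hw,
        hmul _ (mul_mem hf hU) _ (inv_mem hf), hmul f hf U hU, hinv f hf, hi, mul_inv_cancel]
    set k := w * (U ^ i)⁻¹ with hkdef
    have hwk : w = k * U ^ i := by rw [hkdef, inv_mul_cancel_right]
    have hU11 : U ^ 11 = 1 := hUo ▸ pow_orderOf_eq_one U
    have hw11 : w ^ 11 = 1 := by rw [hw, conj_pow, hU11, mul_one, mul_inv_cancel]
    have hcm : Commute k (U ^ i) := K_comm hJ hk (pow_mem hU i)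
    rw [hwk, hcm.mul_pow, ← pow_mul U, mul_comm, pow_mul, hU11, one_pow, mul_one] at hw11
    have hk6 := orderOf_dvd_natCard (⟨k, hk⟩ : cK z P)
    rw [Subgroup.orderOf_mk, card_K hJ] at hk6
    have hk1 : k = 1 := orderOf_eq_one_iff.1 (Nat.eq_one_of_dvd_one
      ((Nat.dvd_gcd hk6 (orderOf_dvd_of_pow_eq_one hw11)).trans (by norm_num)))
    rw [hwk, hk1, one_mul]
    exact pow_mem (mem_zpowers U) i
  have hfN : f ∈ normalizer ((zpowers U : Subgroup G) : Set G) := by
    refine mem_normalizer_iff_map_conj_eq.2 (Subgroup.eq_of_le_of_card_ge ?_ ?_)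
    · rw [MonoidHom.map_zpowers]; exact zpowers_le.2 hfU
    · rw [Subgroup.card_map_of_injective (MulAut.conj f).injective]
  have hnc : f * U ≠ U * f := fun e => by
    have hmem : φ f ∈ centralizer ({φ U} : Set ↥Cfsg.Spor.M22) := mem_centralizer_singleton_iff.2 (by
      rw [← hmul f hf U hU, e, hmul U hU f hf])
    rw [CfsgLib.J4M22.centralizer_eq_zpowers (Or.inr (Or.inr (orderOf_eq_prime
      (show φ U ^ 11 = 1 by rw [← hpow U hU, ← hUo, pow_orderOf_eq_one]; exact (hker _ (one_mem _)).2 (one_mem _)) hU1)))] at hmem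
    have := Subgroup.card_dvd_of_le (zpowers_le.2 hmem)
    rw [hgen, Nat.card_zpowers, Nat.card_zpowers, hφf, hu] at this
    norm_num at this
  set L := zpowers f ⊔ zpowers U with hLdef
  have hfL : zpowers f ≤ normalizer ((zpowers U : Subgroup G) : Set G) := zpowers_le.2 hfN
  have hLH : L ≤ cH z := sup_le (zpowers_le.2 hf.1) (zpowers_le.2 hU.1)
  have hdis : zpowers f ⊓ zpowers U = ⊥ :=
    Subgroup.inf_eq_bot_of_coprime (by rw [Nat.card_zpowers, Nat.card_zpowers, ho, hUo]; norm_num)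
  have hLcard : Nat.card L = 55 := by
    rw [hLdef, CfsgLib.Solvable.card_sup_of_disjoint hfL hdis, Nat.card_zpowers, Nat.card_zpowers, ho, hUo]
  set UL := (zpowers U).subgroupOf L with hUL
  set FL := (zpowers f).subgroupOf L with hFL
  haveI : UL.Normal := Subgroup.normal_subgroupOf_iff_le_normalizer (le_sup_right : zpowers U ≤ L) |>.2
    (sup_le hfL le_normalizer)
  have hinf : UL ⊓ FL = ⊥ := by
    rw [hUL, hFL, eq_bot_iff]
    intro x hx
    have : (x : G) ∈ zpowers f ⊓ zpowers U := ⟨hx.2, hx.1⟩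
    rw [hdis] at this
    exact Subtype.ext this
  have hsup : UL ⊔ FL = ⊤ := by
    rw [hUL, hFL, ← Subgroup.subgroupOf_sup le_sup_right le_sup_left, sup_comm, Subgroup.subgroupOf_self]
  have hfpf : ∀ e ∈ FL, e ≠ 1 → ∀ v ∈ UL, e * v = v * e → v = 1 := by
    intro e he he1 v hv hev
    by_contra hv1
    have g1 : zpowers (e : G) = zpowers f := Subgroup.eq_of_le_of_card_ge (zpowers_le.2 he) (by
      rw [Nat.card_zpowers, Nat.card_zpowers, ho]
      have hd := Subgroup.card_dvd_of_le (zpowers_le.2 (Subgroup.mem_subgroupOf.1 he))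
      rw [Nat.card_zpowers, Nat.card_zpowers, ho] at hd
      rcases (Nat.dvd_prime (Fact.out : Nat.Prime 5)).1 hd with h | h
      · exact absurd (Subtype.ext (orderOf_eq_one_iff.1 h)) he1
      · rw [h])
    have g2 : zpowers (v : G) = zpowers U := Subgroup.eq_of_le_of_card_ge (zpowers_le.2 hv) (by
      rw [Nat.card_zpowers, Nat.card_zpowers, hUo]
      have hd := Subgroup.card_dvd_of_le (zpowers_le.2 (Subgroup.mem_subgroupOf.1 hv))
      rw [Nat.card_zpowers, Nat.card_zpowers, hUo] at hd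
      rcases (Nat.dvd_prime (Fact.out : Nat.Prime 11)).1 hd with h | h
      · exact absurd (Subtype.ext (orderOf_eq_one_iff.1 h)) hv1
      · rw [h])
    obtain ⟨i, hi⟩ := mem_zpowers_iff.1 (g1.ge (mem_zpowers f))
    obtain ⟨j, hj⟩ := mem_zpowers_iff.1 (g2.ge (mem_zpowers U))
    apply hnc
    rw [← hi, ← hj]
    exact ((show Commute (e : G) (v : G) from congrArg Subtype.val hev).zpow_zpow i j).eq
  have hcop : (Nat.card L).Coprime (Nat.card (cE z)) := by rw [hLcard, card_E hJ]; norm_num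
  haveI : Group.IsSolvable (cE z) := by
    haveI := (extraspecial_E hJ).1.1.isNilpotent; infer_instance
  have hform := CfsgLib.Coprime.frobenius_formula hinf hsup hfpf _ rfl inferInstance hcop (conjE L hLH)
  have hmapU : UL.map L.subtype = zpowers U := by
    rw [hUL, Subgroup.map_subgroupOf_eq_of_le le_sup_right]
  have hmapF : FL.map L.subtype = zpowers f := by
    rw [hFL, Subgroup.map_subgroupOf_eq_of_le le_sup_left]
  have hFcard : Nat.card FL = 5 := by
    rw [hFL, Nat.card_congr (Subgroup.subgroupOfEquivOfLe (le_sup_left : zpowers f ≤ L)).toEquiv,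
      Nat.card_zpowers, ho]
  have hX : Nat.card ↥(cE z ⊓ centralizer ({U} : Set G)) = 8 := card_fix_eleven hJ hU.1 hUo
  -- `f` centralises the fixed points of `U`
  have htop : Nat.card (CfsgLib.Coprime.fixedSub (conjE L hLH) ⊤) = 8 := by
    rw [card_fixed, ← MonoidHom.range_eq_map, Subgroup.range_subtype, ← hX]
    have heq : cE z ⊓ centralizer (L : Set G) = cE z ⊓ centralizer ({U} : Set G) := by
      refine le_antisymm (inf_le_inf_left _ (centralizer_le (by
        simpa using (le_sup_right : zpowers U ≤ L) (mem_zpowers U)))) ?_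
      set X := cE z ⊓ centralizer ({U} : Set G) with hXdef
      have hXconj : ∀ y ∈ zpowers f, ∀ x ∈ X, y * x * y⁻¹ ∈ X := by
        rintro y hy x ⟨hx1, hx2⟩
        refine ⟨(mem_normalizer_iff.1 (H_le_normalizer_E ((zpowers_le.2 hf.1) hy)) x).1 hx1,
          mem_centralizer_singleton_iff.2 ?_⟩
        obtain ⟨i, hi⟩ := mem_zpowers_iff.1 ((mem_normalizer_iff.1 (inv_mem (hfL hy)) U).1 (mem_zpowers U))
        rw [inv_inv] at hi
        have hc : Commute x (y⁻¹ * U * y) :=
          hi ▸ (show Commute x U from mem_centralizer_singleton_iff.1 hx2).zpow_right i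
        calc y * x * y⁻¹ * U = y * (x * (y⁻¹ * U * y)) * y⁻¹ := by group
          _ = y * (y⁻¹ * U * y * x) * y⁻¹ := by rw [hc.eq]
          _ = U * (y * x * y⁻¹) := by group
      have hm := card_modEq hf.1 ho (X : Set G) (hXconj f (mem_zpowers f)) (fun x hx => by
        simpa using hXconj f⁻¹ (inv_mem (mem_zpowers f)) x hx)
      rw [show Nat.card ↥(X : Set G) = 8 from hX] at hm
      set F := X ⊓ centralizer ({f} : Set G) with hF
      have hF8 : Nat.card F = 8 := by
        have he : Nat.card F = Nat.card {x : (X : Set G) // f * (x : G) = x * f} := Nat.card_congr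
          { toFun := fun x => ⟨⟨x, x.2.1⟩, (mem_centralizer_singleton_iff.1 x.2.2).symm⟩
            invFun := fun x => ⟨x.1, x.1.2, mem_centralizer_singleton_iff.2 x.2.symm⟩
            left_inv := fun _ => rfl
            right_inv := fun _ => rfl }
        rw [← he] at hm
        obtain ⟨j, hj, hFj⟩ := (Nat.dvd_prime_pow Nat.prime_two).1
          (show Nat.card F ∣ 2 ^ 3 by
            have hd := Subgroup.card_dvd_of_le (inf_le_left : F ≤ X)
            rw [hX] at hd
            exact hd)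
        rw [hFj] at hm ⊢
        unfold Nat.ModEq at hm
        interval_cases j <;> first | (norm_num at hm; done) | norm_num
      have hFX : F = X := Subgroup.eq_of_le_of_card_ge inf_le_left (by rw [hF8, hX])
      intro x hx
      refine ⟨hx.1, ?_⟩
      have hxL : L ≤ centralizer ({x} : Set G) := sup_le
        (zpowers_le.2 (mem_centralizer_singleton_iff.2 (mem_centralizer_singleton_iff.1 (hFX.ge hx).2).symm))
        (zpowers_le.2 (mem_centralizer_singleton_iff.2 (mem_centralizer_singleton_iff.1 hx.2).symm))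
      exact mem_centralizer_iff.2 fun y hy => mem_centralizer_singleton_iff.1 (hxL hy)
    rw [heq]
  rw [htop, hFcard, card_E hJ, card_fixed, hmapF, centralizer_zpowers, card_fixed, hmapU,
    centralizer_zpowers, hX] at hform
  obtain ⟨k, -, hk⟩ := card_fix_pow hf.1 hJ
  rw [hk, ← pow_mul] at hform
  rw [hk]
  have h28 : 2 ^ (k * 5 + 3) = 2 ^ 28 := by
    rw [pow_add]; norm_num at hform ⊢; omega
  have := Nat.pow_right_injective le_rfl h28
  rw [show k = 5 by omega]; norm_num

theorem extraspecial_fix_five (hJ : Cfsg.IsOfJankoFourTypeWith z P) {f : G} (hf : f ∈ cC z P)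
    (ho : orderOf f = 5) : Cfsg.IsExtraspecial 2 ↥(cE z ⊓ centralizer ({f} : Set G)) := by
  haveI : Fact (Nat.Prime 5) := ⟨by norm_num⟩
  haveI : Fact (Nat.Prime 2) := ⟨Nat.prime_two⟩
  set D := cE z ⊓ centralizer ({f} : Set G) with hD
  have hzD : z ∈ D := z_mem_fix hJ hf.1
  have hD32 : Nat.card D = 32 := card_fix_five hJ hf ho
  have hDp : IsPGroup 2 D := IsPGroup.of_card (n := 5) (by rw [hD32]; rfl)
  have hcen : center D = zpowers (⟨z, hzD⟩ : D) := by
    refine le_antisymm (fun x hx => ?_) (zpowers_le.2 (mem_center_iff.2 fun y =>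
      Subtype.ext (mem_cH.1 (E_le_H y.2.1))))
    rcases fix_center hJ (by norm_num) hf.1 ho x.2 (fun e he => congrArg Subtype.val (mem_center_iff.1 hx ⟨e, he⟩))
      with h | h
    · rw [show x = 1 from Subtype.ext h]; exact one_mem _
    · rw [show x = ⟨z, hzD⟩ from Subtype.ext h]; exact mem_zpowers _
  have hc2 : Nat.card (center D) = 2 := by rw [hcen, Nat.card_zpowers, Subgroup.orderOf_mk, orderOf_z hJ]
  have hmem : ∀ x : D, ((x : G) = 1 ∨ (x : G) = z) → x ∈ center D := fun x h => by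
    rw [hcen]
    rcases h with h | h
    · rw [show x = 1 from Subtype.ext h]; exact one_mem _
    · rw [show x = ⟨z, hzD⟩ from Subtype.ext h]; exact mem_zpowers _
  have hcle : _root_.commutator D ≤ center D := by
    rw [_root_.commutator_def, commutator_le]
    intro a _ b _
    exact hmem _ (by rw [commutatorElement_def]; exact comm_mem_zpowers hJ a.2.1 b.2.1)
  have hder : _root_.commutator D = center D := by
    refine Subgroup.eq_of_le_of_card_ge hcle ?_
    rw [hc2]
    have hne : _root_.commutator D ≠ ⊥ := fun hb => by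
      have htop : center D = ⊤ := eq_top_iff.2 fun x _ => mem_center_iff.2 fun y =>
        commutatorElement_eq_one_iff_mul_comm.1 (mem_bot.1 (hb ▸ commutator_mem_commutator (mem_top y) (mem_top x)))
      rw [htop, card_top, hD32] at hc2
      norm_num at hc2
    exact Finite.one_lt_card_iff_nontrivial.2 ((nontrivial_iff_ne_bot _).2 hne)
  refine ⟨⟨hDp, le_antisymm ?_ ?_, hder⟩, hc2⟩
  · refine CfsgLib.PGroupBasic.frattini_le_of_elementary (p := 2) _ hder.le fun x => hmem _ ?_
    rw [Subgroup.coe_pow, pow_two]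
    exact sq_mem_zpowers hJ x.2.1
  · rw [← hder]
    exact (CfsgLib.PGroupBasic.commutator_pow_le_frattini hDp).1

/-- An element of the commutator subgroup in the centre is killed by the transfer to an abelian subgroup. -/
theorem eq_one_of_mem_commutator {X : Type*} [Group X] [Finite X] (R : Subgroup X) (hR : IsMulCommutative R)
    {u : X} (hu : u ∈ center X) (hu' : u ∈ _root_.commutator X) (hcop : (orderOf u).Coprime R.index) : u = 1 := by
  letI : CommGroup R := { (inferInstance : Group R) with mul_comm := hR.is_comm.comm }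
  have h := MonoidHom.transfer_eq_pow (MonoidHom.id R) u (fun k g₀ _ => by
    rw [mem_center_iff.1 (pow_mem hu k) g₀⁻¹, inv_mul_cancel_right])
  have h0 : MonoidHom.transfer (MonoidHom.id R) u = 1 :=
    MonoidHom.mem_ker.1 (Abelianization.commutator_subset_ker _ hu')
  rw [h0] at h
  have h2 : u ^ R.index = 1 := (congrArg Subtype.val h).symm
  exact orderOf_eq_one_iff.1 (Nat.eq_one_of_dvd_one
    (hcop ▸ Nat.dvd_gcd dvd_rfl (orderOf_dvd_of_pow_eq_one h2)))

/-- A subgroup of order 9 of `C_H(P)` meets `P`. -/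
theorem nine_meets_P (hJ : Cfsg.IsOfJankoFourTypeWith z P) (T : Subgroup G) (hT : T ≤ cC z P)
    (h9 : Nat.card T = 9) : ¬ T ⊓ P = ⊥ := by
  haveI : Fact (Nat.Prime 3) := ⟨Nat.prime_three⟩
  intro hd
  have hcom : ∀ p ∈ P, ∀ c ∈ cC z P, c * p = p * c := fun p hp c hc =>
    (mem_centralizer_iff.1 hc.2 p hp).symm
  have hn : T ≤ normalizer (P : Set G) := fun t ht => centralizer_le_normalizer _ (hT ht).2
  have h27 : Nat.card ↥(T ⊔ P) = 27 := by
    rw [CfsgLib.Solvable.card_sup_of_disjoint hn hd, h9, card_P hJ]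
  haveI : IsMulCommutative T := IsPGroup.isMulCommutative_of_card_eq_prime_sq (p := 3) (by rw [h9]; rfl)
  haveI : IsCyclic P := isCyclic_of_prime_card (p := 3) (card_P hJ)
  have hle : T ⊔ P ≤ cC z P := sup_le hT (P_le_C hJ)
  have hab : IsMulCommutative ↥((T ⊔ P).subgroupOf (cC z P)) := ⟨⟨fun a b => by
    have key : T ⊔ P ≤ centralizer ((T ⊔ P : Subgroup G) : Set G) := by
      refine sup_le (le_centralizer_iff.1 (sup_le ?_ ?_)) (le_centralizer_iff.1 (sup_le ?_ ?_))
      · intro x hx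
        exact mem_centralizer_iff.2 fun y hy => congrArg Subtype.val
          (mul_comm' (⟨y, hy⟩ : T) ⟨x, hx⟩)
      · exact fun x hx => mem_centralizer_iff.2 fun y hy => hcom x hx y (hT hy)
      · exact fun x hx => mem_centralizer_iff.2 fun y hy => (hcom y hy x (hT hx)).symm
      · exact fun x hx => mem_centralizer_iff.2 fun y hy => hcom x hx y (P_le_C hJ hy)
    exact Subtype.ext (Subtype.ext (mem_centralizer_iff.1 (key b.2) _ a.2))⟩⟩
  obtain ⟨p₀, hp₀⟩ : ∃ p₀ : P, orderOf p₀ = 3 :=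
    exists_prime_orderOf_dvd_card' (G := P) 3 (by rw [card_P hJ])
  have hidx : ((T ⊔ P).subgroupOf (cC z P)).index = 98560 := by
    have := ((T ⊔ P).subgroupOf (cC z P)).card_mul_index
    rw [Nat.card_congr (subgroupOfEquivOfLe hle).toEquiv, h27, card_C hJ] at this
    omega
  have hmem : (⟨(p₀ : G), P_le_C hJ p₀.2⟩ : cC z P) ∈ _root_.commutator (cC z P) := by
    have := P_le_commutator hJ p₀.2
    rw [← Subgroup.map_subtype_commutator] at this
    obtain ⟨y, hy, e⟩ := this
    rwa [show y = (⟨(p₀ : G), P_le_C hJ p₀.2⟩ : cC z P) from Subtype.ext e] at hy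
  have hone := eq_one_of_mem_commutator _ hab (u := ⟨(p₀ : G), P_le_C hJ p₀.2⟩)
    (mem_center_iff.2 fun c => Subtype.ext (hcom _ p₀.2 c c.2)) hmem
    (by rw [Subgroup.orderOf_mk, orderOf_coe, hp₀, hidx]; norm_num)
  rw [show p₀ = 1 from Subtype.ext (congrArg Subtype.val hone :)] at hp₀
  simp at hp₀

theorem card_involutions_le (hJ : Cfsg.IsOfJankoFourTypeWith z P) :
    Nat.card {x : cE z // x ^ 2 = 1} ≤ 4160 := by
  have hsub : (fun x : {x : cE z // x ^ 2 = 1} => ((x : cE z) : G)) '' Set.univ ⊆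
      invSet z (cE z) ∪ {1, z} := by
    rintro _ ⟨x, -, rfl⟩
    by_cases h1 : ((x : cE z) : G) = 1
    · exact Or.inr (Or.inl h1)
    by_cases h2 : ((x : cE z) : G) = z
    · exact Or.inr (Or.inr h2)
    refine Or.inl ⟨x.1.2, ?_, h1, h2⟩
    have := congrArg Subtype.val x.2
    simpa [pow_two] using this
  have h := (Set.ncard_le_ncard hsub).trans (Set.ncard_union_le _ _)
  rw [Set.ncard_image_of_injective _ (fun a b e => Subtype.val_injective (Subtype.val_injective e)), Set.ncard_univ,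
    card_invSet_E hJ] at h
  have := Set.ncard_insert_le (1 : G) {z}
  rw [Set.ncard_singleton] at this
  omega

/-- Every involution of `E` other than `z` has a conjugate under `C_H(P)` centralised by `f`. -/
theorem exists_fixed_five (hJ : Cfsg.IsOfJankoFourTypeWith z P)
    (hseven : ∀ d ∈ cC z P, orderOf d = 7 → cE z ⊓ centralizer ({d} : Set G) = zpowers z)
    {f : G} (hf : f ∈ cC z P) (ho : orderOf f = 5) {u : G} (hu : u ∈ cE z) (hu2 : u * u = 1)
    (hu1 : u ≠ 1) (huz : u ≠ z) : ∃ c ∈ cC z P, c * u * c⁻¹ * f = f * (c * u * c⁻¹) := by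
  classical
  haveI : Fact (Nat.Prime 5) := ⟨by norm_num⟩
  haveI : Fact (Nat.Prime 3) := ⟨Nat.prime_three⟩
  have hzz : z * z = 1 := by rw [← pow_two, ← orderOf_z hJ, pow_orderOf_eq_one]
  have hcz : ∀ c ∈ cC z P, c * z * c⁻¹ = z := fun c hc => by rw [mem_cH.1 hc.1, mul_inv_cancel_right]
  -- the stabiliser of the pair
  let S : Subgroup (cC z P) :=
    { carrier := {c | (c : G) * u * (c : G)⁻¹ = u ∨ (c : G) * u * (c : G)⁻¹ = u * z}
      one_mem' := Or.inl (by simp)
      mul_mem' := fun {a b} ha hb => by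
        simp only [Set.mem_setOf_eq, Subgroup.coe_mul] at *
        rw [show (a : G) * b * u * ((a : G) * b)⁻¹ = (a : G) * ((b : G) * u * (b : G)⁻¹) * (a : G)⁻¹ by group]
        have hsplit : (a : G) * (u * z) * (a : G)⁻¹ = (a : G) * u * (a : G)⁻¹ * z := by
          calc _ = (a : G) * u * (a : G)⁻¹ * ((a : G) * z * (a : G)⁻¹) := by group
            _ = _ := by rw [hcz a a.2]
        rcases hb with hb | hb <;> rcases ha with ha | ha <;> rw [hb] <;>
          simp [hsplit, ha, mul_assoc, hzz]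
      inv_mem' := fun {a} ha => by
        simp only [Set.mem_setOf_eq, Subgroup.coe_inv] at *
        rcases ha with ha | ha
        · left; conv_lhs => rw [← ha]
          group
        · right
          have h1 : u = (a : G)⁻¹ * (u * z) * (a : G) := by rw [← ha]; group
          calc (a : G)⁻¹ * u * (a : G)⁻¹⁻¹ = (a : G)⁻¹ * (u * z) * (a : G) * ((a : G)⁻¹ * z * (a : G)) := by
                rw [inv_inv, show (a : G)⁻¹ * (u * z) * (a : G) * ((a : G)⁻¹ * z * (a : G)) =
                  (a : G)⁻¹ * (u * (z * z)) * (a : G) by group, hzz, mul_one]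
            _ = u * z := by
                rw [← h1]
                have := hcz _ (inv_mem a.2)
                rw [inv_inv] at this
                rw [this] }
  have hodd : ∀ c : cC z P, c ∈ S → ∀ p, p.Prime → p ≠ 2 → orderOf c = p →
      (c : G) * u = u * (c : G) := by
    intro c hc p hp hp2 hcp
    rcases hc with h | h
    · exact mul_inv_eq_iff_eq_mul.1 h
    · exfalso
      have hn : ∀ n : ℕ, (c : G) ^ n * u * ((c : G) ^ n)⁻¹ = u * z ^ n := by
        intro n
        induction n with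
        | zero => simp
        | succ n ih =>
          rw [pow_succ', show (c : G) * (c : G) ^ n * u * ((c : G) * (c : G) ^ n)⁻¹ =
            (c : G) * ((c : G) ^ n * u * ((c : G) ^ n)⁻¹) * (c : G)⁻¹ by group, ih,
            show (c : G) * (u * z ^ n) * (c : G)⁻¹ = (c : G) * u * (c : G)⁻¹ * ((c : G) * z ^ n * (c : G)⁻¹) by group,
            h, show (c : G) * z ^ n * (c : G)⁻¹ = z ^ n by rw [← conj_pow, hcz c c.2], pow_succ', mul_assoc]
      have := hn p
      rw [show (c : G) ^ p = 1 by rw [← Subgroup.coe_pow, ← hcp, pow_orderOf_eq_one, Subgroup.coe_one]] at this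
      obtain ⟨m, rfl⟩ := hp.odd_of_ne_two hp2
      rw [pow_succ, pow_mul, pow_two, hzz, one_pow, one_mul] at this
      exact z_one_ne hJ (by simpa using this)
  by_contra hno
  simp only [not_exists, not_and] at hno
  -- the prime divisors of the stabiliser
  have h5 : ¬ 5 ∣ Nat.card S := by
    intro h
    obtain ⟨g, hg⟩ := exists_prime_orderOf_dvd_card' (G := S) 5 h
    have hg' : orderOf (g : cC z P) = 5 := by rw [orderOf_coe, hg]
    have hgu := hodd g g.2 5 (by norm_num) (by norm_num) hg'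
    have hS5 : ∀ x : cC z P, orderOf x = 5 →
        Nat.card (zpowers x) = 5 ^ (Nat.card ↥(cC z P)).factorization 5 := fun x hx => by
      rw [Nat.card_zpowers, hx, card_C hJ, show (6 * 443520 : ℕ) = 5 ^ 1 * 532224 from rfl,
        Nat.factorization_mul (by norm_num) (by norm_num), Finsupp.add_apply,
        (Fact.out : Nat.Prime 5).factorization_pow, Finsupp.single_eq_same,
        Nat.factorization_eq_zero_of_not_dvd (by norm_num), add_zero, pow_one]
    obtain ⟨c, hc⟩ := MulAction.exists_smul_eq (cC z P) (Sylow.ofCard (zpowers (g : cC z P)) (hS5 _ hg'))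
      (Sylow.ofCard (zpowers (⟨f, hf⟩ : cC z P)) (hS5 _ (by rw [Subgroup.orderOf_mk, ho])))
    have hmem : (⟨f, hf⟩ : cC z P) ∈
        ((Sylow.ofCard (zpowers (⟨f, hf⟩ : cC z P)) (hS5 _ (by rw [Subgroup.orderOf_mk, ho])) : Sylow 5 _) : Subgroup _) :=
      mem_zpowers _
    rw [← hc] at hmem
    obtain ⟨w, hw, e⟩ := hmem
    obtain ⟨i, rfl⟩ := mem_zpowers_iff.1 hw
    refine hno c c.2 ?_
    have e' : (c : G) * ((g : cC z P) : G) ^ i * (c : G)⁻¹ = f := by
      have := congrArg Subtype.val e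
      simpa using this
    rw [← e']
    have hcm : Commute u (((g : cC z P) : G) ^ i) := (show Commute u _ from hgu.symm).zpow_right i
    calc (c : G) * u * (c : G)⁻¹ * ((c : G) * ((g : cC z P) : G) ^ i * (c : G)⁻¹)
        = (c : G) * (u * ((g : cC z P) : G) ^ i) * (c : G)⁻¹ := by group
      _ = (c : G) * (((g : cC z P) : G) ^ i * u) * (c : G)⁻¹ := by rw [hcm.eq]
      _ = _ := by group
  have h7 : ¬ 7 ∣ Nat.card S := by
    intro h
    haveI : Fact (Nat.Prime 7) := ⟨by norm_num⟩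
    obtain ⟨g, hg⟩ := exists_prime_orderOf_dvd_card' (G := S) 7 h
    have hg' : orderOf (g : cC z P) = 7 := by rw [orderOf_coe, hg]
    have hgu := hodd g g.2 7 (by norm_num) (by norm_num) hg'
    have hm : u ∈ cE z ⊓ centralizer ({((g : cC z P) : G)} : Set G) :=
      ⟨hu, mem_centralizer_singleton_iff.2 hgu.symm⟩
    rw [hseven _ (g : cC z P).2 (by rw [orderOf_coe, hg'])] at hm
    obtain ⟨i, hi⟩ := mem_zpowers_iff.1 hm
    rw [← zpow_mod_orderOf, orderOf_z hJ] at hi
    rcases (show i % (2 : ℕ) = 0 ∨ i % (2 : ℕ) = 1 by omega) with h | h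
    · exact hu1 (by rw [← hi, h, zpow_zero])
    · exact huz (by rw [← hi, h, zpow_one])
  have h11 : ¬ 11 ∣ Nat.card S := by
    intro h
    haveI : Fact (Nat.Prime 11) := ⟨by norm_num⟩
    obtain ⟨g, hg⟩ := exists_prime_orderOf_dvd_card' (G := S) 11 h
    have hg' : orderOf (g : cC z P) = 11 := by rw [orderOf_coe, hg]
    have hgu := hodd g g.2 11 (by norm_num) (by norm_num) hg'
    rcases involution_centralizer_eleven hJ (g : cC z P).2 (by rw [orderOf_coe, hg']) hu hgu hu2 with h | h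
    exacts [hu1 h, huz h]
  have h9 : ¬ 9 ∣ Nat.card S := by
    intro h
    obtain ⟨T₀, hT₀⟩ := Sylow.exists_subgroup_card_pow_prime (G := S) 3 (n := 2) h
    set T := (T₀.map S.subtype).map (cC z P).subtype with hT
    have hT9 : Nat.card T = 9 := by
      rw [hT, Subgroup.card_map_of_injective (cC z P).subtype_injective,
        Subgroup.card_map_of_injective S.subtype_injective, hT₀]
      rfl
    refine nine_meets_P hJ T (map_subtype_le _) hT9 (eq_bot_iff.2 ?_)
    rintro x ⟨hxT, hxP⟩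
    obtain ⟨y, ⟨s, -, rfl⟩, rfl⟩ := hxT
    rw [mem_bot]
    by_contra hx1
    have h3 : orderOf (s : cC z P) = 3 := by
      rw [← orderOf_coe (s : cC z P)]
      have hd : orderOf ((s : cC z P) : G) ∣ 3 := by
        rw [← card_P hJ]; exact Subgroup.orderOf_dvd_natCard P hxP
      exact ((Nat.dvd_prime Nat.prime_three).1 hd).resolve_left fun e => hx1 (orderOf_eq_one_iff.1 e)
    have hsu := hodd s s.2 3 Nat.prime_three (by norm_num) h3
    have hm : u ∈ cE z ⊓ centralizer (P : Set G) := by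
      refine ⟨hu, mem_centralizer_iff.2 fun y hy => ?_⟩
      have htop : zpowers (⟨_, hxP⟩ : P) = ⊤ := Subgroup.eq_top_of_card_eq _ (by
        rw [Nat.card_zpowers, Subgroup.orderOf_mk, card_P hJ]
        show orderOf ((s : cC z P) : G) = 3
        rw [orderOf_coe, h3])
      obtain ⟨i, hi⟩ := mem_zpowers_iff.1 (htop.ge (mem_top (⟨y, hy⟩ : P)))
      have hi' : ((s : cC z P) : G) ^ i = y := by simpa using congrArg Subtype.val hi
      rw [← hi']
      exact ((show Commute _ u from hsu).zpow_left i).eq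
    rw [E_inf_centralizer hJ] at hm
    obtain ⟨i, hi⟩ := mem_zpowers_iff.1 hm
    rw [← zpow_mod_orderOf, orderOf_z hJ] at hi
    rcases (show i % (2 : ℕ) = 0 ∨ i % (2 : ℕ) = 1 by omega) with h | h
    · exact hu1 (by rw [← hi, h, zpow_zero])
    · exact huz (by rw [← hi, h, zpow_one])
  have hdvd : 3465 ∣ S.index := by
    have hmul := S.card_mul_index
    rw [card_C hJ] at hmul
    have c5 : (5 : ℕ) ∣ S.index := (((by norm_num : Nat.Prime 5).dvd_mul).1 (hmul ▸ by norm_num)).resolve_left h5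
    have c7 : (7 : ℕ) ∣ S.index := (((by norm_num : Nat.Prime 7).dvd_mul).1 (hmul ▸ by norm_num)).resolve_left h7
    have c11 : (11 : ℕ) ∣ S.index := (((by norm_num : Nat.Prime 11).dvd_mul).1 (hmul ▸ by norm_num)).resolve_left h11
    have c9 : (9 : ℕ) ∣ S.index := by
      have h27 : 27 ∣ Nat.card S * S.index := hmul ▸ by norm_num
      by_cases h3 : 3 ∣ Nat.card S
      · obtain ⟨m, hm⟩ := h3
        rw [hm, mul_assoc, show (27 : ℕ) = 3 * 9 from rfl, mul_dvd_mul_iff_left (by norm_num : (3 : ℕ) ≠ 0)] at h27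
        have hcop : Nat.Coprime 9 m := by
          refine (Nat.Coprime.pow_left 2 ((Nat.prime_three.coprime_iff_not_dvd).2 fun hd => h9 ?_) : Nat.Coprime (3 ^ 2) m)
          obtain ⟨m', rfl⟩ := hd
          exact ⟨m', by rw [hm]; ring⟩
        exact hcop.dvd_of_dvd_mul_left h27
      · have hcop : Nat.Coprime (3 ^ 3) (Nat.card S) :=
          Nat.Coprime.pow_left 3 ((Nat.prime_three.coprime_iff_not_dvd).2 h3)
        exact (show 9 ∣ 27 by norm_num).trans (hcop.dvd_of_dvd_mul_left h27)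
    rw [show (3465 : ℕ) = 5 * 7 * 11 * 9 from rfl]
    exact Nat.Coprime.mul_dvd_of_dvd_of_dvd (by norm_num)
      (Nat.Coprime.mul_dvd_of_dvd_of_dvd (by norm_num) (Nat.Coprime.mul_dvd_of_dvd_of_dvd (by norm_num) c5 c7) c11) c9
  -- an injection into the involutions
  have hrep : ∀ c : (cC z P) ⧸ S, ((Quotient.out c : cC z P) : G) * u * ((Quotient.out c : cC z P) : G)⁻¹ ∈ cE z :=
    fun c => (mem_normalizer_iff.1 (H_le_normalizer_E (Quotient.out c : cC z P).2.1) u).1 hu
  let g : ((cC z P) ⧸ S) × Bool → {x : cE z // x ^ 2 = 1} := fun cb =>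
    ⟨⟨((Quotient.out cb.1 : cC z P) : G) * u * ((Quotient.out cb.1 : cC z P) : G)⁻¹ * cond cb.2 z 1,
      mul_mem (hrep cb.1) (by cases cb.2 <;> first | exact one_mem _ | exact z_mem_E hJ)⟩, by
      refine Subtype.ext ?_
      rw [Subgroup.coe_pow, pow_two, Subgroup.coe_one]
      set c := ((Quotient.out cb.1 : cC z P) : G) with hc
      have hzc : z * (c * u * c⁻¹) = c * u * c⁻¹ * z := (mem_cH.1 (E_le_H (hrep cb.1))).symm
      have hsq : c * u * c⁻¹ * (c * u * c⁻¹) = 1 := by
        rw [show c * u * c⁻¹ * (c * u * c⁻¹) = c * (u * u) * c⁻¹ by group, hu2]; group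
      cases cb.2
      · simpa using hsq
      · show c * u * c⁻¹ * z * (c * u * c⁻¹ * z) = 1
        rw [show c * u * c⁻¹ * z * (c * u * c⁻¹ * z) = c * u * c⁻¹ * (z * (c * u * c⁻¹)) * z by group, hzc,
          show c * u * c⁻¹ * (c * u * c⁻¹ * z) * z = c * u * c⁻¹ * (c * u * c⁻¹) * (z * z) by group,
          hsq, hzz, one_mul]⟩
  have hginj : Function.Injective g := by
    rintro ⟨c, b⟩ ⟨c', b'⟩ h
    have h' : ((Quotient.out c : cC z P) : G) * u * ((Quotient.out c : cC z P) : G)⁻¹ * cond b z 1 =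
        ((Quotient.out c' : cC z P) : G) * u * ((Quotient.out c' : cC z P) : G)⁻¹ * cond b' z 1 :=
      congrArg (fun x : {x : cE z // x ^ 2 = 1} => ((x.1 : cE z) : G)) h
    set a := ((Quotient.out c : cC z P) : G) with ha
    set a' := ((Quotient.out c' : cC z P) : G) with ha'
    have hcc : c = c' := by
      rw [← Quotient.out_eq' c, ← Quotient.out_eq' c']
      refine QuotientGroup.eq.2 ?_
      show (a⁻¹ * a') * u * (a⁻¹ * a')⁻¹ = u ∨ (a⁻¹ * a') * u * (a⁻¹ * a')⁻¹ = u * z
      have hai : a⁻¹ ∈ cC z P := inv_mem (Quotient.out c : cC z P).2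
      have hza : a⁻¹ * z * a = z := by simpa using hcz _ hai
      have e1 : (a⁻¹ * a') * u * (a⁻¹ * a')⁻¹ = a⁻¹ * (a' * u * a'⁻¹) * a := by group
      rw [e1]
      cases b <;> cases b' <;> simp only [cond_false, cond_true, mul_one] at h'
      · left; rw [← h']; group
      · right
        have h2 : a' * u * a'⁻¹ = a * u * a⁻¹ * z := by rw [h', mul_assoc _ z z, hzz, mul_one]
        rw [h2, show a⁻¹ * (a * u * a⁻¹ * z) * a = u * (a⁻¹ * z * a) by group, hza]
      · right; rw [← h', show a⁻¹ * (a * u * a⁻¹ * z) * a = u * (a⁻¹ * z * a) by group, hza]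
      · left; rw [← mul_right_cancel h']; group
    subst hcc
    have hb : cond b z (1 : G) = cond b' z 1 := mul_left_cancel h'
    cases b <;> cases b' <;> first | rfl | exact absurd hb (z_one_ne hJ) | exact absurd hb.symm (z_one_ne hJ)
  have hrange : Nat.card (((cC z P) ⧸ S) × Bool) + 2 ≤ Nat.card {x : cE z // x ^ 2 = 1} := by
    have h1 : Nat.card (Set.range g) = Nat.card (((cC z P) ⧸ S) × Bool) := Nat.card_range_of_injective hginj
    let e1 : {x : cE z // x ^ 2 = 1} := ⟨1, one_pow 2⟩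
    let ez : {x : cE z // x ^ 2 = 1} := ⟨⟨z, z_mem_E hJ⟩, Subtype.ext (by
      rw [Subgroup.coe_pow, pow_two, hzz]; rfl)⟩
    have hnot : ∀ cb, ∀ w : G, (w = 1 ∨ w = z) → ((g cb).1 : G) ≠ w := by
      intro cb w hw e
      set c := ((Quotient.out cb.1 : cC z P) : G) with hc
      have e' : c * u * c⁻¹ * cond cb.2 z 1 = w := e
      have h' : c * u * c⁻¹ = 1 ∨ c * u * c⁻¹ = z := by
        rw [eq_mul_inv_of_mul_eq e']
        rcases hw with hw | hw <;> rw [hw] <;> cases cb.2 <;> simp [inv_eq_of_mul_eq_one_right hzz, hzz]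
      rcases h' with h' | h'
      · exact hu1 (conj_eq_one_iff.1 h')
      · refine huz ?_
        rw [← hcz c (Quotient.out cb.1 : cC z P).2] at h'
        exact mul_left_cancel (mul_right_cancel h')
    have hne : e1 ≠ ez := fun e => z_one_ne hJ (congrArg (fun x : {x : cE z // x ^ 2 = 1} => ((x.1 : cE z) : G)) e).symm
    have hd : Disjoint (Set.range g) {e1, ez} := by
      rw [Set.disjoint_left]
      rintro x ⟨cb, rfl⟩ (h | h)
      · exact hnot cb 1 (Or.inl rfl) (congrArg (fun x : {x : cE z // x ^ 2 = 1} => ((x.1 : cE z) : G)) h)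
      · exact hnot cb z (Or.inr rfl) (congrArg (fun x : {x : cE z // x ^ 2 = 1} => ((x.1 : cE z) : G)) h)
    have h2 := Set.ncard_le_ncard (Set.subset_univ (Set.range g ∪ {e1, ez}))
    rw [Set.ncard_union_eq hd, Set.ncard_pair hne, Set.ncard_univ, ← Nat.card_coe_set_eq, h1] at h2
    exact h2
  rw [Nat.card_prod, ← Subgroup.index_eq_card, Nat.card_eq_fintype_card (α := Bool), Fintype.card_bool] at hrange
  have := card_involutions_le hJ
  have hle := Nat.le_of_dvd (Nat.pos_of_ne_zero S.index_ne_zero_of_finite) hdvd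
  omega

end CfsgLib.J4Five
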