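/-
Real forms for an elementary abelian group with a fixed-point-free element of order three and an involution
inverting it: the quadratic map restricted to the fixed points of the involution.
-/
import Mathlib

set_option autoImplicit false
set_option linter.style.haveILetI false
set_option linter.unusedSectionVars false

namespace CfsgLib.J4Real

variable {V : Type*} [AddCommGroup V] [Finite V]

theorem nilp_two (h2 : ∀ a : V, a + a = 0) {u : AddMonoid.End V} (hu : u * u = 1) (a : V) :
    u (u a + a) = u a + a := by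
  rw [map_add, show u (u a) = a from DFunLike.congr_fun hu a, add_comm]

theorem exists_step (h2 : ∀ a : V, a + a = 0) {u : AddMonoid.End V} (hu : u * u = 1) (M : AddSubgroup V)
    (hM : ∀ a ∈ M, u a + a ∈ M) {a : V} (ha : a ∉ M) :
    ∃ b, b ∉ M ∧ u b + b ∈ M ∧ (b = a ∨ b = u a + a) := by
  by_cases h : u a + a ∈ M
  · exact ⟨a, ha, h, Or.inl rfl⟩
  · exact ⟨u a + a, h, by rw [nilp_two h2 hu, h2]; exact zero_mem M, Or.inr rfl⟩

/-- A subgroup invariant under a fixed-point-free automorphism of order seven. -/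
theorem card_inv_seven (h2 : Nat.card V = 64) {d : AddMonoid.End V} (hd : d ^ 7 = 1) (hfix : ∀ a, d a = a → a = 0)
    (U : AddSubgroup V) (hU : ∀ a ∈ U, d a ∈ U) :
    Nat.card U = 1 ∨ Nat.card U = 8 ∨ Nat.card U = 64 := by
  classical
  haveI : Fintype U := Fintype.ofFinite _
  haveI : Fact (Nat.Prime 7) := ⟨by norm_num⟩
  let σ : Function.End U := fun a => ⟨d a, hU a a.2⟩
  have hpow : ∀ (n : ℕ) (a : U), (((σ ^ n) a : U) : V) = (d ^ n) (a : V) := by
    intro n
    induction n with
    | zero => intro a; rfl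
    | succ n ih =>
      intro a
      rw [pow_succ, pow_succ]
      exact ih (σ a)
  have hσ : σ ^ 7 ^ 1 = 1 := by
    funext a
    apply Subtype.ext
    rw [pow_one, hpow, hd]
    rfl
  have h := Equiv.Perm.card_fixedPoints_modEq (p := 7) (n := 1) hσ
  have h1 : Fintype.card (Function.fixedPoints σ) = 1 := by
    refine Fintype.card_eq_one_iff.2 ⟨⟨0, Subtype.ext (map_zero d)⟩, fun a => Subtype.ext (Subtype.ext ?_)⟩
    exact hfix _ (congrArg Subtype.val (a.2 : σ a.1 = a.1))
  rw [h1, ← Nat.card_eq_fintype_card] at h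
  obtain ⟨k, hk, hUk⟩ := (Nat.dvd_prime_pow Nat.prime_two).1
    (show Nat.card U ∣ 2 ^ 6 from (show (2 : ℕ) ^ 6 = Nat.card V by rw [h2]; norm_num) ▸
      AddSubgroup.card_addSubgroup_dvd_card U)
  rw [hUk] at h ⊢
  unfold Nat.ModEq at h
  interval_cases k <;> simp at h ⊢

/-- The data of an affine group of exponent two inside the isometries of a symmetric form. -/
structure Conf (g : V →+ V →+ ZMod 2) (u₀ u₁ u₂ w d : AddMonoid.End V) : Prop where
  card : Nat.card V = 64
  two : ∀ a : V, a + a = 0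
  symm : ∀ a b, g a b = g b a
  nondeg : ∀ a, (∀ b, g a b = 0) → a = 0
  diag : ∀ a, g a a = 0
  inv₀ : ∀ a b, g (u₀ a) (u₀ b) = g a b
  invw : ∀ a b, g (w a) (w b) = g a b
  invd : ∀ a b, g (d a) (d b) = g a b
  alt₀ : ∀ a, g a (u₀ a) = 0
  altw : ∀ a, g a (w a) = 0
  d7 : d ^ 7 = 1
  dfix : ∀ a, d a = a → a = 0
  sq₀ : u₀ * u₀ = 1
  sq₁ : u₁ * u₁ = 1
  sq₂ : u₂ * u₂ = 1
  sqw : w * w = 1
  c01 : u₀ * u₁ = u₁ * u₀
  c02 : u₀ * u₂ = u₂ * u₀
  c12 : u₁ * u₂ = u₂ * u₁
  du0 : d * u₀ = u₁ * d
  du1 : d * u₁ = u₂ * d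
  du2 : d * u₂ = u₀ * u₂ * d
  wu0 : w * u₀ = u₁ * w
  wu2 : w * u₂ = u₀ * u₁ * u₂ * w
  ne : u₀ ≠ 1

theorem Conf.exists_ne {g : V →+ V →+ ZMod 2} {u₀ u₁ u₂ w d : AddMonoid.End V} (D : Conf g u₀ u₁ u₂ w d) :
    ∃ a, g a (u₀ (u₂ (w a))) ≠ 0 := by
  classical
  by_contra hno
  simp only [not_exists, not_not] at hno
  have h2 := D.two
  have hneg : ∀ a : V, -a = a := fun a => neg_eq_of_add_eq_zero_left (h2 a)
  have hz : ∀ x : ZMod 2, x + x = 0 := CharTwo.add_self_eq_zero
  have hsq : ∀ {u : AddMonoid.End V}, u * u = 1 → ∀ a, u (u a) = a := fun h a => DFunLike.congr_fun h a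
  -- the fixed subgroup
  let M : AddSubgroup V :=
    { carrier := {a | u₀ a = a ∧ u₁ a = a ∧ u₂ a = a}
      zero_mem' := ⟨map_zero _, map_zero _, map_zero _⟩
      add_mem' := fun ha hb => ⟨by rw [map_add, ha.1, hb.1], by rw [map_add, ha.2.1, hb.2.1],
        by rw [map_add, ha.2.2, hb.2.2]⟩
      neg_mem' := fun ha => ⟨by rw [map_neg, ha.1], by rw [map_neg, ha.2.1], by rw [map_neg, ha.2.2]⟩ }
  have eqd : ∀ {u u' : AddMonoid.End V}, d * u = u' * d → ∀ a, u' (d a) = d (u a) :=
    fun h a => (DFunLike.congr_fun h a).symm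
  have hMd : ∀ a ∈ M, d a ∈ M := by
    rintro a ⟨h0, h1, h2'⟩
    have e1 : u₁ (d a) = d a := by rw [eqd D.du0, h0]
    have e2 : u₂ (d a) = d a := by rw [eqd D.du1, h1]
    refine ⟨?_, e1, e2⟩
    have e : u₀ (u₂ (d a)) = d (u₂ a) := (DFunLike.congr_fun D.du2 a).symm
    rwa [e2, h2'] at e
  have eqc : ∀ {u u' : AddMonoid.End V}, u * u' = u' * u → ∀ a, u' (u a) = u (u' a) :=
    fun h a => (DFunLike.congr_fun h a).symm
  -- the first layer is not trivial
  have hMne : Nat.card M ≠ 1 := by
    intro hM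
    haveI : Nontrivial V := (Finite.one_lt_card_iff_nontrivial).1 (by rw [D.card]; norm_num)
    obtain ⟨a, ha⟩ := _root_.exists_ne (0 : V)
    obtain ⟨b, hb, hb0, -⟩ := exists_step h2 D.sq₀ ⊥ (fun x hx => by
      rw [AddSubgroup.mem_bot] at hx ⊢; rw [hx, map_zero, add_zero]) (a := a) (by simpa using ha)
    obtain ⟨c, hc, hc1, hcc⟩ := exists_step h2 D.sq₁ ⊥ (fun x hx => by
      rw [AddSubgroup.mem_bot] at hx ⊢; rw [hx, map_zero, add_zero]) hb
    obtain ⟨e, he, he2, hee⟩ := exists_step h2 D.sq₂ ⊥ (fun x hx => by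
      rw [AddSubgroup.mem_bot] at hx ⊢; rw [hx, map_zero, add_zero]) hc
    rw [AddSubgroup.mem_bot, add_eq_zero_iff_eq_neg, hneg] at hb0 hc1 he2
    have hc0 : u₀ c = c := by
      rcases hcc with rfl | rfl
      · exact hb0
      · rw [map_add, ← eqc D.c01, hb0]
    have he0 : u₀ e = e := by
      rcases hee with rfl | rfl
      · exact hc0
      · rw [map_add, ← eqc D.c02, hc0]
    have he1 : u₁ e = e := by
      rcases hee with rfl | rfl
      · exact hc1
      · rw [map_add, ← eqc D.c12, hc1]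
    have hsub : Subsingleton M := (Nat.card_eq_one_iff_unique.1 hM).1
    exact he (AddSubgroup.mem_bot.2 (congrArg Subtype.val
      (Subsingleton.elim (⟨e, he0, he1, he2⟩ : M) 0)))
  have hMtop : Nat.card M ≠ 64 := by
    intro hM
    have htop : M = ⊤ := AddSubgroup.eq_top_of_card_eq M (by rw [hM, D.card])
    exact D.ne (DFunLike.ext _ _ fun a => (htop.ge (AddSubgroup.mem_top a)).1)
  have hM8 : Nat.card M = 8 := by
    rcases card_inv_seven D.card D.d7 D.dfix M hMd with h | h | h
    exacts [absurd h hMne, h, absurd h hMtop]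
  -- every displacement lies in `M`
  let M' : AddSubgroup V :=
    { carrier := {a | u₀ a + a ∈ M ∧ u₁ a + a ∈ M ∧ u₂ a + a ∈ M}
      zero_mem' := by simp [map_zero]
      add_mem' := fun {a b} ha hb => by
        refine ⟨?_, ?_, ?_⟩ <;> rw [map_add, add_add_add_comm]
        exacts [add_mem ha.1 hb.1, add_mem ha.2.1 hb.2.1, add_mem ha.2.2 hb.2.2]
      neg_mem' := fun {a} ha => by simpa only [hneg] using ha }
  have hMM' : M ≤ M' := fun a ha => by
    refine ⟨?_, ?_, ?_⟩ <;> [rw [ha.1]; rw [ha.2.1]; rw [ha.2.2]] <;> rw [h2] <;> exact zero_mem M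
  have hM'd : ∀ a ∈ M', d a ∈ M' := by
    rintro a ⟨h0, h1, h2'⟩
    have e1 : u₁ (d a) + d a ∈ M := by rw [eqd D.du0, ← map_add]; exact hMd _ h0
    have e2 : u₂ (d a) + d a ∈ M := by rw [eqd D.du1, ← map_add]; exact hMd _ h1
    refine ⟨?_, e1, e2⟩
    have e3 : u₀ (u₂ (d a)) + d a ∈ M := by
      rw [show u₀ (u₂ (d a)) = d (u₂ a) from (DFunLike.congr_fun D.du2 a).symm, ← map_add]
      exact hMd _ h2'
    have e4 : u₀ (u₂ (d a) + d a) = u₂ (d a) + d a := e2.1
    rw [map_add] at e4
    have e5 : u₀ (d a) + d a = (u₀ (u₂ (d a)) + d a) + (u₂ (d a) + d a) := by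
      rw [← e4, add_add_add_comm, h2, zero_add, add_comm]
    rw [e5]
    exact add_mem e3 e2
  have hM'top : M' = ⊤ := by
    obtain ⟨a, ha⟩ : ∃ a, a ∉ M := by
      by_contra h
      simp only [not_exists, not_not] at h
      refine hMtop ?_
      rw [show M = ⊤ from eq_top_iff.2 fun a _ => h a, AddSubgroup.card_top, D.card]
    obtain ⟨b, hb, hb0, -⟩ := exists_step h2 D.sq₀ M (fun x hx => by rw [hx.1, h2]; exact zero_mem M) ha
    obtain ⟨c, hc, hc1, hcc⟩ := exists_step h2 D.sq₁ M (fun x hx => by rw [hx.2.1, h2]; exact zero_mem M) hb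
    obtain ⟨e, he, he2, hee⟩ := exists_step h2 D.sq₂ M (fun x hx => by rw [hx.2.2, h2]; exact zero_mem M) hc
    have hmove : ∀ {u u' : AddMonoid.End V}, u * u' = u' * u → (∀ x ∈ M, u' x = x) → ∀ {x},
        u x + x ∈ M → u (u' x + x) + (u' x + x) ∈ M := by
      intro u u' hcom hfix x hx
      have : u (u' x + x) + (u' x + x) = u' (u x + x) + (u x + x) := by
        rw [map_add, map_add, ← eqc hcom]; abel
      rw [this, hfix _ hx, h2]; exact zero_mem M
    have hc0 : u₀ c + c ∈ M := by
      rcases hcc with rfl | rfl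
      exacts [hb0, hmove D.c01 (fun x hx => hx.2.1) hb0]
    have he0 : u₀ e + e ∈ M := by
      rcases hee with rfl | rfl
      exacts [hc0, hmove D.c02 (fun x hx => hx.2.2) hc0]
    have he1 : u₁ e + e ∈ M := by
      rcases hee with rfl | rfl
      exacts [hc1, hmove D.c12 (fun x hx => hx.2.2) hc1]
    have hlt : M < M' := lt_of_le_of_ne hMM' fun e' => he (e'.ge (show e ∈ M' from ⟨he0, he1, he2⟩))
    refine AddSubgroup.eq_top_of_card_eq M' ?_
    rw [D.card]
    have hle : Nat.card M < Nat.card M' := by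
      refine lt_of_le_of_ne (Nat.card_le_card_of_injective _ (AddSubgroup.inclusion_injective hMM')) fun e' => ?_
      exact hlt.ne (AddSubgroup.eq_of_le_of_card_ge hMM' e'.ge)
    rcases card_inv_seven D.card D.d7 D.dfix M' hM'd with h | h | h <;> omega
  have hdel : ∀ a, u₀ a + a ∈ M ∧ u₁ a + a ∈ M ∧ u₂ a + a ∈ M := fun a => hM'top.ge (AddSubgroup.mem_top a)
  -- invariance and the three alternating maps
  have hdsurj : ∀ a, ∃ b, d b = a := fun a => ⟨(d ^ 6) a, by
    have e : d * d ^ 6 = 1 := by rw [← pow_succ', D.d7]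
    exact DFunLike.congr_fun e a⟩
  have hdunit : IsUnit d := IsUnit.of_pow_eq_one D.d7 (by norm_num)
  have inv₁ : ∀ a b, g (u₁ a) (u₁ b) = g a b := by
    intro a b
    have e : ∀ x, u₁ (d x) = d (u₀ x) := eqd D.du0
    obtain ⟨a, rfl⟩ := hdsurj a
    obtain ⟨b, rfl⟩ := hdsurj b
    rw [e, e, D.invd, D.inv₀, D.invd]
  have inv₂ : ∀ a b, g (u₂ a) (u₂ b) = g a b := by
    intro a b
    have e : ∀ x, u₂ (d x) = d (u₁ x) := eqd D.du1
    obtain ⟨a, rfl⟩ := hdsurj a
    obtain ⟨b, rfl⟩ := hdsurj b
    rw [e, e, D.invd, inv₁, D.invd]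
  have alt₁ : ∀ a, g a (u₁ a) = 0 := by
    intro a
    obtain ⟨a, rfl⟩ := hdsurj a
    rw [eqd D.du0, D.invd, D.alt₀]
  have alt₂ : ∀ a, g a (u₂ a) = 0 := by
    intro a
    obtain ⟨a, rfl⟩ := hdsurj a
    rw [eqd D.du1, D.invd, alt₁]
  -- forms
  let F : AddMonoid.End V → V → V → ZMod 2 := fun u a b => g a (u b + b)
  have hFs : ∀ {u : AddMonoid.End V}, u * u = 1 → (∀ a b, g (u a) (u b) = g a b) → ∀ a b, F u a b = F u b a := by
    intro u hu hinv a b
    show g a (u b + b) = g b (u a + a)
    rw [map_add, map_add, D.symm a b, show g a (u b) = g b (u a) by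
      rw [← hinv a (u b), hsq hu, D.symm]]
  have hFd : ∀ {u : AddMonoid.End V}, (∀ a, g a (u a) = 0) → ∀ a, F u a a = 0 := fun h a => by
    show g a (_ + a) = 0
    rw [map_add, h, D.diag, add_zero]
  have hFM : ∀ {u : AddMonoid.End V}, u * u = 1 → (∀ a b, g (u a) (u b) = g a b) → (∀ x ∈ M, u x = x) →
      ∀ m ∈ M, ∀ b, F u m b = 0 := by
    intro u hu hinv hfix m hm b
    rw [hFs hu hinv]
    show g b (u m + m) = 0
    rw [hfix m hm, h2, map_zero]
  have hF0 := hFM D.sq₀ D.inv₀ fun x hx => hx.1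
  have hF1 := hFM D.sq₁ inv₁ fun x hx => hx.2.1
  have hF2 := hFM D.sq₂ inv₂ fun x hx => hx.2.2
  have hFl : ∀ {u : AddMonoid.End V} a a' b, F u (a + a') b = F u a b + F u a' b := fun a a' b => by
    show g (a + a') _ = _
    rw [map_add g, AddMonoidHom.add_apply]
  have hFr : ∀ {u : AddMonoid.End V} a b b', F u a (b + b') = F u a b + F u a b' := fun {u} a b b' => by
    show g a (u (b + b') + (b + b')) = g a (u b + b) + g a (u b' + b')
    rw [← map_add, map_add u, add_add_add_comm]
  -- `w` acts non-trivially modulo `M`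
  have hwu : ∀ b, u₁ (w b) = w (u₀ b) := fun b => (DFunLike.congr_fun D.wu0 b).symm
  have h01ne : u₀ ≠ u₁ := by
    intro e
    have e12 : u₁ = u₂ := by
      have h := D.du1
      rw [← e, D.du0] at h
      exact hdunit.mul_right_cancel h
    have h := D.du2
    rw [← e12, ← e, D.du0, ← e, D.sq₀, one_mul] at h
    exact D.ne (hdunit.mul_right_cancel (h.trans (one_mul d).symm))
  have h12ne : u₁ ≠ u₂ := by
    intro e
    refine h01ne ?_
    have h := D.du1
    rw [← e, ← D.du0] at h
    exact (hdunit.mul_left_cancel h).symm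
  have h02ne : u₀ ≠ u₂ := by
    intro e
    have h := D.du2
    rw [← e, D.sq₀, one_mul, D.du0] at h
    have h' : u₁ = 1 := hdunit.mul_right_cancel (h.trans (one_mul d).symm)
    have h3 := D.du0
    rw [h', one_mul] at h3
    exact D.ne (hdunit.mul_left_cancel (h3.trans (mul_one d).symm))
  have hFne : ∀ {u u' : AddMonoid.End V}, u ≠ u' → ∃ a b, F u a b + F u' a b ≠ 0 := by
    intro u u' hne
    by_contra h
    simp only [not_exists, not_not] at h
    refine hne (DFunLike.ext _ _ fun b => ?_)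
    have hzero : (u b + b) + (u' b + b) = 0 := D.nondeg _ fun a => by
      rw [D.symm, map_add]; exact h a b
    rw [add_add_add_comm, h2, add_zero] at hzero
    rw [← neg_eq_of_add_eq_zero_left hzero, hneg]
  have hwne : ∃ x, w x + x ∉ M := by
    by_contra h
    simp only [not_exists, not_not] at h
    obtain ⟨a, b, hab⟩ := hFne h01ne
    refine hab ?_
    have e : F u₁ (w a) (w b) = F u₀ a b := by
      show g (w a) (u₁ (w b) + w b) = _
      rw [hwu, ← map_add, D.invw]
    have eA : ∀ a b, F u₁ (w a) b = F u₁ a b := fun a b => by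
      have hh : F u₁ ((w a + a) + a) b = F u₁ (w a + a) b + F u₁ a b := hFl _ _ _
      rwa [hF1 _ (h a) b, zero_add, add_assoc, h2, add_zero] at hh
    have e2 : F u₁ (w a) (w b) = F u₁ a b := by
      rw [eA a, hFs D.sq₁ inv₁ a, eA b, hFs D.sq₁ inv₁ b]
    rw [← e, e2, hz]
  obtain ⟨x, hx⟩ := hwne
  set c := w x + x with hc
  have hwM : ∀ m ∈ M, w m ∈ M := by
    rintro m ⟨h0, h1, h2'⟩
    have e1 : u₁ (w m) = w m := by rw [hwu, h0]
    have e0 : u₀ (w m) = w m := by
      have : w (u₁ m) = u₀ (w m) := by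
        have h' : w * u₁ = u₀ * w := by
          calc w * u₁ = w * u₁ * (w * w) := by rw [D.sqw, mul_one]
            _ = w * (u₁ * w) * w := by simp only [mul_assoc]
            _ = w * (w * u₀) * w := by rw [D.wu0]
            _ = u₀ * w := by rw [← mul_assoc w w, D.sqw, one_mul]
        exact DFunLike.congr_fun h' m
      rw [← this, h1]
    refine ⟨e0, e1, ?_⟩
    have e : w (u₂ m) = u₀ (u₁ (u₂ (w m))) := DFunLike.congr_fun D.wu2 m
    rw [h2'] at e
    have e' := congrArg (fun y => u₁ (u₀ y)) e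
    simp only [e0, e1, hsq D.sq₀, hsq D.sq₁] at e'
    exact e'.symm
  have hcw : w c = c := nilp_two h2 D.sqw x
  -- the displacement of `w` modulo `M` is `{0, c}`
  have hrank : ∀ a, w a + a ∈ M ∨ w a + a + c ∈ M := by
    let φ : V →+ V ⧸ M := AddMonoidHom.mk' (fun a => QuotientAddGroup.mk' M (w a + a)) fun a b => by
      rw [map_add w, add_add_add_comm, map_add]
    have hφ : ∀ a, φ a = QuotientAddGroup.mk' M (w a + a) := fun a => rfl
    have hle : φ.range.comap (QuotientAddGroup.mk' M) ≤ φ.ker := by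
      intro a ha
      obtain ⟨b, hb⟩ := AddSubgroup.mem_comap.1 ha
      rw [hφ, QuotientAddGroup.mk'_eq_mk'] at hb
      obtain ⟨m, hm, rfl⟩ := hb
      rw [AddMonoidHom.mem_ker, hφ, QuotientAddGroup.mk'_apply, QuotientAddGroup.eq_zero_iff]
      have : w (w b + b + m) + (w b + b + m) = w m + m := by
        rw [map_add, nilp_two h2 D.sqw, add_add_add_comm, h2, zero_add]
      rw [this]
      exact add_mem (hwM m hm) hm
    have h1 : Nat.card φ.ker * Nat.card φ.range = 64 := by
      rw [← D.card, AddSubgroup.card_eq_card_quotient_mul_card_addSubgroup φ.ker, mul_comm,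
        Nat.card_congr (QuotientAddGroup.quotientKerEquivRange φ).toEquiv]
    have h3 : Nat.card (φ.range.comap (QuotientAddGroup.mk' M)) = 8 * Nat.card φ.range := by
      have e1 := (φ.range.comap (QuotientAddGroup.mk' M)).card_mul_index
      rw [AddSubgroup.index_comap_of_surjective _ (QuotientAddGroup.mk'_surjective M), D.card] at e1
      have e2 := φ.range.card_mul_index
      have e3 : Nat.card (V ⧸ M) = 8 := by
        have := AddSubgroup.card_eq_card_quotient_mul_card_addSubgroup M
        rw [D.card, hM8] at this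
        omega
      rw [e3] at e2
      have : 0 < φ.range.index := Nat.pos_of_ne_zero φ.range.index_ne_zero_of_finite
      nlinarith
    have h4 := Nat.card_le_card_of_injective _ (AddSubgroup.inclusion_injective hle)
    rw [h3] at h4
    have hr2 : Nat.card φ.range ≤ 2 := by
      by_contra hlt
      have : 8 * 3 * 3 ≤ 8 * Nat.card φ.range * Nat.card φ.range := by
        have : 3 ≤ Nat.card φ.range := by omega
        gcongr
      nlinarith
    intro a
    by_contra hcon
    simp only [not_or] at hcon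
    have hsub : ({0, φ x, φ a} : Finset (V ⧸ M)).card ≤ 2 := by
      refine le_trans ?_ hr2
      rw [← Nat.card_eq_finsetCard]
      exact Nat.card_mono (Set.toFinite _) (by
        intro y hy
        simp only [Finset.coe_insert, Finset.coe_singleton, Set.mem_insert_iff, Set.mem_singleton_iff] at hy
        rcases hy with rfl | rfl | rfl
        exacts [zero_mem _, ⟨x, rfl⟩, ⟨a, rfl⟩])
    have n1 : φ x ≠ 0 := fun e => hx ((QuotientAddGroup.eq_zero_iff _).1 e)
    have n2 : φ a ≠ 0 := fun e => hcon.1 ((QuotientAddGroup.eq_zero_iff _).1 e)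
    have n3 : φ x ≠ φ a := fun e => hcon.2 (by
      have := QuotientAddGroup.eq.1 e
      rwa [hneg, add_comm] at this)
    rw [Finset.card_insert_of_notMem (by simp [Ne.symm n1, Ne.symm n2]),
      Finset.card_insert_of_notMem (by simp [n3]), Finset.card_singleton] at hsub
    omega
  -- the radicals
  have hv : ∀ a b, F (u₀ * u₂) a b = F u₀ a b + F u₂ a b := by
    intro a b
    show g a (u₀ (u₂ b) + b) = _
    have h' : u₀ (u₂ b + b) = u₂ b + b := (hdel b).2.2.1
    rw [map_add] at h'
    rw [show g a (u₀ b + b) + g a (u₂ b + b) = g a ((u₀ b + b) + (u₂ b + b)) from (map_add _ _ _).symm, ← h']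
    congr 1
    calc u₀ (u₂ b) + b = u₀ (u₂ b) + b + (u₀ b + u₀ b) := by rw [h2, add_zero]
      _ = _ := by abel
  let Fv : V → V → ZMod 2 := fun a b => F u₀ a b + F u₂ a b
  let F1 : V → V → ZMod 2 := fun a b => F u₀ a b + F u₁ a b
  have hfin : ∀ a, Fv a (w a + a) = 0 := by
    intro a
    have h := hno a
    have e : F (u₀ * u₂) a (w a) = 0 := by
      show g a (u₀ (u₂ (w a)) + w a) = 0
      rw [map_add, h, D.altw, add_zero]
    rw [hv] at e
    show F u₀ a (w a + a) + F u₂ a (w a + a) = 0
    rw [hFr, hFr, hFd D.alt₀, hFd alt₂, add_zero, add_zero]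
    exact e
  have hFvc : ∀ a, Fv a c = 0 := by
    have key : ∀ a, w a + a ∉ M → Fv a c = 0 := by
      intro a ha
      have hm := (hrank a).resolve_left ha
      have e : c = (w a + a) + (w a + a + c) := by rw [← add_assoc, h2, zero_add]
      have h := hfin a
      show F u₀ a c + F u₂ a c = 0
      rw [e, hFr a (w a + a) (w a + a + c), hFr a (w a + a) (w a + a + c),
        hFs D.sq₀ D.inv₀ a (w a + a + c), hF0 _ hm, hFs D.sq₂ inv₂ a (w a + a + c), hF2 _ hm,
        add_zero, add_zero]
      exact h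
    intro a
    by_cases ha : w a + a ∈ M
    · have hax : w (a + x) + (a + x) ∉ M := by
        rw [map_add, add_add_add_comm]
        exact fun h => hx (by simpa using sub_mem h ha)
      have h := key _ hax
      have h' := key x hx
      simp only [Fv, hFl] at h h' ⊢
      rw [add_add_add_comm, h', add_zero] at h
      exact h
    · exact key a ha
  have hF1c : ∀ a, F1 a c = 0 := by
    intro a
    have e : F u₁ (w c) (w a) = F u₀ c a := by
      show g (w c) (u₁ (w a) + w a) = _
      rw [hwu, ← map_add, D.invw]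
    rw [hcw] at e
    have e2 : F u₁ c (w a) = F u₁ c a := by
      have ea : w a = a + (w a + a) := by rw [add_comm (w a) a, ← add_assoc, h2, zero_add]
      rw [ea, hFr]
      rcases hrank a with h | h
      · rw [hFs D.sq₁ inv₁ c (w a + a), hF1 _ h, add_zero]
      · have eb : w a + a = c + (w a + a + c) := by rw [← add_assoc, add_comm c, add_assoc, h2, add_zero]
        rw [eb, hFr, hFd alt₁, zero_add, hFs D.sq₁ inv₁ c (_ + c), hF1 _ h, add_zero]
    rw [e2] at e
    show F u₀ a c + F u₁ a c = 0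
    rw [hFs D.sq₁ inv₁ a c, e, hFs D.sq₀ D.inv₀ a c, hz]
  -- an alternating form with a radical of index four is determined by one value
  let R : AddSubgroup V :=
    { carrier := {a | a ∈ M ∨ a + c ∈ M}
      zero_mem' := Or.inl (zero_mem M)
      add_mem' := fun {a b} ha hb => by
        rcases ha with ha | ha <;> rcases hb with hb | hb
        · exact Or.inl (add_mem ha hb)
        · exact Or.inr (by rw [add_assoc]; exact add_mem ha hb)
        · exact Or.inr (by rw [add_right_comm]; exact add_mem ha hb)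
        · refine Or.inl ?_
          have e : a + b = (a + c) + (b + c) := by rw [add_add_add_comm, h2, add_zero]
          rw [e]; exact add_mem ha hb
      neg_mem' := fun {a} ha => by simpa only [hneg] using ha }
  have hR16 : Nat.card R ≤ 16 := by
    let f : (M × Bool) → R := fun p => ⟨(p.1 : V) + cond p.2 c 0, by
      cases p.2
      · exact Or.inl (by simp)
      · exact Or.inr (by simp [add_assoc, h2])⟩
    have hf : Function.Surjective f := by
      rintro ⟨a, ha | ha⟩
      · exact ⟨(⟨a, ha⟩, false), Subtype.ext (add_zero a)⟩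
      · exact ⟨(⟨a + c, ha⟩, true), Subtype.ext (by show a + c + c = a; rw [add_assoc, h2, add_zero])⟩
    have := Nat.card_le_card_of_surjective f hf
    rw [Nat.card_prod, hM8, Nat.card_eq_fintype_card (α := Bool), Fintype.card_bool] at this
    omega
  obtain ⟨e₁, he₁⟩ : ∃ a, a ∉ R := by
    by_contra h
    simp only [not_exists, not_not] at h
    rw [show R = ⊤ from eq_top_iff.2 fun a _ => h a, AddSubgroup.card_top, D.card] at hR16
    omega
  obtain ⟨e₂, he₂, he₂'⟩ : ∃ a, a ∉ R ∧ a + e₁ ∉ R := by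
    by_contra h
    have hall : ∀ a, a ∈ R ∨ a + e₁ ∈ R := fun a => by
      by_contra h'; exact h ⟨a, not_or.1 h'⟩
    let f : (R × Bool) → V := fun p => (p.1 : V) + cond p.2 e₁ 0
    have hf : Function.Surjective f := fun a => by
      rcases hall a with ha | ha
      · exact ⟨(⟨a, ha⟩, false), add_zero a⟩
      · exact ⟨(⟨a + e₁, ha⟩, true), by show a + e₁ + e₁ = a; rw [add_assoc, h2, add_zero]⟩
    have := Nat.card_le_card_of_surjective f hf
    rw [Nat.card_prod, Nat.card_eq_fintype_card (α := Bool), Fintype.card_bool, D.card] at this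
    omega
  have hdet : ∀ Φ : V → V → ZMod 2, (∀ a a' b, Φ (a + a') b = Φ a b + Φ a' b) → (∀ a b, Φ a b = Φ b a) →
      (∀ a, Φ a a = 0) → (∀ a, Φ a c = 0) → (∀ m ∈ M, ∀ a, Φ m a = 0) → Φ e₁ e₂ = 0 → ∀ a b, Φ a b = 0 := by
    intro Φ hl hs hd hc0 hm0 h12
    have hr : ∀ a b b', Φ a (b + b') = Φ a b + Φ a b' := fun a b b' => by rw [hs, hl, hs b, hs b']
    have hR0 : ∀ r ∈ R, ∀ a, Φ r a = 0 := by
      rintro r (hr' | hr') a
      · exact hm0 r hr' a
      · rw [show r = (r + c) + c by rw [add_assoc, h2, add_zero], hl, hm0 _ hr', hs c, hc0, add_zero]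
    let K : AddSubgroup V := AddSubgroup.closure ((R : Set V) ∪ {e₁, e₂})
    have hK : K = ⊤ := by
      have hlt : R < R ⊔ AddSubgroup.zmultiples e₁ :=
        lt_of_le_of_ne le_sup_left fun e => he₁ (e.ge (AddSubgroup.mem_sup_right (AddSubgroup.mem_zmultiples e₁)))
      have hRK : R ≤ K := fun r hr => AddSubgroup.subset_closure (Or.inl hr)
      have h1K : R ⊔ AddSubgroup.zmultiples e₁ ≤ K :=
        sup_le hRK (AddSubgroup.zmultiples_le.2 (AddSubgroup.subset_closure (Or.inr (Or.inl rfl))))
      have he2s : e₂ ∉ R ⊔ AddSubgroup.zmultiples e₁ := by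
        intro h
        obtain ⟨r, hr, m, hm, e⟩ := AddSubgroup.mem_sup.1 h
        obtain ⟨n, rfl⟩ := AddSubgroup.mem_zmultiples_iff.1 hm
        rcases Int.even_or_odd n with ⟨t, rfl⟩ | ⟨t, rfl⟩
        · rw [add_zsmul, h2, add_zero] at e
          exact he₂ (e ▸ hr)
        · rw [add_zsmul, one_zsmul, two_mul, add_zsmul, h2, zero_add] at e
          refine he₂' ?_
          rw [← e, add_assoc, h2, add_zero]
          exact hr
      have hMR : M ≤ R := fun m hm => Or.inl hm
      have h1 : 8 ∣ Nat.card R := hM8 ▸ AddSubgroup.card_dvd_of_le hMR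
      have hcR : 16 ≤ Nat.card R := by
        by_contra hlt'
        have : Nat.card R = 8 := by
          have := Nat.card_pos (α := R); omega
        have e := AddSubgroup.eq_of_le_of_card_ge hMR (by rw [this, hM8])
        exact hx (e.ge (show c ∈ R from Or.inr (by rw [h2]; exact zero_mem M)))
      have dbl : ∀ {A B : AddSubgroup V}, A < B → 2 * Nat.card A ≤ Nat.card B := by
        intro A B h
        obtain ⟨k, hk⟩ := AddSubgroup.card_dvd_of_le h.le
        have hne : k ≠ 1 := fun e => h.ne (AddSubgroup.eq_of_le_of_card_ge h.le (by rw [hk, e, mul_one]))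
        have hpos := Nat.card_pos (α := B)
        rcases k with _ | _ | k
        · omega
        · omega
        · rw [hk]; nlinarith
      refine AddSubgroup.eq_top_of_card_eq K (le_antisymm (Nat.card_le_card_of_injective _ K.subtype_injective) ?_)
      have a1 := dbl hlt
      have a2 := dbl (lt_of_le_of_ne h1K fun e => he2s (e.ge (AddSubgroup.subset_closure (Or.inr (Or.inr rfl)))))
      rw [D.card]
      omega
    have gen : ∀ (Ψ : V → ZMod 2), (∀ a a', Ψ (a + a') = Ψ a + Ψ a') → (∀ r ∈ R, Ψ r = 0) → Ψ e₁ = 0 →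
        Ψ e₂ = 0 → ∀ a, Ψ a = 0 := by
      intro Ψ hadd hR' h1' h2' a
      let ker : AddSubgroup V := (AddMonoidHom.mk' Ψ hadd).ker
      have : K ≤ ker := (AddSubgroup.closure_le _).2 (by
        rintro y (hy | rfl | rfl)
        exacts [hR' y hy, h1', h2'])
      exact this (hK.ge (AddSubgroup.mem_top a))
    have g1 : ∀ a, Φ a e₁ = 0 := gen (Φ · e₁) (fun a a' => hl a a' _) (fun r hr' => hR0 r hr' _) (hd _)
      (by rw [hs]; exact h12)
    have g2 : ∀ a, Φ a e₂ = 0 := gen (Φ · e₂) (fun a a' => hl a a' _) (fun r hr' => hR0 r hr' _) h12 (hd _)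
    intro a b
    exact gen (Φ a) (hr a) (fun r hr' => by rw [hs]; exact hR0 r hr' a) (g1 a) (g2 a) b
  have hadd : ∀ (u u' : AddMonoid.End V) a a' b,
      F u (a + a') b + F u' (a + a') b = (F u a b + F u' a b) + (F u a' b + F u' a' b) := fun u u' a a' b => by
    rw [hFl, hFl]; abel
  have hv12 : Fv e₁ e₂ = 1 := by
    by_contra h
    obtain ⟨a, b, hab⟩ := hFne h02ne
    exact hab (hdet Fv (hadd u₀ u₂)
      (fun a b => by show _ + _ = _ + _; rw [hFs D.sq₀ D.inv₀, hFs D.sq₂ inv₂])
      (fun a => by show _ + _ = _; rw [hFd D.alt₀, hFd alt₂, add_zero]) hFvc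
      (fun m hm a => by show _ + _ = _; rw [hF0 m hm, hF2 m hm, add_zero])
      ((show ∀ t : ZMod 2, t ≠ 1 → t = 0 by decide) _ h) a b)
  have h112 : F1 e₁ e₂ = 1 := by
    by_contra h
    obtain ⟨a, b, hab⟩ := hFne h01ne
    exact hab (hdet F1 (hadd u₀ u₁)
      (fun a b => by show _ + _ = _ + _; rw [hFs D.sq₀ D.inv₀, hFs D.sq₁ inv₁])
      (fun a => by show _ + _ = _; rw [hFd D.alt₀, hFd alt₁, add_zero]) hF1c
      (fun m hm a => by show _ + _ = _; rw [hF0 m hm, hF1 m hm, add_zero])
      ((show ∀ t : ZMod 2, t ≠ 1 → t = 0 by decide) _ h) a b)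
  obtain ⟨a, b, hab⟩ := hFne h12ne
  have key : ∀ a b, F u₁ a b + F u₂ a b = F1 a b + Fv a b := fun a b => by
    show _ = F u₀ a b + F u₁ a b + (F u₀ a b + F u₂ a b)
    rw [add_add_add_comm, hz, zero_add]
  refine hab (hdet (fun a b => F u₁ a b + F u₂ a b) (hadd u₁ u₂)
    (fun a b => by show _ + _ = _ + _; rw [hFs D.sq₁ inv₁, hFs D.sq₂ inv₂])
    (fun a => by show _ + _ = _; rw [hFd alt₁, hFd alt₂, add_zero])
    (fun a => by show _ + _ = _; rw [key, hF1c, hFvc, add_zero])
    (fun m hm a => by show _ + _ = _; rw [hF1 m hm, hF2 m hm, add_zero])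
    (by show _ + _ = _; rw [key, h112, hv12]; decide) a b)

/-! ### The bridge from the semilinear setting -/

/-- A group of exponent two with an alternating form, a quadratic map, and a fixed-point-free element of order 3. -/
structure Space (W : Type*) [AddCommGroup W] (B : W →+ W →+ ZMod 2) (q : W → ZMod 2) (p : AddMonoid.End W) : Prop where
  card : Nat.card W = 2 ^ 12
  two : ∀ a : W, a + a = 0
  nondeg : ∀ a, (∀ b, B a b = 0) → a = 0
  polar : ∀ a b, q (a + b) = q a + q b + B a b
  qp : ∀ a, q (p a) = q a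
  fpf : ∀ a, p (p a) = p a + a
  three : ∀ a, p (p (p a)) = a

variable {W : Type*} [AddCommGroup W] [Finite W] {B : W →+ W →+ ZMod 2} {q : W → ZMod 2} {p : AddMonoid.End W}

/-- An involution inverting `p` and preserving `q`. -/
structure Outer (p : AddMonoid.End W) (q : W → ZMod 2) (T : AddMonoid.End W) : Prop where
  sq : T * T = 1
  inverts : ∀ a, T (p a) = p (p (T a))
  qT : ∀ a, q (T a) = q a

/-- The fixed points of an automorphism. -/
def fixV (T : AddMonoid.End W) : AddSubgroup W where
  carrier := {a | T a = a}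
  zero_mem' := map_zero T
  add_mem' := fun {a b} (ha : T a = a) (hb : T b = b) => show T (a + b) = a + b by rw [map_add, ha, hb]
  neg_mem' := fun {a} (ha : T a = a) => show T (-a) = -a by rw [map_neg, ha]

theorem mem_fixV {T : AddMonoid.End W} {a : W} : a ∈ fixV T ↔ T a = a := Iff.rfl

namespace Space

variable (S : Space W B q p)

include S

theorem q_zero : q 0 = 0 := by
  have h := S.polar 0 0
  rw [add_zero, map_zero, add_zero] at h
  rw [h]; exact CharTwo.add_self_eq_zero _

theorem B_self (a : W) : B a a = 0 := by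
  have h := S.polar a a
  rw [S.two, S.q_zero, CharTwo.add_self_eq_zero, zero_add] at h
  exact h.symm

theorem B_symm (a b : W) : B a b = B b a := by
  have h1 := S.polar a b
  have h2 := S.polar b a
  rw [add_comm b a, add_comm (q b)] at h2
  exact add_left_cancel (h1.symm.trans h2)

theorem B_inv {T : AddMonoid.End W} (hT : ∀ a, q (T a) = q a) (a b : W) : B (T a) (T b) = B a b := by
  have h1 := S.polar (T a) (T b)
  rw [← map_add, hT, hT, hT, S.polar] at h1
  exact (add_left_cancel h1).symm

theorem add_add_cancel (a b : W) : a + (a + b) = b := by rw [← add_assoc, S.two, zero_add]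

theorem dis {T : AddMonoid.End W} (O : Outer p q T) {a b : W} (ha : T a = a) (hb : T b = b) (h : a = p b) :
    a = 0 ∧ b = 0 := by
  have h' := ha
  rw [h, O.inverts, hb, S.fpf] at h'
  have hb0 : b = 0 := by simpa using h'
  exact ⟨by rw [h, hb0, map_zero], hb0⟩

theorem decomp {T : AddMonoid.End W} (O : Outer p q T) :
    Nat.card (fixV T) = 64 ∧ (∀ y, ∃ a b, T a = a ∧ T b = b ∧ y = a + p b) ∧
      ∀ b, T b = b → ∃ c, b = T c + c := by
  let f : W →+ W := AddMonoidHom.mk' (fun a => T a + a) fun a b => by rw [map_add T, add_add_add_comm]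
  have hker : ∀ a, a ∈ f.ker ↔ a ∈ fixV T := fun a => by
    show T a + a = 0 ↔ T a = a
    exact ⟨fun h => by rw [← add_zero (T a), ← S.two a, ← add_assoc, h, zero_add],
      fun h => by rw [h, S.two]⟩
  have hk : f.ker = fixV T := AddSubgroup.ext hker
  have hle : f.range ≤ fixV T := by
    rintro _ ⟨c, rfl⟩
    show T (T c + c) = T c + c
    rw [map_add, show T (T c) = c from DFunLike.congr_fun O.sq c, add_comm]
  let Φ : fixV T × fixV T → W := fun x => (x.1 : W) + p x.2
  have hΦ : Function.Injective Φ := by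
    rintro ⟨a, b⟩ ⟨a', b'⟩ h
    have h' : ((a : W) + a') = p ((b : W) + b') := by
      rw [map_add]
      have e : (a : W) + p b + ((a' : W) + p b') = 0 := by
        rw [show (a : W) + p b = (a' : W) + p b' from h, S.two]
      rw [add_add_add_comm] at e
      calc (a : W) + a' = (a : W) + a' + ((a : W) + a' + (p b + p b')) := by rw [e, add_zero]
        _ = _ := S.add_add_cancel _ _
    obtain ⟨h1, h2⟩ := S.dis O (show T ((a : W) + a') = _ by rw [map_add, mem_fixV.1 a.2, mem_fixV.1 a'.2])
      (show T ((b : W) + b') = _ by rw [map_add, mem_fixV.1 b.2, mem_fixV.1 b'.2]) h'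
    have e1 : (a' : W) = a := by
      calc (a' : W) = a + ((a : W) + a') := (S.add_add_cancel _ _).symm
        _ = a := by rw [h1, add_zero]
    have e2 : (b' : W) = b := by
      calc (b' : W) = b + ((b : W) + b') := (S.add_add_cancel _ _).symm
        _ = b := by rw [h2, add_zero]
    exact Prod.ext (Subtype.ext e1.symm) (Subtype.ext e2.symm)
  have h1 := Nat.card_le_card_of_injective Φ hΦ
  rw [Nat.card_prod] at h1
  have h2 : Nat.card (fixV T) * Nat.card f.range = 2 ^ 12 := by
    rw [← S.card, AddSubgroup.card_eq_card_quotient_mul_card_addSubgroup f.ker, mul_comm,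
      Nat.card_congr (QuotientAddGroup.quotientKerEquivRange f).toEquiv, hk]
  have h3 := Nat.card_le_card_of_injective _ (AddSubgroup.inclusion_injective hle)
  rw [S.card] at h1
  have h64 : Nat.card (fixV T) = 64 := by nlinarith
  have hre : f.range = fixV T := AddSubgroup.eq_of_le_of_card_ge hle (by nlinarith)
  have hsurj : Function.Surjective Φ := ((Nat.bijective_iff_injective_and_card Φ).2 ⟨hΦ, by
    rw [Nat.card_prod, h64, S.card]; norm_num⟩).2
  refine ⟨h64, fun y => ?_, fun b hb => ?_⟩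
  · obtain ⟨⟨a, b⟩, h⟩ := hsurj y
    exact ⟨a, b, a.2, b.2, h.symm⟩
  · obtain ⟨c, hc⟩ := hre.ge (mem_fixV.2 hb)
    exact ⟨c, hc.symm⟩

theorem iso_zero {T : AddMonoid.End W} (O : Outer p q T) {a b : W} (ha : T a = a) (hb : T b = b) : B a b = 0 := by
  obtain ⟨c, rfl⟩ := (S.decomp O).2.2 b hb
  have h := S.B_inv O.qT a c
  rw [ha] at h
  rw [map_add, h]
  exact CharTwo.add_self_eq_zero _

theorem g_self {T : AddMonoid.End W} (a : W) : B a (p a) = q a := by
  have h := S.polar a (p a)
  rw [add_comm a, ← S.fpf, S.qp, S.qp, CharTwo.add_self_eq_zero, zero_add] at h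
  exact h.symm

/-- The quadratic map vanishes on the fixed points if an element of order seven commutes. -/
theorem q_vanish {T d : AddMonoid.End W} (O : Outer p q T) (hT : T * d = d * T) (hdq : ∀ a, q (d a) = q a)
    (hfix : ∀ a, d a = a → a = 0) {a : W} (ha : T a = a) : q a = 0 := by
  let f : fixV T → fixV T := fun x => ⟨d (x : W) + x, by
    show T (d (x : W) + x) = d (x : W) + x
    rw [map_add, mem_fixV.1 x.2, show T (d (x : W)) = d (T (x : W)) from DFunLike.congr_fun hT (x : W),
      mem_fixV.1 x.2]⟩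
  have hf : Function.Injective f := fun x y h => by
    have h' : d (x : W) + x = d (y : W) + y := congrArg Subtype.val h
    have e : d ((x : W) + y) = (x : W) + y := by
      rw [map_add]
      calc d (x : W) + d (y : W) = (d (x : W) + x + (d (y : W) + y)) + ((x : W) + y) := by
            rw [add_add_add_comm (d (x : W)), add_assoc, S.two, add_zero]
        _ = (x : W) + y := by rw [h', S.two, zero_add]
    have := hfix _ e
    exact Subtype.ext (by
      calc (x : W) = x + ((x : W) + y) + 0 := by rw [this, add_zero, add_zero]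
        _ = y := by rw [add_zero, S.add_add_cancel])
  obtain ⟨⟨b, hb⟩, he⟩ := (Finite.injective_iff_surjective.1 hf) ⟨a, ha⟩
  have he' : d b + b = a := congrArg Subtype.val he
  rw [← he', S.polar, hdq, S.iso_zero O (show T (d b) = d b by
    rw [show T (d b) = d (T b) from DFunLike.congr_fun hT b, mem_fixV.1 hb]) hb, add_zero]
  exact CharTwo.add_self_eq_zero _

/-- An isometry preserves `q` and commutes with `p`. -/
def Good (u : AddMonoid.End W) (q : W → ZMod 2) (p : AddMonoid.End W) : Prop := (∀ a, q (u a) = q a) ∧ u * p = p * u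

omit S in
theorem good_mul {u v : AddMonoid.End W} (hu : Good u q p) (hv : Good v q p) : Good (u * v) q p :=
  ⟨fun a => (hu.1 _).trans (hv.1 a), by rw [mul_assoc, hv.2, ← mul_assoc, hu.2, mul_assoc]⟩

theorem outer_mul {T j : AddMonoid.End W} (O : Outer p q T) (hj : Good j q p) (hj2 : j * j = 1) (hTj : T * j = j * T) :
    Outer p q (T * j) :=
  { sq := by rw [mul_assoc, ← mul_assoc j T, ← hTj, mul_assoc T j, hj2, mul_one, O.sq]
    inverts := fun a => by
      show T (j (p a)) = p (p (T (j a)))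
      rw [show j (p a) = p (j a) from DFunLike.congr_fun hj.2 a, O.inverts]
    qT := fun a => (O.qT _).trans (hj.1 a) }

/-- The quadratic map on the fixed points of a product. -/
theorem q_product {T j : AddMonoid.End W} (O : Outer p q T) (hq : ∀ a, T a = a → q a = 0) (hj : Good j q p)
    (hj2 : j * j = 1) (hTj : T * j = j * T) {a : W} (ha : T a = a) :
    (T * j) (a + p (a + j a)) = a + p (a + j a) ∧ q (a + p (a + j a)) = B a (p (j a)) := by
  have hja : T (j a) = j a := by rw [show T (j a) = j (T a) from DFunLike.congr_fun hTj a, ha]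
  constructor
  · show T (j (a + p (a + j a))) = _
    rw [map_add j, show j (p (a + j a)) = p (j (a + j a)) from DFunLike.congr_fun hj.2 _, map_add j a,
      show j (j a) = a from DFunLike.congr_fun hj2 a, map_add T, O.inverts, map_add T, hja, ha, S.fpf,
      add_comm (j a) a]
    rw [add_left_comm, show j a + (a + j a) = a by rw [add_left_comm, S.two, add_zero], add_comm]
  · have hb : T (a + j a) = a + j a := by rw [map_add, ha, hja]
    rw [S.polar, S.qp, hq a ha, hq _ hb, zero_add, zero_add, map_add p, map_add (B a), S.g_self (T := T),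
      hq a ha, zero_add]

/-- The main step: a fixed vector of `f` and `T·u₀·u₂·w` on which `q` does not vanish. -/
theorem exists_fixed {T d u₀ u₁ u₂ w du dw f : AddMonoid.End W} (O : Outer p q T)
    (gd : Good d q p) (g₀ : Good u₀ q p) (g₁ : Good u₁ q p) (g₂ : Good u₂ q p) (gw : Good w q p)
    (gdu : Good du q p) (gdw : Good dw q p) (gf : Good f q p)
    (td : T * d = d * T) (t₀ : T * u₀ = u₀ * T) (t₁ : T * u₁ = u₁ * T) (t₂ : T * u₂ = u₂ * T)
    (tw : T * w = w * T) (tdu : T * u₀ * du = du * (T * u₀)) (tdw : T * w * dw = dw * (T * w))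
    (tf : T * (u₀ * u₂ * w) * f = f * (T * (u₀ * u₂ * w)))
    (d7 : d ^ 7 = 1) (dfix : ∀ a, d a = a → a = 0) (dufix : ∀ a, du a = a → a = 0)
    (dwfix : ∀ a, dw a = a → a = 0) (f5 : f ^ 5 = 1)
    (sq₀ : u₀ * u₀ = 1) (sq₁ : u₁ * u₁ = 1) (sq₂ : u₂ * u₂ = 1) (sqw : w * w = 1)
    (c01 : u₀ * u₁ = u₁ * u₀) (c02 : u₀ * u₂ = u₂ * u₀) (c12 : u₁ * u₂ = u₂ * u₁)
    (du0 : d * u₀ = u₁ * d) (du1 : d * u₁ = u₂ * d) (du2 : d * u₂ = u₀ * u₂ * d)
    (wu0 : w * u₀ = u₁ * w) (wu2 : w * u₂ = u₀ * u₁ * u₂ * w) (hne : u₀ ≠ 1) :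
    ∃ a, (T * (u₀ * u₂ * w)) a = a ∧ f a = a ∧ q a = 1 := by
  have hq : ∀ a, T a = a → q a = 0 := fun a => S.q_vanish O td gd.1 dfix
  let res : (u : AddMonoid.End W) → T * u = u * T → AddMonoid.End (fixV T) := fun u h =>
    AddMonoidHom.mk' (fun x => ⟨u (x : W), by
        rw [mem_fixV, show T (u (x : W)) = u (T (x : W)) from DFunLike.congr_fun h (x : W), mem_fixV.1 x.2]⟩)
      fun x y => Subtype.ext (map_add u (x : W) y)
  let g : fixV T →+ fixV T →+ ZMod 2 :=
    AddMonoidHom.mk' (fun a => AddMonoidHom.mk' (fun b => B a (p b)) fun b b' => by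
        rw [AddSubgroup.coe_add, map_add, map_add])
      fun a a' => AddMonoidHom.ext fun b => by
        show B ((a : W) + a') (p b) = B a (p b) + B a' (p b)
        rw [map_add, AddMonoidHom.add_apply]
  have ginv : ∀ {u : AddMonoid.End W}, Good u q p → ∀ a b : W, B (u a) (p (u b)) = B a (p b) := fun {u} hu a b => by
    rw [← show u (p b) = p (u b) from DFunLike.congr_fun hu.2 b, S.B_inv hu.1]
  have galt : ∀ {j e : AddMonoid.End W}, Good j q p → j * j = 1 → T * j = j * T → Good e q p →
      T * j * e = e * (T * j) → (∀ a, e a = a → a = 0) → ∀ a, T a = a → B a (p (j a)) = 0 := by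
    intro j e hj hj2 hTj he hte hefix a ha
    obtain ⟨h1, h2⟩ := S.q_product O hq hj hj2 hTj ha
    rw [← h2]
    exact S.q_vanish (S.outer_mul O hj hj2 hTj) hte he.1 hefix h1
  have D : Conf g (res u₀ t₀) (res u₁ t₁) (res u₂ t₂) (res w tw) (res d td) :=
    { card := (S.decomp O).1
      two := fun a => Subtype.ext (S.two a)
      symm := fun a b => by
        show B (a : W) (p b) = B (b : W) (p a)
        have h := S.B_inv O.qT (a : W) (p b)
        rw [mem_fixV.1 a.2, O.inverts, mem_fixV.1 b.2] at h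
        rw [← h, ← S.B_inv S.qp, S.three, S.B_symm]
      nondeg := fun a ha => Subtype.ext (S.nondeg _ fun y => by
        obtain ⟨b, c, hb, hc, rfl⟩ := (S.decomp O).2.1 y
        rw [map_add, S.iso_zero O a.2 hb, zero_add]
        exact ha ⟨c, hc⟩)
      diag := fun a => (S.g_self (T := T) (a : W)).trans (hq _ a.2)
      inv₀ := fun a b => ginv g₀ a b
      invw := fun a b => ginv gw a b
      invd := fun a b => ginv gd a b
      alt₀ := fun a => galt g₀ sq₀ t₀ gdu tdu dufix a a.2
      altw := fun a => galt gw sqw tw gdw tdw dwfix a a.2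
      d7 := by
        refine AddMonoidHom.ext fun x => Subtype.ext ?_
        have hp : ∀ n : ℕ, ∀ y : fixV T, (((res d td ^ n) y : fixV T) : W) = (d ^ n) (y : W) := by
          intro n
          induction n with
          | zero => intro y; rfl
          | succ n ih => intro y; rw [pow_succ, pow_succ]; exact ih (res d td y)
        show (((res d td ^ 7) x : fixV T) : W) = (x : W)
        refine (hp 7 x).trans ?_
        rw [d7]; rfl
      dfix := fun a ha => Subtype.ext (dfix _ (congrArg Subtype.val ha))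
      sq₀ := AddMonoidHom.ext fun x => Subtype.ext (DFunLike.congr_fun sq₀ (x : W))
      sq₁ := AddMonoidHom.ext fun x => Subtype.ext (DFunLike.congr_fun sq₁ (x : W))
      sq₂ := AddMonoidHom.ext fun x => Subtype.ext (DFunLike.congr_fun sq₂ (x : W))
      sqw := AddMonoidHom.ext fun x => Subtype.ext (DFunLike.congr_fun sqw (x : W))
      c01 := AddMonoidHom.ext fun x => Subtype.ext (DFunLike.congr_fun c01 (x : W))
      c02 := AddMonoidHom.ext fun x => Subtype.ext (DFunLike.congr_fun c02 (x : W))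
      c12 := AddMonoidHom.ext fun x => Subtype.ext (DFunLike.congr_fun c12 (x : W))
      du0 := AddMonoidHom.ext fun x => Subtype.ext (DFunLike.congr_fun du0 (x : W))
      du1 := AddMonoidHom.ext fun x => Subtype.ext (DFunLike.congr_fun du1 (x : W))
      du2 := AddMonoidHom.ext fun x => Subtype.ext (DFunLike.congr_fun du2 (x : W))
      wu0 := AddMonoidHom.ext fun x => Subtype.ext (DFunLike.congr_fun wu0 (x : W))
      wu2 := AddMonoidHom.ext fun x => Subtype.ext (DFunLike.congr_fun wu2 (x : W))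
      ne := fun e => by
        refine hne (AddMonoidHom.ext fun y => ?_)
        obtain ⟨a, b, ha, hb, rfl⟩ := (S.decomp O).2.1 y
        have ea : u₀ a = a := congrArg Subtype.val (DFunLike.congr_fun e (⟨a, ha⟩ : fixV T))
        have eb : u₀ b = b := congrArg Subtype.val (DFunLike.congr_fun e (⟨b, hb⟩ : fixV T))
        show u₀ (a + p b) = a + p b
        rw [map_add, ea, show u₀ (p b) = p (u₀ b) from DFunLike.congr_fun g₀.2 b, eb] }
  obtain ⟨a, ha⟩ := D.exists_ne
  set j := u₀ * u₂ * w with hj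
  have hjg : Good j q p := good_mul (good_mul g₀ g₂) gw
  have hj2 : j * j = 1 := by
    have e : w * (u₀ * u₂) = (u₀ * u₂) * w := by
      calc w * (u₀ * u₂) = u₁ * (w * u₂) := by rw [← mul_assoc, wu0, mul_assoc]
        _ = u₁ * (u₀ * u₁ * u₂) * w := by rw [wu2]; simp only [mul_assoc]
        _ = (u₀ * u₂) * w := by
          rw [c01, mul_assoc u₁ u₀ u₂, ← mul_assoc u₁ u₁, sq₁, one_mul]
    calc j * j = u₀ * u₂ * (w * (u₀ * u₂)) * w := by rw [hj]; simp only [mul_assoc]
      _ = u₀ * u₂ * (u₀ * u₂) * (w * w) := by rw [e]; simp only [mul_assoc]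
      _ = 1 := by
        rw [sqw, mul_one]
        calc u₀ * u₂ * (u₀ * u₂) = u₀ * (u₂ * u₀) * u₂ := by simp only [mul_assoc]
          _ = u₀ * u₀ * (u₂ * u₂) := by rw [← c02]; simp only [mul_assoc]
          _ = 1 := by rw [sq₀, sq₂, one_mul]
  have hTj : T * j = j * T := by
    rw [hj, ← mul_assoc, ← mul_assoc, t₀, mul_assoc u₀ T, t₂, ← mul_assoc, mul_assoc (u₀ * u₂) T, tw,
      ← mul_assoc]
  obtain ⟨hfix, hqc⟩ := S.q_product O hq hjg hj2 hTj (a := (a : W)) a.2
  set σ := T * j with hσ
  set x := (a : W) + p ((a : W) + j a) with hx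
  have hqx : q x = 1 := by
    rw [hqc]
    rcases (show ∀ t : ZMod 2, t = 0 ∨ t = 1 by decide) (B (a : W) (p (j a))) with h | h
    · exact absurd h ha
    · exact h
  have O' := S.outer_mul O hjg hj2 hTj
  have hσf : ∀ y, σ y = y → σ (f y) = f y := fun y hy => by
    rw [show σ (f y) = f (σ y) from DFunLike.congr_fun tf y, hy]
  have h1 := hσf x hfix
  have h2 := hσf _ h1
  have h3 := hσf _ h2
  have h4 := hσf _ h3
  refine ⟨x + f x + f (f x) + f (f (f x)) + f (f (f (f x))), ?_, ?_, ?_⟩
  · rw [map_add, map_add, map_add, map_add, hfix, h1, h2, h3, h4]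
  · rw [map_add, map_add, map_add, map_add,
      show f (f (f (f (f x)))) = x from by
        have := DFunLike.congr_fun f5 x
        simpa [pow_succ] using this]
    abel
  · have hadd : ∀ y y', σ y = y → σ y' = y' → q (y + y') = q y + q y' := fun y y' hy hy' => by
      rw [S.polar, S.iso_zero O' hy hy', add_zero]
    have s1 : σ (x + f x) = x + f x := by rw [map_add, hfix, h1]
    have s2 : σ (x + f x + f (f x)) = x + f x + f (f x) := by rw [map_add, s1, h2]
    have s3 : σ (x + f x + f (f x) + f (f (f x))) = x + f x + f (f x) + f (f (f x)) := by rw [map_add, s2, h3]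
    rw [hadd _ _ s3 h4, hadd _ _ s2 h3, hadd _ _ s1 h2, hadd _ _ hfix h1]
    simp only [gf.1, hqx]
    decide

end Space

end CfsgLib.J4Real
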