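/-
Janko-four type: an outer element commuting with an element `f` of order 5 and an element of order 4 of `C_E(f)`
that it normalises modulo `⟨z⟩`.
-/
import Cfsg.Agent.J4Local.FiveFix
import Cfsg.Agent.J4Local.FiveReal
import Cfsg.Agent.J4Local.FiveCert

set_option autoImplicit false
set_option linter.style.haveILetI false
set_option linter.unusedSectionVars false

namespace CfsgLib.J4Twist

open Subgroup CfsgLib.J4Local
open scoped commutatorElement

variable {G : Type*} [Group G] [Finite G] {z : G} {P : Subgroup G}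

/-- A map to the automorphism group of M22 multiplicative on `N_H(P)`, inner exactly on `C_H(P)`. -/
theorem exists_map_aut (hJ : Cfsg.IsOfJankoFourTypeWith z P) : ∃ ψ : G → MulAut ↥Cfsg.Spor.M22,
    (∀ a ∈ cA z P, ∀ b ∈ cA z P, ψ (a * b) = ψ a * ψ b) ∧ (∀ a ∈ cA z P, ψ a = 1 ↔ a ∈ cK z P) ∧
    (∀ β, ∃ a ∈ cA z P, ψ a = β) ∧ (∀ a ∈ cA z P, a ∈ cC z P ↔ ∃ m, ψ a = MulAut.conj m) := by
  classical
  obtain ⟨f, hf, hker⟩ := exists_hom hJ
  have hkle : f.ker ≤ (cC z P).subgroupOf (cA z P) := by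
    rw [hker]; exact fun a ha => K_le_C hJ ha
  have hrange : ((cC z P).subgroupOf (cA z P)).map f = Cfsg.Inn ↥Cfsg.Spor.M22 := by
    refine eq_inn_of_index_two ?_
    rw [Subgroup.index_map, sup_eq_left.mpr hkle, index_C hJ, MonoidHom.range_eq_top.mpr hf,
      Subgroup.index_top]
  let ψ : G → MulAut ↥Cfsg.Spor.M22 := fun a => if h : a ∈ cA z P then f ⟨a, h⟩ else 1
  have hψ : ∀ {a} (h : a ∈ cA z P), ψ a = f ⟨a, h⟩ := fun h => dif_pos h
  refine ⟨ψ, fun a ha b hb => ?_, fun a ha => ?_, fun β => ?_, fun a ha => ?_⟩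
  · rw [hψ ha, hψ hb, hψ (mul_mem ha hb)]
    exact (congrArg f (Subtype.ext rfl)).trans (map_mul f ⟨a, ha⟩ ⟨b, hb⟩)
  · rw [hψ ha, ← MonoidHom.mem_ker, hker, Subgroup.mem_subgroupOf]
  · obtain ⟨⟨a, ha⟩, rfl⟩ := hf β
    exact ⟨a, ha, hψ ha⟩
  · rw [hψ ha]
    constructor
    · intro hc
      have : f ⟨a, ha⟩ ∈ Cfsg.Inn ↥Cfsg.Spor.M22 := hrange ▸ ⟨⟨a, ha⟩, hc, rfl⟩
      obtain ⟨m, hm⟩ := this
      exact ⟨m, hm.symm⟩
    · rintro ⟨m, hm⟩
      have : f ⟨a, ha⟩ ∈ ((cC z P).subgroupOf (cA z P)).map f := by rw [hrange, hm]; exact ⟨m, rfl⟩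
      obtain ⟨c, hc, e⟩ := this
      have hk : c⁻¹ * ⟨a, ha⟩ ∈ f.ker := by rw [MonoidHom.mem_ker, map_mul, map_inv, e, inv_mul_cancel]
      have := mul_mem hc (hkle hk)
      rwa [mul_inv_cancel_left] at this

theorem zz (hJ : Cfsg.IsOfJankoFourTypeWith z P) : z * z = 1 := by
  rw [← pow_two, ← orderOf_z hJ, pow_orderOf_eq_one]

theorem mem_zpowers_z (hJ : Cfsg.IsOfJankoFourTypeWith z P) {c : G} :
    c ∈ zpowers z ↔ c = 1 ∨ c = z := by
  constructor
  · intro h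
    obtain ⟨i, rfl⟩ := mem_zpowers_iff.1 h
    obtain ⟨t, rfl | rfl⟩ := Int.even_or_odd' i
    · exact Or.inl (by rw [zpow_mul, zpow_two, zz hJ, one_zpow])
    · exact Or.inr (by rw [zpow_add, zpow_mul, zpow_two, zz hJ, one_zpow, one_mul, zpow_one])
  · rintro (rfl | rfl)
    exacts [one_mem _, mem_zpowers _]

theorem z_pow_odd (hJ : Cfsg.IsOfJankoFourTypeWith z P) {n : ℕ} (hn : Odd n) {c : G} (hc : c ∈ zpowers z)
    (h : c ^ n = 1) : c = 1 := by
  rcases (mem_zpowers_z hJ).1 hc with rfl | rfl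
  · rfl
  · obtain ⟨t, rfl⟩ := hn
    rw [pow_succ, pow_mul, pow_two, zz hJ, one_pow, one_mul] at h
    exact h

theorem z_comm {c h : G} (hc : c ∈ zpowers z) (hh : h ∈ cH z) : c * h = h * c := by
  obtain ⟨i, rfl⟩ := mem_zpowers_iff.1 hc
  exact ((show Commute z h from (mem_cH.1 hh).symm).zpow_left i).eq

/-- A twisting pair for an element of order five. -/
theorem exists_twist (hJ : Cfsg.IsOfJankoFourTypeWith z P) : ∃ f x a : G,
    f ∈ cC z P ∧ orderOf f = 5 ∧ x ∈ cA z P ∧ x ∉ cC z P ∧ x * f = f * x ∧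
    a ∈ cE z ∧ a * f = f * a ∧ a * a = z ∧ (x * a * x⁻¹ = a ∨ x * a * x⁻¹ = a * z) := by
  classical
  obtain ⟨ψ, hmul, hker, hsurj, hinn⟩ := exists_map_aut hJ
  obtain ⟨α, d0, m0, m1, m2, mw, mdu, mdw, mf, hc⟩ := CfsgLib.J4FiveCert.exists_config
  have h1A : ψ 1 = 1 := (hker 1 (one_mem _)).2 (one_mem _)
  have hpow : ∀ a ∈ cA z P, ∀ n : ℕ, ψ (a ^ n) = ψ a ^ n := by
    intro a ha n
    induction n with
    | zero => rw [pow_zero, pow_zero, h1A]
    | succ n ih => rw [pow_succ, pow_succ, hmul _ (pow_mem ha n) _ ha, ih]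
  have hinv : ∀ a ∈ cA z P, ψ a⁻¹ = (ψ a)⁻¹ := fun a ha => by
    refine eq_inv_of_mul_eq_one_left ?_
    rw [← hmul _ (inv_mem ha) _ ha, inv_mul_cancel, h1A]
  have hconj : ∀ a ∈ cA z P, ∀ b ∈ cA z P, ψ (a * b * a⁻¹) = ψ a * ψ b * (ψ a)⁻¹ := fun a ha b hb => by
    rw [hmul _ (mul_mem ha hb) _ (inv_mem ha), hmul _ ha _ hb, hinv _ ha]
  have hCA : ∀ {a : G}, a ∈ cC z P → a ∈ cA z P := fun h => C_le_A h
  have hK3 : ∀ k ∈ cK z P, k ^ 3 ∈ zpowers z ∧ k ^ 6 = 1 := by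
    intro k hk
    obtain ⟨b, q, hb, -, rfl, hbb, hq3, hcm⟩ := mem_K hJ hk
    have e : (b * q) ^ 3 = b := by
      rw [(show Commute b q from hcm).mul_pow, hq3, mul_one, pow_three, hbb, mul_one]
    exact ⟨by rw [e]; exact (mem_zpowers_z hJ).2 hb,
      by rw [show (6 : ℕ) = 3 * 2 from rfl, pow_mul, e, pow_two, hbb]⟩
  -- two lifts agree modulo `⟨z⟩`
  have huniq : ∀ {n : ℕ}, n.Coprime 3 → ∀ {a b : G}, a ∈ cC z P → b ∈ cC z P → a ^ n ∈ zpowers z →
      b ^ n ∈ zpowers z → ψ a = ψ b → ∃ c ∈ zpowers z, a = b * c := by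
    intro n hn a b ha hb han hbn hab
    have hk : b⁻¹ * a ∈ cK z P := (hker _ (hCA (mul_mem (inv_mem hb) ha))).1 (by
      rw [hmul _ (hCA (inv_mem hb)) _ (hCA ha), hinv _ (hCA hb), hab, inv_mul_cancel])
    obtain ⟨e, q, he, hq, heq, -, hq3, hcm⟩ := mem_K hJ hk
    have hez := (mem_zpowers_z hJ).2 he
    have hcomm : Commute b (b⁻¹ * a) := (K_comm hJ hk hb).symm
    have h1 : (b⁻¹ * a) ^ n ∈ zpowers z := by
      have e' := hcomm.mul_pow n
      rw [mul_inv_cancel_left] at e'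
      rw [show (b⁻¹ * a) ^ n = (b ^ n)⁻¹ * a ^ n by rw [e', inv_mul_cancel_left]]
      exact mul_mem (inv_mem hbn) han
    rw [heq, (show Commute e q from hcm).mul_pow] at h1
    have hqn : q ^ n ∈ zpowers z := by
      have := mul_mem (inv_mem (pow_mem hez n)) h1
      rwa [inv_mul_cancel_left] at this
    have hqn1 : q ^ n = 1 := by
      rcases (mem_zpowers_z hJ).1 hqn with h | h
      · exact h
      · exfalso
        have : (q ^ n) ^ 3 = 1 := by rw [← pow_mul, mul_comm, pow_mul, hq3, one_pow]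
        rw [h, pow_three, zz hJ, mul_one] at this
        exact z_one_ne hJ this
    have hq1 : q = 1 := by
      refine orderOf_eq_one_iff.1 (Nat.eq_one_of_dvd_one ?_)
      rw [← hn.gcd_eq_one]
      exact Nat.dvd_gcd (orderOf_dvd_of_pow_eq_one hqn1) (orderOf_dvd_of_pow_eq_one hq3)
    exact ⟨e, hez, by rw [hq1, mul_one] at heq; rw [← heq, mul_inv_cancel_left]⟩
  -- existence of lifts
  have hlift : ∀ (m : ↥Cfsg.Spor.M22) (n e : ℕ), m ^ n = 1 → m ^ e = m → (∀ k ∈ cK z P, k ^ e ∈ zpowers z) →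
      ∃ a ∈ cC z P, ψ a = MulAut.conj m ∧ a ^ n ∈ zpowers z ∧ ((∀ k ∈ cK z P, k ^ e = 1) → a ^ n = 1) := by
    intro m n e hn he hke
    obtain ⟨a, haA, ha⟩ := hsurj (MulAut.conj m)
    have haC : a ∈ cC z P := (hinn a haA).2 ⟨m, ha⟩
    have hK : a ^ n ∈ cK z P := (hker _ (pow_mem haA n)).1 (by rw [hpow _ haA, ha, ← map_pow, hn, map_one])
    have hpe : (a ^ e) ^ n = (a ^ n) ^ e := by rw [← pow_mul, ← pow_mul, mul_comm]
    refine ⟨a ^ e, pow_mem haC e, by rw [hpow _ haA, ha, ← map_pow, he], ?_, fun h => ?_⟩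
    · rw [hpe]; exact hke _ hK
    · rw [hpe]; exact h _ hK
  have hK3' : ∀ k ∈ cK z P, k ^ 3 ∈ zpowers z := fun k hk => (hK3 k hk).1
  have hK6 : ∀ k ∈ cK z P, k ^ 6 ∈ zpowers z := fun k hk => by rw [(hK3 k hk).2]; exact one_mem _
  have hK36 : ∀ k ∈ cK z P, k ^ 36 = 1 := fun k hk => by
    rw [show (36 : ℕ) = 6 * 6 from rfl, pow_mul, (hK3 k hk).2, one_pow]
  have hK36' : ∀ k ∈ cK z P, k ^ 36 ∈ zpowers z := fun k hk => by rw [hK36 k hk]; exact one_mem _
  have inv2 : ∀ m : ↥Cfsg.Spor.M22, m * m = 1 →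
      ∃ a ∈ cC z P, ψ a = MulAut.conj m ∧ a ^ 2 ∈ zpowers z := fun m hm => by
    obtain ⟨a, h1, h2, h3, -⟩ := hlift m 2 3 (by rw [pow_two, hm]) (by rw [pow_three, hm, mul_one]) hK3'
    exact ⟨a, h1, h2, h3⟩
  have seven : ∀ m : ↥Cfsg.Spor.M22, orderOf m = 7 →
      ∃ a ∈ cC z P, ψ a = MulAut.conj m ∧ a ^ 7 = 1 ∧ orderOf a = 7 := fun m hm => by
    haveI : Fact (Nat.Prime 7) := ⟨by norm_num⟩
    have h7 : m ^ 7 = 1 := hm ▸ pow_orderOf_eq_one m
    obtain ⟨a, h1, h2, -, h4⟩ := hlift m 7 36 h7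
      (by rw [show (36 : ℕ) = 7 * 5 + 1 from rfl, pow_succ, pow_mul, h7, one_pow, one_mul]) hK36'
    refine ⟨a, h1, h2, h4 hK36, orderOf_eq_prime (h4 hK36) fun e => ?_⟩
    rw [e, h1A, ← map_one (MulAut.conj : ↥Cfsg.Spor.M22 →* _)] at h2
    rw [← CfsgLib.J4M22.conj_injective h2, orderOf_one] at hm
    norm_num at hm
  obtain ⟨f, hfC, hf, hf5, hfo⟩ : ∃ a ∈ cC z P, ψ a = MulAut.conj mf ∧ a ^ 5 = 1 ∧ orderOf a = 5 := by
    haveI : Fact (Nat.Prime 5) := ⟨by norm_num⟩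
    have h5 : mf ^ 5 = 1 := hc.of ▸ pow_orderOf_eq_one mf
    obtain ⟨a, h1, h2, -, h4⟩ := hlift mf 5 6 h5 (by rw [show (6 : ℕ) = 5 + 1 from rfl, pow_succ, h5, one_mul]) hK6
    have h51 := h4 fun k hk => (hK3 k hk).2
    refine ⟨a, h1, h2, h51, orderOf_eq_prime h51 fun e => ?_⟩
    rw [e, h1A, ← map_one (MulAut.conj : ↥Cfsg.Spor.M22 →* _)] at h2
    have := hc.of
    rw [← CfsgLib.J4M22.conj_injective h2, orderOf_one] at this
    norm_num at this
  obtain ⟨d, hdC, hd, hd7, hdo⟩ := seven d0 hc.od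
  obtain ⟨du, hduC, hdu, hdu7, hduo⟩ := seven mdu hc.odu
  obtain ⟨dw, hdwC, hdw, hdw7, hdwo⟩ := seven mdw hc.odw
  obtain ⟨u₀, h0C, h0, h02⟩ := inv2 m0 hc.sq₀
  obtain ⟨u₁, h1C, h1, h12⟩ := inv2 m1 hc.sq₁
  obtain ⟨u₂, h2C, h2, h22⟩ := inv2 m2 hc.sq₂
  obtain ⟨w, hwC, hw, hw2⟩ := inv2 mw hc.sqw
  -- the outer element
  obtain ⟨T, hTA, hT⟩ := hsurj α
  have hTC : T ∉ cC z P := fun h => by
    obtain ⟨m, hm⟩ := (hinn T hTA).1 h
    exact hc.outer m (hT ▸ hm)
  obtain ⟨p₀, hp₀⟩ : ∃ p₀ : P, orderOf p₀ = 3 :=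
    haveI : Fact (Nat.Prime 3) := ⟨Nat.prime_three⟩
    exists_prime_orderOf_dvd_card' (G := P) 3 (by rw [card_P hJ])
  set p : G := (p₀ : G) with hp
  have hpo : orderOf p = 3 := by rw [hp, Subgroup.orderOf_coe, hp₀]
  have hp3 : p ^ 3 = 1 := hpo ▸ pow_orderOf_eq_one p
  have hzP : zpowers p = P := CfsgLib.Solvable.eq_of_le_of_card_le (zpowers_le.2 p₀.2)
    (by rw [Nat.card_zpowers, hpo, card_P hJ])
  have hpC : p ∈ cC z P := P_le_C hJ p₀.2
  have hTp : T * p * T⁻¹ = p * p := by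
    have hm : T * p * T⁻¹ ∈ zpowers p := by rw [hzP]; exact (mem_normalizer_iff.1 hTA.2 p).1 p₀.2
    obtain ⟨i, hi⟩ := mem_zpowers_iff.1 hm
    rw [← zpow_mod_orderOf, hpo] at hi
    rcases (show i % (3 : ℕ) = 0 ∨ i % (3 : ℕ) = 1 ∨ i % (3 : ℕ) = 2 by omega) with h | h | h <;> rw [h] at hi
    · exfalso
      rw [zpow_zero, eq_comm, conj_eq_one_iff] at hi
      rw [hi, orderOf_one] at hpo
      norm_num at hpo
    · exfalso
      rw [zpow_one, eq_comm, mul_inv_eq_iff_eq_mul] at hi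
      refine hTC ⟨hTA.1, mem_centralizer_iff.2 fun y hy => ?_⟩
      rw [SetLike.mem_coe, ← hzP] at hy
      obtain ⟨j, rfl⟩ := mem_zpowers_iff.1 hy
      exact ((show Commute T p from hi).symm.zpow_left j).eq
    · rw [← hi, zpow_two]
  have hT2 : T ^ 2 ∈ zpowers z := by
    have hk : T ^ 2 ∈ cK z P := (hker _ (pow_mem hTA 2)).1 (by rw [hpow _ hTA, hT, pow_two, hc.sq])
    obtain ⟨e, q, he, hq, heq, -, -, -⟩ := mem_K hJ hk
    have hez := (mem_zpowers_z hJ).2 he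
    rw [SetLike.mem_coe.symm, ← hzP] at hq
    obtain ⟨i, rfl⟩ := mem_zpowers_iff.1 hq
    have h1 : T * (T ^ 2) * T⁻¹ = T ^ 2 := by group
    have he' : T * e * T⁻¹ = e := by rw [← z_comm hez hTA.1, mul_inv_cancel_right]
    have h2 : T * p ^ i * T⁻¹ = (p * p) ^ i := by rw [← hTp, conj_zpow]
    have h3 : p ^ i = (p * p) ^ i := by
      have h4 : e * p ^ i = e * (p * p) ^ i := by
        calc e * p ^ i = T * (e * p ^ i) * T⁻¹ := by rw [← heq, h1]
          _ = T * e * T⁻¹ * (T * p ^ i * T⁻¹) := by group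
          _ = _ := by rw [he', h2]
      exact mul_left_cancel h4
    rw [(Commute.refl p).mul_zpow, left_eq_mul] at h3
    rw [heq, h3, mul_one]
    exact hez
  -- the quotient of `E`
  haveI hN : (center ↥(cE z)).Normal := inferInstance
  have hc1 : ∀ c : ↥(cE z), c ∈ center ↥(cE z) ↔ ((c : G) = 1 ∨ (c : G) = z) := fun c => by
    constructor
    · exact fun h => CfsgLib.J4Five.E_center hJ c.2 fun e he =>
        congrArg Subtype.val (mem_center_iff.1 h ⟨e, he⟩)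
    · rintro (h | h) <;> refine mem_center_iff.2 fun e => Subtype.ext ?_
      · show (e : G) * c = c * e
        rw [h, one_mul, mul_one]
      · show (e : G) * c = c * e
        rw [h]; exact mem_cH.1 (E_le_H e.2)
  letI : CommGroup (↥(cE z) ⧸ center ↥(cE z)) :=
    { (inferInstance : Group (↥(cE z) ⧸ center ↥(cE z))) with
      mul_comm := fun A B => by
        induction A using QuotientGroup.induction_on with | H x =>
        induction B using QuotientGroup.induction_on with | H y =>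
        rw [← QuotientGroup.mk_mul, ← QuotientGroup.mk_mul, QuotientGroup.eq]
        refine (hc1 _).2 ?_
        have e : (((x * y)⁻¹ * (y * x) : ↥(cE z)) : G) = ⁅(y : G)⁻¹, (x : G)⁻¹⁆ := by
          simp only [Subgroup.coe_mul, Subgroup.coe_inv, commutatorElement_def]; group
        rw [e]
        exact CfsgLib.J4Five.comm_mem_zpowers hJ (inv_mem y.2) (inv_mem x.2) }
  let W := Additive (↥(cE z) ⧸ center ↥(cE z))
  let mk : ↥(cE z) → W := fun x => Additive.ofMul (QuotientGroup.mk x)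
  have mk_mul : ∀ x y, mk (x * y) = mk x + mk y := fun _ _ => rfl
  have mk_surj : ∀ X : W, ∃ x, mk x = X := fun X => QuotientGroup.mk_surjective (Additive.toMul X)
  have mk_eq : ∀ {x y : ↥(cE z)}, mk x = mk y ↔ ∃ c ∈ zpowers z, (y : G) = (x : G) * c := by
    intro x y
    rw [show (mk x = mk y) ↔ ((x : ↥(cE z) ⧸ center ↥(cE z)) = y) from Iff.rfl, QuotientGroup.eq, hc1,
      Subgroup.coe_mul, Subgroup.coe_inv, ← mem_zpowers_z hJ]
    exact ⟨fun h => ⟨_, h, by rw [mul_inv_cancel_left]⟩, by rintro ⟨c, hc, e⟩; rwa [e, inv_mul_cancel_left]⟩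
  -- the values in `ZMod 2`
  let ε : G → ZMod 2 := fun v => if v = 1 then 0 else 1
  have εmul : ∀ {u v : G}, (u = 1 ∨ u = z) → (v = 1 ∨ v = z) → ε (u * v) = ε u + ε v := by
    intro u v hu hv
    have hz1 := z_one_ne hJ
    rcases hu with rfl | rfl <;> rcases hv with rfl | rfl <;> simp [ε, zz hJ, hz1]
    decide
  have sqm : ∀ x : ↥(cE z), (x : G) * x = 1 ∨ (x : G) * x = z := fun x => CfsgLib.J4Five.sq_mem_zpowers hJ x.2
  have cmm : ∀ x y : ↥(cE z), ⁅(x : G), (y : G)⁆ = 1 ∨ ⁅(x : G), (y : G)⁆ = z := fun x y =>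
    CfsgLib.J4Five.comm_mem_zpowers hJ x.2 y.2
  let β : ↥(cE z) → ↥(cE z) → ZMod 2 := fun x y => ε ⁅(x : G), (y : G)⁆
  have cinv : ∀ {v : G}, (v = 1 ∨ v = z) → v⁻¹ = v := by
    rintro v (rfl | rfl)
    exacts [inv_one, inv_eq_of_mul_eq_one_right (zz hJ)]
  have csym : ∀ x y, β x y = β y x := fun x y => by
    show ε _ = ε _
    rw [← commutatorElement_inv, cinv (cmm y x)]
  have cadd : ∀ x y w', β (x * y) w' = β x w' + β y w' := fun x y w' => by
    show ε _ = ε _ + ε _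
    rw [← εmul (cmm x w') (cmm y w'), Subgroup.coe_mul]
    congr 1
    have e : ⁅(x : G) * y, (w' : G)⁆ = (x : G) * ⁅(y : G), (w' : G)⁆ * (x : G)⁻¹ * ⁅(x : G), (w' : G)⁆ := by
      simp only [commutatorElement_def]; group
    have hyx := z_comm ((mem_zpowers_z hJ).2 (cmm y w')) (E_le_H x.2)
    rw [e, ← hyx, mul_inv_cancel_right]
    exact z_comm ((mem_zpowers_z hJ).2 (cmm y w')) (by
      rcases cmm x w' with h | h <;> rw [h]
      exacts [one_mem _, z_mem_H])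
  have polar : ∀ x y : ↥(cE z),
      ε (((x * y : ↥(cE z)) : G) * ((x * y : ↥(cE z)) : G)) = ε ((x : G) * x) + ε ((y : G) * y) + β x y := by
    intro x y
    have hyx := z_comm ((mem_zpowers_z hJ).2 (cmm y x)) (E_le_H x.2)
    have e : ((x * y : ↥(cE z)) : G) * ((x * y : ↥(cE z)) : G) =
        ⁅(y : G), (x : G)⁆ * (((x : G) * x) * ((y : G) * y)) := by
      rw [← mul_assoc, ← mul_assoc, ← mul_assoc, hyx, Subgroup.coe_mul, commutatorElement_def]; group
    have hxy2 : ((x : G) * x) * ((y : G) * y) = 1 ∨ ((x : G) * x) * ((y : G) * y) = z := by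
      rcases sqm x with h | h <;> rcases sqm y with h' | h' <;> rw [h, h'] <;> simp [zz hJ]
    rw [e, εmul (cmm y x) hxy2, εmul (sqm x) (sqm y), csym x y, add_comm]
  have βwd : ∀ {x x' : ↥(cE z)}, mk x = mk x' → ∀ y, β x' y = β x y := by
    intro x x' h y
    obtain ⟨c, hc', e⟩ := mk_eq.1 h
    have hcE : c ∈ cE z := zpowers_le.2 (z_mem_E hJ) hc'
    rw [show x' = x * ⟨c, hcE⟩ from Subtype.ext e, cadd]
    have h0 : β ⟨c, hcE⟩ y = 0 := by
      show ε _ = 0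
      rw [commutatorElement_eq_one_iff_mul_comm.2 (z_comm hc' (E_le_H y.2))]
      simp [ε]
    rw [h0, add_zero]
  let out : W → ↥(cE z) := fun X => (mk_surj X).choose
  have hout : ∀ X, mk (out X) = X := fun X => (mk_surj X).choose_spec
  let q : W → ZMod 2 := fun X => ε ((out X : G) * out X)
  have hq : ∀ x, q (mk x) = ε ((x : G) * x) := by
    intro x
    obtain ⟨c, hc', e⟩ := mk_eq.1 (hout (mk x)).symm
    show ε ((out (mk x) : G) * out (mk x)) = _
    congr 1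
    have h1 := z_comm hc' (E_le_H x.2)
    have h2 : c * c = 1 := by
      rcases (mem_zpowers_z hJ).1 hc' with h | h <;> rw [h]
      exacts [one_mul 1, zz hJ]
    rw [e, mul_assoc, ← mul_assoc c, h1, mul_assoc (x : G) c c, h2, mul_one]
  let Bf : W → W → ZMod 2 := fun X Y => β (out X) (out Y)
  have hBf : ∀ x y, Bf (mk x) (mk y) = β x y := fun x y => by
    show β (out (mk x)) (out (mk y)) = _
    rw [βwd (hout (mk x)).symm, csym, βwd (hout (mk y)).symm, csym]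
  have Badd : ∀ X X' Y, Bf (X + X') Y = Bf X Y + Bf X' Y := by
    intro X X' Y
    rw [← hout X, ← hout X', ← hout Y, ← mk_mul, hBf, hBf, hBf, cadd]
  let B : W →+ W →+ ZMod 2 := AddMonoidHom.mk' (fun X => AddMonoidHom.mk' (Bf X) fun Y Y' => by
      have hs : ∀ U V, Bf U V = Bf V U := fun U V => csym _ _
      rw [hs, Badd, hs, hs Y'])
    fun X X' => AddMonoidHom.ext fun Y => Badd X X' Y
  -- the action
  have hconjE : ∀ h : ↥(cH z), center ↥(cE z) ≤
      (center ↥(cE z)).comap (CfsgLib.J4Five.conjE (cH z) le_rfl h).toMonoidHom := by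
    intro h x hx
    refine (hc1 _).2 ?_
    have e : ((CfsgLib.J4Five.conjE (cH z) le_rfl h x : ↥(cE z)) : G) = (x : G) := by
      rw [CfsgLib.J4Five.conjE_apply, ← z_comm ((mem_zpowers_z hJ).2 ((hc1 x).1 hx)) h.2, mul_inv_cancel_right]
    exact e.symm ▸ (hc1 x).1 hx
  let R : ↥(cH z) → AddMonoid.End W := fun h =>
    MonoidHom.toAdditive (QuotientGroup.map _ _ (CfsgLib.J4Five.conjE (cH z) le_rfl h).toMonoidHom (hconjE h))
  let r : G → AddMonoid.End W := fun g => if h : g ∈ cH z then R ⟨g, h⟩ else 1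
  have hr : ∀ {g : G} (hg : g ∈ cH z) (x : ↥(cE z)),
      r g (mk x) = mk (CfsgLib.J4Five.conjE (cH z) le_rfl ⟨g, hg⟩ x) := fun {g} hg x => by
    simp only [r, dif_pos hg]; rfl
  have rmul : ∀ {g g' : G}, g ∈ cH z → g' ∈ cH z → r (g * g') = r g * r g' := by
    intro g g' hg hg'
    refine AddMonoidHom.ext fun X => ?_
    obtain ⟨x, rfl⟩ := mk_surj X
    show r (g * g') (mk x) = r g (r g' (mk x))
    rw [hr (mul_mem hg hg'), hr hg', hr hg]
    exact congrArg mk (Subtype.ext (by simp only [CfsgLib.J4Five.conjE_apply]; group))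
  have rz : ∀ {c : G}, c ∈ zpowers z → r c = 1 := by
    intro c hc'
    have hcH : c ∈ cH z := zpowers_le.2 z_mem_H hc'
    refine AddMonoidHom.ext fun X => ?_
    obtain ⟨x, rfl⟩ := mk_surj X
    show r c (mk x) = mk x
    rw [hr hcH]
    refine congrArg mk (Subtype.ext ?_)
    rw [CfsgLib.J4Five.conjE_apply]
    show c * (x : G) * c⁻¹ = x
    rw [z_comm hc' (E_le_H x.2), mul_inv_cancel_right]
  have r1 : r 1 = 1 := rz (one_mem _)
  have rpow : ∀ {g : G}, g ∈ cH z → ∀ n : ℕ, r (g ^ n) = r g ^ n := by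
    intro g hg n
    induction n with
    | zero => rw [pow_zero, pow_zero, r1]
    | succ n ih => rw [pow_succ, pow_succ, rmul (pow_mem hg n) hg, ih]
  have requ : ∀ {n : ℕ}, n.Coprime 3 → ∀ {a b : G}, a ∈ cC z P → b ∈ cC z P → a ^ n ∈ zpowers z →
      b ^ n ∈ zpowers z → ψ a = ψ b → r a = r b := by
    intro n hn a b ha hb han hbn hab
    obtain ⟨c, hc', rfl⟩ := huniq hn ha hb han hbn hab
    rw [rmul hb.1 (zpowers_le.2 z_mem_H hc'), rz hc', mul_one]
  have hconjz : ∀ {g a : G} (n : ℕ), g ∈ cH z → a ^ n ∈ zpowers z → (g * a * g⁻¹) ^ n ∈ zpowers z := by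
    intro g a n hg ha
    rwa [conj_pow, ← z_comm ha hg, mul_inv_cancel_right]
  have hCnorm : ∀ {g a : G}, g ∈ cA z P → a ∈ cC z P → g * a * g⁻¹ ∈ cC z P := by
    intro g a hg ha
    have hgi : g⁻¹ ∈ cA z P := inv_mem hg
    refine ⟨mul_mem (mul_mem hg.1 ha.1) hgi.1, mem_centralizer_iff.2 fun y hy => ?_⟩
    have hy' : g⁻¹ * y * g ∈ P := by
      have := (mem_normalizer_iff.1 (inv_mem hg.2) y).1 hy
      rwa [inv_inv] at this
    have hcm := mem_centralizer_iff.1 ha.2 _ hy'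
    calc y * (g * a * g⁻¹) = g * (g⁻¹ * y * g * a) * g⁻¹ := by group
      _ = g * (a * (g⁻¹ * y * g)) * g⁻¹ := by rw [hcm]
      _ = g * a * g⁻¹ * y := by group
  -- commutation rules
  have rcomm : ∀ {n : ℕ}, n.Coprime 3 → ∀ {g a b : G}, g ∈ cA z P → a ∈ cC z P → b ∈ cC z P →
      a ^ n ∈ zpowers z → b ^ n ∈ zpowers z → ψ g * ψ a * (ψ g)⁻¹ = ψ b → r g * r a = r b * r g := by
    intro n hn g a b hg ha hb han hbn h
    have e := requ hn (hCnorm hg ha) hb (hconjz n hg.1 han) hbn (by rw [hconj _ hg _ (hCA ha), h])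
    rw [← e, ← rmul hg.1 ha.1, ← rmul (mul_mem (mul_mem hg.1 ha.1) (inv_mem hg.1)) hg.1, inv_mul_cancel_right]
  have sqprod : ∀ {a b : G}, a ∈ cC z P → b ∈ cC z P → a ^ 2 ∈ zpowers z → b ^ 2 ∈ zpowers z →
      ψ a * ψ b = ψ b * ψ a → (a * b) ^ 2 ∈ zpowers z := by
    intro a b ha hb ha2 hb2 hab
    obtain ⟨c, hc', e⟩ := huniq (show Nat.Coprime 2 3 by norm_num) (hCnorm (hCA hb) ha) ha
      (hconjz 2 hb.1 ha2) ha2 (by rw [hconj _ (hCA hb) _ (hCA ha), ← hab, mul_inv_cancel_right])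
    have e2 : b * a = a * c * b := by rw [← e, inv_mul_cancel_right]
    have : (a * b) ^ 2 = a ^ 2 * c * b ^ 2 := by
      calc (a * b) ^ 2 = a * (b * a) * b := by rw [pow_two]; group
        _ = _ := by rw [e2, pow_two, pow_two]; group
    rw [this]
    exact mul_mem (mul_mem ha2 hc') hb2
  have hcop2 : Nat.Coprime 2 3 := by norm_num
  have hcop5 : Nat.Coprime 5 3 := by norm_num
  have hcop7 : Nat.Coprime 7 3 := by norm_num
  have hcc : ∀ {a b : ↥Cfsg.Spor.M22} (g : ↥Cfsg.Spor.M22), g * a = b * g →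
      MulAut.conj g * MulAut.conj a * (MulAut.conj g)⁻¹ = MulAut.conj b := by
    intro a b g h
    rw [← map_mul, ← map_inv, ← map_mul, h, mul_inv_cancel_right]
  have hac : ∀ {a : ↥Cfsg.Spor.M22}, α a = a → α * MulAut.conj a * α⁻¹ = MulAut.conj a := by
    intro a ha
    refine MulEquiv.ext fun x => ?_
    show α (a * α⁻¹ x * a⁻¹) = a * x * a⁻¹
    rw [map_mul, map_mul, map_inv, ha, MulAut.apply_inv_self]
  have hzone : ∀ {a : G} {n : ℕ}, a ^ n = 1 → a ^ n ∈ zpowers z := fun h => by rw [h]; exact one_mem _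
  -- the three products
  have h02C := mul_mem h0C h2C
  have c02 := sqprod h0C h2C h02 h22 (by rw [h0, h2, ← map_mul, ← map_mul, hc.c02])
  have c01 := sqprod h0C h1C h02 h12 (by rw [h0, h1, ← map_mul, ← map_mul, hc.c01])
  have ψ01 : ψ (u₀ * u₁) = MulAut.conj (m0 * m1) := by rw [hmul _ (hCA h0C) _ (hCA h1C), h0, h1, map_mul]
  have ψ02 : ψ (u₀ * u₂) = MulAut.conj (m0 * m2) := by rw [hmul _ (hCA h0C) _ (hCA h2C), h0, h2, map_mul]
  have h012 : (m0 * m1) * m2 = m2 * (m0 * m1) := by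
    rw [mul_assoc, hc.c12, ← mul_assoc, hc.c02, mul_assoc]
  have c012 := sqprod (mul_mem h0C h1C) h2C c01 h22 (by rw [ψ01, h2, ← map_mul, ← map_mul, h012])
  have hw02 : mw * (m0 * m2) = (m0 * m2) * mw := by
    rw [← mul_assoc, hc.wu0, mul_assoc, hc.wu2, ← mul_assoc, ← mul_assoc, ← mul_assoc, ← hc.c01,
      mul_assoc m0 m1 m1, hc.sq₁, mul_one]
  have cj := sqprod h02C hwC c02 hw2 (by rw [ψ02, hw, ← map_mul, ← map_mul, hw02])
  set j := u₀ * u₂ * w with hj
  have hjC : j ∈ cC z P := mul_mem h02C hwC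
  have ψj : ψ j = MulAut.conj (m0 * m2 * mw) := by rw [hj, hmul _ (hCA h02C) _ (hCA hwC), ψ02, hw, ← map_mul]
  have hσ : ∀ {n : ℕ}, n.Coprime 3 → ∀ {i a : G} {mi ma : ↥Cfsg.Spor.M22}, i ∈ cC z P → a ∈ cC z P →
      ψ i = MulAut.conj mi → ψ a = MulAut.conj ma → a ^ n ∈ zpowers z → α (mi * ma * mi⁻¹) = ma →
      r (T * i) * r a = r a * r (T * i) := by
    intro n hn i a mi ma hi ha hi' ha' han h
    refine rcomm hn (mul_mem hTA (hCA hi)) ha ha han han ?_
    rw [hmul _ hTA _ (hCA hi), hT, hi', ha']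
    refine MulEquiv.ext fun x => ?_
    show α (mi * (ma * (mi⁻¹ * α⁻¹ x * mi⁻¹⁻¹) * ma⁻¹) * mi⁻¹) = ma * x * ma⁻¹
    rw [show mi * (ma * (mi⁻¹ * α⁻¹ x * mi⁻¹⁻¹) * ma⁻¹) * mi⁻¹ =
      (mi * ma * mi⁻¹) * α⁻¹ x * (mi * ma * mi⁻¹)⁻¹ by group, map_mul, map_mul, map_inv, h, MulAut.apply_inv_self]
  -- the space
  haveI : Finite W := inferInstanceAs (Finite (↥(cE z) ⧸ center ↥(cE z)))
  have hqG : ∀ {g : G}, g ∈ cH z → ∀ X, q (r g X) = q X := by
    intro g hg X
    obtain ⟨x, rfl⟩ := mk_surj X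
    rw [hr hg, hq, hq, CfsgLib.J4Five.conjE_apply]
    congr 1
    show g * (x : G) * g⁻¹ * (g * (x : G) * g⁻¹) = _
    have hxx := z_comm ((mem_zpowers_z hJ).2 (sqm x)) hg
    calc g * (x : G) * g⁻¹ * (g * (x : G) * g⁻¹) = g * ((x : G) * x) * g⁻¹ := by group
      _ = _ := by rw [← hxx, mul_inv_cancel_right]
  have hfixed : ∀ {g : G} {n : ℕ}, g ∈ cH z → Odd n → g ^ n = 1 → ∀ {x : ↥(cE z)}, r g (mk x) = mk x →
      (x : G) * g = g * x := by
    intro g n hg hn hgn x h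
    rw [hr hg] at h
    obtain ⟨c, hc', e⟩ := mk_eq.1 h
    rw [CfsgLib.J4Five.conjE_apply] at e
    have e' : g * (x : G) * g⁻¹ = (x : G) * c⁻¹ := eq_mul_inv_of_mul_eq e.symm
    have hit : ∀ k : ℕ, g ^ k * (x : G) * (g ^ k)⁻¹ = (x : G) * c⁻¹ ^ k := by
      intro k
      induction k with
      | zero => simp
      | succ k ih =>
        have hck := z_comm (pow_mem (inv_mem hc') k) hg
        calc g ^ (k + 1) * (x : G) * (g ^ (k + 1))⁻¹ = g * (g ^ k * (x : G) * (g ^ k)⁻¹) * g⁻¹ := by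
              rw [pow_succ']; group
          _ = g * (x : G) * (c⁻¹ ^ k * g⁻¹) := by rw [ih]; group
          _ = g * (x : G) * g⁻¹ * c⁻¹ ^ k := by
            rw [z_comm (pow_mem (inv_mem hc') k) (inv_mem hg)]; group
          _ = _ := by rw [e', mul_assoc, ← pow_succ']
    have h1 := hit n
    rw [hgn, one_mul, inv_one, mul_one, left_eq_mul] at h1
    rw [z_pow_odd hJ hn (inv_mem hc') h1, mul_one, mul_inv_eq_iff_eq_mul] at e'
    exact e'.symm
  have hzero : ∀ {x : ↥(cE z)}, (x : G) ∈ zpowers z → mk x = 0 := fun {x} h =>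
    (mk_eq (x := x) (y := 1)).2 ⟨(x : G)⁻¹, inv_mem h, by rw [mul_inv_cancel, Subgroup.coe_one]⟩
  have hfix7 : ∀ {g : G}, g ∈ cC z P → orderOf g = 7 → ∀ X, r g X = X → X = 0 := by
    intro g hg ho X h
    obtain ⟨x, rfl⟩ := mk_surj X
    have hgx := hfixed hg.1 (by decide : Odd 7) (ho ▸ pow_orderOf_eq_one g) h
    refine hzero ?_
    rw [← E_inf_centralizer_seven hJ hg ho]
    exact ⟨x.2, mem_centralizer_singleton_iff.2 hgx⟩
  have hfixp : ∀ X, r p X = X → X = 0 := by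
    intro X h
    obtain ⟨x, rfl⟩ := mk_surj X
    have hgx := hfixed hpC.1 (by decide : Odd 3) hp3 h
    exact hzero ((mem_zpowers_z hJ).2 (eq_one_or_z hJ p₀.2 hpo x.2 hgx.symm))
  have S : CfsgLib.J4Real.Space W B q (r p) :=
    { card := by
        have h := (center ↥(cE z)).card_eq_card_quotient_mul_card_subgroup
        rw [card_E hJ, (extraspecial_E hJ).2] at h
        show Nat.card (↥(cE z) ⧸ center ↥(cE z)) = 2 ^ 12
        omega
      two := fun X => by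
        obtain ⟨x, rfl⟩ := mk_surj X
        rw [← mk_mul]
        exact hzero ((mem_zpowers_z hJ).2 (sqm x))
      nondeg := fun X h => by
        obtain ⟨x, rfl⟩ := mk_surj X
        refine hzero ((mem_zpowers_z hJ).2 (CfsgLib.J4Five.E_center hJ x.2 fun e he => ?_))
        have h0 : Bf (mk x) (mk ⟨e, he⟩) = 0 := h (mk ⟨e, he⟩)
        rw [hBf] at h0
        have : ⁅(x : G), e⁆ = 1 := by
          by_contra hne
          simp [β, ε, hne] at h0
        exact (commutatorElement_eq_one_iff_mul_comm.1 this).symm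
      polar := fun X Y => by
        obtain ⟨x, rfl⟩ := mk_surj X
        obtain ⟨y, rfl⟩ := mk_surj Y
        show q _ = q _ + q _ + Bf (mk x) (mk y)
        rw [← mk_mul, hq, hq, hq, hBf, polar]
      qp := hqG hpC.1
      fpf := fun X => by
        have h3 : r p (r p (r p X)) = X := by
          have e := DFunLike.congr_fun (show r p ^ 3 = 1 by rw [← rpow hpC.1, hp3, r1]) X
          simpa [pow_succ] using e
        have h0 := hfixp (X + r p X + r p (r p X)) (by rw [map_add, map_add, h3]; abel)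
        obtain ⟨x, rfl⟩ := mk_surj X
        have two : ∀ Y : W, Y + Y = 0 := fun Y => by
          obtain ⟨y, rfl⟩ := mk_surj Y
          rw [← mk_mul]; exact hzero ((mem_zpowers_z hJ).2 (sqm y))
        calc r p (r p (mk x)) = mk x + r p (mk x) + r p (r p (mk x)) + (r p (mk x) + mk x) := by
              rw [add_right_comm _ _ (r p (mk x) + mk x), add_comm (r p (mk x)) (mk x), two, zero_add]
          _ = _ := by rw [h0, zero_add]
      three := fun X => by
        have e := DFunLike.congr_fun (show r p ^ 3 = 1 by rw [← rpow hpC.1, hp3, r1]) X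
        simpa [pow_succ] using e }
  have O : CfsgLib.J4Real.Outer (r p) q (r T) :=
    { sq := by rw [← rmul hTA.1 hTA.1, ← pow_two, rz hT2]
      inverts := fun X => by
        have e : r T * r p = r p * r p * r T := by
          rw [← rmul hTA.1 hpC.1, ← rmul hpC.1 hpC.1, ← rmul (mul_mem hpC.1 hpC.1) hTA.1, ← hTp,
            inv_mul_cancel_right]
        exact DFunLike.congr_fun e X
      qT := hqG hTA.1 }
  have good : ∀ {a : G}, a ∈ cC z P → CfsgLib.J4Real.Space.Good (r a) q (r p) := fun {a} ha =>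
    ⟨hqG ha.1, by rw [← rmul ha.1 hpC.1, ← rmul hpC.1 ha.1, ← mem_centralizer_iff.1 ha.2 p p₀.2]⟩
  have m21 : ∀ {a b : G}, a ∈ cC z P → b ∈ cC z P → r a * r b = r (a * b) := fun ha hb => (rmul ha.1 hb.1).symm
  obtain ⟨X, hXσ, hXf, hXq⟩ := S.exists_fixed (T := r T) (d := r d) (u₀ := r u₀) (u₁ := r u₁) (u₂ := r u₂)
    (w := r w) (du := r du) (dw := r dw) (f := r f) O (good hdC) (good h0C) (good h1C) (good h2C) (good hwC)
    (good hduC) (good hdwC) (good hfC)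
    (rcomm hcop7 hTA hdC hdC (hzone hd7) (hzone hd7) (by rw [hT, hd]; exact hac hc.ad))
    (rcomm hcop2 hTA h0C h0C h02 h02 (by rw [hT, h0]; exact hac hc.a₀))
    (rcomm hcop2 hTA h1C h1C h12 h12 (by rw [hT, h1]; exact hac hc.a₁))
    (rcomm hcop2 hTA h2C h2C h22 h22 (by rw [hT, h2]; exact hac hc.a₂))
    (rcomm hcop2 hTA hwC hwC hw2 hw2 (by rw [hT, hw]; exact hac hc.aw))
    (by rw [← rmul hTA.1 h0C.1]; exact hσ hcop7 h0C hduC h0 hdu (hzone hdu7) hc.adu)
    (by rw [← rmul hTA.1 hwC.1]; exact hσ hcop7 hwC hdwC hw hdw (hzone hdw7) hc.adw)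
    (by rw [m21 h0C h2C, m21 h02C hwC, ← rmul hTA.1 hjC.1]; exact hσ hcop5 hjC hfC ψj hf (hzone hf5) hc.af)
    (by rw [← rpow hdC.1, hd7, r1]) (hfix7 hdC hdo) (hfix7 hduC hduo) (hfix7 hdwC hdwo)
    (by rw [← rpow hfC.1, hf5, r1])
    (by rw [m21 h0C h0C, ← pow_two, rz h02]) (by rw [m21 h1C h1C, ← pow_two, rz h12])
    (by rw [m21 h2C h2C, ← pow_two, rz h22]) (by rw [m21 hwC hwC, ← pow_two, rz hw2])
    (rcomm hcop2 (hCA h0C) h1C h1C h12 h12 (by rw [h0, h1]; exact hcc m0 hc.c01))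
    (rcomm hcop2 (hCA h0C) h2C h2C h22 h22 (by rw [h0, h2]; exact hcc m0 hc.c02))
    (rcomm hcop2 (hCA h1C) h2C h2C h22 h22 (by rw [h1, h2]; exact hcc m1 hc.c12))
    (rcomm hcop2 (hCA hdC) h0C h1C h02 h12 (by rw [hd, h0, h1]; exact hcc d0 hc.du0))
    (rcomm hcop2 (hCA hdC) h1C h2C h12 h22 (by rw [hd, h1, h2]; exact hcc d0 hc.du1))
    (by rw [m21 h0C h2C]; exact rcomm hcop2 (hCA hdC) h2C h02C h22 c02 (by rw [hd, h2, ψ02]; exact hcc d0 hc.du2))
    (rcomm hcop2 (hCA hwC) h0C h1C h02 h12 (by rw [hw, h0, h1]; exact hcc mw hc.wu0))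
    (by
      rw [m21 h0C h1C, m21 (mul_mem h0C h1C) h2C]
      exact rcomm hcop2 (hCA hwC) h2C (mul_mem (mul_mem h0C h1C) h2C) h22 c012
        (by rw [hw, h2, hmul _ (hCA (mul_mem h0C h1C)) _ (hCA h2C), ψ01, h2, ← map_mul MulAut.conj (m0 * m1)]; exact hcc mw hc.wu2))
    (fun e => by
      -- an element acting trivially lies in `⟨z⟩`
      have hcen : ∀ x : ↥(cE z), (x : G) * u₀ = u₀ * x := by
        intro x
        have hχ : ∀ y : ↥(cE z), u₀ * (y : G) * u₀⁻¹ = (y : G) ∨ u₀ * (y : G) * u₀⁻¹ = (y : G) * z := by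
          intro y
          have h : r u₀ (mk y) = mk y := by rw [e]; rfl
          rw [hr h0C.1] at h
          obtain ⟨c, hc', ec⟩ := mk_eq.1 h
          rw [CfsgLib.J4Five.conjE_apply] at ec
          have ec' := eq_mul_inv_of_mul_eq ec.symm
          rw [cinv ((mem_zpowers_z hJ).1 hc')] at ec'
          rcases (mem_zpowers_z hJ).1 hc' with rfl | rfl
          · exact Or.inl (by rw [ec', mul_one])
          · exact Or.inr ec'
        -- every class is a displacement of `p`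
        obtain ⟨Y, hY⟩ := (Finite.injective_iff_surjective.1
          (show Function.Injective (fun Y : W => r p Y + Y) from fun Y Y' hYY => by
            have : r p (Y + Y') = Y + Y' := by
              rw [map_add]
              have hh : r p Y + Y + (r p Y' + Y') = 0 := by rw [show r p Y + Y = r p Y' + Y' from hYY, S.two]
              rw [add_add_add_comm] at hh
              calc r p Y + r p Y' = r p Y + r p Y' + (Y + Y') + (Y + Y') := by
                    rw [add_assoc, S.two, add_zero]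
                _ = _ := by rw [hh, zero_add]
            have h0 := hfixp _ this
            calc Y = Y + (Y + Y') := by rw [h0, add_zero]
              _ = Y' := S.add_add_cancel _ _)) (mk x)
        obtain ⟨y, rfl⟩ := mk_surj Y
        have hY' : r p (mk y) + mk y = mk x := hY
        rw [hr hpC.1, ← mk_mul] at hY'
        obtain ⟨c, hc', ec⟩ := mk_eq.1 hY'
        rw [Subgroup.coe_mul, CfsgLib.J4Five.conjE_apply] at ec
        have hup : u₀ * p = p * u₀ := (mem_centralizer_iff.1 h0C.2 p p₀.2).symm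
        refine (mul_inv_eq_iff_eq_mul.1 ?_).symm
        have hc0 : u₀ * c * u₀⁻¹ = c := by rw [← z_comm hc' h0C.1, mul_inv_cancel_right]
        have hcp : u₀ * p * u₀⁻¹ = p := by rw [hup, mul_inv_cancel_right]
        rw [ec, show u₀ * (p * (y : G) * p⁻¹ * y * c) * u₀⁻¹ = (u₀ * p * u₀⁻¹) * (u₀ * (y : G) * u₀⁻¹) *
          (u₀ * p * u₀⁻¹)⁻¹ * (u₀ * (y : G) * u₀⁻¹) * (u₀ * c * u₀⁻¹) by group, hcp, hc0]
        rcases hχ y with h | h <;> rw [h]
        have hzp : z * p⁻¹ = p⁻¹ * z := z_comm (mem_zpowers z) (inv_mem hpC.1)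
        have hzy : z * (y : G) = (y : G) * z := z_comm (mem_zpowers z) (E_le_H y.2)
        calc p * ((y : G) * z) * p⁻¹ * ((y : G) * z) * c = p * (y : G) * (z * p⁻¹) * (y : G) * z * c := by group
          _ = p * (y : G) * p⁻¹ * (z * (y : G)) * z * c := by rw [hzp]; group
          _ = p * (y : G) * p⁻¹ * (y : G) * (z * z) * c := by rw [hzy]; group
          _ = _ := by rw [zz hJ, mul_one]
      have huz : u₀ ∈ zpowers z := by
        have huE : u₀ ∈ cE z := centralizer_E_le hJ ⟨h0C.1, mem_centralizer_iff.2 fun y hy => hcen ⟨y, hy⟩⟩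
        rw [← E_inf_centralizer hJ]
        exact ⟨huE, h0C.2⟩
      refine hc.ne (CfsgLib.J4M22.conj_injective ?_)
      rw [← h0, map_one, hker _ (hCA h0C)]
      exact Subgroup.mem_sup_left huz)
  -- translate back
  set x := T * j with hx
  obtain ⟨a, rfl⟩ := mk_surj X
  have hxA : x ∈ cA z P := mul_mem hTA (hCA hjC)
  have hxf : x * f = f * x := by
    obtain ⟨c, hc', e⟩ := huniq hcop5 (hCnorm hxA hfC) hfC (hconjz 5 hxA.1 (hzone hf5)) (hzone hf5) (by
      rw [hconj _ hxA _ (hCA hfC), hx, hmul _ hTA _ (hCA hjC), hT, ψj, hf]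
      refine MulEquiv.ext fun y => ?_
      show α (m0 * m2 * mw * (mf * ((m0 * m2 * mw)⁻¹ * α⁻¹ y * (m0 * m2 * mw)⁻¹⁻¹) * mf⁻¹) * (m0 * m2 * mw)⁻¹) =
        mf * y * mf⁻¹
      rw [show m0 * m2 * mw * (mf * ((m0 * m2 * mw)⁻¹ * α⁻¹ y * (m0 * m2 * mw)⁻¹⁻¹) * mf⁻¹) * (m0 * m2 * mw)⁻¹ =
        (m0 * m2 * mw * mf * (m0 * m2 * mw)⁻¹) * α⁻¹ y * (m0 * m2 * mw * mf * (m0 * m2 * mw)⁻¹)⁻¹ by group,
        map_mul, map_mul, map_inv, hc.af, MulAut.apply_inv_self])
    have h5 : (x * f * x⁻¹) ^ 5 = 1 := by rw [conj_pow, hf5, mul_one, mul_inv_cancel]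
    rw [e, (show Commute f c from (z_comm hc' hfC.1).symm).mul_pow, hf5, one_mul] at h5
    rw [z_pow_odd hJ (by decide : Odd 5) hc' h5, mul_one] at e
    exact mul_inv_eq_iff_eq_mul.1 e
  refine ⟨f, x, (a : G), hfC, hfo, hxA, fun h => hTC ?_, hxf, a.2,
    hfixed hfC.1 (by decide : Odd 5) hf5 hXf, ?_, ?_⟩
  · have := mul_mem h (inv_mem hjC)
    rwa [hx, mul_inv_cancel_right] at this
  · rw [hq] at hXq
    rcases sqm a with h | h
    · simp [ε, h] at hXq
    · exact h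
  · have h : r x (mk a) = mk a := by
      rw [hx, rmul hTA.1 hjC.1, hj, rmul h02C.1 hwC.1, rmul h0C.1 h2C.1]
      exact hXσ
    rw [hr hxA.1] at h
    obtain ⟨c, hc', ec⟩ := mk_eq.1 h
    rw [CfsgLib.J4Five.conjE_apply] at ec
    have ec' := eq_mul_inv_of_mul_eq ec.symm
    rw [cinv ((mem_zpowers_z hJ).1 hc')] at ec'
    rcases (mem_zpowers_z hJ).1 hc' with rfl | rfl
    · exact Or.inl (by rw [ec', mul_one])
    · exact Or.inr ec'

end CfsgLib.J4Twist
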