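/-
Janko-four type: the centraliser and normaliser of an element of order 5.
-/
import Cfsg.Agent.J4Local.FiveTwist
import Cfsg.Agent.J4Local.FiveGeneric
import Cfsg.Agent.J4Local.Fused
import Cfsg.Agent.J3Local.Glue
import Cfsg.Agent.Golay.MathieuFusion
import Cfsg.Agent.S3344

set_option autoImplicit false
set_option linter.style.haveILetI false
set_option linter.unusedSectionVars false

namespace CfsgLib.J4FiveLocal

open Subgroup CfsgLib.J4Local
open scoped commutatorElement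

variable {G : Type*} [Group G] [Finite G] {z : G} {P : Subgroup G}

theorem A_inf_E (hJ : Cfsg.IsOfJankoFourTypeWith z P) {y : G} (hy : y ∈ cA z P) (hyE : y ∈ cE z) :
    y ∈ zpowers z := by
  rw [← E_inf_centralizer hJ]
  refine ⟨hyE, mem_centralizer_iff.2 fun q hq => ?_⟩
  have h1 : y * q * y⁻¹ * q⁻¹ ∈ P := mul_mem ((mem_normalizer_iff.1 hy.2 q).1 hq) (inv_mem hq)
  have h2 : y * q * y⁻¹ * q⁻¹ ∈ cE z := by
    have := (mem_normalizer_iff.1 (H_le_normalizer_E (P_le_H hJ hq)) y⁻¹).1 (inv_mem hyE)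
    simpa [mul_assoc] using mul_mem hyE this
  have hd : P ⊓ cE z = ⊥ := Subgroup.inf_eq_bot_of_coprime (by rw [card_P hJ, card_E hJ]; decide)
  have h3 : y * q * y⁻¹ * q⁻¹ = 1 := by simpa [hd] using (Subgroup.mem_inf.mpr ⟨h1, h2⟩)
  exact (mul_inv_eq_iff_eq_mul.mp (mul_inv_eq_one.mp h3)).symm

/-- A conjugate of an element differing by an element of coprime order commuting with it. -/
theorem eq_of_conj {g f c : G} {n m : ℕ} (hnm : n.Coprime m) (hf : f ^ n = 1) (hc : c ^ m = 1)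
    (hfc : f * c = c * f) (h : g * f * g⁻¹ = f * c) : g * f * g⁻¹ = f := by
  have h1 : c ^ n = 1 := by
    have e : (g * f * g⁻¹) ^ n = 1 := by rw [conj_pow, hf, mul_one, mul_inv_cancel]
    rwa [h, (show Commute f c from hfc).mul_pow, hf, one_mul] at e
  have h2 : orderOf c ∣ 1 := by
    rw [← hnm.gcd_eq_one]
    exact Nat.dvd_gcd (orderOf_dvd_of_pow_eq_one h1) (orderOf_dvd_of_pow_eq_one hc)
  rw [h, orderOf_eq_one_iff.1 (Nat.eq_one_of_dvd_one h2), mul_one]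

theorem K_pow_six (hJ : Cfsg.IsOfJankoFourTypeWith z P) {k : G} (hk : k ∈ cK z P) : k ^ 6 = 1 :=
  orderOf_dvd_iff_pow_eq_one.1 (by rw [← card_K hJ]; exact Subgroup.orderOf_dvd_natCard _ hk)

section Local

variable {f : G}

theorem map_orderOf (hJ : Cfsg.IsOfJankoFourTypeWith z P) {φ : G → ↥Cfsg.Spor.M22}
    (hker : ∀ a ∈ cC z P, φ a = 1 ↔ a ∈ cK z P) (hpow : ∀ a ∈ cC z P, ∀ n : ℕ, φ (a ^ n) = φ a ^ n)
    (hf : f ∈ cC z P) (ho : orderOf f = 5) : orderOf (φ f) = 5 := by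
  haveI : Fact (Nat.Prime 5) := ⟨by norm_num⟩
  refine orderOf_eq_prime (by rw [← hpow f hf, ← ho, pow_orderOf_eq_one]; exact (hker _ (one_mem _)).2 (one_mem _))
    fun e => ?_
  have h6 := Subgroup.orderOf_dvd_natCard _ ((hker f hf).1 e)
  rw [ho, card_K hJ] at h6
  norm_num at h6

theorem card_CC (hJ : Cfsg.IsOfJankoFourTypeWith z P) (hf : f ∈ cC z P) (ho : orderOf f = 5) :
    Nat.card ↥(cC z P ⊓ centralizer ({f} : Set G)) = 30 := by
  obtain ⟨φ, hmul, hker, hpow, hinv, -⟩ := exists_map hJ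
  have heq : cC z P ⊓ centralizer ({f} : Set G) = zpowers f ⊔ cK z P := by
    refine le_antisymm (fun c hc => ?_) (sup_le (zpowers_le.2 ⟨hf, mem_centralizer_singleton_iff.2 rfl⟩)
      (fun k hk => ⟨K_le_C hJ hk, mem_centralizer_singleton_iff.2 (K_comm hJ hk hf)⟩))
    have hm : φ c ∈ centralizer ({φ f} : Set ↥Cfsg.Spor.M22) := mem_centralizer_singleton_iff.2 (by
      rw [← hmul c hc.1 f hf, mem_centralizer_singleton_iff.1 hc.2, hmul f hf c hc.1])
    rw [CfsgLib.J4M22.centralizer_eq_zpowers (Or.inl (map_orderOf hJ hker hpow hf ho))] at hm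
    obtain ⟨i, hi⟩ := (mem_powers_iff_mem_zpowers.2 hm : φ c ∈ Submonoid.powers (φ f))
    have hi : φ f ^ i = φ c := hi
    obtain ⟨k, hk, e⟩ := eq_mul_of_map_eq hJ hmul hker hinv hc.1 (pow_mem hf i) (by rw [← hi, hpow f hf])
    rw [e]
    exact mul_mem (mem_sup_left (pow_mem (mem_zpowers f) i)) (mem_sup_right hk)
  have hn : zpowers f ≤ normalizer ((cK z P : Subgroup G) : Set G) :=
    zpowers_le.2 (centralizer_le_normalizer _ (mem_centralizer_iff.2 fun k hk => K_comm hJ hk hf))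
  have hd : zpowers f ⊓ cK z P = ⊥ :=
    Subgroup.inf_eq_bot_of_coprime (by rw [Nat.card_zpowers, ho, card_K hJ]; decide)
  rw [heq, CfsgLib.Solvable.card_sup_of_disjoint hn hd, Nat.card_zpowers, ho, card_K hJ]

theorem card_CA (hJ : Cfsg.IsOfJankoFourTypeWith z P) (hf : f ∈ cC z P) (ho : orderOf f = 5) {x : G}
    (hx : x ∈ cA z P) (hxC : x ∉ cC z P) (hxf : x * f = f * x) :
    Nat.card ↥(cA z P ⊓ centralizer ({f} : Set G)) = 60 := by
  classical
  set U := cA z P ⊓ centralizer ({f} : Set G) with hU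
  set V := cC z P ⊓ centralizer ({f} : Set G) with hV
  have hxU : x ∈ U := ⟨hx, mem_centralizer_singleton_iff.2 hxf⟩
  have hVU : V ≤ U := inf_le_inf_right _ C_le_A
  let g : Bool × V → U := fun b => ⟨cond b.1 x 1 * b.2, mul_mem (by cases b.1; exacts [one_mem _, hxU]) (hVU b.2.2)⟩
  have hg : Function.Bijective g := by
    constructor
    · rintro ⟨b, v⟩ ⟨b', v'⟩ h
      have h' : cond b x 1 * (v : G) = cond b' x 1 * v' := congrArg Subtype.val h
      cases b <;> cases b' <;> simp only [cond_false, cond_true, one_mul] at h'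
      · rw [show v = v' from Subtype.ext h']
      · exact absurd (show x ∈ cC z P by
          rw [eq_mul_inv_of_mul_eq h'.symm]; exact mul_mem v.2.1 (inv_mem v'.2.1)) hxC
      · exact absurd (show x ∈ cC z P by
          rw [eq_mul_inv_of_mul_eq h']; exact mul_mem v'.2.1 (inv_mem v.2.1)) hxC
      · rw [show v = v' from Subtype.ext (mul_left_cancel h')]
    · rintro ⟨u, hu⟩
      by_cases huC : u ∈ cC z P
      · exact ⟨(false, ⟨u, huC, hu.2⟩), Subtype.ext (one_mul u)⟩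
      · have hxi : x⁻¹ ∈ U := inv_mem hxU
        refine ⟨(true, ⟨x⁻¹ * u, ?_, mul_mem hxi.2 hu.2⟩), Subtype.ext (mul_inv_cancel_left x u)⟩
        have hmem := (Subgroup.mul_mem_iff_of_index_two (index_C hJ) (a := (⟨x⁻¹, inv_mem hx⟩ : cA z P))
          (b := ⟨u, hu.1⟩))
        simp only [mem_subgroupOf, Subgroup.coe_mul] at hmem
        exact hmem.2 (iff_of_false (fun h => hxC (by simpa using inv_mem h)) huC)
  have hc := card_CC hJ hf ho
  rw [← hV] at hc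
  rw [← Nat.card_congr (Equiv.ofBijective g hg), Nat.card_prod, hc, Nat.card_eq_fintype_card (α := Bool),
    Fintype.card_bool]

theorem CH_eq (hJ : Cfsg.IsOfJankoFourTypeWith z P) (hf : f ∈ cC z P) (ho : orderOf f = 5) :
    cH z ⊓ centralizer ({f} : Set G) =
      (cA z P ⊓ centralizer ({f} : Set G)) ⊔ (cE z ⊓ centralizer ({f} : Set G)) := by
  refine le_antisymm (fun h hh => ?_) (sup_le (inf_le_inf_right _ inf_le_left) (inf_le_inf_right _ E_le_H))
  have hn : cA z P ≤ normalizer (cE z : Set G) := (inf_le_left : cA z P ≤ cH z).trans H_le_normalizer_E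
  have hm := hh.1
  rw [H_eq hJ] at hm
  obtain ⟨a, ha, e, he, rfl⟩ := (CfsgLib.Solvable.mem_sup_of_le_normalizer hn).mp hm
  have hcf : a * e * f = f * (a * e) := mem_centralizer_singleton_iff.1 hh.2
  have hfA : f ∈ cA z P := C_le_A hf
  have h1 : e * f * e⁻¹ = a⁻¹ * f * a := by
    calc e * f * e⁻¹ = a⁻¹ * (a * e * f) * e⁻¹ := by group
      _ = a⁻¹ * (f * (a * e)) * e⁻¹ := by rw [hcf]
      _ = a⁻¹ * f * a := by group
  have h2 : f⁻¹ * (a⁻¹ * f * a) ∈ zpowers z := by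
    refine A_inf_E hJ (mul_mem (inv_mem hfA) (mul_mem (mul_mem (inv_mem ha) hfA) ha)) ?_
    rw [← h1, show f⁻¹ * (e * f * e⁻¹) = (f⁻¹ * e * f) * e⁻¹ by group]
    refine mul_mem ?_ (inv_mem he)
    have := (mem_normalizer_iff.1 (H_le_normalizer_E (inv_mem hf.1)) e).1 he
    rwa [inv_inv] at this
  have hf5 : f ^ 5 = 1 := ho ▸ pow_orderOf_eq_one f
  have h3 : a⁻¹ * f * a⁻¹⁻¹ = f := by
    refine eq_of_conj (n := 5) (m := 2) (c := f⁻¹ * (a⁻¹ * f * a)) (by decide) hf5 ?_ ?_ (by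
      rw [inv_inv, mul_inv_cancel_left])
    · rcases (CfsgLib.J4Twist.mem_zpowers_z hJ).1 h2 with h | h <;> rw [h]
      · exact one_pow 2
      · rw [pow_two, CfsgLib.J4Twist.zz hJ]
    · exact (CfsgLib.J4Twist.z_comm h2 hf.1).symm
  rw [inv_inv] at h3
  have haf : a * f = f * a := by
    calc a * f = a * (a⁻¹ * f * a) := by rw [h3]
      _ = f * a := by group
  have haU : a ∈ cA z P ⊓ centralizer ({f} : Set G) := ⟨ha, mem_centralizer_singleton_iff.2 haf⟩
  refine mul_mem (mem_sup_left haU) (mem_sup_right ⟨he, mem_centralizer_singleton_iff.2 ?_⟩)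
  rw [h3] at h1
  exact mul_inv_eq_iff_eq_mul.1 h1

theorem card_CH (hJ : Cfsg.IsOfJankoFourTypeWith z P) (hf : f ∈ cC z P) (ho : orderOf f = 5) {x : G}
    (hx : x ∈ cA z P) (hxC : x ∉ cC z P) (hxf : x * f = f * x) :
    Nat.card ↥(cH z ⊓ centralizer ({f} : Set G)) = 960 := by
  rw [CH_eq hJ hf ho]
  set U := cA z P ⊓ centralizer ({f} : Set G) with hU
  set D := cE z ⊓ centralizer ({f} : Set G) with hD
  have hn : U ≤ normalizer (D : Set G) := by
    intro u hu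
    have key : ∀ u ∈ U, ∀ d ∈ D, u * d * u⁻¹ ∈ D := fun u hu d hd =>
      have hui : u⁻¹ ∈ U := inv_mem hu
      ⟨(mem_normalizer_iff.1 (H_le_normalizer_E hu.1.1) d).1 hd.1, mul_mem (mul_mem hu.2 hd.2) hui.2⟩
    refine mem_normalizer_iff.2 fun d => ⟨key u hu d, fun h => ?_⟩
    have := key u⁻¹ (inv_mem hu) _ h
    simpa [mul_assoc] using this
  have hinf : U ⊓ D = zpowers z := by
    refine le_antisymm (fun y hy => A_inf_E hJ hy.1.1 hy.2.1) (zpowers_le.2 ?_)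
    exact ⟨⟨C_le_A ⟨z_mem_H, z_mem_C_P hJ⟩, (CfsgLib.J4Five.z_mem_fix hJ hf.1).2⟩, CfsgLib.J4Five.z_mem_fix hJ hf.1⟩
  have := CfsgLib.Solvable.card_sup_mul_card_inf hn
  have hDc : Nat.card ↥D = 32 := CfsgLib.J4Five.card_fix_five hJ hf ho
  have hUc : Nat.card ↥U = 60 := card_CA hJ hf ho hx hxC hxf
  rw [hinf, Nat.card_zpowers, orderOf_z hJ, hUc, hDc] at this
  omega

/-- An element of `C` inducing the squaring map on `⟨f⟩`, of order 4. -/
theorem exists_square (hJ : Cfsg.IsOfJankoFourTypeWith z P) (hf : f ∈ cC z P) (ho : orderOf f = 5) :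
    ∃ n ∈ cC z P, n ^ 4 = 1 ∧ n * f * n⁻¹ = f ^ 2 := by
  obtain ⟨φ, hmul, hker, hpow, hinv, hsurj⟩ := exists_map hJ
  haveI : Fact (Nat.Prime 5) := ⟨by norm_num⟩
  haveI : Finite ↥Cfsg.Spor.M22 := Nat.finite_of_card_ne_zero (by rw [CfsgLib.J4M22.card_M]; norm_num)
  have hφf := map_orderOf hJ hker hpow hf ho
  set g := φ f with hg
  set Z := zpowers g with hZ
  set N := normalizer (Z : Set ↥Cfsg.Spor.M22) with hN
  obtain ⟨m, hm⟩ : ∃ m : ↥Cfsg.Spor.M22, m * g * m⁻¹ = g ^ 2 := by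
    have hcyc : IsCyclic Z := inferInstance
    have hk : Nat.card Z.normalizerMonoidHom.ker = 5 := by
      rw [Subgroup.normalizerMonoidHom_ker,
        Nat.card_congr (Subgroup.subgroupOfEquivOfLe (centralizer_le_normalizer _)).toEquiv,
        CfsgLib.J4Five.centralizer_zpowers, CfsgLib.J4M22.card_centralizer_five hφf]
    have hr : Nat.card Z.normalizerMonoidHom.range = 4 := by
      have h := Z.normalizerMonoidHom.ker.card_eq_card_quotient_mul_card_subgroup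
      rw [Nat.card_congr (QuotientGroup.quotientKerEquivRange Z.normalizerMonoidHom).toEquiv, hk,
        CfsgLib.J4M22.card_normalizer_five hφf] at h
      omega
    have htop : Z.normalizerMonoidHom.range = ⊤ := Subgroup.eq_top_of_card_eq _ (by
      rw [hr, IsCyclic.card_mulAut, Nat.card_zpowers, hφf]; decide)
    have hmul2 : Function.Bijective fun w : Z => w ^ 2 :=
      (powCoprime (G := Z) (n := 2) (by rw [Nat.card_zpowers, hφf]; decide)).bijective
    letI : CommGroup Z := hcyc.commGroup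
    let σ : MulAut Z := MulEquiv.ofBijective (powMonoidHom 2) hmul2
    obtain ⟨⟨m, hmN⟩, hm⟩ := htop.ge (mem_top σ)
    refine ⟨m, ?_⟩
    have := congrArg (fun β : MulAut Z => ((β ⟨g, mem_zpowers g⟩ : Z) : ↥Cfsg.Spor.M22)) hm
    exact this
  have hpow2 : ∀ (k : ℕ), m ^ k * g * (m ^ k)⁻¹ = g ^ (2 ^ k) := by
    intro k
    induction k with
    | zero => simp
    | succ k ih =>
      calc m ^ (k + 1) * g * (m ^ (k + 1))⁻¹ = m * (m ^ k * g * (m ^ k)⁻¹) * m⁻¹ := by rw [pow_succ']; group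
        _ = (m * g * m⁻¹) ^ (2 ^ k) := by rw [ih, conj_pow]
        _ = _ := by rw [hm, ← pow_mul, ← pow_succ']
  have hg5 : g ^ 5 = 1 := hφf ▸ pow_orderOf_eq_one g
  obtain ⟨m, hm4, hmg, hm2⟩ : ∃ m : ↥Cfsg.Spor.M22, m ^ 4 = 1 ∧ m * g * m⁻¹ = g ^ 2 ∧ m * m ≠ 1 := by
    have hmg5 : m ^ 5 * g * (m ^ 5)⁻¹ = g ^ 2 := by
      rw [hpow2, show 2 ^ 5 = 5 * 6 + 2 from rfl, pow_add, pow_mul, hg5, one_pow, one_mul]
    refine ⟨m ^ 5, ?_, hmg5, fun e => ?_⟩
    · have hc : m ^ 4 ∈ centralizer ({g} : Set ↥Cfsg.Spor.M22) := mem_centralizer_singleton_iff.2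
        (mul_inv_eq_iff_eq_mul.1 (by
          rw [hpow2, show 2 ^ 4 = 5 * 3 + 1 from rfl, pow_succ, pow_mul, hg5, one_pow, one_mul]))
      rw [CfsgLib.J4M22.centralizer_eq_zpowers (Or.inl hφf)] at hc
      rw [← pow_mul, mul_comm, pow_mul]
      obtain ⟨i, hi⟩ := mem_zpowers_iff.1 hc
      rw [← hi, ← zpow_natCast, ← zpow_mul, mul_comm, zpow_mul, zpow_natCast, hg5, one_zpow]
    · have h4 : g ^ 4 = g := by
        calc g ^ 4 = (m ^ 5 * g * (m ^ 5)⁻¹) ^ 2 := by rw [hmg5, ← pow_mul]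
          _ = (m ^ 5) * (m ^ 5 * g * (m ^ 5)⁻¹) * (m ^ 5)⁻¹ := by rw [conj_pow, hmg5]
          _ = (m ^ 5 * m ^ 5) * g * (m ^ 5 * m ^ 5)⁻¹ := by group
          _ = g := by rw [e, one_mul, inv_one, mul_one]
      have h3 : g ^ 3 = 1 := by
        rw [pow_succ] at h4
        simpa using h4
      have := orderOf_dvd_of_pow_eq_one h3
      rw [hφf] at this
      norm_num at this
  obtain ⟨n₀, hn₀, rfl⟩ := hsurj m
  have hsq : n₀ * n₀ ∈ cC z P := mul_mem hn₀ hn₀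
  have hsqK : n₀ * n₀ ∉ cK z P := fun h => hm2 (by rw [← hmul _ hn₀ _ hn₀]; exact (hker _ hsq).2 h)
  have hsqK2 : n₀ * n₀ * (n₀ * n₀) ∈ cK z P := (hker _ (mul_mem hsq hsq)).1 (by
    rw [hmul _ hsq _ hsq, hmul _ hn₀ _ hn₀, ← hm4]; simp only [pow_succ, pow_zero, one_mul, mul_assoc])
  obtain ⟨k, hk, hkk⟩ := exists_invol_lift hJ hsq hsqK hsqK2
  have hn4 : (n₀ ^ 4) ^ 3 = 1 := by
    have hkc : n₀ * n₀ * k = k * (n₀ * n₀) := (K_comm hJ (mem_sup_right hk) hsq).symm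
    have e : n₀ ^ 4 = (k * k)⁻¹ := eq_inv_of_mul_eq_one_left (by
      calc n₀ ^ 4 * (k * k) = n₀ * n₀ * (n₀ * n₀ * k) * k := by
            simp only [pow_succ, pow_zero, one_mul, mul_assoc]
        _ = n₀ * n₀ * (k * (n₀ * n₀)) * k := by rw [hkc]
        _ = n₀ * n₀ * k * (n₀ * n₀ * k) := by simp only [mul_assoc]
        _ = 1 := hkk)
    have hk3 : k ^ 3 = 1 := by
      rw [← card_P hJ]
      exact congrArg Subtype.val (pow_card_eq_one' (G := P) (x := ⟨k, hk⟩))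
    rw [e, inv_pow, (Commute.refl k).mul_pow, hk3, one_mul, inv_one]
  refine ⟨n₀ ^ 9, pow_mem hn₀ 9, by rw [← pow_mul, show 9 * 4 = 4 * 3 * 3 from rfl, pow_mul, pow_mul, hn4, one_pow], ?_⟩
  have hn9 : n₀ ^ 9 ∈ cC z P := pow_mem hn₀ 9
  have hm9 : φ (n₀ ^ 9) = φ n₀ := by
    rw [hpow _ hn₀, show 9 = 4 * 2 + 1 from rfl, pow_succ, pow_mul, hm4, one_pow, one_mul]
  obtain ⟨k', hk', e⟩ := eq_mul_of_map_eq hJ hmul hker hinv (mul_mem (mul_mem hn9 hf) (inv_mem hn9)) (pow_mem hf 2)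
    (by rw [hmul _ (mul_mem hn9 hf) _ (inv_mem hn9), hmul _ hn9 _ hf, hinv _ hn9, hm9, hmg, hpow f hf])
  have hf5 : (f ^ 2) ^ 5 = 1 := by rw [← pow_mul, mul_comm, pow_mul, ← ho, pow_orderOf_eq_one, one_pow]
  have h5 : (n₀ ^ 9 * f * (n₀ ^ 9)⁻¹) ^ 5 = 1 := by
    rw [conj_pow, ← ho, pow_orderOf_eq_one, mul_one, mul_inv_cancel]
  have hkc : Commute (f ^ 2) k' := (K_comm hJ hk' (pow_mem hf 2)).symm
  rw [e, hkc.mul_pow, hf5, one_mul] at h5
  have hk1 : orderOf k' ∣ 1 := by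
    rw [← (show Nat.Coprime 5 6 by norm_num).gcd_eq_one]
    exact Nat.dvd_gcd (orderOf_dvd_of_pow_eq_one h5) (orderOf_dvd_of_pow_eq_one (K_pow_six hJ hk'))
  rw [e, orderOf_eq_one_iff.1 (Nat.eq_one_of_dvd_one hk1), mul_one]

end Local

end CfsgLib.J4FiveLocal
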