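/-
Janko-four type: the local structure at an element of order five centralising the subgroup `P`.
-/
import Cfsg.Agent.J4Local.FiveLocal

set_option autoImplicit false
set_option linter.style.haveILetI false
set_option linter.unusedSectionVars false
set_option maxHeartbeats 800000

namespace CfsgLib.J4FiveLocal

open Subgroup CfsgLib.J4Local
open scoped commutatorElement

variable {G : Type*} [Group G] [Finite G] {z : G} {P : Subgroup G}

theorem five_main [IsSimpleGroup G] (hG : ¬ IsMulCommutative G) (hJ : Cfsg.IsOfJankoFourTypeWith z P)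
    (hnorm : Subgroup.normalizer (P : Set G) ≤ cH z) {f x a : G} (hf : f ∈ cC z P) (ho : orderOf f = 5)
    (hx : x ∈ cA z P) (hxC : x ∉ cC z P) (hxf : x * f = f * x) (haE : a ∈ cE z) (haf : a * f = f * a)
    (ha2 : a * a = z) (hxa : x * a * x⁻¹ = a ∨ x * a * x⁻¹ = a * z) :
    ¬ (25 ∣ Nat.card G) ∧
    (∃ J : Subgroup G, Cfsg.IsInternalDirectProduct (zpowers f) J
        (Subgroup.centralizer ((zpowers f : Subgroup G) : Set G)) ∧
      ∃ (E : Subgroup ↥J) (_ : E.Normal), Cfsg.IsElementaryAbelian 2 E ∧ Nat.card ↥E = 8 ∧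
        Nonempty (↥J ⧸ E ≃* Matrix.SpecialLinearGroup (Fin 3) (ZMod 2)) ∧ ∀ K : Subgroup ↥J, ¬ E.IsComplement' K) ∧
    (∃ R : Subgroup G, zpowers f ≤ R ∧ R ≤ Subgroup.normalizer ((zpowers f : Subgroup G) : Set G) ∧
      Nat.card ↥R = 20 ∧ R ⊓ Subgroup.centralizer ((zpowers f : Subgroup G) : Set G) = zpowers f) ∧
    Nat.card ↥(Subgroup.normalizer ((zpowers f : Subgroup G) : Set G)) = 2 ^ 8 * 3 * 5 * 7 := by
  classical
  haveI : Fact (Nat.Prime 5) := ⟨by norm_num⟩
  haveI : Fact (Nat.Prime 3) := ⟨Nat.prime_three⟩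
  haveI : Fact (Nat.Prime 2) := ⟨Nat.prime_two⟩
  rw [CfsgLib.J4Five.centralizer_zpowers]
  have hf5 : f ^ 5 = 1 := ho ▸ pow_orderOf_eq_one f
  have hzz := CfsgLib.J4Twist.zz hJ
  have hzC : z ∈ cC z P := ⟨z_mem_H, z_mem_C_P hJ⟩
  have hzf : z * f = f * z := (mem_cH.1 hf.1).symm
  set Cf : Subgroup G := centralizer ({f} : Set G) with hCf
  have hCm : ∀ {g : G}, g ∈ Cf ↔ g * f = f * g := mem_centralizer_singleton_iff
  have hfCf : f ∈ Cf := hCm.2 rfl
  have hzpC : zpowers f ≤ Cf := zpowers_le.2 hfCf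
  let zf : Subgroup ↥Cf := (zpowers f).subgroupOf Cf
  haveI hzn : zf.Normal := ⟨fun n hn g => by
    have e : g * n * g⁻¹ = n := by
      obtain ⟨i, hi⟩ := mem_zpowers_iff.1 (mem_subgroupOf.1 hn)
      refine Subtype.ext ?_
      show (g : G) * n * (g : G)⁻¹ = n
      rw [← hi, ((show Commute (g : G) f from hCm.1 g.2).zpow_right i).eq, mul_inv_cancel_right]
    rwa [e]⟩
  let π : ↥Cf →* ↥Cf ⧸ zf := QuotientGroup.mk' zf
  have hker : π.ker = zf := QuotientGroup.ker_mk' zf
  have hzf5 : Nat.card zf = 5 := by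
    rw [Nat.card_congr (subgroupOfEquivOfLe hzpC).toEquiv, Nat.card_zpowers, ho]
  have hπeq : ∀ c d : ↥Cf, π c = π d ↔ ∃ i : ℤ, (d : G) = c * f ^ i := fun c d => by
    show (QuotientGroup.mk c : ↥Cf ⧸ zf) = QuotientGroup.mk d ↔ _
    rw [QuotientGroup.eq, mem_subgroupOf, mem_zpowers_iff, Subgroup.coe_mul, Subgroup.coe_inv]
    exact exists_congr fun i => ⟨fun h => by rw [h, mul_inv_cancel_left], fun h => by rw [h, inv_mul_cancel_left]⟩
  have hfi : ∀ {i : ℤ}, (f ^ i) ^ 2 = 1 ∨ (f ^ i) ^ 3 = 1 → f ^ i = 1 := by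
    intro i h
    have h5 : orderOf (f ^ i) ∣ 5 := ho ▸ orderOf_dvd_of_mem_zpowers (zpow_mem (mem_zpowers f) i)
    rcases h with h | h
    · exact orderOf_eq_one_iff.1 (Nat.eq_one_of_dvd_one
        ((show Nat.Coprime 5 2 by norm_num).gcd_eq_one ▸ Nat.dvd_gcd h5 (orderOf_dvd_of_pow_eq_one h)))
    · exact orderOf_eq_one_iff.1 (Nat.eq_one_of_dvd_one
        ((show Nat.Coprime 5 3 by norm_num).gcd_eq_one ▸ Nat.dvd_gcd h5 (orderOf_dvd_of_pow_eq_one h)))
  -- images of subgroups of `Cf`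
  let img : Subgroup G → Subgroup (↥Cf ⧸ zf) := fun S => (S.subgroupOf Cf).map π
  have himg : ∀ {S : Subgroup G} {c : ↥Cf}, (c : G) ∈ S → π c ∈ img S := fun {S c} h => ⟨c, h, rfl⟩
  have hcardimg : ∀ S : Subgroup G, S ≤ Cf → f ∈ S → Nat.card S = 5 * Nat.card (img S) := by
    intro S hS hfS
    have hle : zf ≤ S.subgroupOf Cf := fun n hn => zpowers_le.2 hfS hn
    have h1 := (S.subgroupOf Cf).card_mul_index
    have h2 := (img S).card_mul_index
    have h3 : (img S).index = (S.subgroupOf Cf).index :=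
      index_map_eq _ (QuotientGroup.mk'_surjective zf) (hker.le.trans hle)
    have h4 := zf.card_eq_card_quotient_mul_card_subgroup
    rw [hzf5] at h4
    rw [Nat.card_congr (subgroupOfEquivOfLe hS).toEquiv, h4] at h1
    rw [h3] at h2
    have hpos : 0 < (S.subgroupOf Cf).index := Nat.pos_of_ne_zero index_ne_zero_of_finite
    nlinarith
  -- the centraliser of the image of `z`
  set s : ↥Cf ⧸ zf := π ⟨z, hCm.2 hzf⟩ with hsdef
  set CH : Subgroup G := cH z ⊓ Cf with hCH
  set L : Subgroup (↥Cf ⧸ zf) := centralizer ({s} : Set (↥Cf ⧸ zf)) with hL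
  have hs1 : s ≠ 1 := fun e => by
    rw [hsdef, ← map_one π, hπeq] at e
    obtain ⟨i, hi⟩ := e
    have hfz : f ^ i = z := by
      have h' : z * f ^ i = 1 := hi.symm
      rw [← inv_eq_of_mul_eq_one_right h', inv_eq_of_mul_eq_one_right hzz]
    have := hfi (i := i) (Or.inl (by rw [hfz, pow_two, hzz]))
    exact CfsgLib.J4Local.z_one_ne hJ (hfz ▸ this)
  have hs2 : orderOf s = 2 := orderOf_eq_prime (by
    rw [hsdef, pow_two, ← map_mul, ← map_one π]; exact congrArg π (Subtype.ext hzz)) hs1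
  have hLimg : L = img CH := by
    ext y
    obtain ⟨c, rfl⟩ := QuotientGroup.mk'_surjective zf y
    constructor
    · intro hc
      refine himg ⟨mem_cH.2 ?_, c.2⟩
      have h : π (c * ⟨z, hCm.2 hzf⟩) = π (⟨z, hCm.2 hzf⟩ * c) := by
        rw [map_mul, map_mul]
        exact mem_centralizer_singleton_iff.1 hc
      obtain ⟨i, hi⟩ := (hπeq _ _).1 h
      have hi' : z * (c : G) = c * z * f ^ i := hi
      have hzfi : Commute z (f ^ i) := (show Commute z f from hzf).zpow_right i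
      have h1 : (c : G)⁻¹ * z * c = z * f ^ i := by
        rw [mul_assoc, hi', mul_assoc, inv_mul_cancel_left]
      have h2 : (f ^ i) ^ 2 = 1 := by
        have h3 : ((c : G)⁻¹ * z * c) ^ 2 = 1 := by
          calc _ = (c : G)⁻¹ * (z * z) * c := by rw [pow_two]; group
            _ = 1 := by rw [hzz, mul_one, inv_mul_cancel]
        rw [h1, hzfi.mul_pow, pow_two z, hzz, one_mul] at h3
        exact h3
      rw [hfi (Or.inl h2), mul_one] at hi'
      exact hi'.symm
    · rintro ⟨d, hd, e⟩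
      rw [← e]
      refine mem_centralizer_singleton_iff.2 ?_
      rw [hsdef, ← map_mul, ← map_mul]
      exact congrArg π (Subtype.ext (mem_cH.1 hd.1))
  have hLcard : Nat.card L = 192 := by
    have h := hcardimg CH inf_le_right ⟨hf.1, hfCf⟩
    rw [← hLimg] at h
    have hc : Nat.card CH = 960 := card_CH hJ hf ho hx hxC hxf
    omega
  -- the image of `C_E(f)`
  set D : Subgroup G := cE z ⊓ Cf with hD
  have hD32 : Nat.card D = 32 := CfsgLib.J4Five.card_fix_five hJ hf ho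
  have hDC : D ≤ Cf := inf_le_right
  have hDf : ∀ {d : G}, d ∈ D → ∀ i : ℤ, d = f ^ i → d = 1 := by
    intro d hd i hi
    refine orderOf_eq_one_iff.1 (Nat.eq_one_of_dvd_one ?_)
    rw [← (show Nat.Coprime 32 5 by norm_num).gcd_eq_one]
    refine Nat.dvd_gcd ?_ (ho ▸ orderOf_dvd_of_mem_zpowers (hi ▸ zpow_mem (mem_zpowers f) i))
    rw [← hD32]
    exact Subgroup.orderOf_dvd_natCard _ hd
  set Db : Subgroup (↥Cf ⧸ zf) := img D with hDb
  have hinjD : ∀ {c d : ↥Cf}, (c : G) ∈ D → (d : G) ∈ D → π c = π d → c = d := by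
    intro c d hc hd h
    obtain ⟨i, hi⟩ := (hπeq _ _).1 h
    have h1 : f ^ i = (c : G)⁻¹ * d := by rw [hi, inv_mul_cancel_left]
    have h2 := hDf (mul_mem (inv_mem hc) hd) i h1.symm
    exact Subtype.ext (inv_mul_eq_one.1 h2)
  let eD : D ≃* Db := MulEquiv.ofBijective
    (MonoidHom.mk' (fun d : D => (⟨π ⟨d, hDC d.2⟩, himg d.2⟩ : Db)) fun d d' => Subtype.ext (map_mul π ⟨d, hDC d.2⟩ ⟨d', hDC d'.2⟩))
    ⟨fun d d' h => Subtype.ext (congrArg (fun c : ↥Cf => (c : G))
      (hinjD (c := ⟨d, hDC d.2⟩) (d := ⟨d', hDC d'.2⟩) d.2 d'.2 (congrArg (fun c : Db => (c : ↥Cf ⧸ zf)) h))),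
      by rintro ⟨_, c, hc, rfl⟩; exact ⟨⟨c, hc⟩, rfl⟩⟩
  have hDbex : Cfsg.IsExtraspecial 2 Db :=
    CfsgLib.J3Local.isExtraspecial_congr eD (CfsgLib.J4Five.extraspecial_fix_five hJ hf ho)
  have hDb32 : Nat.card Db = 32 := by rw [← Nat.card_congr eD.toEquiv, hD32]
  have hDbL : Db ≤ L := hLimg ▸ Subgroup.map_mono (fun c (hc : (c : G) ∈ D) => ⟨E_le_H hc.1, hc.2⟩)
  have hDn : ∀ g ∈ L, ∀ d ∈ Db, g * d * g⁻¹ ∈ Db := by
    rw [hLimg]
    rintro _ ⟨g, hg, rfl⟩ _ ⟨d, hd, rfl⟩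
    rw [← map_inv, ← map_mul, ← map_mul]
    exact himg (c := g * d * g⁻¹)
      ⟨(mem_normalizer_iff.1 (H_le_normalizer_E hg.1) (d : G)).1 hd.1, (g * d * g⁻¹).2⟩
  haveI hQn : (Db.subgroupOf L).Normal := ⟨fun d hd g => hDn g g.2 d hd⟩
  have hQ32 : Nat.card (Db.subgroupOf L) = 32 := by
    rw [Nat.card_congr (subgroupOfEquivOfLe hDbL).toEquiv, hDb32]
  -- the elements `p` and `x`
  obtain ⟨p₀, hp₀⟩ : ∃ p₀ : P, orderOf p₀ = 3 :=
    exists_prime_orderOf_dvd_card' (G := P) 3 (by rw [card_P hJ])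
  set p : G := (p₀ : G) with hp
  have hpo : orderOf p = 3 := by rw [hp, Subgroup.orderOf_coe, hp₀]
  have hp3 : p ^ 3 = 1 := hpo ▸ pow_orderOf_eq_one p
  have hzP : zpowers p = P := CfsgLib.Solvable.eq_of_le_of_card_le (zpowers_le.2 p₀.2)
    (by rw [Nat.card_zpowers, hpo, card_P hJ])
  have hpC : p ∈ cC z P := P_le_C hJ p₀.2
  have hpf : p * f = f * p := mem_centralizer_iff.1 hf.2 p p₀.2
  have hPcent : ∀ {c : G}, c * p = p * c → c ∈ centralizer (P : Set G) := by
    intro c hc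
    refine mem_centralizer_iff.2 fun y hy => ?_
    rw [SetLike.mem_coe, ← hzP] at hy
    obtain ⟨j, rfl⟩ := mem_zpowers_iff.1 hy
    exact ((show Commute c p from hc).symm.zpow_left j).eq
  have hxp : x * p * x⁻¹ = p⁻¹ := by
    have hm : x * p * x⁻¹ ∈ zpowers p := by rw [hzP]; exact (mem_normalizer_iff.1 hx.2 p).1 p₀.2
    obtain ⟨i, hi⟩ := mem_zpowers_iff.1 hm
    rw [← zpow_mod_orderOf, hpo] at hi
    rcases (show i % (3 : ℕ) = 0 ∨ i % (3 : ℕ) = 1 ∨ i % (3 : ℕ) = 2 by omega) with h | h | h <;> rw [h] at hi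
    · exfalso
      rw [zpow_zero, eq_comm, conj_eq_one_iff] at hi
      rw [hi, orderOf_one] at hpo
      norm_num at hpo
    · exfalso
      rw [zpow_one, eq_comm, mul_inv_eq_iff_eq_mul] at hi
      exact hxC ⟨hx.1, hPcent hi⟩
    · rw [← hi, zpow_two]
      exact eq_inv_of_mul_eq_one_left (by rw [← hp3]; simp only [pow_succ, pow_zero, one_mul])
  set pb : L := ⟨π ⟨p, hCm.2 hpf⟩, hLimg.symm ▸ himg ⟨hpC.1, hCm.2 hpf⟩⟩ with hpb
  set xb : L := ⟨π ⟨x, hCm.2 hxf⟩, hLimg.symm ▸ himg ⟨hx.1, hCm.2 hxf⟩⟩ with hxb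
  have hpb3 : pb ^ 3 = 1 := by
    refine Subtype.ext ?_
    rw [Subgroup.coe_pow, Subgroup.coe_one]
    show π ⟨p, _⟩ ^ 3 = 1
    rw [← map_pow, ← map_one π]
    exact congrArg π (Subtype.ext hp3)
  have hcom : pb * xb * pb⁻¹ * xb⁻¹ = pb * pb := by
    refine Subtype.ext ?_
    simp only [Subgroup.coe_mul, Subgroup.coe_inv]
    show π ⟨p, _⟩ * π ⟨x, _⟩ * (π ⟨p, _⟩)⁻¹ * (π ⟨x, _⟩)⁻¹ = π ⟨p, _⟩ * π ⟨p, _⟩
    rw [← map_inv, ← map_inv, ← map_mul, ← map_mul, ← map_mul, ← map_mul]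
    refine congrArg π (Subtype.ext ?_)
    simp only [Subgroup.coe_mul, Subgroup.coe_inv]
    calc p * x * p⁻¹ * x⁻¹ = p * (x * p * x⁻¹)⁻¹ := by group
      _ = p * p := by rw [hxp, inv_inv]
  have hpbne : pb ≠ 1 := fun e => by
    have e' : π ⟨p, hCm.2 hpf⟩ = π 1 := by rw [map_one]; exact congrArg Subtype.val e
    obtain ⟨i, hi⟩ := (hπeq _ _).1 e'
    have hi' : (1 : G) = p * f ^ i := hi
    have hfp : f ^ i = p⁻¹ := (inv_eq_of_mul_eq_one_right hi'.symm).symm
    have := hfi (i := i) (Or.inr (by rw [hfp, inv_pow, hp3, inv_one]))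
    rw [this, eq_comm, inv_eq_one] at hfp
    rw [hfp, orderOf_one] at hpo
    norm_num at hpo
  have hpb2 : orderOf (pb * pb) = 3 := by
    refine orderOf_eq_prime (by rw [← pow_two, ← pow_mul, mul_comm, pow_mul, hpb3, one_pow]) fun e => hpbne ?_
    calc pb = pb ^ 3 * (pb * pb)⁻¹ := by group
      _ = 1 := by rw [hpb3, e, inv_one, mul_one]
  have hppQ : ∀ {S : Subgroup L}, IsPGroup 2 S → pb * pb ∉ S := fun {S} hS hm => by
    obtain ⟨k, hk⟩ := hS ⟨_, hm⟩
    have h2 : orderOf (pb * pb) ∣ 2 ^ k :=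
      orderOf_dvd_of_pow_eq_one (by simpa using congrArg Subtype.val hk)
    rw [hpb2] at h2
    have := Nat.le_of_dvd (by norm_num) (Nat.prime_three.dvd_of_dvd_pow h2)
    omega
  have hOeq : Cfsg.pCore 2 L = Db.subgroupOf L := by
    set O := Cfsg.pCore 2 L with hO
    haveI : O.Normal := CfsgLib.Solvable.pCore_normal 2
    have hOp : IsPGroup 2 O := CfsgLib.Solvable.isPGroup_pCore 2
    have hle : Db.subgroupOf L ≤ O :=
      CfsgLib.Solvable.le_pCore 2 hQn (IsPGroup.of_card (n := 5) (by rw [hQ32]; rfl))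
    refine (CfsgLib.Solvable.eq_of_le_of_card_le hle ?_).symm
    by_contra hlt
    rw [hQ32, not_le] at hlt
    obtain ⟨k, hk⟩ := IsPGroup.iff_card.mp hOp
    have hd : 2 ^ k ∣ 192 := by rw [← hk, ← hLcard]; exact Subgroup.card_subgroup_dvd_card O
    have hk6 : k = 6 := by
      have h6 : k ≤ 6 := by
        by_contra h
        exact absurd ((pow_dvd_pow 2 (show 7 ≤ k by omega)).trans hd) (by norm_num)
      have h5 : 2 ^ 5 < 2 ^ k := by rw [← hk]; exact hlt
      have := (Nat.pow_lt_pow_iff_right (by norm_num : 1 < 2)).1 h5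
      omega
    subst hk6
    have h3 : Nat.card (L ⧸ O) = 3 := by
      have := O.card_eq_card_quotient_mul_card_subgroup
      rw [hk, hLcard] at this
      omega
    haveI : IsCyclic (L ⧸ O) := isCyclic_of_prime_card (p := 3) h3
    letI : CommGroup (L ⧸ O) := IsCyclic.commGroup
    refine hppQ hOp ?_
    rw [← hcom, ← QuotientGroup.eq_one_iff]
    simp only [QuotientGroup.mk_mul, QuotientGroup.mk_inv]
    rw [mul_comm (pb : L ⧸ O) (xb : L ⧸ O), mul_inv_cancel_right, mul_inv_cancel]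
  have h6 : Nat.card (L ⧸ Cfsg.pCore 2 L) = 6 := by
    have := (Db.subgroupOf L).card_eq_card_quotient_mul_card_subgroup
    rw [hQ32, hLcard] at this
    rw [hOeq]
    omega
  haveI : (Cfsg.pCore 2 L).Normal := CfsgLib.Solvable.pCore_normal 2
  obtain ⟨eS⟩ : Nonempty (L ⧸ Cfsg.pCore 2 L ≃* Equiv.Perm (Fin 3)) := by
    refine CfsgLib.J4FiveGen.perm_three_of_six h6 (a := (pb : L ⧸ Cfsg.pCore 2 L))
      (b := (xb : L ⧸ Cfsg.pCore 2 L)) ?_ ?_
    · rw [← QuotientGroup.mk_pow, hpb3]; rfl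
    · intro e
      refine hppQ (CfsgLib.Solvable.isPGroup_pCore 2) ?_
      rw [← hcom, ← QuotientGroup.eq_one_iff]
      simp only [QuotientGroup.mk_mul, QuotientGroup.mk_inv]
      rw [e, mul_inv_cancel_right, mul_inv_cancel]
  have hpbo : orderOf pb = 3 := orderOf_eq_prime hpb3 hpbne
  have hPL : Nat.card (zpowers pb) = 3 := by rw [Nat.card_zpowers, hpbo]
  have hidxP : (zpowers pb).index = 64 := by
    have := (zpowers pb).card_mul_index
    rw [hPL, hLcard] at this
    omega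
  let X3 : Sylow 3 L := (IsPGroup.of_card (p := 3) (n := 1) (by rw [hPL, pow_one])).toSylow
    (by rw [hidxP]; norm_num)
  have hsDb : s ∈ Db := himg (show ((⟨z, hCm.2 hzf⟩ : ↥Cf) : G) ∈ D from ⟨z_mem_E hJ, hCm.2 hzf⟩)
  have hCQX : Db ⊓ centralizer (((X3 : Subgroup L).map L.subtype : Subgroup (↥Cf ⧸ zf)) : Set (↥Cf ⧸ zf)) =
      zpowers s := by
    have hX3 : (X3 : Subgroup L).map L.subtype = zpowers (π ⟨p, hCm.2 hpf⟩) := by
      show (zpowers pb).map L.subtype = _
      rw [MonoidHom.map_zpowers]; rfl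
    rw [hX3, CfsgLib.J4Five.centralizer_zpowers]
    refine le_antisymm ?_ (zpowers_le.2 ⟨hsDb, mem_centralizer_singleton_iff.2 ?_⟩)
    · rintro _ ⟨⟨d, hd, rfl⟩, hdc⟩
      obtain ⟨i, hi⟩ := (hπeq _ _).1 (show π (d * ⟨p, hCm.2 hpf⟩) = π (⟨p, hCm.2 hpf⟩ * d) by
        rw [map_mul, map_mul]; exact mem_centralizer_singleton_iff.1 hdc)
      have hi' : p * (d : G) = d * p * f ^ i := hi
      have h1 : f ^ i = p⁻¹ * (d : G)⁻¹ * p * d := by
        calc f ^ i = p⁻¹ * (d : G)⁻¹ * ((d : G) * p * f ^ i) := by group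
          _ = _ := by rw [← hi']; group
      have hm : p⁻¹ * (d : G)⁻¹ * p * d ∈ cE z := by
        refine mul_mem ?_ hd.1
        have := (mem_normalizer_iff.1 (H_le_normalizer_E (inv_mem hpC.1)) (d : G)⁻¹).1 (inv_mem hd.1)
        rwa [inv_inv] at this
      have hfi1 : f ^ i = 1 :=
        hDf (d := f ^ i) ⟨h1 ▸ hm, hzpC (zpow_mem (mem_zpowers f) i)⟩ i rfl
      rw [hfi1, mul_one] at hi'
      have hdz : (d : G) ∈ zpowers z := E_inf_centralizer hJ ▸ ⟨hd.1, hPcent hi'.symm⟩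
      rcases (CfsgLib.J4Twist.mem_zpowers_z hJ).1 hdz with h | h
      · rw [show d = 1 from Subtype.ext h, map_one]; exact one_mem _
      · rw [show d = ⟨z, hCm.2 hzf⟩ from Subtype.ext h]; exact mem_zpowers _
    · rw [hsdef, ← map_mul, ← map_mul]
      exact congrArg π (Subtype.ext (mem_cH.1 hpC.1).symm)
  -- fusion
  have hfus : ∃ g : ↥Cf ⧸ zf, g * s * g⁻¹ ∈ Db ∧ g * s * g⁻¹ ≠ s := by
    obtain ⟨g₀, hgE, hgne⟩ := exists_fused hG hJ
    set u := g₀ * z * g₀⁻¹ with hu
    have hu2 : u * u = 1 := by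
      calc u * u = g₀ * (z * z) * g₀⁻¹ := by rw [hu]; group
        _ = 1 := by rw [hzz, mul_one, mul_inv_cancel]
    have hu1 : u ≠ 1 := fun e => CfsgLib.J4Local.z_one_ne hJ (conj_eq_one_iff.1 e)
    obtain ⟨c, hc, hcu⟩ := CfsgLib.J4Five.exists_fixed_five hJ
      (fun d hd hdo => E_inf_centralizer_seven hJ hd hdo) hf ho hgE hu2 hu1 hgne
    set g := c * g₀ with hg
    set v := g * z * g⁻¹ with hv
    have hv' : v = c * u * c⁻¹ := by rw [hv, hu, hg]; group
    have hvE : v ∈ cE z := by rw [hv']; exact (mem_normalizer_iff.1 (H_le_normalizer_E hc.1) u).1 hgE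
    have hvf : v * f = f * v := by rw [hv']; exact hcu
    have hvz : v ≠ z := fun e => hgne (by
      have e2 : u = c⁻¹ * v * c := by rw [hv']; group
      rw [e2, e, mul_assoc, ← mem_cH.1 hc.1, inv_mul_cancel_left])
    have hf' : g⁻¹ * f * g ∈ cH z := mem_cH.2 (by
      calc g⁻¹ * f * g * z = g⁻¹ * (f * v) * g := by rw [hv]; group
        _ = g⁻¹ * (v * f) * g := by rw [hvf]
        _ = z * (g⁻¹ * f * g) := by rw [hv]; group)
    have hS5 : ∀ y : cH z, orderOf y = 5 → Nat.card (zpowers y) = 5 ^ (Nat.card (cH z)).factorization 5 := by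
      intro y hy
      have hn : cA z P ≤ normalizer (cE z : Set G) := (inf_le_left : cA z P ≤ cH z).trans H_le_normalizer_E
      have hd := CfsgLib.Solvable.card_sup_dvd hn
      rw [← H_eq hJ, card_A hJ, card_E hJ] at hd
      have hk : (Nat.card (cH z)).factorization 5 = 1 := by
        refine le_antisymm ?_ ?_
        · have h1 := (Nat.factorization_le_iff_dvd (Nat.card_pos.ne') (by norm_num)).2 hd 5
          refine h1.trans (le_of_eq ?_)
          rw [show (6 * 887040 * 2 ^ 13 : ℕ) = 5 ^ 1 * 8719958016 from by norm_num,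
            Nat.factorization_mul (by norm_num) (by norm_num), Finsupp.add_apply,
            (Fact.out : Nat.Prime 5).factorization_pow, Finsupp.single_eq_same,
            Nat.factorization_eq_zero_of_not_dvd (by norm_num), add_zero]
        · exact ((Fact.out : Nat.Prime 5).dvd_iff_one_le_factorization Nat.card_pos.ne').1
            (hy ▸ orderOf_dvd_natCard y)
      rw [hk, pow_one, Nat.card_zpowers, hy]
    let y₁ : cH z := ⟨f, hf.1⟩
    let y₂ : cH z := ⟨g⁻¹ * f * g, hf'⟩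
    have hy₁ : orderOf y₁ = 5 := by rw [Subgroup.orderOf_mk, ho]
    have hy₂ : orderOf y₂ = 5 := by
      rw [Subgroup.orderOf_mk, ← ho]
      have := MulEquiv.orderOf_eq (MulAut.conj g⁻¹) f
      simpa [MulAut.conj_apply] using this
    obtain ⟨h, hh⟩ := MulAction.exists_smul_eq (cH z) (Sylow.ofCard (zpowers y₁) (hS5 _ hy₁))
      (Sylow.ofCard (zpowers y₂) (hS5 _ hy₂))
    have hmem : y₂ ∈ ((Sylow.ofCard (zpowers y₂) (hS5 _ hy₂) : Sylow 5 _) : Subgroup _) := mem_zpowers _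
    rw [← hh] at hmem
    obtain ⟨w, hw, e⟩ := hmem
    obtain ⟨j, rfl⟩ := (mem_powers_iff_mem_zpowers.2 hw : w ∈ Submonoid.powers y₁)
    have e' : (h : G) * f ^ j * (h : G)⁻¹ = g⁻¹ * f * g := by
      have := congrArg Subtype.val e
      simpa using this
    set k := g * (h : G) with hk
    have hkz : k * z * k⁻¹ = v := by
      calc k * z * k⁻¹ = g * ((h : G) * z * (h : G)⁻¹) * g⁻¹ := by rw [hk]; group
        _ = v := by rw [mem_cH.1 h.2, mul_inv_cancel_right]
    have hkf : k * f ^ j * k⁻¹ = f := by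
      calc k * f ^ j * k⁻¹ = g * ((h : G) * f ^ j * (h : G)⁻¹) * g⁻¹ := by rw [hk]; group
        _ = f := by rw [e']; group
    obtain ⟨n, hn, -, hnf⟩ := exists_square hJ hf ho
    have hnpow : ∀ t : ℕ, n ^ t * f * (n ^ t)⁻¹ = f ^ (2 ^ t) := by
      intro t
      induction t with
      | zero => simp
      | succ t ih =>
        calc n ^ (t + 1) * f * (n ^ (t + 1))⁻¹ = n * (n ^ t * f * (n ^ t)⁻¹) * n⁻¹ := by rw [pow_succ']; group
          _ = (n * f * n⁻¹) ^ (2 ^ t) := by rw [ih, conj_pow]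
          _ = _ := by rw [hnf, ← pow_mul, ← pow_succ']
    obtain ⟨t, ht⟩ : ∃ t : ℕ, n ^ t * f * (n ^ t)⁻¹ = f ^ j := by
      have key : ∀ t, 2 ^ t % 5 = j % 5 → ∃ t : ℕ, n ^ t * f * (n ^ t)⁻¹ = f ^ j := fun t ht =>
        ⟨t, by rw [hnpow, ← pow_mod_orderOf f (2 ^ t), ho, ht, ← ho, pow_mod_orderOf]⟩
      rcases (show j % 5 = 0 ∨ j % 5 = 1 ∨ j % 5 = 2 ∨ j % 5 = 3 ∨ j % 5 = 4 by omega) with
        h5 | h5 | h5 | h5 | h5
      · exfalso
        rw [← pow_mod_orderOf, ho, h5, pow_zero, mul_one, mul_inv_cancel] at hkf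
        rw [← hkf, orderOf_one] at ho
        norm_num at ho
      · exact key 0 (by rw [h5]; rfl)
      · exact key 1 (by rw [h5]; rfl)
      · exact key 3 (by rw [h5]; rfl)
      · exact key 2 (by rw [h5]; rfl)
    set m := k * n ^ t with hm
    have hmz : m * z * m⁻¹ = v := by
      calc m * z * m⁻¹ = k * (n ^ t * z * (n ^ t)⁻¹) * k⁻¹ := by rw [hm]; group
        _ = v := by rw [mem_cH.1 (pow_mem hn t).1, mul_inv_cancel_right, hkz]
    have hmf : m * f = f * m := mul_inv_eq_iff_eq_mul.1 (by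
      calc m * f * m⁻¹ = k * (n ^ t * f * (n ^ t)⁻¹) * k⁻¹ := by rw [hm]; group
        _ = f := by rw [ht, hkf])
    refine ⟨π ⟨m, hCm.2 hmf⟩, ?_, ?_⟩
    · rw [hsdef, ← map_inv, ← map_mul, ← map_mul]
      refine himg ?_
      show m * z * m⁻¹ ∈ D
      rw [hmz]; exact ⟨hvE, hCm.2 hvf⟩
    · rw [hsdef, ← map_inv, ← map_mul, ← map_mul]
      intro e1
      have := hinjD (c := ⟨m, hCm.2 hmf⟩ * ⟨z, hCm.2 hzf⟩ * ⟨m, hCm.2 hmf⟩⁻¹) (d := ⟨z, hCm.2 hzf⟩)
        (by show m * z * m⁻¹ ∈ D; rw [hmz]; exact ⟨hvE, hCm.2 hvf⟩) ⟨z_mem_E hJ, hCm.2 hzf⟩ e1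
      exact hvz (hmz ▸ congrArg Subtype.val this)
  -- the classification
  have hQeq : Db = (Cfsg.pCore 2 L).map L.subtype := by
    rw [hOeq, Subgroup.map_subgroupOf_eq_of_le hDbL]
  have h9 : ¬ 9 ∣ Nat.card (↥Cf ⧸ zf) := by
    intro h
    set pX : ↥Cf ⧸ zf := π ⟨p, hCm.2 hpf⟩ with hpX
    have hpX3 : Nat.card (zpowers pX) = 3 ^ 1 := by
      rw [pow_one, Nat.card_zpowers, show pX = (pb : ↥Cf ⧸ zf) from rfl, Subgroup.orderOf_coe, hpbo]
    obtain ⟨K, hK, hle⟩ := Sylow.exists_subgroup_card_pow_succ (n := 1) h hpX3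
    have hcK : K ≤ centralizer ({pX} : Set (↥Cf ⧸ zf)) := fun y hy => mem_centralizer_singleton_iff.2 (congrArg Subtype.val
      (IsPGroup.commutative_of_card_eq_prime_sq (p := 3) (by rw [hK]) (⟨y, hy⟩ : K) ⟨pX, hle (mem_zpowers pX)⟩))
    have hCle : centralizer ({pX} : Set (↥Cf ⧸ zf)) ≤ img (cC z P ⊓ Cf) := by
      intro y hy
      obtain ⟨c, rfl⟩ := QuotientGroup.mk'_surjective zf y
      obtain ⟨i, hi⟩ := (hπeq _ _).1 (show π (c * ⟨p, hCm.2 hpf⟩) = π (⟨p, hCm.2 hpf⟩ * c) by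
        rw [map_mul, map_mul]; exact mem_centralizer_singleton_iff.1 hy)
      have hi' : p * (c : G) = c * p * f ^ i := hi
      have h1 : (c : G)⁻¹ * p * c = p * f ^ i := by rw [mul_assoc, hi', mul_assoc, inv_mul_cancel_left]
      have hpfi : Commute p (f ^ i) := (show Commute p f from hpf).zpow_right i
      have h3 : (f ^ i) ^ 3 = 1 := by
        have h4 : ((c : G)⁻¹ * p * c) ^ 3 = 1 := by
          calc _ = (c : G)⁻¹ * p ^ 3 * c := by
                simp only [pow_succ, pow_zero, one_mul, mul_assoc, mul_inv_cancel_left]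
            _ = 1 := by rw [hp3, mul_one, inv_mul_cancel]
        rw [h1, hpfi.mul_pow, hp3, one_mul] at h4
        exact h4
      rw [hfi (Or.inr h3), mul_one] at hi'
      have hcP := hPcent hi'.symm
      exact himg ⟨⟨hnorm (centralizer_le_normalizer _ hcP), hcP⟩, c.2⟩
    have h30 : Nat.card ↥(cC z P ⊓ Cf) = 30 := card_CC hJ hf ho
    have h6' := hcardimg (cC z P ⊓ Cf) inf_le_right ⟨hf, hfCf⟩
    have hd := Subgroup.card_dvd_of_le (hcK.trans hCle)
    rw [hK] at hd
    rw [h30] at h6'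
    rw [show Nat.card (img (cC z P ⊓ Cf)) = 6 by omega] at hd
    norm_num at hd
  rcases Cfsg.Agent.S3344.result s hs2 L rfl Db hQeq hDbex hDb32 eS X3 hCQX hfus with
    hN | hA8 | hA9 | hM12
  rotate_left
  · obtain ⟨e⟩ := hA8
    exact absurd (by rw [Nat.card_congr e.toEquiv, nat_card_alternatingGroup, Nat.card_fin]; decide) h9
  · obtain ⟨e⟩ := hA9
    exact absurd (by rw [Nat.card_congr e.toEquiv, nat_card_alternatingGroup, Nat.card_fin]; decide) h9
  · obtain ⟨e⟩ := hM12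
    exact absurd (by rw [Nat.card_congr e.toEquiv, CfsgLib.Golay.SylowCert.card_M12]; norm_num) h9
  obtain ⟨N, hNn, hNc, hNexp, hN8, ⟨eN⟩⟩ := hN
  obtain ⟨ePS⟩ := CfsgLib.J4FiveGen.psl_iso
  have hX : Nat.card (↥Cf ⧸ zf) = 1344 := by
    rw [N.card_eq_card_quotient_mul_card_subgroup, Nat.card_congr (eN.trans ePS).toEquiv,
      CfsgLib.J4FiveGen.card_SL32, hN8]
  have hCfc : Nat.card Cf = 6720 := by
    rw [zf.card_eq_card_quotient_mul_card_subgroup, hX, hzf5]
  -- no element of order four outside: the extension is not split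
  have hns : ∀ K : Subgroup (↥Cf ⧸ zf), ¬ N.IsComplement' K := by
    intro K hK
    set b := p * a * p⁻¹ with hb
    set b' := p * b * p⁻¹ with hb'
    have hbE : b ∈ cE z := (mem_normalizer_iff.1 (H_le_normalizer_E hpC.1) a).1 haE
    have hb'E : b' ∈ cE z := (mem_normalizer_iff.1 (H_le_normalizer_E hpC.1) b).1 hbE
    have hbf : b * f = f * b := by
      have hpi : p⁻¹ * f = f * p⁻¹ := (show Commute p f from hpf).inv_left.eq
      calc b * f = p * a * (p⁻¹ * f) := by rw [hb]; group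
        _ = p * (a * f) * p⁻¹ := by rw [hpi]; group
        _ = p * f * a * p⁻¹ := by rw [haf]; group
        _ = f * (p * a * p⁻¹) := by rw [hpf]; group
        _ = f * b := by rw [hb]
    have hb'p : p * b' * p⁻¹ = a := by
      rw [hb', hb, show p * (p * (p * a * p⁻¹) * p⁻¹) * p⁻¹ = p ^ 3 * a * (p ^ 3)⁻¹ by
        simp only [pow_succ, pow_zero, one_mul, mul_inv_rev, mul_assoc], hp3]
      group
    -- the product over the orbit is central
    have hy : a * (b * b') ∈ zpowers z := by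
      set y := a * (b * b') with hy
      have hyE : y ∈ cE z := mul_mem haE (mul_mem hbE hb'E)
      have hconj : p * y * p⁻¹ = y * ⁅y⁻¹, a⁻¹⁆ := by
        have e1 : p * y * p⁻¹ = b * b' * a := by
          calc p * y * p⁻¹ = (p * a * p⁻¹) * (p * b * p⁻¹) * (p * b' * p⁻¹) := by rw [hy]; group
            _ = _ := by rw [← hb, ← hb', hb'p]
        rw [e1, hy, commutatorElement_def]
        group
      have hc2 := CfsgLib.J4Five.comm_mem_zpowers hJ (inv_mem hyE) (inv_mem haE)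
      rw [← E_inf_centralizer hJ]
      refine ⟨hyE, hPcent ?_⟩
      have hc2' : ⁅y⁻¹, a⁻¹⁆ ^ 2 = 1 := by
        rcases hc2 with h | h <;> rw [h]
        exacts [one_pow 2, by rw [pow_two, hzz]]
      have hit : ∀ t : ℕ, p ^ t * y * (p ^ t)⁻¹ = y * ⁅y⁻¹, a⁻¹⁆ ^ t := by
        intro t
        induction t with
        | zero => simp
        | succ t ih =>
          have hcp := CfsgLib.J4Twist.z_comm (pow_mem ((CfsgLib.J4Twist.mem_zpowers_z hJ).2 hc2) t) (inv_mem hpC.1)
          calc p ^ (t + 1) * y * (p ^ (t + 1))⁻¹ = p * (p ^ t * y * (p ^ t)⁻¹) * p⁻¹ := by rw [pow_succ']; group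
            _ = p * y * (⁅y⁻¹, a⁻¹⁆ ^ t * p⁻¹) := by rw [ih]; group
            _ = p * y * p⁻¹ * ⁅y⁻¹, a⁻¹⁆ ^ t := by rw [hcp]; group
            _ = _ := by rw [hconj, mul_assoc, ← pow_succ']
      have h3 := hit 3
      rw [hp3, one_mul, inv_one, mul_one, left_eq_mul, pow_succ, hc2', one_mul] at h3
      rw [h3, mul_one] at hconj
      exact (mul_inv_eq_iff_eq_mul.1 hconj).symm
    set q : ↥Cf := ⟨b, hCm.2 hbf⟩ with hq
    set x' : ↥Cf := ⟨x, hCm.2 hxf⟩ with hx'
    -- the square of `b * x`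
    obtain ⟨w, hw, i, hsq⟩ : ∃ w ∈ zpowers z, ∃ i : ℤ, b * x * (b * x) = a * w * f ^ i := by
      have hxb : ∃ w₀ ∈ zpowers z, x * b * x⁻¹ = b' * w₀ := by
        have hp2 : p⁻¹ = p * p := inv_eq_of_mul_eq_one_right (by rw [← hp3]; simp only [pow_succ, pow_zero, one_mul, mul_assoc])
        have e : x * b * x⁻¹ = (x * p * x⁻¹) * (x * a * x⁻¹) * (x * p * x⁻¹)⁻¹ := by rw [hb]; group
        rw [e, hxp, inv_inv]
        have eb : p⁻¹ * a * p = b' := by
          calc p⁻¹ * a * p = p * p * a * (p * p)⁻¹ := by rw [← hp2, inv_inv]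
            _ = b' := by rw [hb', hb]; group
        rcases hxa with h | h <;> rw [h]
        · exact ⟨1, one_mem _, by rw [mul_one, eb]⟩
        · refine ⟨z, mem_zpowers z, ?_⟩
          rw [show p⁻¹ * (a * z) * p = p⁻¹ * a * (z * p) by group, ← mem_cH.1 hpC.1,
            ← mul_assoc, eb]
      obtain ⟨w₀, hw₀, hxb⟩ := hxb
      have hxx : ∃ w₁ ∈ zpowers z, ∃ i : ℤ, x * x = w₁ * f ^ i := by
        have hxxC : x * x ∈ cC z P ⊓ Cf := by
          refine ⟨⟨mul_mem hx.1 hx.1, hPcent (mul_inv_eq_iff_eq_mul.1 ?_)⟩, mul_mem (hCm.2 hxf) (hCm.2 hxf)⟩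
          calc x * x * p * (x * x)⁻¹ = x * (x * p * x⁻¹) * x⁻¹ := by group
            _ = (x * p * x⁻¹)⁻¹ := by rw [hxp, ← conj_inv, hxp]
            _ = p := by rw [hxp, inv_inv]
        obtain ⟨φ, hmul, hkerφ, hpow, hinv, -⟩ := exists_map hJ
        have hm : φ (x * x) ∈ centralizer ({φ f} : Set ↥Cfsg.Spor.M22) := mem_centralizer_singleton_iff.2 (by
          rw [← hmul _ hxxC.1 f hf, mem_centralizer_singleton_iff.1 hxxC.2, hmul f hf _ hxxC.1])
        rw [CfsgLib.J4M22.centralizer_eq_zpowers (Or.inl (map_orderOf hJ hkerφ hpow hf ho))] at hm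
        haveI : Finite ↥Cfsg.Spor.M22 := Nat.finite_of_card_ne_zero (by rw [CfsgLib.J4M22.card_M]; norm_num)
        obtain ⟨t, ht⟩ := (mem_powers_iff_mem_zpowers.2 hm : φ (x * x) ∈ Submonoid.powers (φ f))
        have ht : φ f ^ t = φ (x * x) := ht
        obtain ⟨kk, hkk, e⟩ := eq_mul_of_map_eq hJ hmul hkerφ hinv hxxC.1 (pow_mem hf t) (by rw [← ht, hpow f hf])
        obtain ⟨e₁, q₁, he₁, hq₁, rfl, -, -, -⟩ := mem_K hJ hkk
        -- the part in `P` is inverted and fixed by `x`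
        have hxq : x * q₁ * x⁻¹ = q₁⁻¹ := by
          rw [← hzP] at hq₁
          obtain ⟨j, rfl⟩ := mem_zpowers_iff.1 hq₁
          rw [← conj_zpow, hxp, inv_zpow]
        have hxe : x * e₁ * x⁻¹ = e₁ := by
          rw [← CfsgLib.J4Twist.z_comm ((CfsgLib.J4Twist.mem_zpowers_z hJ).2 he₁) hx.1, mul_inv_cancel_right]
        have hxft : x * f ^ t * x⁻¹ = f ^ t := by
          rw [((show Commute x f from hxf).pow_right t).eq, mul_inv_cancel_right]
        have h : q₁⁻¹ = q₁ := by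
          have h' : f ^ t * (e₁ * q₁⁻¹) = f ^ t * (e₁ * q₁) := by
            calc f ^ t * (e₁ * q₁⁻¹) = (x * f ^ t * x⁻¹) * ((x * e₁ * x⁻¹) * (x * q₁ * x⁻¹)) := by
                  rw [hxft, hxe, hxq]
              _ = x * (f ^ t * (e₁ * q₁)) * x⁻¹ := by group
              _ = x * (x * x) * x⁻¹ := by rw [← e]
              _ = x * x := by group
              _ = _ := e
          exact mul_left_cancel (mul_left_cancel h')
        have hq1 : q₁ = 1 := by
          have h2 : q₁ * q₁ = 1 := by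
            conv_lhs => arg 1; rw [← h]
            exact inv_mul_cancel q₁
          have h3 : q₁ ^ 3 = 1 := by
            rw [← card_P hJ]
            exact congrArg Subtype.val (pow_card_eq_one' (G := P) (x := ⟨q₁, hq₁⟩))
          simpa [pow_succ, h2] using h3
        refine ⟨e₁, (CfsgLib.J4Twist.mem_zpowers_z hJ).2 he₁, (t : ℤ), ?_⟩
        rw [e, hq1, mul_one, zpow_natCast]
        exact (CfsgLib.J4Twist.z_comm ((CfsgLib.J4Twist.mem_zpowers_z hJ).2 he₁) (pow_mem hf t).1).symm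
      obtain ⟨w₁, hw₁, i, hxx⟩ := hxx
      set w₂ := a * (b * b') with hw₂
      have hainv : a⁻¹ = a * z := by
        refine inv_eq_of_mul_eq_one_right ?_
        rw [← mul_assoc, ha2, hzz]
      refine ⟨z * w₂ * (w₀ * w₁), mul_mem (mul_mem (mem_zpowers z) hy) (mul_mem hw₀ hw₁), i, ?_⟩
      calc b * x * (b * x) = b * (x * b * x⁻¹) * (x * x) := by group
        _ = b * b' * (w₀ * w₁) * f ^ i := by rw [hxb, hxx]; simp only [mul_assoc]
        _ = a * (z * w₂ * (w₀ * w₁)) * f ^ i := by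
          rw [show b * b' = a⁻¹ * w₂ by rw [hw₂, inv_mul_cancel_left], hainv]
          simp only [mul_assoc]
    -- so its image has order eight
    set g := π (q * x') with hg
    have hg2 : g ^ 2 = π ⟨a * w, mul_mem (hCm.2 haf) (hCm.2 (CfsgLib.J4Twist.z_comm hw hf.1))⟩ := by
      rw [hg, ← map_pow]
      refine ((hπeq _ _).2 ⟨i, ?_⟩).symm
      rw [Subgroup.coe_pow, Subgroup.coe_mul, pow_two]
      exact hsq
    have hg4 : g ^ 4 = s := by
      rw [show 4 = 2 * 2 from rfl, pow_mul, hg2, ← map_pow, hsdef]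
      refine congrArg π (Subtype.ext ?_)
      rw [Subgroup.coe_pow]
      show (a * w) ^ 2 = z
      have haw : w * a = a * w := CfsgLib.J4Twist.z_comm hw (E_le_H haE)
      have hww : w * w = 1 := by
        rcases (CfsgLib.J4Twist.mem_zpowers_z hJ).1 hw with h | h <;> rw [h]
        exacts [one_mul 1, hzz]
      calc (a * w) ^ 2 = a * (w * a) * w := by rw [pow_two]; simp only [mul_assoc]
        _ = a * a * (w * w) := by rw [haw]; simp only [mul_assoc]
        _ = z := by rw [ha2, hww, mul_one]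
    have hg8 : g ^ 8 = 1 := by rw [show 8 = 4 * 2 from rfl, pow_mul, hg4, ← hs2, pow_orderOf_eq_one]
    have := CfsgLib.J4FiveGen.pow_four_of_split N K hNc hNexp hN8 ⟨eN.trans ePS⟩ hK hg8
    rw [hg4] at this
    exact hs1 this
  refine ⟨?_, ?_, ?_, ?_⟩
  · intro h25
    obtain ⟨K, hK, hle⟩ := Sylow.exists_subgroup_card_pow_succ (p := 5) (n := 1) (H := zpowers f) h25
      (by rw [Nat.card_zpowers, ho, pow_one])
    have hKC : K ≤ Cf := fun y hy => hCm.2 (congrArg Subtype.val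
      (IsPGroup.commutative_of_card_eq_prime_sq (p := 5) (by rw [hK]) (⟨y, hy⟩ : K) ⟨f, hle (mem_zpowers f)⟩))
    have hd := Subgroup.card_dvd_of_le hKC
    rw [hK, hCfc] at hd
    norm_num at hd
  · obtain ⟨J₀, hJ₀⟩ := Subgroup.exists_right_complement'_of_coprime (N := zf) (by
      rw [hzf5, show zf.index = 1344 by rw [Subgroup.index_eq_card, hX]]; norm_num)
    refine ⟨J₀.map Cf.subtype, ⟨hzpC, map_subtype_le _, ?_, ?_, ?_⟩, ?_⟩
    · rintro u hu _ ⟨v, -, rfl⟩
      obtain ⟨i, rfl⟩ := mem_zpowers_iff.1 hu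
      exact ((show Commute (v : G) f from hCm.1 v.2).zpow_right i).symm.eq
    · rw [eq_bot_iff]
      rintro _ ⟨hu, v, hv, rfl⟩
      have : v ∈ (⊥ : Subgroup ↥Cf) := hJ₀.disjoint.eq_bot ▸ ⟨hu, hv⟩
      rw [mem_bot] at this
      rw [this]; exact one_mem _
    · have := congrArg (Subgroup.map Cf.subtype) hJ₀.sup_eq_top
      rwa [Subgroup.map_sup, Subgroup.map_subgroupOf_eq_of_le hzpC, ← MonoidHom.range_eq_map,
        Subgroup.range_subtype] at this
    · let ι : ↥(J₀.map Cf.subtype) ≃* ↥Cf ⧸ zf :=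
        (J₀.equivMapOfInjective _ Cf.subtype_injective).symm.trans hJ₀.symm.QuotientMulEquiv.symm
      refine ⟨N.comap ι.toMonoidHom, hNn.comap _, ⟨?_, ?_⟩, ?_, ?_, ?_⟩
      · refine ⟨⟨fun u v => Subtype.ext (ι.injective ?_)⟩⟩
        rw [Subgroup.coe_mul, Subgroup.coe_mul, map_mul, map_mul]
        exact congrArg Subtype.val (hNc.is_comm.comm (⟨ι u, u.2⟩ : N) ⟨ι v, v.2⟩)
      · intro u hu
        apply ι.injective
        rw [map_pow, map_one]
        exact hNexp _ hu
      · rw [← hN8]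
        exact Nat.card_congr
          { toFun := fun u => ⟨ι u, u.2⟩
            invFun := fun u => ⟨ι.symm u, by
              show ι (ι.symm u) ∈ N
              rw [ι.apply_symm_apply]; exact u.2⟩
            left_inv := fun u => Subtype.ext (ι.symm_apply_apply _)
            right_inv := fun u => Subtype.ext (ι.apply_symm_apply _) }
      · haveI : (N.comap ι.toMonoidHom).Normal := hNn.comap _
        exact ⟨(QuotientGroup.congr (N.comap ι.toMonoidHom) N ι
          (Subgroup.map_comap_eq_self_of_surjective ι.surjective N)).trans (eN.trans ePS)⟩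
      · intro K hK
        refine hns (K.map ι.toMonoidHom) (Subgroup.isComplement'_of_card_mul_and_disjoint ?_ ?_)
        · rw [Subgroup.card_map_of_injective ι.injective, ← Nat.card_congr ι.toEquiv, ← hK.card_mul_card]
          congr 1
          exact Nat.card_congr
            { toFun := fun u => ⟨ι.symm u, by
                show ι (ι.symm u) ∈ N
                rw [ι.apply_symm_apply]; exact u.2⟩
              invFun := fun u => ⟨ι u, u.2⟩
              left_inv := fun u => Subtype.ext (ι.apply_symm_apply _)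
              right_inv := fun u => Subtype.ext (ι.symm_apply_apply _) }
        · rw [disjoint_iff, eq_bot_iff]
          rintro _ ⟨hu, v, hv, rfl⟩
          have : v ∈ (⊥ : Subgroup ↥(J₀.map Cf.subtype)) := hK.disjoint.eq_bot ▸ ⟨hu, hv⟩
          rw [mem_bot] at this
          rw [this, map_one]; exact one_mem _
  all_goals obtain ⟨n, hn, hn4, hnf⟩ := exists_square hJ hf ho
  all_goals
    have hn2 : n ^ 2 * f * (n ^ 2)⁻¹ = f ^ 4 := by
      calc n ^ 2 * f * (n ^ 2)⁻¹ = n * (n * f * n⁻¹) * n⁻¹ := by rw [pow_two]; group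
        _ = (n * f * n⁻¹) ^ 2 := by rw [conj_pow, hnf]
        _ = f ^ 4 := by rw [hnf, ← pow_mul]
  all_goals
    have hnN : n ∈ normalizer ((zpowers f : Subgroup G) : Set G) := by
      refine mem_normalizer_iff_map_conj_eq.2 (Subgroup.eq_of_le_of_card_ge ?_ ?_)
      · rw [MonoidHom.map_zpowers]
        exact zpowers_le.2 (show n * f * n⁻¹ ∈ zpowers f by rw [hnf]; exact pow_mem (mem_zpowers f) 2)
      · rw [Subgroup.card_map_of_injective (MulAut.conj n).injective]
  all_goals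
    have hno : orderOf n = 4 := by
      refine orderOf_eq_prime_pow (p := 2) (n := 1) (fun e => ?_) hn4
      rw [pow_one] at e
      rw [e, one_mul, inv_one, mul_one, pow_succ, right_eq_mul] at hn2
      have := orderOf_dvd_of_pow_eq_one hn2
      rw [ho] at this
      norm_num at this
  · have hle : zpowers n ≤ normalizer ((zpowers f : Subgroup G) : Set G) := zpowers_le.2 hnN
    refine ⟨zpowers n ⊔ zpowers f, le_sup_right, sup_le hle le_normalizer, ?_, ?_⟩
    · rw [CfsgLib.Solvable.card_sup_of_disjoint hle (Subgroup.inf_eq_bot_of_coprime (by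
        rw [Nat.card_zpowers, Nat.card_zpowers, hno, ho]; norm_num)), Nat.card_zpowers, Nat.card_zpowers, hno, ho]
    · refine le_antisymm ?_ (le_inf le_sup_right hzpC)
      rintro r ⟨hr, hrC⟩
      obtain ⟨u, hu, v, hv, rfl⟩ := (CfsgLib.Solvable.mem_sup_of_le_normalizer hle).1 hr
      refine mul_mem ?_ hv
      obtain ⟨t, rfl⟩ := (mem_powers_iff_mem_zpowers.2 hu : u ∈ Submonoid.powers n)
      have htc : n ^ t * f * (n ^ t)⁻¹ = f := by
        have h1 : n ^ t ∈ Cf := by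
          have hvi : v⁻¹ ∈ Cf := inv_mem (hzpC hv)
          have := mul_mem (show n ^ t * v ∈ Cf from hrC) hvi
          rwa [mul_inv_cancel_right] at this
        rw [hCm.1 h1, mul_inv_cancel_right]
      have ht4 : t % 4 = 0 := by
        by_contra hne
        have e : n ^ t = n ^ (t % 4) := by rw [← hno, pow_mod_orderOf]
        rw [e] at htc
        have hf1 : f ^ 1 = f := pow_one f
        rcases (show t % 4 = 1 ∨ t % 4 = 2 ∨ t % 4 = 3 by omega) with h | h | h <;> rw [h] at htc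
        · rw [pow_one, hnf] at htc
          have : (2 : ℕ) % 5 = 1 % 5 := ho ▸ pow_inj_mod.1 (htc.trans hf1.symm)
          norm_num at this
        · rw [hn2] at htc
          have : (4 : ℕ) % 5 = 1 % 5 := ho ▸ pow_inj_mod.1 (htc.trans hf1.symm)
          norm_num at this
        · have e3 : n ^ 3 * f * (n ^ 3)⁻¹ = f ^ 8 := by
            calc n ^ 3 * f * (n ^ 3)⁻¹ = n * (n ^ 2 * f * (n ^ 2)⁻¹) * n⁻¹ := by
                  simp only [pow_succ, pow_zero, one_mul, mul_inv_rev, mul_assoc]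
              _ = (n * f * n⁻¹) ^ 4 := by rw [hn2, conj_pow]
              _ = f ^ 8 := by rw [hnf, ← pow_mul]
          rw [e3] at htc
          have : (8 : ℕ) % 5 = 1 % 5 := ho ▸ pow_inj_mod.1 (htc.trans hf1.symm)
          norm_num at this
      show n ^ t ∈ zpowers f
      rw [← pow_mod_orderOf, hno, ht4, pow_zero]
      exact one_mem _
  · set Z := zpowers f with hZ
    have hk : Nat.card Z.normalizerMonoidHom.ker = 6720 := by
      rw [Subgroup.normalizerMonoidHom_ker,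
        Nat.card_congr (Subgroup.subgroupOfEquivOfLe (centralizer_le_normalizer _)).toEquiv,
        CfsgLib.J4Five.centralizer_zpowers, ← hCf, hCfc]
    have hr4 : Nat.card Z.normalizerMonoidHom.range = 4 := by
      have h4 : Nat.card (MulAut Z) = 4 := by rw [IsCyclic.card_mulAut, Nat.card_zpowers, ho]; decide
      refine Nat.dvd_antisymm (h4 ▸ Subgroup.card_subgroup_dvd_card _) ?_
      have hz4 : orderOf (Z.normalizerMonoidHom ⟨n, hnN⟩) = 4 := by
        refine orderOf_eq_prime_pow (p := 2) (n := 1) (fun e => ?_) ?_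
        · rw [pow_one, ← map_pow] at e
          have h' : n ^ 2 * f * (n ^ 2)⁻¹ = f :=
            congrArg (fun β : MulAut Z => ((β ⟨f, mem_zpowers f⟩ : Z) : G)) e
          rw [hn2] at h'
          have : (4 : ℕ) % 5 = 1 % 5 := ho ▸ pow_inj_mod.1 (h'.trans (pow_one f).symm)
          norm_num at this
        · rw [← map_pow, ← map_one Z.normalizerMonoidHom]
          exact congrArg _ (Subtype.ext hn4)
      rw [← hz4]
      exact Subgroup.orderOf_dvd_natCard _ ⟨⟨n, hnN⟩, rfl⟩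
    rw [Z.normalizerMonoidHom.ker.card_eq_card_quotient_mul_card_subgroup,
      Nat.card_congr (QuotientGroup.quotientKerEquivRange Z.normalizerMonoidHom).toEquiv, hk, hr4]
    norm_num

end CfsgLib.J4FiveLocal
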