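/-
Janko-four type: conjugating the subgroup `P`, and the local structure at any element of order five of `C(z)`.
-/
import Cfsg.Agent.J4Local.FiveMain
import Cfsg.Agent.S5563

set_option autoImplicit false
set_option linter.style.haveILetI false

namespace CfsgLib.J4FiveLocal

open Subgroup CfsgLib.J4Local

variable {G : Type*} [Group G] [Finite G] {z : G} {P : Subgroup G}

theorem centralizer_map_equiv (c : G ≃* G) (S : Subgroup G) :
    centralizer ((S.map c.toMonoidHom : Subgroup G) : Set G) = (centralizer (S : Set G)).map c.toMonoidHom := by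
  ext g
  constructor
  · intro hg
    refine ⟨c.symm g, mem_centralizer_iff.2 fun y hy => c.injective ?_, c.apply_symm_apply g⟩
    rw [map_mul, map_mul, c.apply_symm_apply]
    exact mem_centralizer_iff.1 hg (c y) ⟨y, hy, rfl⟩
  · rintro ⟨g, hg, rfl⟩
    refine mem_centralizer_iff.2 ?_
    rintro _ ⟨y, hy, rfl⟩
    rw [← map_mul, ← map_mul, mem_centralizer_iff.1 hg y hy]

theorem typeWith_conj (hJ : Cfsg.IsOfJankoFourTypeWith z P) {h : G} (hh : h ∈ cH z) :
    Cfsg.IsOfJankoFourTypeWith z (P.map (MulAut.conj h).toMonoidHom) := by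
  set c := (MulAut.conj h).toMonoidHom with hc
  have hfix : ∀ S : Subgroup G, h ∈ normalizer (S : Set G) → S.map c = S := fun S hS =>
    mem_normalizer_iff_map_conj_eq.1 hS
  have hinj : Function.Injective c := (MulAut.conj h).injective
  have hHfix : (cH z).map c = cH z := hfix _ (le_normalizer hh)
  have hzfix : (zpowers z).map c = zpowers z := by
    rw [MonoidHom.map_zpowers, show c z = h * z * h⁻¹ from rfl, mem_cH.1 hh, mul_inv_cancel_right]
  have hcent : centralizer ((P.map c : Subgroup G) : Set G) = (centralizer (P : Set G)).map c := by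
    exact centralizer_map_equiv (MulAut.conj h) P
  have hnorm : normalizer ((P.map c : Subgroup G) : Set G) = (normalizer (P : Set G)).map c :=
    (Subgroup.map_equiv_normalizer_eq P (MulAut.conj h)).symm
  obtain ⟨N, h1, h2, h3, h4, h5, h6⟩ := hJ.2.2.2.2.1
  refine ⟨hJ.1, hJ.2.1, hJ.2.2.1, hJ.2.2.2.1, ⟨N, h1, h2, h3, h4, h5, ?_⟩, ?_, ?_, ?_, ?_⟩
  · exact (Subgroup.map_mono h6).trans (hfix N (h3 hh)).le
  · rw [Subgroup.card_map_of_injective hinj, card_P hJ]
  · show cE z ⊓ centralizer ((P.map c : Subgroup G) : Set G) = zpowers z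
    conv_lhs => rw [← hfix (cE z) (H_le_normalizer_E hh), hcent, ← Subgroup.map_inf _ _ _ hinj]
    rw [E_inf_centralizer hJ, hzfix]
  · show cH z ⊓ normalizer ((P.map c : Subgroup G) : Set G) ≠ cH z ⊓ centralizer ((P.map c : Subgroup G) : Set G)
    rw [← hHfix, hcent, hnorm, ← Subgroup.map_inf _ _ _ hinj, ← Subgroup.map_inf _ _ _ hinj]
    exact fun e => A_ne_C hJ (Subgroup.map_injective hinj e)
  · show P.map c ≤ ⁅cH z ⊓ centralizer ((P.map c : Subgroup G) : Set G),
      cH z ⊓ centralizer ((P.map c : Subgroup G) : Set G)⁆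
    rw [← hHfix, hcent, ← Subgroup.map_inf _ _ _ hinj, ← Subgroup.map_commutator]
    exact Subgroup.map_mono (P_le_commutator hJ)

/-- The elements of order five of `C(z)` generate conjugate subgroups. -/
theorem exists_conj_five (hJ : Cfsg.IsOfJankoFourTypeWith z P) {f : G} (hf : f ∈ cH z) (ho : orderOf f = 5)
    (Q : Subgroup G) (hQ : Nat.card Q = 5) (hQH : Q ≤ cH z) :
    ∃ h ∈ cH z, Q = (zpowers f).map (MulAut.conj h).toMonoidHom := by
  haveI : Fact (Nat.Prime 5) := ⟨by norm_num⟩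
  have hn : cA z P ≤ normalizer (cE z : Set G) := (inf_le_left : cA z P ≤ cH z).trans H_le_normalizer_E
  have hd := CfsgLib.Solvable.card_sup_dvd hn
  rw [← H_eq hJ, card_A hJ, card_E hJ] at hd
  have h5 : 5 ∣ Nat.card (cH z) := by
    have := Subgroup.orderOf_dvd_natCard _ hf
    rwa [ho] at this
  have hk : (Nat.card (cH z)).factorization 5 = 1 := by
    refine le_antisymm ?_ (((Fact.out : Nat.Prime 5).dvd_iff_one_le_factorization Nat.card_pos.ne').1 h5)
    refine ((Nat.factorization_le_iff_dvd (Nat.card_pos.ne') (by norm_num)).2 hd 5).trans (le_of_eq ?_)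
    rw [show (6 * 887040 * 2 ^ 13 : ℕ) = 5 ^ 1 * 8719958016 from by norm_num,
      Nat.factorization_mul (by norm_num) (by norm_num), Finsupp.add_apply,
      (Fact.out : Nat.Prime 5).factorization_pow, Finsupp.single_eq_same,
      Nat.factorization_eq_zero_of_not_dvd (by norm_num), add_zero]
  have c1 : Nat.card ((zpowers f).subgroupOf (cH z)) = 5 ^ (Nat.card (cH z)).factorization 5 := by
    rw [hk, pow_one, Nat.card_congr (subgroupOfEquivOfLe (zpowers_le.2 hf)).toEquiv, Nat.card_zpowers, ho]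
  have c2 : Nat.card (Q.subgroupOf (cH z)) = 5 ^ (Nat.card (cH z)).factorization 5 := by
    rw [hk, pow_one, Nat.card_congr (subgroupOfEquivOfLe hQH).toEquiv, hQ]
  obtain ⟨h, hh⟩ := MulAction.exists_smul_eq (cH z) (Sylow.ofCard _ c1) (Sylow.ofCard _ c2)
  refine ⟨h, h.2, Subgroup.eq_of_le_of_card_ge (fun u hu => ?_) ?_⟩
  · have hmem : (⟨u, hQH hu⟩ : cH z) ∈ ((Sylow.ofCard _ c2 : Sylow 5 _) : Subgroup _) := hu
    rw [← hh] at hmem
    obtain ⟨w, hw, e⟩ := hmem
    exact ⟨w, hw, congrArg Subtype.val e⟩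
  · rw [Subgroup.card_map_of_injective (MulAut.conj (h : G)).injective, Nat.card_zpowers, ho, hQ]

theorem five_structure [IsSimpleGroup G] (hG : ¬ IsMulCommutative G) (hJ : Cfsg.IsOfJankoFourTypeWith z P)
    (Q : Subgroup G) (hQ : Nat.card Q = 5) (hQH : Q ≤ cH z) :
    ¬ (25 ∣ Nat.card G) ∧
    (∃ J : Subgroup G, Cfsg.IsInternalDirectProduct Q J (Subgroup.centralizer (Q : Set G)) ∧
      ∃ (E : Subgroup ↥J) (_ : E.Normal), Cfsg.IsElementaryAbelian 2 E ∧ Nat.card ↥E = 8 ∧
        Nonempty (↥J ⧸ E ≃* Matrix.SpecialLinearGroup (Fin 3) (ZMod 2)) ∧ ∀ K : Subgroup ↥J, ¬ E.IsComplement' K) ∧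
    (∃ R : Subgroup G, Q ≤ R ∧ R ≤ Subgroup.normalizer (Q : Set G) ∧ Nat.card ↥R = 20 ∧
      R ⊓ Subgroup.centralizer (Q : Set G) = Q) ∧
    Nat.card ↥(Subgroup.normalizer (Q : Set G)) = 2 ^ 8 * 3 * 5 * 7 := by
  obtain ⟨f, x, a, hf, ho, hx, hxC, hxf, ha, haf, ha2, hxa⟩ := CfsgLib.J4Twist.exists_twist hJ
  obtain ⟨h, hh, rfl⟩ := exists_conj_five hJ hf.1 ho Q hQ hQH
  set c := (MulAut.conj h).toMonoidHom with hc
  have hJ' := typeWith_conj hJ hh
  rw [MonoidHom.map_zpowers]
  have hzc : c z = z := by show h * z * h⁻¹ = z; rw [mem_cH.1 hh, mul_inv_cancel_right]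
  have hinj : Function.Injective c := (MulAut.conj h).injective
  have hHc : ∀ {g : G}, g ∈ cH z → c g ∈ cH z := fun {g} hg => mem_cH.2 (by
    have e := congrArg c (mem_cH.1 hg)
    rwa [map_mul, map_mul, hzc] at e)
  have hcentc : centralizer ((P.map c : Subgroup G) : Set G) = (centralizer (P : Set G)).map c := by
    exact centralizer_map_equiv (MulAut.conj h) P
  have hnormc : normalizer ((P.map c : Subgroup G) : Set G) = (normalizer (P : Set G)).map c :=
    (Subgroup.map_equiv_normalizer_eq P (MulAut.conj h)).symm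
  refine five_main hG hJ' (Cfsg.Agent.S5563.result hG z _ hJ').2.2.2.2 (f := c f) (x := c x) (a := c a)
    ⟨hHc hf.1, ?_⟩ ((orderOf_injective c hinj f).trans ho) ⟨hHc hx.1, ?_⟩ ?_ ?_
    ((mem_normalizer_iff.1 (H_le_normalizer_E hh) a).1 ha) ?_ ?_ ?_
  · rw [hcentc]; exact ⟨f, hf.2, rfl⟩
  · rw [hnormc]; exact ⟨x, hx.2, rfl⟩
  · intro hc'
    have h2 : c x ∈ (centralizer (P : Set G)).map c := hcentc ▸ hc'.2
    exact hxC ⟨hx.1, (Subgroup.mem_map_iff_mem hinj).1 h2⟩
  · rw [← map_mul, hxf, map_mul]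
  · rw [← map_mul, haf, map_mul]
  · rw [← map_mul, ha2, hzc]
  · rcases hxa with e | e
    · exact Or.inl (by rw [← map_inv, ← map_mul, ← map_mul, e])
    · exact Or.inr (by rw [← map_inv, ← map_mul, ← map_mul, e, map_mul, hzc])

end CfsgLib.J4FiveLocal
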