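/-
Janko-four type: an involution of E C outside E is conjugate in H to v q for an involution q of Q.
-/
import Cfsg.Agent.J4Local.Conf

set_option autoImplicit false
set_option linter.style.haveILetI false

namespace CfsgLib.J4Local

open Subgroup
open CfsgLib.Extra2 CfsgLib.LargeExtra

variable {G : Type*} [Group G] {z : G} {P : Subgroup G} {p y s v w u e t : G}

/-- Conjugation carries one fixed-point subgroup to the other. -/
private theorem conjQ_mem [Finite G] {g r r' a : G} (hgz : g * z = z * g) (h : g * r * g⁻¹ = r')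
    (ha : a ∈ cQ z r) : g * a * g⁻¹ ∈ cQ z r' := by
  obtain ⟨h1, h2⟩ := mem_cQ.1 ha
  refine mem_cQ.2 ⟨conj_mem_E hgz h1, ?_⟩
  rw [← h]
  calc g * a * g⁻¹ * (g * r * g⁻¹) = g * (a * r) * g⁻¹ := by group
    _ = g * (r * a) * g⁻¹ := by rw [h2]
    _ = _ := by group

/-- An element of `C` that moves `y` to an element fixed pointwise by `v` fixes `v` modulo `z`. -/
private theorem conj_v [Finite G] (hC : Conf z P p y s v w u e t) {g r : G} (hg : g ∈ cC z P)
    (hgr : g * y * g⁻¹ = r) (hvr : v * r = r * v) (hfix : ∀ q ∈ cQ z r, v * q = q * v) :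
    ∃ n : ZMod 2, g * v * g⁻¹ = v * zp z n := by
  have hJ := hC.hJ
  have hgi : g⁻¹ ∈ cC z P := inv_mem hg
  have hgz := C_comm_z hg
  have hvC := hC.v_mem
  have hv'C : g⁻¹ * v * g ∈ cC z P := mul_mem (mul_mem hgi hvC) hg
  set v' := g⁻¹ * v * g with hv'
  have hgy : g * y = r * g := by rw [← hgr]; group
  have hyg : g⁻¹ * r = y * g⁻¹ := by rw [← hgr]; group
  have hv'y : v' * y = y * v' := by
    calc v' * y = g⁻¹ * v * (g * y) := by rw [hv']; group
      _ = g⁻¹ * (v * r) * g := by rw [hgy]; group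
      _ = (g⁻¹ * r) * v * g := by rw [hvr]; group
      _ = y * v' := by rw [hyg, hv']; group
  have hv'2 : v' * v' = 1 := by
    calc v' * v' = g⁻¹ * (v * v) * g := by rw [hv']; group
      _ = 1 := by rw [hC.v_sq]; group
  have hv't : v' * t * v'⁻¹ = t := by
    have h := hfix _ (conjQ_mem hgz hgr hC.coord.t_mem)
    calc v' * t * v'⁻¹ = g⁻¹ * (v * (g * t * g⁻¹)) * v⁻¹ * g := by rw [hv']; group
      _ = t := by rw [h]; group
  obtain ⟨i, j, n, k, l, hd⟩ := hC.gen v' hv'C hv'y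
  have hp3 : p ^ 3 = 1 := yp_sq hC.p_mem hJ
  have hy3 : y ^ 3 = 1 := by rw [← hC.y_ord]; exact pow_orderOf_eq_one y
  have hyp : Commute y p := C_comm_P hC.y_mem hC.p_mem
  have hvp : Commute v p := C_comm_P hvC hC.p_mem
  have hwp : Commute w p := C_comm_P hC.w_mem hC.p_mem
  have hvz : Commute v z := C_comm_z hvC
  have hwz : Commute w z := C_comm_z hC.w_mem
  have hyz : Commute y z := C_comm_z hC.y_mem
  have hpz : Commute p z := C_comm_z (P_le_C hJ hC.p_mem)
  set A := y ^ j * p ^ i with hA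
  set B := zp z n * zp v k * zp w l with hB
  have hcom : ∀ a : G, Commute a y → Commute a p → Commute a A := fun a h1 h2 =>
    (h1.pow_right j).mul_right (h2.pow_right i)
  have hzA : Commute (zp z n) A := by
    rcases zp_cases z n with h | h <;> rw [h]
    · exact Commute.one_left _
    · exact hcom z hyz.symm hpz.symm
  have hvA : Commute (zp v k) A := by
    rcases zp_cases v k with h | h <;> rw [h]
    · exact Commute.one_left _
    · exact hcom v hC.v_y hvp
  have hwA : Commute (zp w l) A := by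
    rcases zp_cases w l with h | h <;> rw [h]
    · exact Commute.one_left _
    · exact hcom w hC.w_y hwp
  have hd' : v' = A * B := by
    rw [hd, hA, hB]
    calc zp z n * y ^ j * p ^ i * zp v k * zp w l = (zp z n * (y ^ j * p ^ i)) * zp v k * zp w l := by group
      _ = (y ^ j * p ^ i * zp z n) * zp v k * zp w l := by rw [hzA.eq]
      _ = _ := by group
  have hAB : Commute A B := ((hzA.mul_left hvA).mul_left hwA).symm
  have hz2 := z_mul_self hJ
  have hB2 : B * B = 1 := by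
    have c1 : Commute (zp z n * zp v k) (zp w l) := by
      rcases zp_cases w l with h | h <;> rw [h]
      · exact Commute.one_right _
      · rcases zp_cases z n with h1 | h1 <;> rcases zp_cases v k with h2 | h2 <;> rw [h1, h2] <;>
          first
            | exact (Commute.one_left _).mul_left (Commute.one_left _)
            | exact (Commute.one_left _).mul_left hC.v_w
            | exact hwz.symm.mul_left (Commute.one_left _)
            | exact hwz.symm.mul_left hC.v_w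
    have c2 : Commute (zp z n) (zp v k) := by
      rcases zp_cases z n with h1 | h1 <;> rcases zp_cases v k with h2 | h2 <;> rw [h1, h2] <;>
        first | exact Commute.one_left _ | exact Commute.one_right _ | exact hvz.symm
    have e0 : ∀ (g : G) (m : ZMod 2), g * g = 1 → zp g m * zp g m = 1 := fun g m h => by
      rcases zp_cases g m with h1 | h1 <;> rw [h1]
      · exact one_mul 1
      · exact h
    rw [hB, ← pow_two, c1.mul_pow, c2.mul_pow, pow_two, pow_two, pow_two, e0 z n hz2, e0 v k hC.v_sq,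
      e0 w l hC.w_sq, one_mul, one_mul]
  have hA1 : A = 1 := by
    have h2 : A ^ 2 = 1 := by
      have h := hv'2
      rw [hd', ← pow_two, hAB.mul_pow, pow_two B, hB2, mul_one] at h
      exact h
    have h3 : A ^ 3 = 1 := by
      rw [hA, (hyp.pow_pow j i).mul_pow, ← pow_mul, ← pow_mul, mul_comm j, mul_comm i, pow_mul, pow_mul,
        hy3, hp3, one_pow, one_pow, one_mul]
    rwa [pow_succ, h2, one_mul] at h3
  rw [hA1, one_mul, hB] at hd'
  have hcd := hC.coord
  have hl : l = 0 := by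
    rcases zmod_cases l with h | h
    · exact h
    · exfalso
      have h1 : v' * t * v'⁻¹ = t * e := by
        have hwt : zp w l * t * (zp w l)⁻¹ = t * e := by rw [h, zp_one]; exact hcd.c_t
        have hte : t * e ∈ cQ z y := mul_mem hcd.t_mem hcd.e_mem
        have f1 : zp v k * (t * e) * (zp v k)⁻¹ = t * e := by
          rcases zp_cases v k with h2 | h2 <;> rw [h2]
          · group
          · rw [hC.v_Q _ hte, mul_inv_cancel_right]
        have f2 : zp z n * (t * e) * (zp z n)⁻¹ = t * e := by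
          rcases zp_cases z n with h2 | h2 <;> rw [h2]
          · group
          · rw [← ((gen_split hJ).comm_z _ (mem_cQ.1 hte).1).eq, mul_inv_cancel_right]
        calc v' * t * v'⁻¹ = zp z n * (zp v k * (zp w l * t * (zp w l)⁻¹) * (zp v k)⁻¹) * (zp z n)⁻¹ := by
              rw [hd']; group
          _ = t * e := by rw [hwt, f1, f2]
      rw [hv't] at h1
      have he1 : e = 1 := mul_eq_left.mp h1.symm
      exact absurd (elt_inj hJ hcd (u := (1, 0, 0, 0)) (Or.inl (by rw [elt_e, he1]))) (by decide)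
  rw [hl, zp_zero, mul_one] at hd'
  have hzz : g * zp z n * g⁻¹ = zp z n := by
    rw [zp_conj, hgz, mul_inv_cancel_right]
  have hback : v = g * v' * g⁻¹ := by rw [hv']; group
  rcases zmod_cases k with hk | hk
  · exfalso
    rw [hk, zp_zero, mul_one] at hd'
    apply hC.v_not
    rw [hback, hd', hzz]
    exact zp_mem (Subgroup.mem_sup_left (Subgroup.mem_zpowers z)) n
  · rw [hk, zp_one] at hd'
    refine ⟨n, ?_⟩
    have h : v = zp z n * (g * v * g⁻¹) := by
      calc v = g * (zp z n * v) * g⁻¹ := by rw [← hd', ← hback]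
        _ = (g * zp z n * g⁻¹) * (g * v * g⁻¹) := by group
        _ = _ := by rw [hzz]
    have hgv : g * v * g⁻¹ = zp z n * v := by
      calc g * v * g⁻¹ = zp z n * zp z n * (g * v * g⁻¹) := by
            rw [zp_mul_self hz2, show n + n = 0 from by rcases zmod_cases n with rfl | rfl <;> decide,
              zp_zero, one_mul]
        _ = zp z n * v := by rw [mul_assoc, ← h]
    rw [hgv, zp_comm hvz.symm.eq]

/-- `v` moves some element of each of the other two fixed-point subgroups. -/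
private theorem v_moves [Finite G] (hC : Conf z P p y s v w u e t) :
    (∃ q ∈ cQ z (y * p), v * q * v⁻¹ ≠ q) ∧ ∃ q ∈ cQ z (y * p * p), v * q * v⁻¹ ≠ q := by
  have hJ := hC.hJ
  have hs := hC.s_mem
  have hsz := C_comm_z hs
  have hsp : s * p = p * s := C_comm_P hs hC.p_mem
  have hvp : v * p = p * v := C_comm_P hC.v_mem hC.p_mem
  have hsp' : s * p * s⁻¹ = p := by rw [hsp, mul_inv_cancel_right]
  have hs1 : s * (y * p) * s⁻¹ = y * p * p := by
    calc s * (y * p) * s⁻¹ = (s * y * s⁻¹) * (s * p * s⁻¹) := by group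
      _ = _ := by rw [hC.s_y, hsp']
  have hs2 : s * (y * p * p) * s⁻¹ = y := by
    calc s * (y * p * p) * s⁻¹ = (s * (y * p) * s⁻¹) * (s * p * s⁻¹) := by group
      _ = y * p * p * p := by rw [hs1, hsp']
      _ = y * p ^ 3 := by rw [pow_succ, pow_two, mul_assoc y, mul_assoc y]
      _ = y := by rw [yp_sq hC.p_mem hJ, mul_one]
  have hv1 : v * (y * p) = y * p * v := ((show Commute v y from hC.v_y).mul_right hvp).eq
  have hv2 : v * (y * p * p) = y * p * p * v :=
    (((show Commute v y from hC.v_y).mul_right hvp).mul_right hvp).eq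
  have no : ∀ n : ZMod 2, s * v * s⁻¹ ≠ v * zp z n := by
    intro n hn
    have step : ∀ r r' : G, s * r * s⁻¹ = r' → (∀ q ∈ cQ z r, v * q = q * v) →
        ∀ b ∈ cQ z r', v * b = b * v := by
      intro r r' hr hfix b hb
      have hb' : s⁻¹ * b * s ∈ cQ z r := by
        have := conjQ_mem (show Commute s⁻¹ z from Commute.inv_left hsz).eq
          (show s⁻¹ * r' * s⁻¹⁻¹ = r by rw [← hr]; group) hb
        simpa using this
      have h := hfix _ hb'
      have hc : s * v * s⁻¹ * b = b * (s * v * s⁻¹) := by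
        calc s * v * s⁻¹ * b = s * (v * (s⁻¹ * b * s)) * s⁻¹ := by group
          _ = s * (s⁻¹ * b * s * v) * s⁻¹ := by rw [h]
          _ = _ := by group
      rw [hn] at hc
      have hzb : zp z n * b = b * zp z n := zp_comm ((gen_split hJ).comm_z _ (mem_cQ.1 hb).1).eq.symm n
      have : v * b * zp z n = b * v * zp z n := by
        rw [mul_assoc, ← hzb, ← mul_assoc, hc, mul_assoc b]
      exact mul_right_cancel this
    have f0 : ∀ q ∈ cQ z y, v * q = q * v := hC.v_Q
    have f1 := step _ _ hC.s_y f0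
    have f2 := step _ _ hs1 f1
    have hy3 : y ^ 3 = 1 := by rw [← hC.y_ord]; exact pow_orderOf_eq_one y
    have hvE : v ∈ cE z := centralizer_E_le hJ ⟨hC.v_mem.1, Subgroup.mem_centralizer_iff.2 fun x hx => by
      obtain ⟨a, ha, b, hb, c, hc, rfl⟩ := exists_decomp hJ hC.p_mem hC.p_ne hy3 hC.y_mem hx
      exact (((show Commute v a from f0 a ha).mul_right (f1 b hb)).mul_right (f2 c hc)).eq.symm⟩
    have hvz : v ∈ Subgroup.zpowers z := (E_inf_centralizer hJ).le ⟨hvE, hC.v_mem.2⟩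
    exact hC.v_not (Subgroup.mem_sup_left hvz)
  constructor
  · by_contra hcon
    push Not at hcon
    obtain ⟨n, hn⟩ := conj_v hC hs hC.s_y hv1 fun q hq => mul_inv_eq_iff_eq_mul.1 (hcon q hq)
    exact no n hn
  · by_contra hcon
    push Not at hcon
    have hss : s * s * y * (s * s)⁻¹ = y * p * p := by
      rw [← hs1, ← hC.s_y]; group
    obtain ⟨n, hn⟩ := conj_v hC (mul_mem hs hs) hss hv2 fun q hq => mul_inv_eq_iff_eq_mul.1 (hcon q hq)
    have hs3C : s * s * s ∈ cC z P := mul_mem (mul_mem hs hs) hs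
    have hs3y : s * s * s * y = y * (s * s * s) := by
      have h : s * (s * s * y * (s * s)⁻¹) * s⁻¹ = y := by rw [hss, hs2]
      calc s * s * s * y = s * (s * s * y * (s * s)⁻¹) * s⁻¹ * (s * s * s) := by group
        _ = _ := by rw [h]
    obtain ⟨i, j, m, k, l, hd⟩ := hC.gen _ hs3C hs3y
    have hv3 : Commute v (s * s * s) := by
      have hzpc : ∀ (g : G) (a : ZMod 2), Commute v g → Commute v (zp g a) := fun g a h => by
        rcases zp_cases g a with h1 | h1 <;> rw [h1]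
        · exact Commute.one_right _
        · exact h
      rw [hd]
      exact ((((hzpc z m (C_comm_z hC.v_mem)).mul_right ((show Commute v y from hC.v_y).pow_right j)).mul_right
        ((show Commute v p from hvp).pow_right i)).mul_right (hzpc v k (Commute.refl v))).mul_right
        (hzpc w l hC.v_w)
    have h1 : s * (v * zp z n) * s⁻¹ = v := by
      rw [← hn]
      calc s * (s * s * v * (s * s)⁻¹) * s⁻¹ = (s * s * s * v) * (s * s * s)⁻¹ := by group
        _ = v := by rw [← hv3.eq, mul_inv_cancel_right]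
    refine no n ?_
    have hzz : s * zp z n * s⁻¹ = zp z n := by rw [zp_conj, hsz, mul_inv_cancel_right]
    have h2 : (s * v * s⁻¹) * zp z n = v := by
      rw [← hzz]
      calc s * v * s⁻¹ * (s * zp z n * s⁻¹) = s * (v * zp z n) * s⁻¹ := by group
        _ = v := h1
    calc s * v * s⁻¹ = s * v * s⁻¹ * (zp z n * zp z n) := by
          rw [zp_mul_self (z_mul_self hJ), show n + n = 0 from by rcases zmod_cases n with rfl | rfl <;> decide,
            zp_zero, mul_one]
      _ = v * zp z n := by rw [← mul_assoc, h2]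

/-- The coordinates of a fixed vector and of its correction. -/
private theorem clean_vec : ∀ a : Vec4, a = (a.1 + a.2.2.1, a.2.1 + a.2.2.2, a.2.2.1, a.2.2.2) →
    ((0, 0, a.1, a.2.1) : Vec4) + a + (0 + a.1, 0 + a.2.1, a.1, a.2.1) = 0 := by decide

section Clean

variable [Finite G] {r e' t' : G} (hJ : Cfsg.IsOfJankoFourTypeWith z P) (hcd : Coord z p r v e' t')
  (hr : r ∈ cC z P) (hQ : Nat.card ↥(cQ z r) = 32)

include hJ hcd hr hQ

/-- An element fixed by `v` is removed by conjugation inside the same subgroup. -/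
private theorem clean (hvz : v * z = z * v) (hvr : v * r = r * v) {b : G}
    (hb : b ∈ cQ z r) (hvb : v * b * v⁻¹ = b) :
    ∃ g ∈ cQ z r, ∃ n : ZMod 2, g * (b * v) * g⁻¹ = v * zp z n := by
  have hv : ∀ g ∈ cQ z r, vec z p e' t' (v * g * v⁻¹) =
      ((vec z p e' t' g).1 + (vec z p e' t' g).2.2.1, (vec z p e' t' g).2.1 + (vec z p e' t' g).2.2.2,
        (vec z p e' t' g).2.2.1, (vec z p e' t' g).2.2.2) := by
    intro g hg
    rw [vec_conj hJ hcd hr hQ hvz hvr hg, hcd.c_e, hcd.c_pe, hcd.c_t, hcd.c_pt,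
      vec_mul hJ hcd hr hQ hcd.t_mem hcd.e_mem, vec_mul hJ hcd hr hQ hcd.pt_mem hcd.pe_mem,
      vec_e hJ hcd, vec_pe hJ hcd, vec_t hJ hcd, vec_pt hJ hcd]
    generalize vec z p e' t' g = a
    revert a
    decide
  have hu := hv b hb
  rw [hvb] at hu
  set a := vec z p e' t' b with ha
  set g := elt p e' t' (0, 0, a.1, a.2.1) with hg
  have hgm : g ∈ cQ z r := elt_mem hcd _
  refine ⟨g, hgm, ?_⟩
  have hvg : v * g * v⁻¹ ∈ cQ z r := by
    obtain ⟨h1, h2⟩ := mem_cQ.1 hgm
    exact mem_cQ.2 ⟨conj_mem_E hvz h1, (Commute.mul_left (Commute.mul_left hvr h2) (Commute.inv_left hvr)).eq⟩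
  have hinv : vec z p e' t' (v * g * v⁻¹)⁻¹ = vec z p e' t' (v * g * v⁻¹) := by
    have h := vec_mul hJ hcd hr hQ hvg (inv_mem hvg)
    rw [mul_inv_cancel, vec_one hJ hcd] at h
    calc vec z p e' t' (v * g * v⁻¹)⁻¹
        = vec z p e' t' (v * g * v⁻¹) + (vec z p e' t' (v * g * v⁻¹) + vec z p e' t' (v * g * v⁻¹)⁻¹) := by
          rw [← add_assoc, vec_add_self, zero_add]
      _ = _ := by rw [← h, add_zero]
  have hX : g * b * (v * g * v⁻¹)⁻¹ ∈ cQ z r := mul_mem (mul_mem hgm hb) (inv_mem hvg)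
  have h0 : vec z p e' t' (g * b * (v * g * v⁻¹)⁻¹) = 0 := by
    rw [vec_mul hJ hcd hr hQ (mul_mem hgm hb) (inv_mem hvg), vec_mul hJ hcd hr hQ hgm hb, hinv, hv g hgm,
      hg, vec_elt hJ hcd]
    exact clean_vec _ hu
  obtain ⟨n, hn⟩ : ∃ n : ZMod 2, g * b * (v * g * v⁻¹)⁻¹ = zp z n := by
    rcases (vec_eq_zero hJ hcd hr hQ hX).1 h0 with h | h
    · exact ⟨0, by rw [h, zp_zero]⟩
    · exact ⟨1, by rw [h, zp_one]⟩
  refine ⟨n, ?_⟩
  calc g * (b * v) * g⁻¹ = g * b * (v * g * v⁻¹)⁻¹ * v := by group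
    _ = zp z n * v := by rw [hn]
    _ = _ := zp_comm hvz.symm n

end Clean

/-- An involution of `E C` outside `E` is conjugate in `H` to `v q` for an involution `q` of `Q`. -/
theorem inner_involution [Finite G] (hC : Conf z P p y s v w u e t) {x e1 c : G} (he1 : e1 ∈ cE z)
    (hc : c ∈ cC z P) (hx : x = e1 * c) (hx2 : x * x = 1) (hxE : x ∉ cE z) :
    ∃ h ∈ cH z, ∃ q ∈ cQ z y, q * q = 1 ∧ h * x * h⁻¹ = v * q := by
  haveI : Fact (Nat.Prime 2) := ⟨Nat.prime_two⟩
  have hJ := hC.hJ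
  have hz2 := z_mul_self hJ
  have hcz := C_comm_z hc
  -- `c` is an involution outside `⟨z⟩ P`
  have hc2 : c * c ∈ Subgroup.zpowers z := by
    refine (E_inf_centralizer hJ).le ⟨?_, (mul_mem hc hc).2⟩
    have h : c * e1 * c = e1⁻¹ := eq_inv_of_mul_eq_one_right (by rw [← hx2, hx]; group)
    have e' : c * c = (c * e1⁻¹ * c⁻¹) * (c * e1 * c) := by group
    show c * c ∈ cE z
    rw [e', h]
    exact mul_mem (conj_mem_E hcz (inv_mem he1)) (inv_mem he1)
  have hz3 : ∀ a ∈ Subgroup.zpowers z, a ∈ P → a = 1 := fun a ha haP => by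
    have hd : orderOf a ∣ 2 := orderOf_z hJ ▸ orderOf_dvd_of_mem_zpowers ha
    have hd3 : orderOf a ∣ 3 := orderOf_dvd_of_pow_eq_one (yp_sq haP hJ)
    exact orderOf_eq_one_iff.1 (Nat.dvd_one.1 (by simpa using Nat.dvd_gcd hd hd3))
  have hcK : c ∉ cK z P := by
    intro hk
    obtain ⟨a, q, ha, hq, rfl, haa, hq3, hcq⟩ := mem_K hJ hk
    apply hxE
    have haz : a ∈ Subgroup.zpowers z := by
      rcases ha with rfl | rfl
      · exact one_mem _
      · exact Subgroup.mem_zpowers _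
    have hqq : q * q = a * q * (a * q) := by
      rw [← pow_two, ← pow_two, (show Commute a q from hcq).mul_pow, pow_two a, haa, one_mul]
    have hq2 : q * q = 1 := hz3 _ (hqq ▸ hc2) (mul_mem hq hq)
    rw [pow_succ, pow_two, hq2, one_mul] at hq3
    rw [hx, hq3, mul_one]
    exact mul_mem he1 ((Subgroup.zpowers_le.2 (z_mem_E hJ)) haz)
  obtain ⟨k, hk, hk2⟩ := exists_invol_lift hJ hc hcK (Subgroup.mem_sup_left hc2)
  have hkk : k * k = 1 := by
    refine hz3 _ ?_ (mul_mem hk hk)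
    have : k * k = (c * c)⁻¹ := by
      refine eq_inv_of_mul_eq_one_right ?_
      rw [← hk2, ← pow_two, ← pow_two, ← pow_two, (show Commute c k from C_comm_P hc hk).mul_pow]
    rw [this]; exact inv_mem hc2
  have hcc : c * c = 1 := by
    rwa [← pow_two, (show Commute c k from C_comm_P hc hk).mul_pow, pow_two k, hkk, mul_one, pow_two] at hk2
  have hco : orderOf c = 2 := orderOf_eq_prime (by rw [pow_two, hcc]) fun h => hcK (h ▸ one_mem _)
  have hvo : orderOf v = 2 :=
    orderOf_eq_prime (by rw [pow_two, hC.v_sq]) fun h => hC.v_not (h ▸ one_mem _)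
  have hzK : z ∈ cK z P := Subgroup.mem_sup_left (Subgroup.mem_zpowers z)
  obtain ⟨d, hd, hdc⟩ := isConj_two hJ hc hC.v_mem hco hvo (fun h => hcK (h ▸ hzK))
    (fun h => hC.v_not (h ▸ hzK))
  have hdz := C_comm_z hd
  have hvz : v * z = z * v := C_comm_z hC.v_mem
  obtain ⟨e2, he2, hx'⟩ : ∃ e2 ∈ cE z, d * x * d⁻¹ = e2 * v := by
    have h1 : d * x * d⁻¹ = (d * e1 * d⁻¹) * (d * c * d⁻¹) := by rw [hx]; group
    rcases hdc with h | h
    · exact ⟨_, conj_mem_E hdz he1, by rw [h1, h]⟩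
    · exact ⟨_, mul_mem (conj_mem_E hdz he1) (z_mem_E hJ), by rw [h1, h, hvz]; simp only [mul_assoc]⟩
  -- the two further fixed-point subgroups
  have hp := hC.p_mem
  have hp1 := hC.p_ne
  have hy3 : y ^ 3 = 1 := by rw [← hC.y_ord]; exact pow_orderOf_eq_one y
  have hp3 : p ^ 3 = 1 := yp_sq hp hJ
  have hpC := P_le_C hJ hp
  have hyp : Commute y p := C_comm_P hC.y_mem hp
  have hvy : Commute v y := hC.v_y
  have hvp : Commute v p := C_comm_P hC.v_mem hp
  have hr1 : (y * p) ^ 3 = 1 := by rw [hyp.mul_pow, hy3, hp3, one_mul]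
  have hr2 : (y * p * p) ^ 3 = 1 := by rw [(hyp.mul_left (Commute.refl p)).mul_pow, hr1, hp3, one_mul]
  have hm1 : y * p ∈ cC z P := mul_mem hC.y_mem hpC
  have hm2 : y * p * p ∈ cC z P := mul_mem hm1 hpC
  have hsp' : s * p * s⁻¹ = p := by rw [C_comm_P hC.s_mem hp, mul_inv_cancel_right]
  have hs1 : s * (y * p) * s⁻¹ = y * p * p := by
    calc s * (y * p) * s⁻¹ = (s * y * s⁻¹) * (s * p * s⁻¹) := by group
      _ = _ := by rw [hC.s_y, hsp']
  have hs2 : s * (y * p * p) * s⁻¹ = y * p * p * p := by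
    calc s * (y * p * p) * s⁻¹ = (s * (y * p) * s⁻¹) * (s * p * s⁻¹) := by group
      _ = _ := by rw [hs1, hsp']
  have hQ1 := card_Q hJ hp hp1 hr1 hm1 hC.s_mem hs1
  have hQ2 := card_Q hJ hp hp1 hr2 hm2 hC.s_mem hs2
  have hv1 : Commute v (y * p) := hvy.mul_right hvp
  have hv2 : Commute v (y * p * p) := hv1.mul_right hvp
  obtain ⟨⟨q1, hq1, hq1'⟩, q2, hq2, hq2'⟩ := v_moves hC
  obtain ⟨e', t', hcd1⟩ := exists_coord hJ hp hp1 hr1 hm1 hQ1 hC.v_mem hv1.eq hC.v_sq hq1 hq1'
  obtain ⟨e'', t'', hcd2⟩ := exists_coord hJ hp hp1 hr2 hm2 hQ2 hC.v_mem hv2.eq hC.v_sq hq2 hq2'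
  obtain ⟨a, ha, b, hb, c3, hc3, he2'⟩ := exists_decomp hJ hp hp1 hy3 hC.y_mem he2
  have hvQ : ∀ r q, Commute v r → q ∈ cQ z r → v * q * v⁻¹ ∈ cQ z r := fun r q h hq =>
    conjQ_mem hvz (by rw [h.eq, mul_inv_cancel_right]) hq
  have hvb' := hvQ _ b hv1 hb
  have hvc' := hvQ _ c3 hv2 hc3
  obtain ⟨cab, cac, cbc⟩ := comm_three hJ hp hp1 hy3 hC.y_mem ha hb hc3
  have hva : v * a = a * v := hC.v_Q a ha
  -- the square
  have hsq : a * a * (b * (v * b * v⁻¹)) * (c3 * (v * c3 * v⁻¹)) = 1 := by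
    have h1 : d * x * d⁻¹ * (d * x * d⁻¹) = 1 := by
      calc d * x * d⁻¹ * (d * x * d⁻¹) = d * (x * x) * d⁻¹ := by group
        _ = 1 := by rw [hx2]; group
    obtain ⟨-, -, cb'c⟩ := comm_three hJ hp hp1 hy3 hC.y_mem ha hvb' hc3
    have hvi : v⁻¹ = v := inv_eq_of_mul_eq_one_right hC.v_sq
    rw [hx', he2'] at h1
    rw [← h1]
    calc a * a * (b * (v * b * v⁻¹)) * (c3 * (v * c3 * v⁻¹))
        = a * (a * b) * ((v * b * v⁻¹) * c3) * (v * c3 * v⁻¹) := by group
      _ = a * (b * a) * (c3 * (v * b * v⁻¹)) * (v * c3 * v⁻¹) := by rw [cab, cb'c]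
      _ = a * b * (a * c3) * (v * b * v⁻¹) * (v * c3 * v⁻¹) := by group
      _ = a * b * (c3 * a) * (v * b * v⁻¹) * (v * c3 * v⁻¹) := by rw [cac]
      _ = a * b * c3 * (a * v) * b * c3 * v⁻¹ := by group
      _ = a * b * c3 * (v * a) * b * c3 * v⁻¹ := by rw [hva]
      _ = a * b * c3 * v * (a * b * c3 * v⁻¹) := by group
      _ = _ := by rw [hvi]
  have haa : a * a ∈ cQ z y := mul_mem ha ha
  have hB := mul_mem hb hvb'
  have hCc := mul_mem hc3 hvc'
  -- both squares are central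
  have hBc : b * (v * b * v⁻¹) = 1 ∨ b * (v * b * v⁻¹) = z := by
    refine center_Q hJ hp hp1 hr1 hm1 hB fun q hq => ?_
    have e' : b * (v * b * v⁻¹) = (a * a)⁻¹ * (c3 * (v * c3 * v⁻¹))⁻¹ := by
      calc b * (v * b * v⁻¹) = (a * a)⁻¹ * (a * a * (b * (v * b * v⁻¹)) * (c3 * (v * c3 * v⁻¹))) *
            (c3 * (v * c3 * v⁻¹))⁻¹ := by group
        _ = _ := by rw [hsq, mul_one]
    rw [e']
    exact Commute.mul_left (Commute.inv_left (comm_three hJ hp hp1 hy3 hC.y_mem haa hq hCc).1)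
      (Commute.inv_left (comm_three hJ hp hp1 hy3 hC.y_mem haa hq hCc).2.2.symm)
  have hCcc : c3 * (v * c3 * v⁻¹) = 1 ∨ c3 * (v * c3 * v⁻¹) = z := by
    refine center_Q hJ hp hp1 hr2 hm2 hCc fun q hq => ?_
    have e' : c3 * (v * c3 * v⁻¹) = (b * (v * b * v⁻¹))⁻¹ * (a * a)⁻¹ := by
      calc c3 * (v * c3 * v⁻¹) = (b * (v * b * v⁻¹))⁻¹ * (a * a)⁻¹ *
            (a * a * (b * (v * b * v⁻¹)) * (c3 * (v * c3 * v⁻¹))) := by group
        _ = _ := by rw [hsq, mul_one]
    rw [e']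
    exact Commute.mul_left (Commute.inv_left (comm_three hJ hp hp1 hy3 hC.y_mem haa hB hq).2.2)
      (Commute.inv_left (comm_three hJ hp hp1 hy3 hC.y_mem haa hB hq).2.1)
  have fixed : ∀ {r f g : G}, r ∈ cC z P → Coord z p r v f g → Nat.card ↥(cQ z r) = 32 → ∀ m ∈ cQ z r,
      m * (v * m * v⁻¹) = 1 ∨ m * (v * m * v⁻¹) = z → v * m * v⁻¹ = m := by
    intro r f g hr hcd hQ m hm h
    have hzm : z * m = m * z := ((gen_split hJ).comm_z _ (mem_cQ.1 hm).1).eq.symm
    have hmm := sq_vec hJ hcd hr hQ hm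
    refine exact_fix hJ hp hp1 hvp.eq hvz (mem_cQ.1 hm).1 ?_
    have hmi : m⁻¹ = m ∨ m⁻¹ = m * z := by
      rcases zp_cases z (qf (vec z p f g m)) with e | e <;> rw [e] at hmm
      · exact Or.inl (inv_eq_of_mul_eq_one_right hmm)
      · exact Or.inr (inv_eq_of_mul_eq_one_right (by rw [← mul_assoc, hmm, hz2]))
    rcases h with h | h
    · rw [eq_inv_of_mul_eq_one_right h]; exact hmi
    · have : v * m * v⁻¹ = m⁻¹ * z := eq_inv_mul_of_mul_eq h
      rw [this]
      rcases hmi with e | e <;> rw [e]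
      · exact Or.inr rfl
      · left; rw [mul_assoc, hz2, mul_one]
  obtain ⟨g1, hg1, n1, hn1⟩ := clean hJ hcd1 hm1 hQ1 hvz hv1.eq hb (fixed hm1 hcd1 hQ1 b hb hBc)
  obtain ⟨g2, hg2, n2, hn2⟩ := clean hJ hcd2 hm2 hQ2 hvz hv2.eq hc3 (fixed hm2 hcd2 hQ2 c3 hc3 hCcc)
  -- conjugate
  have hEH : ∀ {g r : G}, g ∈ cQ z r → g ∈ cH z := fun hg => E_le_H (mem_cQ.1 hg).1
  obtain ⟨cga, -, cgc⟩ := comm_three hJ hp hp1 hy3 hC.y_mem ha hg1 hc3
  have cha : a * g2 = g2 * a := (comm_three hJ hp hp1 hy3 hC.y_mem ha hb hg2).2.1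
  have hzg2 : zp z n1 * g2 = g2 * zp z n1 := zp_comm ((gen_split hJ).comm_z _ (mem_cQ.1 hg2).1).eq.symm n1
  refine ⟨g2 * g1 * d, mul_mem (mul_mem (hEH hg2) (hEH hg1)) hd.1, a * (zp z n2 * zp z n1),
    mul_mem ha (mul_mem (zp_mem (mem_cQ.2 ⟨z_mem_E hJ, (C_comm_z hC.y_mem).symm⟩) _)
      (zp_mem (mem_cQ.2 ⟨z_mem_E hJ, (C_comm_z hC.y_mem).symm⟩) _)), ?_⟩
  have key : g2 * g1 * d * x * (g2 * g1 * d)⁻¹ = v * (a * (zp z n2 * zp z n1)) := by
    calc g2 * g1 * d * x * (g2 * g1 * d)⁻¹ = g2 * (g1 * (d * x * d⁻¹) * g1⁻¹) * g2⁻¹ := by group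
      _ = g2 * (g1 * (a * b * c3 * v) * g1⁻¹) * g2⁻¹ := by rw [hx', he2']
      _ = g2 * (g1 * (a * (c3 * b) * v) * g1⁻¹) * g2⁻¹ := by rw [← cbc]; group
      _ = g2 * ((g1 * a) * c3 * (b * v) * g1⁻¹) * g2⁻¹ := by group
      _ = g2 * ((a * g1) * c3 * (b * v) * g1⁻¹) * g2⁻¹ := by rw [cga]
      _ = g2 * (a * (g1 * c3) * (b * v) * g1⁻¹) * g2⁻¹ := by group
      _ = g2 * (a * (c3 * g1) * (b * v) * g1⁻¹) * g2⁻¹ := by rw [cgc]
      _ = g2 * (a * c3 * (g1 * (b * v) * g1⁻¹)) * g2⁻¹ := by group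
      _ = g2 * (a * c3 * (v * zp z n1)) * g2⁻¹ := by rw [hn1]
      _ = (g2 * a) * (c3 * v) * (zp z n1 * g2⁻¹) := by group
      _ = (a * g2) * (c3 * v) * (g2⁻¹ * zp z n1) := by
          rw [cha, (Commute.inv_right (show Commute (zp z n1) g2 from hzg2)).eq]
      _ = a * (g2 * (c3 * v) * g2⁻¹) * zp z n1 := by group
      _ = (a * v) * (zp z n2 * zp z n1) := by rw [hn2]; group
      _ = _ := by rw [← hva]; group
  refine ⟨?_, key⟩
  have hq : a * (zp z n2 * zp z n1) ∈ cQ z y := mul_mem ha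
    (mul_mem (zp_mem (mem_cQ.2 ⟨z_mem_E hJ, (C_comm_z hC.y_mem).symm⟩) _)
      (zp_mem (mem_cQ.2 ⟨z_mem_E hJ, (C_comm_z hC.y_mem).symm⟩) _))
  generalize a * (zp z n2 * zp z n1) = q at hq key
  have hvq : Commute v q := hC.v_Q q hq
  calc q * q = (v * v) * (q * q) := by rw [hC.v_sq, one_mul]
    _ = (v * q) * (v * q) := by rw [← pow_two, ← pow_two, ← pow_two, hvq.mul_pow]
    _ = g2 * g1 * d * (x * x) * (g2 * g1 * d)⁻¹ := by rw [← key]; group
    _ = 1 := by rw [hx2]; group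

end CfsgLib.J4Local
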